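import Cfsg.Agent.RootSubgroups.SL2

/-! A group with root homomorphisms satisfying the rank one Steinberg relations over a finite field
is an image of `SL₂`. -/

set_option autoImplicit false

namespace CfsgLib.RootSubgroups.Steinberg

open Cfsg Matrix CfsgLib.RootSubgroups

variable {F : Type*} [Field F] {G : Type*} [Group G]

/-- Root maps `x`, `y` with the rank one Steinberg relations. -/
structure RootData (F : Type*) [Field F] (G : Type*) [Group G] where
  x : F → G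
  y : F → G
  x_add : ∀ s t, x (s + t) = x s * x t
  y_add : ∀ s t, y (s + t) = y s * y t
  braid : ∀ t : F, t ≠ 0 → x t * y (-t⁻¹) * x t = y (-t⁻¹) * x t * y (-t⁻¹)
  conj : ∀ t : F, t ≠ 0 → ∀ s : F,
    (x t * y (-t⁻¹) * x t) * x s * (x t * y (-t⁻¹) * x t)⁻¹ = y (-(s / t ^ 2))

namespace RootData

variable (R : RootData F G)

/-- `w(t)`. -/
def w (t : F) : G := R.x t * R.y (-t⁻¹) * R.x t

/-- `h(t)`. -/
def h (t : F) : G := R.w t * (R.w 1)⁻¹

lemma x_zero : R.x 0 = 1 := by simpa using R.x_add 0 0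
lemma y_zero : R.y 0 = 1 := by simpa using R.y_add 0 0
lemma x_neg (s : F) : R.x (-s) = (R.x s)⁻¹ := by
  rw [eq_comm, inv_eq_iff_mul_eq_one, ← R.x_add, add_neg_cancel, R.x_zero]
lemma y_neg (s : F) : R.y (-s) = (R.y s)⁻¹ := by
  rw [eq_comm, inv_eq_iff_mul_eq_one, ← R.y_add, add_neg_cancel, R.y_zero]

lemma w_neg (t : F) : R.w (-t) = (R.w t)⁻¹ := by
  simp only [w, x_neg, inv_neg, neg_neg, _root_.mul_inv_rev, y_neg, inv_inv, mul_assoc]

lemma w_eq (t : F) (ht : t ≠ 0) : R.w t = R.y (-t⁻¹) * R.x t * R.y (-t⁻¹) := R.braid t ht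

lemma wx {t : F} (ht : t ≠ 0) (s : F) : R.w t * R.x s * (R.w t)⁻¹ = R.y (-(s / t ^ 2)) :=
  R.conj t ht s

lemma wy {t : F} (ht : t ≠ 0) (r : F) : R.w t * R.y r * (R.w t)⁻¹ = R.x (-(r * t ^ 2)) := by
  have := R.wx (neg_ne_zero.mpr ht) (-(r * t ^ 2))
  rw [w_neg, inv_inv, neg_sq, show -(-(r * t ^ 2) / t ^ 2) = r by field_simp] at this
  rw [← this]; group

lemma hx {t : F} (ht : t ≠ 0) (s : F) : R.h t * R.x s * (R.h t)⁻¹ = R.x (t ^ 2 * s) := by
  have h1 : (R.w 1)⁻¹ * R.x s * R.w 1 = R.y (-s) := by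
    have := R.wx (neg_ne_zero.mpr (one_ne_zero' F)) s
    simpa [w_neg] using this
  calc R.h t * R.x s * (R.h t)⁻¹ = R.w t * ((R.w 1)⁻¹ * R.x s * R.w 1) * (R.w t)⁻¹ := by
        simp only [h]; group
    _ = R.x (-(-s * t ^ 2)) := by rw [h1, R.wy ht]
    _ = _ := by congr 1; ring

lemma hy {t : F} (ht : t ≠ 0) (r : F) : R.h t * R.y r * (R.h t)⁻¹ = R.y (r / t ^ 2) := by
  have h1 : (R.w 1)⁻¹ * R.y r * R.w 1 = R.x (-r) := by
    have := R.wy (neg_ne_zero.mpr (one_ne_zero' F)) r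
    simpa [w_neg] using this
  calc R.h t * R.y r * (R.h t)⁻¹ = R.w t * ((R.w 1)⁻¹ * R.y r * R.w 1) * (R.w t)⁻¹ := by
        simp only [h]; group
    _ = R.y (-(-r / t ^ 2)) := by rw [h1, R.wx ht]
    _ = _ := by congr 1; ring

lemma hw {s t : F} (hs : s ≠ 0) (ht : t ≠ 0) :
    R.h s * R.w t * (R.h s)⁻¹ = R.w (s ^ 2 * t) := by
  calc R.h s * R.w t * (R.h s)⁻¹
      = (R.h s * R.x t * (R.h s)⁻¹) * (R.h s * R.y (-t⁻¹) * (R.h s)⁻¹) *
          (R.h s * R.x t * (R.h s)⁻¹) := by simp only [w]; group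
    _ = R.x (s ^ 2 * t) * R.y (-(s ^ 2 * t)⁻¹) * R.x (s ^ 2 * t) := by
      rw [R.hx hs, R.hy hs]; congr 3; field_simp
    _ = _ := rfl

lemma h_one : R.h 1 = 1 := mul_inv_cancel (R.w 1)

lemma h_mul_w1 (t : F) : R.h t * R.w 1 = R.w t := inv_mul_cancel_right (R.w t) (R.w 1)

/-- Milnor's relation. -/
lemma h_mul_of_add_eq_one {u v : F} (hu : u ≠ 0) (hv : v ≠ 0) (huv : u + v = 1) :
    R.h u * R.h v = R.h (u * v) := by
  have huv0 : u * v ≠ 0 := mul_ne_zero hu hv
  have hy : ∀ t : F, R.y (-t⁻¹) = R.x (-t) * R.w t * R.x (-t) := fun t => by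
    simp only [w, x_neg]; group
  have hxm : R.x (-1) = R.y (-1) * R.w (-1) * R.y (-1) := by
    rw [R.w_eq (-1) (neg_ne_zero.mpr one_ne_zero), inv_neg, neg_neg, inv_one, y_neg]; group
  have h1 : R.y (-u⁻¹) * R.y (-v⁻¹) = R.y (-(u * v)⁻¹) := by
    rw [← R.y_add]; congr 1; field_simp; linear_combination -huv
  rw [hy u, hy v, hy (u * v)] at h1
  have h2 : R.w u * R.y (-1) = R.x (u ^ 2) * R.w u := by
    have := R.wy hu (-1)
    rw [show -(-1 * u ^ 2) = u ^ 2 by ring] at this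
    rw [← this]; group
  have h3 : R.y (-1) * R.w v = R.w v * R.x (v ^ 2) := by
    have := R.wy (neg_ne_zero.mpr hv) (-1)
    rw [w_neg, inv_inv, show -(-1 * (-v) ^ 2) = v ^ 2 by ring] at this
    rw [← this]; group
  have h4 : R.x (-u) * R.w u * R.x (-u) * (R.x (-v) * R.w v * R.x (-v)) =
      R.x (-(u * v)) * (R.w u * R.w (-1) * R.w v) * R.x (-(u * v)) := by
    calc R.x (-u) * R.w u * R.x (-u) * (R.x (-v) * R.w v * R.x (-v))
        = R.x (-u) * R.w u * (R.x (-u) * R.x (-v)) * R.w v * R.x (-v) := by group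
      _ = R.x (-u) * R.w u * R.x (-1) * R.w v * R.x (-v) := by
        rw [← R.x_add, show -u + -v = -(1 : F) by linear_combination -huv]
      _ = R.x (-u) * (R.w u * R.y (-1)) * R.w (-1) * (R.y (-1) * R.w v) * R.x (-v) := by
        rw [hxm]; group
      _ = (R.x (-u) * R.x (u ^ 2)) * (R.w u * R.w (-1) * R.w v) * (R.x (v ^ 2) * R.x (-v)) := by
        rw [h2, h3]; group
      _ = _ := by
        rw [← R.x_add, ← R.x_add]
        congr 2 <;> [congr 1; skip] <;>
          first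
            | linear_combination u * huv
            | linear_combination v * huv
  rw [h4] at h1
  have h5 : R.w u * R.w (-1) * R.w v = R.w (u * v) := mul_left_cancel (mul_right_cancel h1)
  calc R.h u * R.h v = (R.w u * (R.w 1)⁻¹ * R.w v) * (R.w 1)⁻¹ := by simp only [h]; group
    _ = (R.w u * R.w (-1) * R.w v) * (R.w 1)⁻¹ := by rw [w_neg]
    _ = R.h (u * v) := by rw [h5]; rfl

/-- The multiplicativity defect commutes with the root elements. -/
lemma defect_w {s t r : F} (hs : s ≠ 0) (ht : t ≠ 0) (hr : r ≠ 0) :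
    Commute (R.h s * R.h t * (R.h (s * t))⁻¹) (R.w r) := by
  have hst : s * t ≠ 0 := mul_ne_zero hs ht
  have h1 : R.h (s * t) * R.w (r / (s * t) ^ 2) * (R.h (s * t))⁻¹ = R.w r := by
    rw [R.hw hst (div_ne_zero hr (pow_ne_zero _ hst))]; congr 1; field_simp
  have h2 : R.h s * (R.h t * R.w (r / (s * t) ^ 2) * (R.h t)⁻¹) * (R.h s)⁻¹ = R.w r := by
    have hr' : r / (s * t) ^ 2 ≠ 0 := div_ne_zero hr (pow_ne_zero _ hst)
    rw [R.hw ht hr', R.hw hs (mul_ne_zero (pow_ne_zero _ ht) hr')]; congr 1; field_simp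
  set c := R.h s * R.h t * (R.h (s * t))⁻¹ with hc
  have h3 : c * R.w r * c⁻¹ = R.w r := by
    conv_lhs => rw [← h1]
    conv_rhs => rw [← h2]
    rw [hc]; group
  exact mul_inv_eq_iff_eq_mul.mp h3

lemma defect_h {s t r : F} (hs : s ≠ 0) (ht : t ≠ 0) (hr : r ≠ 0) :
    Commute (R.h s * R.h t * (R.h (s * t))⁻¹) (R.h r) :=
  (R.defect_w hs ht hr).mul_right (R.defect_w hs ht one_ne_zero).inv_right

section Finite

variable [Finite F]

lemma h_commute {s t : F} (hs : s ≠ 0) (ht : t ≠ 0) : Commute (R.h s) (R.h t) := by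
  obtain ⟨g, hg⟩ := IsCyclic.exists_monoid_generator (α := Fˣ)
  have key : ∀ u : F, u ≠ 0 → Commute (R.h u) (R.h (g : F)) → ∀ n : ℕ,
      Commute (R.h u) (R.h ((g : F) ^ n)) := by
    intro u hu hcomm n
    induction n with
    | zero => rw [pow_zero, h_one]; exact Commute.one_right _
    | succ n ih =>
      have hgn : (g : F) ^ n ≠ 0 := pow_ne_zero _ g.ne_zero
      have hd := R.defect_h hgn g.ne_zero hu
      have e : R.h ((g : F) ^ (n + 1)) =
          (R.h ((g : F) ^ n) * R.h (g : F) * (R.h ((g : F) ^ n * (g : F)))⁻¹)⁻¹ *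
            (R.h ((g : F) ^ n) * R.h (g : F)) := by rw [pow_succ]; group
      rw [e]
      exact hd.symm.inv_right.mul_right (ih.mul_right hcomm)
  have hpow : ∀ u : F, u ≠ 0 → ∃ n : ℕ, (g : F) ^ n = u := by
    intro u hu
    obtain ⟨n, hn⟩ := Submonoid.mem_powers_iff _ _ |>.mp (hg (Units.mk0 u hu))
    exact ⟨n, by simpa using congrArg Units.val hn⟩
  obtain ⟨m, rfl⟩ := hpow s hs
  obtain ⟨n, rfl⟩ := hpow t ht
  refine key _ (pow_ne_zero _ g.ne_zero) ?_ n
  exact (key _ g.ne_zero (Commute.refl _) m).symm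

lemma h_sq_mul {s t : F} (hs : s ≠ 0) (ht : t ≠ 0) :
    R.h (s ^ 2 * t) = R.h (s ^ 2) * R.h t := by
  have hs2 : s ^ 2 ≠ 0 := pow_ne_zero _ hs
  have e : R.h s * R.h t * (R.h s)⁻¹ = R.h (s ^ 2 * t) * (R.h (s ^ 2))⁻¹ := by
    calc R.h s * R.h t * (R.h s)⁻¹
        = (R.h s * R.w t * (R.h s)⁻¹) * (R.h s * R.w 1 * (R.h s)⁻¹)⁻¹ := by simp only [h]; group
      _ = R.w (s ^ 2 * t) * (R.w (s ^ 2 * 1))⁻¹ := by rw [R.hw hs ht, R.hw hs one_ne_zero]
      _ = _ := by simp only [h, mul_one]; group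
  rw [(R.h_commute hs ht).eq, mul_inv_cancel_right] at e
  rw [(R.h_commute hs2 ht).eq, e, inv_mul_cancel_right]

lemma h_mul {s t : F} (hs : s ≠ 0) (ht : t ≠ 0) : R.h (s * t) = R.h s * R.h t := by
  classical
  haveI := Fintype.ofFinite F
  by_cases hsq : ∀ u : F, u ≠ 0 → IsSquare u
  · obtain ⟨r, rfl⟩ := hsq s hs
    rw [← sq]; exact R.h_sq_mul (left_ne_zero_of_mul hs) ht
  push Not at hsq
  obtain ⟨z, hz, hzns⟩ := hsq
  -- the non-zero squares and their coset
  set Q : Finset F := Finset.univ.filter fun u => u ≠ 0 ∧ IsSquare u with hQ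
  set N : Finset F := Finset.univ.filter fun u => u ≠ 0 ∧ ¬ IsSquare u with hN
  have hdiv : ∀ u v : F, u ≠ 0 → v ≠ 0 → ¬ IsSquare u → ¬ IsSquare v →
      ∃ r : F, r ≠ 0 ∧ u = r ^ 2 * v := by
    intro u v hu hv hus hvs
    have h1 : IsSquare (u / v) := by
      have hu' := (quadraticChar_neg_one_iff_not_isSquare (F := F)).mpr hus
      have hv' := (quadraticChar_neg_one_iff_not_isSquare (F := F)).mpr hvs
      rw [← quadraticChar_one_iff_isSquare (div_ne_zero hu hv)]
      have : quadraticChar F (u / v) * quadraticChar F v = quadraticChar F u := by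
        rw [← map_mul, div_mul_cancel₀ u hv]
      rw [hu', hv'] at this
      linarith
    obtain ⟨r, hr⟩ := h1
    exact ⟨r, fun h0 => div_ne_zero hu hv (by rw [hr, h0, zero_mul]),
      by rw [sq, ← hr, div_mul_cancel₀ u hv]⟩
  obtain ⟨u, v, hu, hv, hus, hvs, huv⟩ :
      ∃ u v : F, u ≠ 0 ∧ v ≠ 0 ∧ ¬ IsSquare u ∧ ¬ IsSquare v ∧ u + v = 1 := by
    by_contra hc
    push Not at hc
    have hmaps : ∀ u ∈ N, 1 - u ∈ Q.erase 1 := by
      intro u hu
      simp only [hN, Finset.mem_filter, Finset.mem_univ, true_and] at hu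
      have h0 : 1 - u ≠ 0 := fun h => hu.2 (by rw [← sub_eq_zero.mp h]; exact IsSquare.one)
      simp only [hQ, Finset.mem_erase, Finset.mem_filter, Finset.mem_univ, true_and]
      refine ⟨fun h => hu.1 (by linear_combination -h), h0, ?_⟩
      by_contra hns
      exact hc u (1 - u) hu.1 h0 hu.2 hns (by ring)
    have h1 : N.card ≤ (Q.erase 1).card :=
      Finset.card_le_card_of_injOn (1 - ·) hmaps fun a _ b _ h => by simpa using h
    have h2 : Q.card ≤ N.card := by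
      refine Finset.card_le_card_of_injOn (z * ·) (fun u hu => ?_)
        fun a _ b _ h => mul_left_cancel₀ hz h
      simp only [hQ, Finset.coe_filter, Set.mem_ofPred_eq, Finset.mem_univ, true_and] at hu
      simp only [hN, Finset.coe_filter, Set.mem_ofPred_eq, Finset.mem_univ, true_and]
      refine ⟨mul_ne_zero hz hu.1, fun h => hzns ?_⟩
      simpa [hu.1] using h.div hu.2
    have h3 : (Q.erase 1).card < Q.card :=
      Finset.card_erase_lt_of_mem (by simp [hQ])
    omega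
  have hns : ∀ a b : F, a ≠ 0 → b ≠ 0 → ¬ IsSquare a → ¬ IsSquare b →
      R.h (a * b) = R.h a * R.h b := by
    intro a b ha hb has hbs
    obtain ⟨r, hr, rfl⟩ := hdiv a u ha hu has hus
    obtain ⟨q, hq, rfl⟩ := hdiv b v hb hv hbs hvs
    rw [R.h_sq_mul hr hu, R.h_sq_mul hq hv,
      show r ^ 2 * u * (q ^ 2 * v) = r ^ 2 * (q ^ 2 * (u * v)) by ring,
      R.h_sq_mul hr (mul_ne_zero (pow_ne_zero _ hq) (mul_ne_zero hu hv)),
      R.h_sq_mul hq (mul_ne_zero hu hv), ← R.h_mul_of_add_eq_one hu hv huv]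
    have hc := R.h_commute (pow_ne_zero 2 hq) hu
    simp only [mul_assoc]
    congr 1
    rw [← mul_assoc, hc.eq, mul_assoc]
  by_cases h1 : IsSquare s
  · obtain ⟨r, rfl⟩ := h1
    rw [← sq]; exact R.h_sq_mul (left_ne_zero_of_mul hs) ht
  by_cases h2 : IsSquare t
  · obtain ⟨r, rfl⟩ := h2
    rw [← sq, mul_comm, R.h_sq_mul (left_ne_zero_of_mul ht) hs,
      (R.h_commute (pow_ne_zero 2 (left_ne_zero_of_mul ht)) hs).eq]
  exact hns s t hs ht h1 h2

lemma hneg_w {t : F} (ht : t ≠ 0) : R.w (-t⁻¹) * R.w 1 = R.h t⁻¹ := by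
  have hti : t⁻¹ ≠ 0 := inv_ne_zero ht
  have hm1 : (-1 : F) ≠ 0 := neg_ne_zero.mpr one_ne_zero
  have h1 : R.h (-1) = (R.w 1)⁻¹ * (R.w 1)⁻¹ := by simp only [h, w_neg]
  have h2 : R.w (-t⁻¹) = R.h (-1) * R.w t⁻¹ := by
    rw [← R.h_mul_w1, show -t⁻¹ = (-1 : F) * t⁻¹ by ring, R.h_mul hm1 hti, mul_assoc, R.h_mul_w1]
  rw [h2, ← R.h_mul_w1 t⁻¹, ← mul_assoc, (R.h_commute hm1 hti).eq, h1]
  group

open scoped Classical in
/-- The word for a matrix with the given entries. -/
noncomputable def word (a b c d : F) : G :=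
  if c = 0 then R.h a * R.x (b / a) else R.x (a / c) * R.w (-c⁻¹) * R.x (d / c)

/-- The value on a matrix. -/
noncomputable def toFun (g : SpecialLinearGroup (Fin 2) F) : G :=
  R.word ((g : Matrix (Fin 2) (Fin 2) F) 0 0) ((g : Matrix (Fin 2) (Fin 2) F) 0 1)
    ((g : Matrix (Fin 2) (Fin 2) F) 1 0) ((g : Matrix (Fin 2) (Fin 2) F) 1 1)

omit [Finite F] in
lemma toFun_one : R.toFun 1 = 1 := by simp [toFun, word, h_one, x_zero]

omit [Finite F] in
lemma toFun_mul_U (g : SpecialLinearGroup (Fin 2) F) (s : F) :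
    R.toFun (g * SL2.U s) = R.toFun g * R.x s := by
  by_cases hc : (g : Matrix (Fin 2) (Fin 2) F) 1 0 = 0
  · have ha : (g : Matrix (Fin 2) (Fin 2) F) 0 0 ≠ 0 := fun h => by simpa [h, hc] using SL2.det_eq g
    simp only [toFun, Matrix.SpecialLinearGroup.coe_mul, SL2.coe_U]
    simp [word, mul_apply, hc]
    rw [mul_assoc, ← R.x_add]
    congr 2
    field_simp
    ring
  · simp only [toFun, Matrix.SpecialLinearGroup.coe_mul, SL2.coe_U]
    simp [word, mul_apply, hc]
    rw [mul_assoc (R.x _ * R.w _), ← R.x_add]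
    congr 2
    field_simp
    ring

lemma toFun_mul_W (g : SpecialLinearGroup (Fin 2) F) :
    R.toFun (g * SL2.W) = R.toFun g * R.w 1 := by
  have hdet := SL2.det_eq g
  set a := (g : Matrix (Fin 2) (Fin 2) F) 0 0 with hadef
  set b := (g : Matrix (Fin 2) (Fin 2) F) 0 1 with hbdef
  set c := (g : Matrix (Fin 2) (Fin 2) F) 1 0 with hcdef
  set d := (g : Matrix (Fin 2) (Fin 2) F) 1 1 with hddef
  have e00 : ((g * SL2.W : SpecialLinearGroup (Fin 2) F) : Matrix (Fin 2) (Fin 2) F) 0 0 = -b := by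
    simp [mul_apply, hbdef]
  have e01 : ((g * SL2.W : SpecialLinearGroup (Fin 2) F) : Matrix (Fin 2) (Fin 2) F) 0 1 = a := by
    simp [mul_apply, hadef]
  have e10 : ((g * SL2.W : SpecialLinearGroup (Fin 2) F) : Matrix (Fin 2) (Fin 2) F) 1 0 = -d := by
    simp [mul_apply, hddef]
  have e11 : ((g * SL2.W : SpecialLinearGroup (Fin 2) F) : Matrix (Fin 2) (Fin 2) F) 1 1 = c := by
    simp [mul_apply, hcdef]
  unfold toFun
  rw [e00, e01, e10, e11, ← hadef, ← hbdef, ← hcdef, ← hddef]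
  unfold word
  by_cases hc : c = 0
  · have had : a * d = 1 := by linear_combination hdet + b * hc
    have ha : a ≠ 0 := left_ne_zero_of_mul_eq_one had
    have hd : d = a⁻¹ := eq_inv_of_mul_eq_one_right had
    rw [if_neg (neg_ne_zero.mpr (right_ne_zero_of_mul_eq_one had)), if_pos hc, hc, zero_div,
      x_zero, mul_one, inv_neg, neg_neg, hd, inv_inv]
    calc R.x (-b / -a⁻¹) * R.w a = R.x (a ^ 2 * (b / a)) * (R.h a * R.w 1) := by
          rw [R.h_mul_w1]; congr 2; field_simp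
      _ = _ := by rw [← R.hx ha]; group
  by_cases hd : d = 0
  · have hb : -b = c⁻¹ := eq_inv_of_mul_eq_one_left (by linear_combination hdet - a * hd)
    rw [if_pos (by rw [hd, neg_zero]), if_neg hc, hd, zero_div, x_zero, mul_one, hb, mul_assoc,
      R.hneg_w hc]
    have e := R.hx (inv_ne_zero hc) (a / c⁻¹)
    rw [show c⁻¹ ^ 2 * (a / c⁻¹) = a / c by field_simp] at e
    rw [← e]; group
  · have hcd : c / d ≠ 0 := div_ne_zero hc hd
    rw [if_neg (neg_ne_zero.mpr hd), if_neg hc, inv_neg, neg_neg]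
    have h1 : R.x (d / c) * R.w 1 = R.w 1 * R.y (-(c / d)⁻¹) := by
      have := R.wy one_ne_zero (-(c / d)⁻¹)
      rw [show -(-(c / d)⁻¹ * 1 ^ 2) = d / c by rw [inv_div]; ring] at this
      rw [← this]; group
    have h2 : R.y (-(c / d)⁻¹) = R.x (-(c / d)) * R.w (c / d) * R.x (-(c / d)) := by
      simp only [w, x_neg]; group
    have h3 : R.h c⁻¹ * R.x (-(c / d)) = R.x (c⁻¹ ^ 2 * -(c / d)) * R.h c⁻¹ := by
      rw [← R.hx (inv_ne_zero hc)]; group
    have h4 : R.h c⁻¹ * R.w (c / d) = R.w d⁻¹ := by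
      rw [← R.h_mul_w1 (c / d), ← mul_assoc, ← R.h_mul (inv_ne_zero hc) hcd, R.h_mul_w1]
      congr 1; field_simp
    symm
    calc R.x (a / c) * R.w (-c⁻¹) * R.x (d / c) * R.w 1
        = R.x (a / c) * (R.w (-c⁻¹) * R.w 1) * R.y (-(c / d)⁻¹) := by
          rw [mul_assoc _ (R.x (d / c)), h1]; group
      _ = R.x (a / c) * (R.h c⁻¹ * R.x (-(c / d))) * R.w (c / d) * R.x (-(c / d)) := by
          rw [R.hneg_w hc, h2]; group
      _ = (R.x (a / c) * R.x (c⁻¹ ^ 2 * -(c / d))) * (R.h c⁻¹ * R.w (c / d)) * R.x (-(c / d)) := by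
          rw [h3]; group
      _ = _ := by
          rw [h4, ← R.x_add]
          congr 3
          · field_simp; linear_combination hdet
          · ring

/-- The homomorphism from `SL₂(F)`. -/
noncomputable def hom : SpecialLinearGroup (Fin 2) F →* G :=
  MonoidHom.mk' R.toFun <| by
    let S : Subgroup (SpecialLinearGroup (Fin 2) F) :=
      { carrier := {s | ∀ g, R.toFun (g * s) = R.toFun g * R.toFun s}
        one_mem' := fun g => by rw [mul_one, toFun_one, mul_one]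
        mul_mem' := fun {s t} hs ht g => by rw [← mul_assoc, ht, hs, ht s, mul_assoc]
        inv_mem' := fun {s} hs g => by
          have h1 : R.toFun s⁻¹ = (R.toFun s)⁻¹ := eq_inv_of_mul_eq_one_left (by
            rw [← hs s⁻¹, inv_mul_cancel, toFun_one])
          have h2 := hs (g * s⁻¹)
          rw [inv_mul_cancel_right] at h2
          rw [h1, h2, mul_inv_cancel_right] }
    have hU : ∀ s, SL2.U s ∈ S := fun s g => by
      rw [R.toFun_mul_U g s]
      congr 1
      have := R.toFun_mul_U 1 s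
      rw [one_mul, toFun_one, one_mul] at this
      exact this.symm
    have hW : SL2.W ∈ S := fun g => by
      rw [R.toFun_mul_W g]
      congr 1
      have := R.toFun_mul_W 1
      rw [one_mul, toFun_one, one_mul] at this
      exact this.symm
    intro g s
    have : s ∈ S := by rw [SL2.generated S hU hW]; trivial
    exact this g

lemma hom_U (s : F) : R.hom (SL2.U s) = R.x s := by
  show R.toFun (SL2.U s) = _
  simpa [toFun_one] using R.toFun_mul_U 1 s

lemma hom_L (s : F) : R.hom (SL2.L s) = R.y s := by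
  have hW : R.hom (SL2.W : SpecialLinearGroup (Fin 2) F) = R.w 1 := by
    show R.toFun SL2.W = _
    simpa [toFun_one] using R.toFun_mul_W 1
  have e : SL2.L s = SL2.W * SL2.U (-s) * (SL2.W)⁻¹ := by rw [SL2.W_conj_U, neg_neg]
  rw [e, map_mul, map_mul, map_inv, hW, hom_U, R.wx one_ne_zero]
  simp

end Finite

end RootData

end CfsgLib.RootSubgroups.Steinberg
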