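import Cfsg.Agent.RootSubgroups.RootLines

/-! The subgroup generated by `A, B, C` with `⁅A, B⁆, ⁅B, C⁆ ∈ S` and `A`, `C` commuting. -/

set_option autoImplicit false

namespace CfsgLib.RootSubgroups

open Cfsg

variable {G : Type*} [Group G]

/-- Commutators of generators lying in a normalised subgroup. -/
lemma commutator_closure_le (s t : Set G) (N : Subgroup G)
    (hs : Subgroup.closure s ≤ Subgroup.normalizer (N : Set G))
    (ht : Subgroup.closure t ≤ Subgroup.normalizer (N : Set G))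
    (h : ∀ x ∈ s, ∀ y ∈ t, x * y * x⁻¹ * y⁻¹ ∈ N) :
    ⁅Subgroup.closure s, Subgroup.closure t⁆ ≤ N := by
  have h1 : ∀ x ∈ s, ∀ y ∈ Subgroup.closure t, x * y * x⁻¹ * y⁻¹ ∈ N := by
    intro x hx y hy
    induction hy using Subgroup.closure_induction with
    | mem y hy => exact h x hx y hy
    | one => simp
    | mul y z hy hz ihy ihz =>
      rw [show x * (y * z) * x⁻¹ * (y * z)⁻¹ =
        (x * y * x⁻¹ * y⁻¹) * (y * (x * z * x⁻¹ * z⁻¹) * y⁻¹) by group]
      exact mul_mem ihy ((Subgroup.mem_normalizer_iff.mp (ht hy) _).mp ihz)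
    | inv y hy ihy =>
      rw [show x * y⁻¹ * x⁻¹ * y⁻¹⁻¹ = y⁻¹ * (x * y * x⁻¹ * y⁻¹)⁻¹ * y⁻¹⁻¹ by group]
      exact (Subgroup.mem_normalizer_iff.mp (ht (inv_mem hy)) _).mp (inv_mem ihy)
  rw [Subgroup.commutator_le]
  intro x hx y hy
  rw [commutatorElement_def]
  induction hx using Subgroup.closure_induction with
  | mem x hx => exact h1 x hx y hy
  | one => simp
  | mul x z hx hz ihx ihz =>
    rw [show x * z * y * (x * z)⁻¹ * y⁻¹ =
      (x * (z * y * z⁻¹ * y⁻¹) * x⁻¹) * (x * y * x⁻¹ * y⁻¹) by group]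
    exact mul_mem ((Subgroup.mem_normalizer_iff.mp (hs hx) _).mp ihz) ihx
  | inv x hx ihx =>
    rw [show x⁻¹ * y * x⁻¹⁻¹ * y⁻¹ = x⁻¹ * (x * y * x⁻¹ * y⁻¹)⁻¹ * x⁻¹⁻¹ by group]
    exact (Subgroup.mem_normalizer_iff.mp (hs (inv_mem hx)) _).mp (inv_mem ihx)

lemma le_normalizer_of_commutes {P N : Subgroup G} (h : ∀ n ∈ N, ∀ p ∈ P, n * p = p * n) :
    P ≤ Subgroup.normalizer (N : Set G) := fun p hp =>
  conjBy_eq_self_iff.mp (conjBy_eq_of_commute fun n hn => (h n hn p hp).symm)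

variable {S : Set (Subgroup G)} {A B C : Subgroup G}

/-- In the situation of `chain_structure` the pair `(A, C^b)` is not a rank one pair. -/
lemma chain_not_rankOne (hS : IsRootSubgroupSet S) (hA : A ∈ S) (hC : C ∈ S)
    (h2 : RootCommutatorCase S C B) (hcomm : ∀ a ∈ A, ∀ c ∈ C, a * c = c * a) {b : G} (hb : b ∈ B)
    (hb1 : b ≠ 1) : ¬ IsRankOnePair A (conjBy C b⁻¹) := by
  intro hr
  obtain ⟨e, he, he1⟩ := exists_ne_one hS h2.1
  obtain ⟨c, hc, rfl⟩ := rcomm_surj_left h2 hb hb1 he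
  have hce : c * rcomm c b ∈ conjBy C b⁻¹ := by
    rw [← conj_eq_mul_rcomm, mem_conjBy]; simpa [mul_assoc] using hc
  have hce1 : c * rcomm c b ≠ 1 := fun h0 => he1 (by
    rw [← conj_eq_mul_rcomm] at h0
    have hc0 : c = 1 := by simpa [mul_assoc] using congrArg (fun z => b * z * b⁻¹) h0
    rw [hc0]; simp [rcomm])
  have hcx : ∀ x ∈ conjBy C b⁻¹, c⁻¹ * x = x * c⁻¹ := by
    intro x hx
    rw [mem_conjBy, inv_inv] at hx
    have e : x = (b * x * b⁻¹) * rcomm (b * x * b⁻¹) b := by rw [← conj_eq_mul_rcomm]; group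
    rw [e]
    exact (Commute.inv_left (Commute.mul_right (commute_self hS hC hc hx)
      (comm_left h2 (rcomm_mem hx hb) hc).symm)).eq
  refine he1 ?_
  have := (eq_of_mul_mem hS (hS.conj_mem C hC b⁻¹) hA (RankOnePair_symm hr) (z := c⁻¹)
    hcx (fun x hx => ((show Commute x c from hcomm x hx c hc).symm.inv_left).eq) hce hce1 h2.1
    (by rw [inv_mul_cancel_left]; exact rcomm_mem hc hb)).2
  rw [inv_eq_one] at this
  rw [this]; simp [rcomm]

/-- The half `⟨A, C^b⟩`: either abelian or of class two, its derived group being `⁅A, ⁅C, B⁆⁆`. -/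
lemma chain_half (hS : IsRootSubgroupSet S) (hA : A ∈ S) (hC : C ∈ S)
    (h2 : RootCommutatorCase S C B) (hcomm : ∀ a ∈ A, ∀ c ∈ C, a * c = c * a) {b : G} (hb : b ∈ B)
    (hb1 : b ≠ 1) :
    ⁅A, conjBy C b⁻¹⁆ = ⁅A, ⁅C, B⁆⁆ ∧
    (∀ t ∈ ⁅A, ⁅C, B⁆⁆, ∀ x ∈ A ⊔ conjBy C b⁻¹, t * x = x * t) ∧
    ⁅A ⊔ conjBy C b⁻¹, A ⊔ conjBy C b⁻¹⁆ ≤ ⁅A, ⁅C, B⁆⁆ ∧
    (IsMulCommutative ↥(A ⊔ conjBy C b⁻¹) ↔ ⁅A, ⁅C, B⁆⁆ = ⊥) := by
  have key : ∀ a ∈ A, ∀ c ∈ C, a * (b⁻¹ * c * b) * a⁻¹ * (b⁻¹ * c * b)⁻¹ =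
      a * rcomm c b * a⁻¹ * (rcomm c b)⁻¹ := by
    intro a ha c hc
    rw [conj_eq_mul_rcomm]
    set e := rcomm c b
    have he : e ∈ ⁅C, B⁆ := rcomm_mem hc hb
    have e1 : c * (a * e * a⁻¹ * e⁻¹) = (a * e * a⁻¹ * e⁻¹) * c := by
      have q1 : Commute c a := (hcomm a ha c hc).symm
      have q2 : Commute c e := (comm_left h2 he hc).symm
      exact ((q1.mul_right q2).mul_right q1.inv_right).mul_right q2.inv_right
    calc a * (c * e) * a⁻¹ * (c * e)⁻¹ = (a * c) * e * a⁻¹ * e⁻¹ * c⁻¹ := by group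
      _ = c * (a * e * a⁻¹ * e⁻¹) * c⁻¹ := by rw [hcomm a ha c hc]; group
      _ = _ := by rw [e1, mul_inv_cancel_right]
  have heq : ⁅A, conjBy C b⁻¹⁆ = ⁅A, ⁅C, B⁆⁆ := by
    refine le_antisymm ?_ ?_ <;> rw [Subgroup.commutator_le]
    · intro a ha x hx
      rw [mem_conjBy, inv_inv] at hx
      have : x = b⁻¹ * (b * x * b⁻¹) * b := by group
      rw [commutatorElement_def, this, key a ha _ hx, ← commutatorElement_def]
      exact Subgroup.commutator_mem_commutator ha (rcomm_mem hx hb)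
    · intro a ha e he
      obtain ⟨c, hc, rfl⟩ := rcomm_surj_left h2 hb hb1 he
      rw [commutatorElement_def, ← key a ha c hc, ← commutatorElement_def]
      refine Subgroup.commutator_mem_commutator ha ?_
      rw [mem_conjBy]; simpa [mul_assoc] using hc
  have hcent : ∀ t ∈ ⁅A, ⁅C, B⁆⁆, ∀ x ∈ A ⊔ conjBy C b⁻¹, t * x = x * t := by
    rw [← heq]
    rcases trichotomy hS hA (hS.conj_mem C hC b⁻¹) with h | h | h
    · intro t ht x _
      rw [commutator_eq_bot_iff_comm.mpr h, Subgroup.mem_bot] at ht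
      simp [ht]
    · exact absurd h (chain_not_rankOne hS hA hC h2 hcomm hb hb1)
    · exact h.2.1
  refine ⟨heq, hcent, ?_, ?_⟩
  · rw [← Subgroup.closure_eq A, ← Subgroup.closure_eq (conjBy C b⁻¹), ← Subgroup.closure_union]
    have hn : Subgroup.closure ((A : Set G) ∪ (conjBy C b⁻¹ : Subgroup G)) ≤
        Subgroup.normalizer ((⁅A, ⁅C, B⁆⁆ : Subgroup G) : Set G) := by
      rw [Subgroup.closure_union, Subgroup.closure_eq, Subgroup.closure_eq]
      exact le_normalizer_of_commutes hcent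
    rw [Subgroup.closure_eq A]
    refine commutator_closure_le _ _ _ hn hn ?_
    rintro x (hx | hx) y (hy | hy)
    · rw [commute_self hS hA hx hy]; simp
    · rw [← heq]; exact Subgroup.commutator_mem_commutator hx hy
    · rw [← heq, Subgroup.commutator_comm]; exact Subgroup.commutator_mem_commutator hx hy
    · rw [commute_self hS (hS.conj_mem C hC b⁻¹) hx hy]; simp
  · constructor
    · intro hab
      rw [← heq, commutator_eq_bot_iff_comm]
      exact fun x hx y hy => mul_comm_of_mem hab ((le_sup_left : A ≤ _) hx)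
        ((le_sup_right : conjBy C b⁻¹ ≤ _) hy)
    · intro hbot
      rw [← heq, commutator_eq_bot_iff_comm] at hbot
      refine ⟨⟨fun ⟨x, hx⟩ ⟨y, hy⟩ => Subtype.ext ?_⟩⟩
      have hc : A ⊔ conjBy C b⁻¹ ≤ Subgroup.centralizer ((A ⊔ conjBy C b⁻¹ : Subgroup G) : Set G) := by
        refine sup_le ?_ ?_ <;> rw [Subgroup.le_centralizer_iff] <;> refine sup_le ?_ ?_ <;>
          intro p hp <;> rw [Subgroup.mem_centralizer_iff] <;> intro q hq
        · exact commute_self hS hA hq hp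
        · exact hbot q hq p hp
        · exact (hbot p hp q hq).symm
        · exact commute_self hS (hS.conj_mem C hC b⁻¹) hq hp
      exact Subgroup.mem_centralizer_iff.mp (hc hy) x hx

/-- The structure of `⟨A, B, C⟩`. -/
theorem chain_structure (hS : IsRootSubgroupSet S) (hA : A ∈ S) (hB : B ∈ S) (hC : C ∈ S)
    (h1 : RootCommutatorCase S A B) (h2 : RootCommutatorCase S C B)
    (hcomm : ∀ a ∈ A, ∀ c ∈ C, a * c = c * a) {b : G} (hb : b ∈ B) (hb1 : b ≠ 1) :
    ((IsMulCommutative ↥(A ⊔ conjBy C b⁻¹) ∧ IsMulCommutative ↥(conjBy A b⁻¹ ⊔ C)) ∨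
      ((¬ IsMulCommutative ↥(A ⊔ conjBy C b⁻¹) ∧
          ⁅⁅A ⊔ conjBy C b⁻¹, A ⊔ conjBy C b⁻¹⁆, A ⊔ conjBy C b⁻¹⁆ = ⊥) ∧
        (¬ IsMulCommutative ↥(conjBy A b⁻¹ ⊔ C) ∧
          ⁅⁅conjBy A b⁻¹ ⊔ C, conjBy A b⁻¹ ⊔ C⁆, conjBy A b⁻¹ ⊔ C⁆ = ⊥))) ∧
    ⁅A ⊔ conjBy C b⁻¹, conjBy A b⁻¹ ⊔ C⁆ = ⊥ ∧
    (∀ r ∈ A ⊔ B ⊔ C, conjBy ((A ⊔ conjBy C b⁻¹) ⊔ (conjBy A b⁻¹ ⊔ C)) r =
      (A ⊔ conjBy C b⁻¹) ⊔ (conjBy A b⁻¹ ⊔ C)) ∧
    ((A ⊔ conjBy C b⁻¹) ⊔ (conjBy A b⁻¹ ⊔ C)) ⊔ B = A ⊔ B ⊔ C ∧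
    Group.IsNilpotent ↥(A ⊔ B ⊔ C) := by
  obtain ⟨hTeq, hTc, hTd, hTab⟩ := chain_half hS hA hC h2 hcomm hb hb1
  obtain ⟨hUeq, hUc, hUd, hUab⟩ :=
    chain_half hS hC hA h1 (fun c hc a ha => (hcomm a ha c hc).symm) hb hb1
  rw [sup_comm C (conjBy A b⁻¹)] at hUc hUd hUab
  set X := A ⊔ conjBy C b⁻¹ with hXdef
  set Y := conjBy A b⁻¹ ⊔ C with hYdef
  set T := ⁅A, ⁅C, B⁆⁆ with hT
  set U := ⁅C, ⁅A, B⁆⁆ with hU
  have hTU : T = ⊥ ↔ U = ⊥ := by
    have hCA : ⁅C, A⁆ = ⊥ :=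
      commutator_eq_bot_iff_comm.mpr fun c hc a ha => (hcomm a ha c hc).symm
    have hAC : ⁅A, C⁆ = ⊥ := commutator_eq_bot_iff_comm.mpr hcomm
    constructor
    · intro h
      rw [hU, Subgroup.commutator_comm]
      refine Subgroup.commutator_commutator_eq_bot_of_rotate ?_ ?_
      · rw [Subgroup.commutator_comm B C, Subgroup.commutator_comm _ A]; exact h
      · rw [hCA, Subgroup.commutator_bot_left]
    · intro h
      rw [hT, Subgroup.commutator_comm]
      refine Subgroup.commutator_commutator_eq_bot_of_rotate ?_ ?_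
      · rw [Subgroup.commutator_comm B A, Subgroup.commutator_comm _ C]; exact h
      · rw [hAC, Subgroup.commutator_bot_left]
  have hclass : ∀ {Z N : Subgroup G}, ⁅Z, Z⁆ ≤ N → (∀ t ∈ N, ∀ x ∈ Z, t * x = x * t) →
      ⁅⁅Z, Z⁆, Z⁆ = ⊥ := by
    intro Z N hle hc
    rw [commutator_eq_bot_iff_comm]
    exact fun x hx y hy => hc x (hle hx) y hy
  have hconjmem : ∀ {P : Subgroup G} {x : G}, x ∈ conjBy P b⁻¹ → b * x * b⁻¹ ∈ P := by
    intro P x hx; rw [mem_conjBy, inv_inv] at hx; exact hx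
  have hconjform : ∀ x : G, x = (b * x * b⁻¹) * rcomm (b * x * b⁻¹) b := fun x => by
    rw [← conj_eq_mul_rcomm]; group
  have hXY : ∀ x ∈ X, ∀ y ∈ Y, x * y = y * x := by
    have hX : X ≤ Subgroup.centralizer (Y : Set G) := by
      refine sup_le ?_ ?_ <;> rw [Subgroup.le_centralizer_iff] <;> refine sup_le ?_ ?_ <;>
        intro p hp <;> rw [Subgroup.mem_centralizer_iff] <;> intro q hq
      · rw [hconjform p]
        exact (Commute.mul_right (commute_self hS hA hq (hconjmem hp))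
          (comm_left h1 (rcomm_mem (hconjmem hp) hb) hq).symm).eq
      · exact hcomm q hq p hp
      · exact ((Commute.conj_iff b).mp (show Commute (b * p * b⁻¹) (b * q * b⁻¹) from
          hcomm _ (hconjmem hp) _ (hconjmem hq))).symm.eq
      · rw [hconjform q]
        exact (Commute.mul_left (commute_self hS hC (hconjmem hq) hp)
          (comm_left h2 (rcomm_mem (hconjmem hq) hb) hp)).eq
    exact fun x hx y hy => (Subgroup.mem_centralizer_iff.mp (hX hx) y hy).symm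
  set M := X ⊔ Y with hMdef
  have hAM : A ≤ M := le_sup_left.trans' le_sup_left
  have hCM : C ≤ M := le_sup_right.trans' le_sup_right
  have hFM : ⁅A, B⁆ ≤ M := by
    intro f hf
    obtain ⟨a, ha, rfl⟩ := rcomm_surj_left h1 hb hb1 hf
    have hm : b⁻¹ * a * b ∈ M := (le_sup_right : Y ≤ M) ((le_sup_left : conjBy A b⁻¹ ≤ Y)
      (by simpa [mul_assoc] using conj_mem_conjBy ha b⁻¹))
    have := mul_mem (inv_mem (hAM ha)) hm
    rwa [conj_eq_mul_rcomm, inv_mul_cancel_left] at this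
  have hEM : ⁅C, B⁆ ≤ M := by
    intro e he
    obtain ⟨c, hc, rfl⟩ := rcomm_surj_left h2 hb hb1 he
    have hm : b⁻¹ * c * b ∈ M := (le_sup_left : X ≤ M) ((le_sup_right : conjBy C b⁻¹ ≤ X)
      (by simpa [mul_assoc] using conj_mem_conjBy hc b⁻¹))
    have := mul_mem (inv_mem (hCM hc)) hm
    rwa [conj_eq_mul_rcomm, inv_mul_cancel_left] at this
  have hMB : ∀ β ∈ B, conjBy M β ≤ M := by
    intro β hβ
    have hP : ∀ (P : Subgroup G), RootCommutatorCase S P B → P ≤ M → ⁅P, B⁆ ≤ M → ∀ x ∈ P,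
        β * x * β⁻¹ ∈ M ∧ β * (b⁻¹ * x * b) * β⁻¹ ∈ M := by
      intro P hP hPM hQM x hx
      have h' : ∀ γ ∈ B, γ⁻¹ * x * γ ∈ M := fun γ hγ => by
        rw [conj_eq_mul_rcomm]; exact mul_mem (hPM hx) (hQM (rcomm_mem hx hγ))
      refine ⟨by simpa using h' β⁻¹ (inv_mem hβ), ?_⟩
      simpa [mul_assoc] using h' (b * β⁻¹) (mul_mem hb (inv_mem hβ))
    simp only [hMdef, hXdef, hYdef, conjBy_sup, conjBy_conjBy]
    refine sup_le (sup_le ?_ ?_) (sup_le ?_ ?_) <;> intro z hz <;> rw [mem_conjBy] at hz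
    · simpa [mul_assoc] using (hP A h1 hAM hFM _ hz).1
    · simpa [mul_assoc] using (hP C h2 hCM hEM _ hz).2
    · simpa [mul_assoc] using (hP A h1 hAM hFM _ hz).2
    · simpa [mul_assoc] using (hP C h2 hCM hEM _ hz).1
  have hnormM : A ⊔ B ⊔ C ≤ Subgroup.normalizer (M : Set G) := by
    refine sup_le (sup_le ?_ ?_) ?_
    · exact hAM.trans Subgroup.le_normalizer
    · intro β hβ
      refine conjBy_eq_self_iff.mp (le_antisymm (hMB β hβ) ?_)
      have := conjBy_mono (hMB β⁻¹ (inv_mem hβ)) β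
      rwa [conjBy_conjBy_inv] at this
    · exact hCM.trans Subgroup.le_normalizer
  have hsupR : M ⊔ B = A ⊔ B ⊔ C := by
    refine le_antisymm (sup_le ?_ (le_sup_left.trans' le_sup_right)) ?_
    · have hle : ∀ P : Subgroup G, P ≤ A ⊔ B ⊔ C → conjBy P b⁻¹ ≤ A ⊔ B ⊔ C := by
        intro P hP x hx
        have hb' : b ∈ A ⊔ B ⊔ C := (le_sup_left : A ⊔ B ≤ _) ((le_sup_right : B ≤ A ⊔ B) hb)
        have := mul_mem (mul_mem (inv_mem hb') (hP (hconjmem hx))) hb'
        simpa [mul_assoc] using this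
      exact sup_le (sup_le (le_sup_left.trans' le_sup_left) (hle C le_sup_right))
        (sup_le (hle A (le_sup_left.trans' le_sup_left)) le_sup_right)
    · exact sup_le (sup_le (hAM.trans le_sup_left) le_sup_right) (hCM.trans le_sup_left)
  refine ⟨?_, commutator_eq_bot_iff_comm.mpr hXY,
    fun r hr => conjBy_eq_self_iff.mpr (hnormM hr), hsupR, ?_⟩
  · by_cases hT0 : T = ⊥
    · exact Or.inl ⟨hTab.mpr hT0, hUab.mpr (hTU.mp hT0)⟩
    · exact Or.inr ⟨⟨fun h => hT0 (hTab.mp h), hclass hTd hTc⟩,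
        fun h => hT0 (hTU.mpr (hUab.mp h)), hclass hUd hUc⟩
  -- nilpotency
  have hTleX : T ≤ X := hTeq ▸ Subgroup.commutator_le_sup _ _
  have hUleY : U ≤ Y := by
    rw [hYdef, sup_comm, ← hUeq]; exact Subgroup.commutator_le_sup _ _
  have hTUc : ∀ t ∈ T ⊔ U, ∀ x ∈ M, t * x = x * t := by
    have hle : T ⊔ U ≤ Subgroup.centralizer (M : Set G) := by
      rw [Subgroup.le_centralizer_iff]
      refine sup_le ?_ ?_ <;> rw [Subgroup.le_centralizer_iff] <;> refine sup_le ?_ ?_ <;>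
        intro t ht <;> rw [Subgroup.mem_centralizer_iff] <;> intro x hx
      · exact (hTc t ht x hx).symm
      · exact hXY x hx t (hUleY ht)
      · exact (hXY t (hTleX ht) x hx).symm
      · exact (hUc t ht x hx).symm
    exact fun t ht x hx => (Subgroup.mem_centralizer_iff.mp (hle ht) x hx).symm
  set E := ⁅C, B⁆ with hE
  set F := ⁅A, B⁆ with hF
  set Q := ⁅E, F⁆ with hQ
  set R := A ⊔ B ⊔ C with hR
  have hRcl : R = Subgroup.closure ((A : Set G) ∪ B ∪ C) := by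
    rw [Subgroup.closure_union, Subgroup.closure_union, Subgroup.closure_eq, Subgroup.closure_eq,
      Subgroup.closure_eq]
  have hTUle : T ⊔ U ≤ M := sup_le (hTleX.trans le_sup_left) (hUleY.trans le_sup_right)
  -- `Q ≤ T ⊔ U`
  have hQTU : Q ≤ T ⊔ U := by
    have hMn : M ≤ Subgroup.normalizer ((T ⊔ U : Subgroup G) : Set G) :=
      le_normalizer_of_commutes hTUc
    have h : ⁅M, M⁆ ≤ T ⊔ U := by
      have hM : M = Subgroup.closure ((X : Set G) ∪ Y) := by
        rw [Subgroup.closure_union, Subgroup.closure_eq, Subgroup.closure_eq]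
      rw [hM]
      refine commutator_closure_le _ _ _ (hM ▸ hMn) (hM ▸ hMn) ?_
      rintro x (hx | hx) y (hy | hy)
      · exact (le_sup_left : T ≤ _) (hTd (Subgroup.commutator_mem_commutator hx hy))
      · rw [hXY x hx y hy]; simp
      · rw [← hXY y hy x hx]; simp
      · exact (le_sup_right : U ≤ _) (hUd (Subgroup.commutator_mem_commutator hx hy))
    exact (Subgroup.commutator_mono hEM hFM).trans h
  have hQR : ∀ q ∈ Q, ∀ x ∈ R, q * x = x * q := by
    have hQB : Q ≤ Subgroup.centralizer (B : Set G) := by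
      refine (Subgroup.commutator_le_sup E F).trans (sup_le ?_ ?_) <;> intro z hz <;>
        rw [Subgroup.mem_centralizer_iff] <;> intro y hy
      · exact (comm_right h2 hz hy).symm
      · exact (comm_right h1 hz hy).symm
    intro q hq x hx
    have hle : R ≤ Subgroup.centralizer ({q} : Set G) := by
      refine sup_le (sup_le ?_ ?_) ?_ <;> intro y hy <;> rw [Subgroup.mem_centralizer_singleton_iff]
      · exact (hTUc q (hQTU hq) y (hAM hy)).symm
      · exact Subgroup.mem_centralizer_iff.mp (hQB hq) y hy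
      · exact (hTUc q (hQTU hq) y (hCM hy)).symm
    exact (Subgroup.mem_centralizer_singleton_iff.mp (hle hx)).symm
  set K3 := E ⊔ F ⊔ (T ⊔ U) with hK3
  have hQn : R ≤ Subgroup.normalizer (Q : Set G) := le_normalizer_of_commutes hQR
  have hRleN : ∀ {K L : Subgroup G}, ⁅K, R⁆ ≤ L → L ≤ K → R ≤ Subgroup.normalizer (K : Set G) :=
    fun hKL hLK => Subgroup.le_normalizer_iff_commutator_le_left.mpr (hKL.trans hLK)
  have hKR : K3 ≤ R := by
    have hE' : E ≤ R := (Subgroup.commutator_le_sup C B).trans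
      (sup_le le_sup_right (le_sup_left.trans' le_sup_right))
    have hF' : F ≤ R := (Subgroup.commutator_le_sup A B).trans le_sup_left
    have hTU' : T ⊔ U ≤ R := hTUle.trans (le_sup_left.trans hsupR.le)
    exact sup_le (sup_le hE' hF') hTU'
  have hMR : M ≤ R := le_sup_left.trans hsupR.le
  have hs2 : ⁅T ⊔ U, R⁆ ≤ Q := by
    have hTgen : T ⊔ U = Subgroup.closure
        ({z | ∃ a ∈ A, ∃ e ∈ E, a * e * a⁻¹ * e⁻¹ = z} ∪
          {z | ∃ c ∈ C, ∃ f ∈ F, c * f * c⁻¹ * f⁻¹ = z}) := by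
      rw [Subgroup.closure_union, hT, hU, Subgroup.commutator_def, Subgroup.commutator_def]
      simp only [commutatorElement_def]
    rw [hTgen, hRcl]
    refine commutator_closure_le _ _ _ ?_ (hRcl ▸ hQn) ?_
    · rw [← hTgen]; exact (hTUle.trans hMR).trans hQn
    intro z hz y hy
    have hzTU : z ∈ T ⊔ U := by rw [hTgen]; exact Subgroup.subset_closure hz
    rcases hy with (hy | hy) | hy
    · rw [hTUc z hzTU y (hAM hy)]; simp
    · -- conjugating a commutator by an element of `B`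
      have hyR : y ∈ R := (le_sup_left : A ⊔ B ≤ R) ((le_sup_right : B ≤ A ⊔ B) hy)
      suffices hmain : y * z * y⁻¹ * z⁻¹ ∈ Q by
        have := inv_mem hmain
        simpa [mul_assoc] using this
      have step : ∀ (P P' : Subgroup G), RootCommutatorCase S P B →
          (∀ e ∈ P', ∀ β ∈ B, Commute e β) → P ≤ M → (∀ f ∈ ⁅P, B⁆, ∀ e ∈ P',
          f * e * f⁻¹ * e⁻¹ ∈ Q) → ∀ a ∈ P, ∀ e ∈ P', a * e * a⁻¹ * e⁻¹ = z →
          y * z * y⁻¹ * z⁻¹ ∈ Q := by
        intro P P' hP hP' hPM hQ' a ha e he hz'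
        subst hz'
        set f := rcomm a y⁻¹ with hf
        have hq := hQ' f (rcomm_mem ha (inv_mem hy)) e he
        have ea : y * a * y⁻¹ = a * f := by simpa using conj_eq_mul_rcomm a y⁻¹
        have ee : y * e * y⁻¹ = e := by rw [← (hP' e he y hy).eq, mul_inv_cancel_right]
        have haq : a * (f * e * f⁻¹ * e⁻¹) * a⁻¹ = f * e * f⁻¹ * e⁻¹ := by
          rw [← hQR _ hq a (hMR (hPM ha)), mul_inv_cancel_right]
        have : y * (a * e * a⁻¹ * e⁻¹) * y⁻¹ * (a * e * a⁻¹ * e⁻¹)⁻¹ = f * e * f⁻¹ * e⁻¹ := by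
          calc y * (a * e * a⁻¹ * e⁻¹) * y⁻¹ * (a * e * a⁻¹ * e⁻¹)⁻¹
              = (y * a * y⁻¹) * (y * e * y⁻¹) * (y * a * y⁻¹)⁻¹ * (y * e * y⁻¹)⁻¹ *
                  (a * e * a⁻¹ * e⁻¹)⁻¹ := by group
            _ = a * (f * e * f⁻¹ * e⁻¹) * a⁻¹ := by rw [ea, ee]; group
            _ = _ := haq
        rw [this]; exact hq
      rcases hz with ⟨a, ha, e, he, hz'⟩ | ⟨c, hc, f, hf, hz'⟩
      · refine step A E h1 (fun e he β hβ => comm_right h2 he hβ) hAM (fun f hf e he => ?_)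
          a ha e he hz'
        rw [hQ, Subgroup.commutator_comm]
        exact Subgroup.commutator_mem_commutator hf he
      · exact step C F h2 (fun e he β hβ => comm_right h1 he hβ) hCM
          (fun e he f hf => Subgroup.commutator_mem_commutator he hf) c hc f hf hz'
    · rw [hTUc z hzTU y (hCM hy)]; simp
  have hn2 : R ≤ Subgroup.normalizer ((T ⊔ U : Subgroup G) : Set G) := hRleN hs2 hQTU
  have hs3 : ⁅K3, R⁆ ≤ T ⊔ U := by
    have hK : K3 = Subgroup.closure ((E : Set G) ∪ F ∪ ((T ⊔ U : Subgroup G) : Set G)) := by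
      rw [Subgroup.closure_union, Subgroup.closure_union, Subgroup.closure_eq,
        Subgroup.closure_eq, Subgroup.closure_eq]
    rw [hK, hRcl]
    refine commutator_closure_le _ _ _ (hK ▸ hKR.trans hn2) (hRcl ▸ hn2) ?_
    intro z hz y hy
    have hyR : y ∈ R := by rw [hRcl]; exact Subgroup.subset_closure hy
    rcases hz with (hz | hz) | hz
    · rcases hy with (hy | hy) | hy
      · refine (le_sup_left : T ≤ T ⊔ U) ?_
        rw [hT, Subgroup.commutator_comm]
        exact Subgroup.commutator_mem_commutator hz hy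
      · rw [comm_right h2 hz hy]; simp
      · rw [comm_left h2 hz hy]; simp
    · rcases hy with (hy | hy) | hy
      · rw [comm_left h1 hz hy]; simp
      · rw [comm_right h1 hz hy]; simp
      · refine (le_sup_right : U ≤ T ⊔ U) ?_
        rw [hU, Subgroup.commutator_comm]
        exact Subgroup.commutator_mem_commutator hz hy
    · exact hQTU (hs2 (Subgroup.commutator_mem_commutator hz hyR))
  have hn3 : R ≤ Subgroup.normalizer (K3 : Set G) := hRleN hs3 le_sup_right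
  have hs4 : ⁅R, R⁆ ≤ K3 := by
    rw [hRcl]
    refine commutator_closure_le _ _ _ (hRcl ▸ hn3) (hRcl ▸ hn3) ?_
    rintro x ((hx | hx) | hx) y ((hy | hy) | hy)
    · rw [commute_self hS hA hx hy]; simp
    · exact (le_sup_left : E ⊔ F ≤ K3) ((le_sup_right : F ≤ E ⊔ F)
        (Subgroup.commutator_mem_commutator hx hy))
    · rw [hcomm x hx y hy]; simp
    · refine (le_sup_left : E ⊔ F ≤ K3) ((le_sup_right : F ≤ E ⊔ F) ?_)
      rw [hF, Subgroup.commutator_comm]
      exact Subgroup.commutator_mem_commutator hx hy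
    · rw [commute_self hS hB hx hy]; simp
    · refine (le_sup_left : E ⊔ F ≤ K3) ((le_sup_left : E ≤ E ⊔ F) ?_)
      rw [hE, Subgroup.commutator_comm]
      exact Subgroup.commutator_mem_commutator hx hy
    · rw [← hcomm y hy x hx]; simp
    · exact (le_sup_left : E ⊔ F ≤ K3) ((le_sup_left : E ≤ E ⊔ F)
        (Subgroup.commutator_mem_commutator hx hy))
    · rw [commute_self hS hC hx hy]; simp
  refine Subgroup.nilpotent_iff_lowerCentralSeries.mpr ⟨4, ?_⟩
  have hs : ∀ n, (Subgroup.lowerCentralSeries (⊤ : Subgroup R) (n + 1)).map R.subtype =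
      ⁅(Subgroup.lowerCentralSeries (⊤ : Subgroup R) n).map R.subtype, R⁆ := fun n => by
    rw [Subgroup.lowerCentralSeries_succ, Subgroup.map_commutator, ← MonoidHom.range_eq_map,
      Subgroup.range_subtype]
  have l0 : (Subgroup.lowerCentralSeries (⊤ : Subgroup R) 0).map R.subtype ≤ R :=
    Subgroup.map_subtype_le _
  have l1 : (Subgroup.lowerCentralSeries (⊤ : Subgroup R) 1).map R.subtype ≤ K3 := by
    rw [hs]; exact (Subgroup.commutator_mono l0 le_rfl).trans hs4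
  have l2 : (Subgroup.lowerCentralSeries (⊤ : Subgroup R) 2).map R.subtype ≤ T ⊔ U := by
    rw [hs]; exact (Subgroup.commutator_mono l1 le_rfl).trans hs3
  have l3 : (Subgroup.lowerCentralSeries (⊤ : Subgroup R) 3).map R.subtype ≤ Q := by
    rw [hs]; exact (Subgroup.commutator_mono l2 le_rfl).trans hs2
  have l4 : (Subgroup.lowerCentralSeries (⊤ : Subgroup R) 4).map R.subtype ≤ ⊥ := by
    rw [hs]
    exact (Subgroup.commutator_mono l3 le_rfl).trans (commutator_eq_bot_iff_comm.mpr hQR).le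
  exact (Subgroup.map_eq_bot_iff_of_injective _ R.subtype_injective).mp (le_bot_iff.mp l4)

end CfsgLib.RootSubgroups
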