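import Cfsg.Agent.RootSubgroups.QuadParts
import Cfsg.Agent.RootSubgroups.RootChain
import Cfsg.Agent.Components.Basic

/-! The groups generated by the components are quasisimple, commute and are finite in number. -/

set_option autoImplicit false

namespace CfsgLib.RootSubgroups.QuadPair

open Cfsg

universe u

variable {k : Type u} [Field k] {M : Type u} [AddCommGroup M] [Module k M]
  [FiniteDimensional k M]
variable {G : Subgroup (LinearMap.GeneralLinearGroup k M)}
  {A B C : Subgroup (LinearMap.GeneralLinearGroup k M)}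

local notation "𝒬" => quadraticRootSubgroups G

variable (hk2 : ringChar k ≠ 2) (hk3 : Nat.card k ≠ 3) (hirr : Reduced G)

include hk2 hk3 hirr

lemma comp_partner (hB : B ∈ comp G A) : ∃ D ∈ comp G A, IsRankOnePair B D := by
  obtain ⟨D, hD, hr⟩ := root_partner hk2 hk3 hirr hB.1
  exact ⟨D, ⟨hD, hB.2.tail ⟨hB.1, hD, hr⟩⟩, hr⟩

omit hirr in
lemma unipotent_of_commute (hA : A ∈ 𝒬) (hB : B ∈ 𝒬) (h : ⁅A, B⁆ = ⊥) : IsUnipotentOn (A ⊔ B) := by
  obtain ⟨σ, hσ, rfl⟩ := hA
  obtain ⟨τ, hτ, rfl⟩ := hB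
  rcases unipotent_or_rankOne hk2 hk3 hσ hτ with hu | hop
  · exact hu
  · exact absurd h (rankOnePair_not_commute (rankOnePair hk2 hk3 hσ hτ hop))

omit [FiniteDimensional k M] hk2 hk3 hirr in
/-- A subgroup normalised by the component group and containing one member contains it. -/
lemma compGroup_le_of_mem {N : Subgroup (LinearMap.GeneralLinearGroup k M)}
    (hn : ∀ x ∈ compGroup G A, conjBy N x = N) (hC : C ∈ comp G A) (hCN : C ≤ N) :
    compGroup G A ≤ N := by
  refine iSup₂_le fun D hD => ?_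
  suffices key : ∀ D, Relation.ReflTransGen (FAdj 𝒬) C D → D ≤ N from
    key D ((fReach_symm hC.2).trans hD.2)
  intro D h
  induction h with
  | refl => exact hCN
  | @tail E F hEr hEF ih =>
    obtain ⟨w, hw, hF⟩ := right_mem hEF.2.2
    have hE' : E ∈ comp G A := ⟨hEF.1, hC.2.trans hEr⟩
    have hF' : F ∈ comp G A := ⟨hEF.2.1, hE'.2.tail hEF⟩
    rw [hF, ← hn w (sup_le (le_compGroup hE') (le_compGroup hF') hw)]
    exact conjBy_mono ih w

/-- The dichotomy for normal subgroups of a component group. -/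
theorem comp_dichotomy {N : Subgroup (LinearMap.GeneralLinearGroup k M)}
    (hle : N ≤ compGroup G A) (hn : ∀ x ∈ compGroup G A, conjBy N x = N) :
    N = compGroup G A ∨ ∀ n ∈ N, ∀ x ∈ compGroup G A, n * x = x * n := by
  set X := compGroup G A with hX
  set X0 := ⨆ B ∈ quadraticRootSubgroups G, B with hX0
  -- `N` is normalised by `G₀`
  have hn0 : ∀ x ∈ X0, conjBy N x = N := by
    suffices h : X0 ≤ Subgroup.normalizer (N : Set (LinearMap.GeneralLinearGroup k M)) from
      fun x hx => conjBy_eq_self_iff.2 (h hx)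
    refine iSup₂_le fun E hE e he => ?_
    by_cases hr : Relation.ReflTransGen (FAdj (quadraticRootSubgroups G)) A E
    · exact conjBy_eq_self_iff.1 (hn e (le_compGroup ⟨hE, hr⟩ he))
    · refine conjBy_eq_self_iff.1 (conjBy_eq_of_commute fun m hm => ?_)
      have hcen : X ≤ Subgroup.centralizer (E : Set (LinearMap.GeneralLinearGroup k M)) :=
        iSup₂_le fun B hB b hb => Subgroup.mem_centralizer_iff.2 fun e' he' =>
          (commute_of_not_reach' hk2 hk3 hirr hB.1 hE (fun h => hr (hB.2.trans h)) b hb e' he').symm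
      exact Subgroup.mem_centralizer_iff.1 (hcen (hle hm)) e he
  by_cases hcase : ∃ B ∈ comp G A, ∃ n ∈ N, ⁅B, conjBy B n⁆ ≠ ⊥
  · left
    obtain ⟨B, hB, n, hnN, hne⟩ := hcase
    have hB' : conjBy B n ∈ comp G A :=
      comp_conj hk2 hk3 hirr hB (compGroup_le_sup (hle hnN))
    have hnorm : ∀ {E}, E ∈ comp G A → E ≤ Subgroup.normalizer (N : Set (LinearMap.GeneralLinearGroup k M)) :=
      fun hE e he => conjBy_eq_self_iff.1 (hn e (le_compGroup hE he))
    have hgen : ∀ x ∈ B, ∀ y ∈ conjBy B n, x * y * x⁻¹ * y⁻¹ ∈ N := by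
      rintro x hx _ ⟨b, hb, rfl⟩
      have hm : n * b * n⁻¹ * b⁻¹ ∈ N := by
        rw [show n * b * n⁻¹ * b⁻¹ = n * (b * n⁻¹ * b⁻¹) by group]
        exact mul_mem hnN ((Subgroup.mem_normalizer_iff.1 (hnorm hB hb) _).1 (inv_mem hnN))
      have hcomm : x * b = b * x := mul_comm_of_mem (root_commutative hB.1) hx hb
      show x * (n * b * n⁻¹) * x⁻¹ * (n * b * n⁻¹)⁻¹ ∈ N
      rw [show x * (n * b * n⁻¹) * x⁻¹ * (n * b * n⁻¹)⁻¹ =
        x * (n * b * n⁻¹ * b⁻¹) * (b * x⁻¹) * b⁻¹ * (n * b * n⁻¹ * b⁻¹)⁻¹ by group,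
        show b * x⁻¹ = x⁻¹ * b by
          rw [← mul_right_inj x, ← mul_assoc, hcomm, mul_assoc, mul_inv_cancel, mul_one, ← mul_assoc,
            mul_inv_cancel, one_mul],
        show x * (n * b * n⁻¹ * b⁻¹) * (x⁻¹ * b) * b⁻¹ * (n * b * n⁻¹ * b⁻¹)⁻¹ =
          (x * (n * b * n⁻¹ * b⁻¹) * x⁻¹) * (n * b * n⁻¹ * b⁻¹)⁻¹ by group]
      exact mul_mem ((Subgroup.mem_normalizer_iff.1 (hnorm hB hx) _).1 hm) (inv_mem hm)
    rcases root_pair hk2 hk3 hirr hB.1 hB'.1 with h | h | h
    · exact absurd h hne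
    · refine le_antisymm hle (compGroup_le_of_mem hn hB ?_)
      refine (le_derived hk2 hk3 hirr hB.1 hB'.1 h).trans ?_
      rw [show B ⊔ conjBy B n = Subgroup.closure ((B : Set (LinearMap.GeneralLinearGroup k M)) ∪
        (conjBy B n : Set (LinearMap.GeneralLinearGroup k M))) by
          rw [Subgroup.closure_union, Subgroup.closure_eq, Subgroup.closure_eq]]
      refine commutator_closure_le _ _ N ?_ ?_ ?_
      · rw [Subgroup.closure_union, Subgroup.closure_eq, Subgroup.closure_eq]
        exact sup_le (hnorm hB) (hnorm hB')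
      · rw [Subgroup.closure_union, Subgroup.closure_eq, Subgroup.closure_eq]
        exact sup_le (hnorm hB) (hnorm hB')
      · rintro x (hx | hx) y (hy | hy)
        · rw [mul_comm_of_mem (root_commutative hB.1) hx hy]; simp
        · exact hgen x hx y hy
        · rw [show x * y * x⁻¹ * y⁻¹ = (y * x * y⁻¹ * x⁻¹)⁻¹ by group]
          exact inv_mem (hgen y hy x hx)
        · rw [mul_comm_of_mem (root_commutative hB'.1) hx hy]; simp
    · refine le_antisymm hle (compGroup_le_of_mem hn
        (C := ⁅B, conjBy B n⁆) ⟨h.1, hB.2.trans (commCase_reach hk2 hk3 hirr hB.1 hB'.1 h)⟩ ?_)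
      exact Subgroup.commutator_le.2 fun x hx y hy => by
        rw [commutatorElement_def]; exact hgen x hx y hy
  right
  push Not at hcase
  let U : Subgroup (LinearMap.GeneralLinearGroup k M) → Subgroup (LinearMap.GeneralLinearGroup k M) :=
    fun B => ⨆ n ∈ N, conjBy B n
  have hU1 : ∀ B n, n ∈ N → conjBy B n ≤ U B := fun B n hn =>
    le_iSup₂_of_le (f := fun n (_ : n ∈ N) => conjBy B n) n hn le_rfl
  have hpairs : ∀ B ∈ comp G A, ∀ n ∈ N, ∀ n' ∈ N, ⁅conjBy B n, conjBy B n'⁆ = ⊥ := by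
    intro B hB n hn' n' hn''
    have := congrArg (fun H => conjBy H n) (hcase B hB _ (mul_mem (inv_mem hn') hn''))
    simp only [conjBy_commutator, conjBy_conjBy, mul_inv_cancel_left, conjBy_bot] at this
    exact this
  have hUu : ∀ B ∈ comp G A, IsUnipotentOn (U B) := by
    intro B hB
    have e : U B = ⨆ E ∈ {E | ∃ n ∈ N, E = conjBy B n}, E := by
      refine le_antisymm (iSup₂_le fun n hn => ?_) (iSup₂_le ?_)
      · exact le_biSup (fun Z : Subgroup _ => Z) (show conjBy B n ∈ {E | ∃ n ∈ N, E = conjBy B n} from ⟨n, hn, rfl⟩)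
      · rintro _ ⟨n, hn, rfl⟩; exact hU1 B n hn
    rw [e]
    refine unipotent_family (G := U B) ?_ ?_ ?_
    · rintro _ ⟨n, hn, rfl⟩; exact hU1 B n hn
    · rintro _ ⟨n, hn', rfl⟩ _ ⟨n', hn'', rfl⟩
      exact unipotent_of_commute hk2 hk3 (root_conj hB.1 (sup_root_le (compGroup_le_sup (hle hn'))))
        (root_conj hB.1 (sup_root_le (compGroup_le_sup (hle hn'')))) (hpairs B hB n hn' n' hn'')
    · rintro _ ⟨n, hn', rfl⟩ g hg
      refine ⟨n, hn', conjBy_eq_of_commute fun a ha => ?_⟩
      have hc : U B ≤ Subgroup.centralizer (conjBy B n : Set (LinearMap.GeneralLinearGroup k M)) :=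
        iSup₂_le fun n' hn'' y hy => Subgroup.mem_centralizer_iff.2 fun x hx =>
          commutator_eq_bot_iff_comm.1 (hpairs B hB n hn' n' hn'') x hx y hy
      exact (Subgroup.mem_centralizer_iff.1 (hc hg) a ha).symm
  have hUN : ∀ B, ∀ m ∈ N, conjBy (U B) m ≤ U B := fun B m hm => by
    simp only [U]
    rw [conjBy, Subgroup.map_iSup]
    simp only [Subgroup.map_iSup]
    refine iSup₂_le fun n hn => ?_
    rw [show Subgroup.map (MulAut.conj m).toMonoidHom (conjBy B n) = conjBy (conjBy B n) m from rfl,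
      conjBy_conjBy]
    exact hU1 B _ (mul_mem hm hn)
  let R : Subgroup (LinearMap.GeneralLinearGroup k M) → Subgroup (LinearMap.GeneralLinearGroup k M) :=
    fun B => N ⊓ U B
  have hRN : ∀ B, ∀ m ∈ N, conjBy (R B) m = R B := fun B m hm => by
    have key : ∀ m ∈ N, conjBy (R B) m ≤ R B := fun m hm => le_inf
      ((conjBy_mono inf_le_left m).trans (conjBy_of_mem hm).le)
      ((conjBy_mono inf_le_right m).trans (hUN B m hm))
    refine le_antisymm (key m hm) ?_
    have := conjBy_mono (key m⁻¹ (inv_mem hm)) m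
    rwa [conjBy_conjBy_inv] at this
  have hRu : ∀ B ∈ comp G A, IsUnipotentOn (R B) := fun B hB =>
    isUnipotentOn_mono inf_le_right (hUu B hB)
  let W : Set (Subgroup (LinearMap.GeneralLinearGroup k M)) := {E | ∃ B ∈ comp G A, E = R B}
  have hRconj : ∀ B ∈ comp G A, ∀ x ∈ X0, conjBy (R B) x ≤ R (conjBy B x) := fun B hB x hx => by
    refine le_inf ((conjBy_mono inf_le_left x).trans (hn0 x hx).le) ?_
    refine (conjBy_mono inf_le_right x).trans ?_
    simp only [U]
    rw [conjBy, Subgroup.map_iSup]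
    simp only [Subgroup.map_iSup]
    refine iSup₂_le fun n hn => ?_
    rw [show Subgroup.map (MulAut.conj x).toMonoidHom (conjBy B n) = conjBy (conjBy B n) x from rfl,
      conjBy_conjBy, show x * n = x * n * x⁻¹ * x by group, ← conjBy_conjBy]
    exact hU1 _ _ (hn0 x hx ▸ conj_mem_conjBy hn x)
  have hWu : IsUnipotentOn (⨆ E ∈ W, E) := by
    refine unipotent_family (G := X0) ?_ ?_ ?_
    · rintro _ ⟨B, -, rfl⟩; exact inf_le_left.trans (hle.trans compGroup_le_sup)
    · rintro _ ⟨B, hB, rfl⟩ _ ⟨C, hC, rfl⟩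
      exact unipotent_sup_of_normalizes (hRu B hB) (hRu C hC) fun u hu => hRN B u hu.1
    · rintro _ ⟨B, hB, rfl⟩ x hx
      refine ⟨conjBy B x, comp_conj hk2 hk3 hirr hB hx, le_antisymm (hRconj B hB x hx) ?_⟩
      have := conjBy_mono (hRconj _ (comp_conj hk2 hk3 hirr hB hx) x⁻¹ (inv_mem hx)) x
      rwa [conjBy_inv_conjBy, conjBy_conjBy_inv] at this
  have hWn : ∀ x ∈ X0, conjBy (⨆ E ∈ W, E) x = ⨆ E ∈ W, E := by
    have key : ∀ x ∈ X0, conjBy (⨆ E ∈ W, E) x ≤ ⨆ E ∈ W, E := fun x hx => by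
      rw [conjBy, Subgroup.map_iSup]
      simp only [Subgroup.map_iSup]
      refine iSup₂_le fun E hE => ?_
      obtain ⟨B, hB, rfl⟩ := hE
      exact (hRconj B hB x hx).trans (le_biSup (fun Z : Subgroup _ => Z)
        (show R (conjBy B x) ∈ W from ⟨_, comp_conj hk2 hk3 hirr hB hx, rfl⟩))
    intro x hx
    refine le_antisymm (key x hx) ?_
    have := conjBy_mono (key x⁻¹ (inv_mem hx)) x
    rwa [conjBy_conjBy_inv] at this
  have hbot : (⨆ E ∈ W, E) = ⊥ :=
    radical_trivial hirr (iSup₂_le fun E ⟨B, _, e⟩ => e ▸ inf_le_left.trans (hle.trans compGroup_le_sup))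
      hWu hWn
  intro n hnN
  suffices h : X ≤ Subgroup.centralizer ({n} : Set (LinearMap.GeneralLinearGroup k M)) from
    fun x hx => (Subgroup.mem_centralizer_iff.1 (h hx) n rfl)
  refine iSup₂_le fun B hB b hb => Subgroup.mem_centralizer_iff.2 fun m hm => ?_
  rw [Set.mem_singleton_iff.1 hm]
  have hmem : n * b * n⁻¹ * b⁻¹ ∈ R B := by
    refine Subgroup.mem_inf.2 ⟨?_, Subgroup.mul_mem _ (hU1 B n hnN (conj_mem_conjBy hb n))
      (Subgroup.inv_mem _ (hU1 B 1 (one_mem N) (by rw [conjBy_one]; exact hb)))⟩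
    rw [show n * b * n⁻¹ * b⁻¹ = n * (b * n⁻¹ * b⁻¹) by group]
    exact mul_mem hnN ((hn b (le_compGroup hB hb)) ▸ conj_mem_conjBy (inv_mem hnN) b)
  have h1 : n * b * n⁻¹ * b⁻¹ = 1 := by
    rw [← Subgroup.mem_bot, ← hbot]
    exact le_biSup (fun Z : Subgroup _ => Z) (show R B ∈ W from ⟨B, hB, rfl⟩) hmem
  exact commutatorElement_eq_one_iff_mul_comm.1 h1

/-- The component groups are quasisimple. -/
theorem comp_quasisimple (hA : A ∈ 𝒬) : IsQuasisimple ↥(compGroup G A) := by
  set X := compGroup G A with hX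
  have hperf : ⁅X, X⁆ = X := by
    refine le_antisymm (Subgroup.commutator_le_self X) (iSup₂_le fun B hB => ?_)
    obtain ⟨D, hD, hr⟩ := comp_partner hk2 hk3 hirr hB
    exact (le_derived hk2 hk3 hirr hB.1 hD.1 hr).trans
      (Subgroup.commutator_mono (sup_le (le_compGroup hB) (le_compGroup hD))
        (sup_le (le_compGroup hB) (le_compGroup hD)))
  have : Nontrivial ↥X := (Subgroup.nontrivial_iff_ne_bot X).2 fun h =>
    root_ne_bot hA (le_bot_iff.1 (h ▸ le_compGroup (comp_self hA)))
  refine CfsgLib.Components.isQuasisimple_of_normal_le_center ?_ fun N hN hNtop => ?_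
  · apply Subgroup.map_injective X.subtype_injective
    rw [Subgroup.map_commutator, ← MonoidHom.range_eq_map, Subgroup.range_subtype, hperf]
  · have hle : N.map X.subtype ≤ X := by rintro _ ⟨n, -, rfl⟩; exact n.2
    have hn : ∀ x ∈ X, conjBy (N.map X.subtype) x = N.map X.subtype := fun x hx => by
      have : conjBy N (⟨x, hx⟩ : X) = N := conjBy_eq_self_iff.2 (by
        rw [Subgroup.normalizer_eq_top_iff.2 hN]; exact Subgroup.mem_top _)
      conv_rhs => rw [← this, Transport.map_conjBy]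
    rcases comp_dichotomy hk2 hk3 hirr hle hn with h | h
    · refine absurd ?_ hNtop
      apply Subgroup.map_injective X.subtype_injective
      rw [h, ← MonoidHom.range_eq_map, Subgroup.range_subtype]
    · exact fun n hn' => Subgroup.mem_center_iff.2 fun x =>
        Subtype.ext (h n ⟨n, hn', rfl⟩ x x.2).symm

lemma comp_groups_commute (h : comp G A ≠ comp G B) :
    ⁅compGroup G A, compGroup G B⁆ = ⊥ := by
  rw [commutator_eq_bot_iff_comm]
  intro x hx y hy
  have hxB : ∀ D ∈ comp G B, ∀ d ∈ D, x * d = d * x := fun D hD d hd => by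
    have hc : compGroup G A ≤ Subgroup.centralizer (D : Set (LinearMap.GeneralLinearGroup k M)) :=
      iSup₂_le fun E hE e he => Subgroup.mem_centralizer_iff.2 fun d' hd' =>
        (commute_of_not_reach' hk2 hk3 hirr hE.1 hD.1 (fun hr => h
          (componentOf_eq_of_reach ((hE.2.trans hr).trans (fReach_symm hD.2)))) e he d' hd').symm
    exact (Subgroup.mem_centralizer_iff.1 (hc hx) d hd).symm
  have hc : compGroup G B ≤ Subgroup.centralizer ({x} : Set (LinearMap.GeneralLinearGroup k M)) :=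
    iSup₂_le fun D hD d hd => Subgroup.mem_centralizer_iff.2 fun m hm => by
      rw [Set.mem_singleton_iff.1 hm]; exact hxB D hD d hd
  exact Subgroup.mem_centralizer_iff.1 (hc hy) x rfl

/-- There are only finitely many components. -/
theorem comp_finite : Finite {P // ∃ A ∈ 𝒬, P = comp G A} := by
  let S := {P // ∃ A ∈ quadraticRootSubgroups G, P = comp G A}
  have hrep : ∀ P : S, ∃ σ τ : LinearMap.GeneralLinearGroup k M, σ ∈ minimalQuadraticElements G ∧
      τ ∈ minimalQuadraticElements G ∧ Opp σ τ ∧ P.1 = comp G (sameActionSubgroup G σ) := by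
    rintro ⟨_, A, ⟨σ, hσ, rfl⟩, rfl⟩
    obtain ⟨g, hg, hop⟩ := exists_opp hk2 hk3 hirr hσ
    exact ⟨σ, _, hσ, conj_minimal hσ hg, hop, rfl⟩
  choose σ τ hσ hτ hop hP using hrep
  have hli : LinearIndependent k fun P : S => nil (σ P) := by
    rw [linearIndependent_iff_notMem_span]
    intro P hmem
    let Z : Submodule k (Module.End k M) :=
      { carrier := {f | f * nil (τ P) = nil (τ P) * f}
        add_mem' := fun {x y} hx hy => by
          show (x + y) * nil (τ P) = nil (τ P) * (x + y)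
          rw [add_mul, mul_add, show x * nil (τ P) = nil (τ P) * x from hx,
            show y * nil (τ P) = nil (τ P) * y from hy]
        zero_mem' := by simp
        smul_mem' := fun c x hx => by
          show (c • x) * nil (τ P) = nil (τ P) * (c • x)
          rw [smul_mul_assoc, mul_smul_comm, show x * nil (τ P) = nil (τ P) * x from hx] }
    have hle : Submodule.span k ((fun Q : S => nil (σ Q)) '' (Set.univ \ {P})) ≤ Z := by
      rw [Submodule.span_le]
      rintro _ ⟨Q, ⟨-, hQ⟩, rfl⟩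
      have hτP : sameActionSubgroup G (τ P) ∈ comp G (sameActionSubgroup G (σ P)) :=
        ⟨E_mem_quadraticRootSubgroups (hτ P), .single ⟨E_mem_quadraticRootSubgroups (hσ P),
          E_mem_quadraticRootSubgroups (hτ P), rankOnePair hk2 hk3 (hσ P) (hτ P) (hop P)⟩⟩
      have hne : comp G (sameActionSubgroup G (σ Q)) ≠ comp G (sameActionSubgroup G (σ P)) :=
        fun h => hQ (Subtype.ext ((hP Q).trans (h.trans (hP P).symm)))
      have := commutator_eq_bot_iff_comm.1 (comp_groups_commute hk2 hk3 hirr hne) (σ Q)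
        (le_compGroup (comp_self (E_mem_quadraticRootSubgroups (hσ Q)))
          ((mem_E (hσ Q)).2 (inRoot_self (hσ Q).1))) (τ P)
        (le_compGroup hτP ((mem_E (hτ P)).2 (inRoot_self (hτ P).1)))
      exact commute_iff_nil.1 this
    rcases Opp.not_comm (hσ P) (hτ P) (hop P) (inRoot_self (hσ P).1) (inRoot_self (hτ P).1)
      (hle hmem) with h | h
    · exact quad_ne (hσ P).1.2.1 h
    · exact quad_ne (hτ P).1.2.1 h
  exact hli.finite

omit [FiniteDimensional k M] hk2 hk3 hirr in
lemma reach_in_comp (hB : B ∈ comp G A) (h : Relation.ReflTransGen (FAdj 𝒬) B C) :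
    Relation.ReflTransGen (FAdj (comp G A)) B C := by
  induction h with
  | refl => exact .refl
  | @tail E F hEr hEF ih =>
    exact ih.tail ⟨⟨hEF.1, hB.2.trans hEr⟩, ⟨hEF.2.1, (hB.2.trans hEr).tail hEF⟩, hEF.2.2⟩

/-- The members of a component form a class of abstract root subgroups of the group they generate. -/
theorem comp_root_class (hA : A ∈ 𝒬) : IsRootSubgroupClass
    ((fun B : Subgroup (LinearMap.GeneralLinearGroup k M) => B.subgroupOf (compGroup G A)) '' comp G A) := by
  have hS : IsRootSubgroupSet ((fun B : Subgroup (LinearMap.GeneralLinearGroup k M) =>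
      B.subgroupOf (compGroup G A)) '' comp G A) := by
    refine Transport.isRootSubgroupSet_subgroupOf (X := compGroup G A) (S := comp G A) rfl
      (fun C hC => root_commutative hC.1) (fun C hC => root_ne_bot hC.1)
      (fun C hC g hg => comp_conj hk2 hk3 hirr hC (compGroup_le_sup hg)) (fun C hC D hD => ?_)
    rcases root_pair hk2 hk3 hirr hC.1 hD.1 with h | h | h
    · exact Or.inl h
    · exact Or.inr (Or.inl h)
    · exact Or.inr (Or.inr ⟨⟨h.1, hC.2.trans (commCase_reach hk2 hk3 hirr hC.1 hD.1 h)⟩, h.2⟩)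
  refine ⟨hS, class_of_connected hS ⟨_, A, comp_self hA, rfl⟩ ?_⟩
  rintro _ ⟨B, hB, rfl⟩ _ ⟨C, hC, rfl⟩
  exact Transport.reach_subgroupOf (X := compGroup G A) (fun D hD => le_compGroup hD)
    (reach_in_comp hB ((fReach_symm hB.2).trans hC.2))

end CfsgLib.RootSubgroups.QuadPair
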