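import Cfsg.Agent.RootSubgroups.QuadTriple

/-! The dichotomy and commutation statements for two classes. -/

set_option autoImplicit false

namespace CfsgLib.RootSubgroups.QuadPair

open Cfsg

universe u

variable {k : Type u} [Field k] {M : Type u} [AddCommGroup M] [Module k M]
  [FiniteDimensional k M]
variable {G : Subgroup (LinearMap.GeneralLinearGroup k M)} {σ τ : LinearMap.GeneralLinearGroup k M}
variable (hk2 : ringChar k ≠ 2) (hk3 : Nat.card k ≠ 3)
  (hσ : σ ∈ minimalQuadraticElements G) (hτ : τ ∈ minimalQuadraticElements G)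

include hk2 hk3 hσ hτ

theorem commute_of_hyp
    (h : (∃ e ∈ sameActionSubgroup G σ, e ≠ 1 ∧ ∃ f ∈ sameActionSubgroup G τ, f ≠ 1 ∧ e * f = f * e) ∨
      sameActionSubgroup G σ ⊓ Subgroup.normalizer
        (sameActionSubgroup G τ : Set (LinearMap.GeneralLinearGroup k M)) ≠ ⊥) :
    ⁅sameActionSubgroup G σ, sameActionSubgroup G τ⁆ = ⊥ := by
  rcases opp_or_triple hσ hτ hk2 hk3 with hop | hT
  · exfalso
    rcases h with ⟨e, he, he1, f, hf, hf1, hef⟩ | h
    · exact he1 (eq_one_of_commute (rankOnePair hk2 hk3 hσ hτ hop) he hf hf1 hef)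
    · exact h (inf_normalizer (rankOnePair hk2 hk3 hσ hτ hop))
  · have hT : Triple G σ τ := hT
    suffices ∃ a b, InRoot G σ a ∧ a ≠ 0 ∧ InRoot G τ b ∧ b ≠ 0 ∧ a * b = b * a by
      obtain ⟨a, b, ha, ha0, hb, hb0, hab⟩ := this
      exact commutator_eq_bot_iff_comm.2 fun x hx y hy => commute_iff_nil.2
        (Triple.comm_all hσ hτ hT ha ha0 hb hb0 hab ((mem_E hσ).1 hx) ((mem_E hτ).1 hy))
    rcases h with ⟨e, he, he1, f, hf, hf1, hef⟩ | h
    · exact ⟨_, _, (mem_E hσ).1 he, fun h0 => he1 (nil_eq_zero_iff.1 h0), (mem_E hτ).1 hf,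
        fun h0 => hf1 (nil_eq_zero_iff.1 h0), commute_iff_nil.1 hef⟩
    · rw [Ne, Subgroup.eq_bot_iff_forall] at h
      push Not at h
      obtain ⟨e, ⟨he, hen⟩, he1⟩ := h
      refine ⟨_, nil τ, (mem_E hσ).1 he, fun h0 => he1 (nil_eq_zero_iff.1 h0), inRoot_self hτ.1,
        quad_ne hτ.1.2.1, Triple.comm_of_normalize hσ hτ hT ((mem_E hσ).1 he) (inRoot_self hτ.1) ?_⟩
      have hmem : τ ∈ sameActionSubgroup G τ := (mem_E hτ).2 (inRoot_self hτ.1)
      rw [← Triple.commutator hσ hτ hT he hmem, ← mem_E hτ]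
      exact mul_mem ((Subgroup.mem_normalizer_iff.1 hen τ).1 hmem) (inv_mem hmem)

/-- The dichotomy for two classes. -/
theorem unipotent_or_rankOne :
    IsUnipotentOn (sameActionSubgroup G σ ⊔ sameActionSubgroup G τ) ∨ Opp σ τ :=
  (opp_or_triple hσ hτ hk2 hk3).symm.imp (fun hT => Triple.unipotent hσ hτ hT) id

omit hk2 hk3 in
/-- Opposite classes do not act unipotently. -/
theorem Opp.not_unipotent (h : Opp σ τ) :
    ¬ IsUnipotentOn (sameActionSubgroup G σ ⊔ sameActionSubgroup G τ) := fun hu => by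
  refine not_unipotent_of_injective hσ.1 h.injective (isUnipotentOn_mono ?_ hu)
  rw [Subgroup.closure_le]
  rintro x (⟨c, hc⟩ | ⟨c, hc⟩)
  · refine Subgroup.mem_sup_left ((mem_E hσ).2 ?_)
    rw [show nil x = c • nil σ by rw [nil, hc, add_sub_cancel_left, nil]]
    exact (inRoot_self hσ.1).smul c
  · refine Subgroup.mem_sup_right ((mem_E hτ).2 ?_)
    rw [show nil x = c • nil τ by rw [nil, hc, add_sub_cancel_left, nil]]
    exact (inRoot_self hτ.1).smul c

end CfsgLib.RootSubgroups.QuadPair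

namespace CfsgLib.RootSubgroups.QuadPair

open Cfsg

universe u

variable {k : Type u} [Field k] {M : Type u} [AddCommGroup M] [Module k M]
  [FiniteDimensional k M]
variable {G : Subgroup (LinearMap.GeneralLinearGroup k M)} {σ τ : LinearMap.GeneralLinearGroup k M}

/-- Opposite classes do not generate a group of class two. -/
theorem Opp.not_class_two (hk2 : ringChar k ≠ 2) (hk3 : Nat.card k ≠ 3)
    (hσ : σ ∈ minimalQuadraticElements G) (hτ : τ ∈ minimalQuadraticElements G) (hop : Opp σ τ) :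
    ⁅⁅sameActionSubgroup G σ ⊔ sameActionSubgroup G τ, sameActionSubgroup G σ ⊔ sameActionSubgroup G τ⁆,
      sameActionSubgroup G σ ⊔ sameActionSubgroup G τ⁆ ≠ ⊥ := by
  intro h2
  have hg : σ ∈ sameActionSubgroup G σ := (mem_E hσ).2 (inRoot_self hσ.1)
  have hg1 : σ ≠ 1 := fun h => quad_ne hσ.1.2.1 (by rw [h, nil_one])
  obtain ⟨h, hh, -, he, -⟩ := exists_swap hk2 hk3 hσ hτ hop hg hg1
  set w := σ * h⁻¹ with hw
  have hwX : w ∈ sameActionSubgroup G σ ⊔ sameActionSubgroup G τ :=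
    mul_mem (Subgroup.mem_sup_left hg) (inv_mem (Subgroup.mem_sup_right hh))
  have hy : w * σ * w⁻¹ ∈ sameActionSubgroup G τ := by
    have := congrArg (fun A => conjBy A σ) he
    simp only [conjBy_conjBy, mul_inv_cancel, conjBy_one] at this
    rw [← this]
    exact conj_mem_conjBy hg w
  have hcomm := commutator_eq_bot_iff_comm.1 h2 _
    (Subgroup.commutator_mem_commutator hwX (Subgroup.mem_sup_left hg)) σ (Subgroup.mem_sup_left hg)
  rw [commutatorElement_def] at hcomm
  have : σ * (w * σ * w⁻¹) = (w * σ * w⁻¹) * σ := by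
    calc σ * (w * σ * w⁻¹) = (σ * (w * σ * w⁻¹ * σ⁻¹)) * σ := by group
      _ = (w * σ * w⁻¹ * σ⁻¹) * σ * σ := by rw [hcomm]
      _ = (w * σ * w⁻¹) * σ := by group
  refine hg1 (eq_one_of_commute (rankOnePair hk2 hk3 hσ hτ hop) hg hy (fun h1 => hg1 ?_) this)
  exact conj_eq_one_iff.1 h1

end CfsgLib.RootSubgroups.QuadPair
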