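import Cfsg.Prelude.Def_RootSubgroups

/-! Conjugates of subgroups in the `Cfsg.conjBy` notation. -/

set_option autoImplicit false

namespace CfsgLib.RootSubgroups

open Cfsg

variable {G : Type*} [Group G]

lemma mem_conjBy {A : Subgroup G} {g x : G} : x ∈ conjBy A g ↔ g⁻¹ * x * g ∈ A := by
  constructor
  · rintro ⟨a, ha, rfl⟩
    simpa [mul_assoc] using ha
  · intro h
    exact ⟨_, h, by simp [mul_assoc]⟩

lemma conj_mem_conjBy {A : Subgroup G} {a : G} (ha : a ∈ A) (g : G) : g * a * g⁻¹ ∈ conjBy A g := by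
  simpa [mem_conjBy, mul_assoc] using ha

lemma conjBy_one (A : Subgroup G) : conjBy A 1 = A := by ext; simp

lemma conjBy_conjBy (A : Subgroup G) (g h : G) : conjBy (conjBy A g) h = conjBy A (h * g) := by
  ext; simp [mul_assoc]

lemma conjBy_inv_conjBy (A : Subgroup G) (g : G) : conjBy (conjBy A g) g⁻¹ = A := by
  simp [conjBy_conjBy, conjBy_one]

lemma conjBy_conjBy_inv (A : Subgroup G) (g : G) : conjBy (conjBy A g⁻¹) g = A := by
  simp [conjBy_conjBy, conjBy_one]

lemma conjBy_injective (g : G) : Function.Injective fun A : Subgroup G => conjBy A g := fun A B h => by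
  have := congrArg (fun C => conjBy C g⁻¹) h
  simpa [conjBy_inv_conjBy] using this

lemma conjBy_mono {A B : Subgroup G} (h : A ≤ B) (g : G) : conjBy A g ≤ conjBy B g :=
  Subgroup.map_mono h

lemma conjBy_sup (A B : Subgroup G) (g : G) : conjBy (A ⊔ B) g = conjBy A g ⊔ conjBy B g :=
  Subgroup.map_sup A B _

lemma conjBy_bot (g : G) : conjBy (⊥ : Subgroup G) g = ⊥ := Subgroup.map_bot _

lemma conjBy_ne_bot {A : Subgroup G} (h : A ≠ ⊥) (g : G) : conjBy A g ≠ ⊥ := fun h' =>
  h (conjBy_injective g (by simpa [conjBy_bot] using h'))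

lemma conjBy_eq_self_iff {A : Subgroup G} {g : G} :
    conjBy A g = A ↔ g ∈ Subgroup.normalizer (A : Set G) := by
  constructor
  · intro h
    rw [Subgroup.mem_normalizer_iff]
    intro x
    constructor
    · intro hx; rw [← h]; exact conj_mem_conjBy hx g
    · intro hx
      rw [← h, mem_conjBy] at hx
      simpa [mul_assoc] using hx
  · intro h
    ext x
    rw [Subgroup.mem_normalizer_iff] at h
    have := h (g⁻¹ * x * g)
    simp only [mul_assoc, mul_inv_cancel_left, mul_inv_cancel, mul_one] at this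
    rw [mem_conjBy, mul_assoc]; exact this

lemma conjBy_of_mem {A : Subgroup G} {g : G} (h : g ∈ A) : conjBy A g = A := by
  ext x
  rw [mem_conjBy, A.mul_mem_cancel_right h, A.mul_mem_cancel_left (A.inv_mem h)]

lemma conjBy_inv_eq_self {A : Subgroup G} {g : G} (h : conjBy A g = A) : conjBy A g⁻¹ = A :=
  (congrArg (fun C => conjBy C g⁻¹) h).symm.trans (conjBy_inv_conjBy A g)

lemma conjBy_eq_of_commute {A : Subgroup G} {g : G} (h : ∀ a ∈ A, g * a = a * g) : conjBy A g = A := by
  ext x
  rw [mem_conjBy]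
  constructor
  · intro hx
    have := h _ hx
    have hx' : x = g⁻¹ * x * g := by
      have h2 : g * (g⁻¹ * x * g) * g⁻¹ = g⁻¹ * x * g := by rw [this, mul_inv_cancel_right]
      simpa [mul_assoc] using h2
    rwa [hx']
  · intro hx
    rwa [mul_assoc, ← h x hx, inv_mul_cancel_left]

lemma commutator_eq_bot_iff_comm {A B : Subgroup G} :
    ⁅A, B⁆ = ⊥ ↔ ∀ a ∈ A, ∀ b ∈ B, a * b = b * a := by
  rw [Subgroup.commutator_eq_bot_iff_le_centralizer]
  constructor
  · intro h a ha b hb
    exact (Subgroup.mem_centralizer_iff.mp (h ha) b hb).symm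
  · intro h a ha
    exact Subgroup.mem_centralizer_iff.mpr fun b hb => (h a ha b hb).symm

lemma mul_comm_of_mem {A : Subgroup G} (h : IsMulCommutative A) {x y : G} (hx : x ∈ A) (hy : y ∈ A) :
    x * y = y * x :=
  congrArg Subtype.val (h.is_comm.comm (⟨x, hx⟩ : A) ⟨y, hy⟩)

lemma conjBy_commutator (A B : Subgroup G) (g : G) : conjBy ⁅A, B⁆ g = ⁅conjBy A g, conjBy B g⁆ :=
  Subgroup.map_commutator A B _

end CfsgLib.RootSubgroups
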