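import Cfsg.Agent.RootSubgroups.RootLines

/-! The graph of rank one pairs on a set of abstract root subgroups. -/

set_option autoImplicit false

namespace CfsgLib.RootSubgroups

open Cfsg

variable {G : Type*} [Group G] {S : Set (Subgroup G)} {A B : Subgroup G}

lemma fAdj_symm {Λ : Set (Subgroup G)} {A B : Subgroup G} (h : FAdj Λ A B) : FAdj Λ B A :=
  ⟨h.2.1, h.1, RankOnePair_symm h.2.2⟩

lemma fReach_symm {Λ : Set (Subgroup G)} {A B : Subgroup G}
    (h : Relation.ReflTransGen (FAdj Λ) A B) : Relation.ReflTransGen (FAdj Λ) B A := by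
  induction h with
  | refl => exact .refl
  | tail _ hbc ih => exact .head (fAdj_symm hbc) ih

lemma componentOf_eq_of_reach {Λ : Set (Subgroup G)} {A B : Subgroup G}
    (h : Relation.ReflTransGen (FAdj Λ) A B) :
    componentOf (FAdj Λ) Λ A = componentOf (FAdj Λ) Λ B := by
  ext X
  exact ⟨fun hX => ⟨hX.1, (fReach_symm h).trans hX.2⟩, fun hX => ⟨hX.1, h.trans hX.2⟩⟩

lemma fReach_conj (hS : IsRootSubgroupSet S) (g : G) {A B : Subgroup G}
    (h : Relation.ReflTransGen (FAdj S) A B) :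
    Relation.ReflTransGen (FAdj S) (conjBy A g) (conjBy B g) := by
  induction h with
  | refl => exact .refl
  | tail _ hbc ih =>
    exact ih.tail ⟨hS.conj_mem _ hbc.1 g, hS.conj_mem _ hbc.2.1 g, rankOnePair_conj hbc.2.2 g⟩

lemma partner_of_reach_ne (h : Relation.ReflTransGen (FAdj S) A B) (hne : B ≠ A) :
    ∃ D, D ∈ S ∧ IsRankOnePair A D := by
  rcases h.cases_head with rfl | ⟨D, hD, -⟩
  · exact absurd rfl hne
  · exact ⟨D, hD.2.1, hD.2.2⟩

lemma mem_partner_of_mem_line {C : Subgroup G} (h : B ∈ linePartners S C) :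
    B ∈ S ∧ B ≠ C ∧ ∀ x ∈ C, ∀ y ∈ B, x * y = y * x :=
  ⟨h.1.1, h.1.2.1, commutator_eq_bot_iff_comm.mp h.1.2.2⟩

/-- A line partner lies in the same connected component. -/
lemma linePartner_reach (hS : IsRootSubgroupSet S) (hA : A ∈ S) (hB : B ∈ linePartners S A)
    {D D' : Subgroup G} (hD : D ∈ S) (hr : IsRankOnePair A D) (hD' : D' ∈ S)
    (hr' : IsRankOnePair B D') : Relation.ReflTransGen (FAdj S) A B := by
  obtain ⟨⟨hBS, hne, hcb⟩, -, hcover, -⟩ := hB
  have hcomm := commutator_eq_bot_iff_comm.mp hcb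
  obtain ⟨a, ha, ha1⟩ := exists_ne_one hS hA
  obtain ⟨b, hb, hb1⟩ := exists_ne_one hS hBS
  have hab : a * b ≠ 1 := by
    intro h0
    refine ha1 (inv_eq_one.mp (by_contra fun hne' => hne ?_))
    exact eq_of_mem hS hA hD hr hBS (inv_mem ha) (by rwa [inv_eq_of_mul_eq_one_right h0]) hne'
  obtain ⟨M, ⟨hM, -⟩, hMm⟩ := hcover _ (mul_mem ((le_sup_left : A ≤ A ⊔ B) ha)
    ((le_sup_right : B ≤ A ⊔ B) hb)) hab
  rcases rankOne_on_line hS hA hBS hD hr hcomm hM ha ha1 hb hb1 hMm hab with h1 | h1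
  · exact (Relation.ReflTransGen.single ⟨hA, hD, hr⟩).tail ⟨hD, hBS, RankOnePair_symm h1⟩
  · rcases rankOne_on_line hS hBS hA hD' hr' (fun x hx y hy => (hcomm y hy x hx).symm) hM hb hb1
      ha ha1 ((hcomm a ha b hb) ▸ hMm) ((hcomm a ha b hb) ▸ hab) with h2 | h2
    · exact (Relation.ReflTransGen.single ⟨hA, hD', h2⟩).tail ⟨hD', hBS, RankOnePair_symm hr'⟩
    · exact (((Relation.ReflTransGen.single ⟨hA, hD, hr⟩).tail
        ⟨hD, hM, RankOnePair_symm h1⟩).tail ⟨hM, hD', h2⟩).tail ⟨hD', hBS, RankOnePair_symm hr'⟩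

/-- Members of different components commute when all members have partners. -/
lemma commute_of_not_reach (hS : IsRootSubgroupSet S)
    (hall : ∀ A ∈ S, ∃ D, D ∈ S ∧ IsRankOnePair A D) (hA : A ∈ S) (hB : B ∈ S)
    (h : ¬ Relation.ReflTransGen (FAdj S) A B) : ∀ a ∈ A, ∀ b ∈ B, a * b = b * a := by
  rcases trichotomy hS hA hB with h1 | h1 | h1
  · exact h1
  · exact absurd (Relation.ReflTransGen.single ⟨hA, hB, h1⟩) h
  · exfalso
    obtain ⟨D, hD, hr⟩ := hall A hA
    obtain ⟨D', hD', hr'⟩ := hall B hB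
    obtain ⟨D'', hD'', hr''⟩ := hall _ h1.1
    have e1 := linePartner_reach hS h1.1 (line_partner hS hA h1 hB hD hr) hD'' hr'' hD hr
    have hCB : ⁅B, A⁆ = ⁅A, B⁆ := Subgroup.commutator_comm B A
    have hl2 := line_partner hS hB (commCase_symm h1) hA hD' hr'
    rw [hCB] at hl2
    exact h ((fReach_symm e1).trans (linePartner_reach hS h1.1 hl2 hD'' hr'' hD' hr'))

/-- A single class with a partner has a connected graph. -/
lemma connected_of_class (hS : IsRootSubgroupSet S) (hc : IsConjClassOfSubgroups S)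
    (hp : ∃ A ∈ S, ∃ D, D ∈ S ∧ IsRankOnePair A D) : IsConnectedFamily (FAdj S) S := by
  obtain ⟨A₀, hA₀, D₀, hD₀, hr₀⟩ := hp
  have hall : ∀ A ∈ S, ∃ D, D ∈ S ∧ IsRankOnePair A D := by
    intro A hA
    obtain ⟨g, rfl⟩ := hc.2 A₀ hA₀ A hA
    exact ⟨_, hS.conj_mem _ hD₀ g, rankOnePair_conj hr₀ g⟩
  let P : Subgroup G :=
    { carrier := {g | ∀ X ∈ S, Relation.ReflTransGen (FAdj S) X (conjBy X g)}
      one_mem' := fun X _ => by rw [conjBy_one]
      mul_mem' := fun {g h} hg hh X hX => by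
        rw [← conjBy_conjBy]; exact (hh X hX).trans (hg _ (hS.conj_mem X hX h))
      inv_mem' := fun {g} hg X hX => by
        have := hg _ (hS.conj_mem X hX g⁻¹)
        rw [conjBy_conjBy_inv] at this
        exact fReach_symm this }
  have htop : P = ⊤ := by
    rw [eq_top_iff, ← hS.generates]
    refine iSup₂_le fun E hE e he X hX => ?_
    by_cases hr : Relation.ReflTransGen (FAdj S) X E
    · have h1 := fReach_conj hS e hr
      rw [conjBy_of_mem he] at h1
      exact hr.trans (fReach_symm h1)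
    · rw [conjBy_eq_of_commute (fun x hx => (commute_of_not_reach hS hall hX hE hr x hx e he).symm)]
  intro A hA B hB
  obtain ⟨g, rfl⟩ := hc.2 A hA B hB
  exact (htop ▸ Subgroup.mem_top g : g ∈ P) A hA

lemma class_of_connected (hS : IsRootSubgroupSet S) (hne : S.Nonempty)
    (hc : IsConnectedFamily (FAdj S) S) : IsConjClassOfSubgroups S := by
  refine ⟨hne, fun A hA B hB => ?_⟩
  have := hc A hA B hB
  clear hB
  induction this with
  | refl => exact ⟨1, (conjBy_one A).symm⟩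
  | tail _ hbc ih =>
    obtain ⟨g, hg⟩ := ih
    obtain ⟨x, -, hx⟩ := right_mem hbc.2.2
    exact ⟨x * g, by rw [← conjBy_conjBy, ← hg, ← hx]⟩

end CfsgLib.RootSubgroups
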