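import Cfsg.Agent.RootSubgroups.RankOne

/-! Rank one groups acting on an abelian group with quadratically acting unipotent subgroups. -/

set_option autoImplicit false

namespace CfsgLib.RootSubgroups

open Cfsg

section

variable {X : Type*} [Group X] (N : Type*) [AddCommGroup N] [DistribMulAction X N]

/-- The subgroup `[N, C]`. -/
def movedPart (C : Subgroup X) : AddSubgroup N :=
  AddSubgroup.closure {m | ∃ c ∈ C, ∃ n : N, m = c • n - n}

/-- The fixed points of the whole group. -/
def fixedPart (X : Type*) [Group X] (N : Type*) [AddCommGroup N] [DistribMulAction X N] :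
    AddSubgroup N where
  carrier := {n | ∀ x : X, x • n = n}
  zero_mem' := fun x => smul_zero x
  add_mem' := fun ha hb x => by rw [smul_add, ha x, hb x]
  neg_mem' := fun ha x => by rw [smul_neg, ha x]

variable {N}

lemma smul_movedPart {C : Subgroup X} (x : X) {m : N} (hm : m ∈ movedPart N C) :
    x • m ∈ movedPart N (conjBy C x) := by
  induction hm using AddSubgroup.closure_induction with
  | mem m hm =>
    obtain ⟨c, hc, n, rfl⟩ := hm
    refine AddSubgroup.subset_closure ⟨x * c * x⁻¹, conj_mem_conjBy hc x, x • n, ?_⟩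
    simp [smul_sub, mul_smul]
  | zero => simp
  | add a b _ _ ha hb => rw [smul_add]; exact add_mem ha hb
  | neg a _ ha => rw [smul_neg]; exact neg_mem ha

/-- Quadratic action of a subgroup. -/
def IsQuadOn (N : Type*) [AddCommGroup N] [DistribMulAction X N] (A : Subgroup X) : Prop :=
  ∀ a ∈ A, ∀ a' ∈ A, ∀ n : N, a' • (a • n - n) = a • n - n

lemma isQuadOn_conj {A : Subgroup X} (hq : IsQuadOn N A) (x : X) : IsQuadOn N (conjBy A x) := by
  intro a ha a' ha' n
  rw [mem_conjBy] at ha ha'
  have := congrArg (x • ·) (hq _ ha _ ha' (x⁻¹ • n))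
  simpa [smul_sub, mul_smul] using this

lemma quad_fix_moved {A : Subgroup X} (hq : IsQuadOn N A) {a : X} (ha : a ∈ A) {m : N}
    (hm : m ∈ movedPart N A) : a • m = m := by
  induction hm using AddSubgroup.closure_induction with
  | mem m hm => obtain ⟨c, hc, n, rfl⟩ := hm; exact hq c hc a ha n
  | zero => simp
  | add a b _ _ ha hb => rw [smul_add, ha, hb]
  | neg a _ ha => rw [smul_neg, ha]

lemma quad_pow {A : Subgroup X} (hq : IsQuadOn N A) {a : X} (ha : a ∈ A) (i : ℕ) (n : N) :
    a ^ i • n - n = i • (a • n - n) := by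
  induction i with
  | zero => simp
  | succ i ih =>
    rw [pow_succ', mul_smul, succ_nsmul]
    have h1 : a ^ i • n = n + i • (a • n - n) := by rw [← ih]; abel
    have h2 : a • i • (a • n - n) = i • (a • n - n) := by
      rw [smul_comm a i, hq a ha a ha n]
    rw [h1, smul_add, h2]
    abel

/-- The element `x` acts on `W = [N, X]` trivially modulo the fixed points. -/
def TrivModFixed (A B : Subgroup X) (N : Type*) [AddCommGroup N] [DistribMulAction X N] (x : X) :
    Prop :=
  ∀ w ∈ movedPart N A ⊔ movedPart N B, x • w - w ∈ fixedPart X N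

variable {A B : Subgroup X} (h : IsRankOneGroup X A B) (hqA : IsQuadOn N A)
include h

lemma smul_sub_mem_moved (g : X) (n : N) : g • n - n ∈ movedPart N A ⊔ movedPart N B := by
  let S : Subgroup X :=
    { carrier := {g | ∀ n : N, g • n - n ∈ movedPart N A ⊔ movedPart N B}
      one_mem' := fun n => by simp
      mul_mem' := fun {a b} ha hb n => by
        have : (a * b) • n - n = (a • (b • n) - b • n) + (b • n - n) := by rw [mul_smul]; abel
        rw [this]; exact add_mem (ha _) (hb _)
      inv_mem' := fun {a} ha n => by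
        have : a⁻¹ • n - n = -(a • (a⁻¹ • n) - a⁻¹ • n) := by simp
        rw [this]; exact neg_mem (ha _) }
  have hle : A ⊔ B ≤ S := sup_le
    (fun a ha n => (le_sup_left : movedPart N A ≤ _) (AddSubgroup.subset_closure ⟨a, ha, n, rfl⟩))
    (fun b hb n => (le_sup_right : movedPart N B ≤ _) (AddSubgroup.subset_closure ⟨b, hb, n, rfl⟩))
  exact hle (mem_sup_rankOne h g) n

lemma smul_moved_mem (g : X) {w : N} (hw : w ∈ movedPart N A ⊔ movedPart N B) :
    g • w ∈ movedPart N A ⊔ movedPart N B := by
  simpa using add_mem (smul_sub_mem_moved h g w) hw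

/-- The kernel of the action on `W` modulo fixed points, as a subgroup. -/
def trivModFixedSubgroup : Subgroup X where
  carrier := {x | TrivModFixed A B N x}
  one_mem' := fun w _ => by simp
  mul_mem' := fun {a b} ha hb w hw => by
    have : (a * b) • w - w = (a • (b • w) - b • w) + (b • w - w) := by rw [mul_smul]; abel
    rw [this]; exact add_mem (ha _ (smul_moved_mem h b hw)) (hb _ hw)
  inv_mem' := fun {a} ha w hw => by
    have : a⁻¹ • w - w = -(a • (a⁻¹ • w) - a⁻¹ • w) := by simp
    rw [this]; exact neg_mem (ha _ (smul_moved_mem h a⁻¹ hw))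

lemma trivModFixedSubgroup_normal : (trivModFixedSubgroup (N := N) h).Normal :=
  ⟨fun n hn g w hw => by
    have h1 := hn _ (smul_moved_mem h g⁻¹ hw)
    have h2 : (g * n * g⁻¹) • w - w = n • g⁻¹ • w - g⁻¹ • w := by
      conv_rhs => rw [← h1 g]
      simp [mul_smul, smul_sub]
    rw [h2]; exact h1⟩

include hqA

lemma quad_right : IsQuadOn N B := by
  obtain ⟨x, -, hx⟩ := right_mem h.2
  rw [hx]; exact isQuadOn_conj hqA x

lemma moved_inter_fixed {m : N} (hA : m ∈ movedPart N A) (hB : m ∈ movedPart N B) :
    m ∈ fixedPart X N := by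
  intro x
  have hle : A ⊔ B ≤ MulAction.stabilizer X m := sup_le
    (fun a ha => MulAction.mem_stabilizer_iff.mpr (quad_fix_moved hqA ha hA))
    (fun b hb => MulAction.mem_stabilizer_iff.mpr (quad_fix_moved (quad_right h hqA) hb hB))
  exact MulAction.mem_stabilizer_iff.mp (hle (mem_sup_rankOne h x))

variable (hnq : ∃ x y : X, ∃ n : N, y • (x • n - n) ≠ x • n - n)
include hnq

lemma kernel_le_center (g : X) (hg : ∀ n : N, g • n = n) : g ∈ Subgroup.center X := by
  let K : Subgroup X :=
    { carrier := {g | ∀ n : N, g • n = n}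
      one_mem' := fun n => one_smul _ n
      mul_mem' := fun {a b} ha hb n => by rw [mul_smul, hb, ha]
      inv_mem' := fun {a} ha n => by rw [inv_smul_eq_iff, ha] }
  have : K.Normal := ⟨fun k hk x n => by rw [mul_smul, mul_smul, hk, smul_inv_smul]⟩
  rcases normal_dichotomy_top h K with h' | h'
  · obtain ⟨x, y, n, hne⟩ := hnq
    exfalso
    have hdec : ∀ x : X, ∃ k ∈ K, ∃ a ∈ A, k * a = x := fun x => by
      have hx : x ∈ (K ⊔ A : Subgroup X) := by rw [h']; trivial
      exact Subgroup.mem_sup_of_normal_left.mp hx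
    obtain ⟨k, hk, a, ha, rfl⟩ := hdec x
    obtain ⟨k', hk', a', ha', rfl⟩ := hdec y
    apply hne
    simp only [mul_smul, hk _, hk' _]
    exact hqA a ha a' ha' n
  · exact h' hg

lemma trivModFixed_le_center {g : X} (hg : TrivModFixed A B N g) : g ∈ Subgroup.center X := by
  have hn := trivModFixedSubgroup_normal (N := N) h
  rcases normal_dichotomy_top h (trivModFixedSubgroup (N := N) h) with h' | h'
  · exfalso
    -- then the whole of `X` is trivial on `W` modulo fixed points
    have hB : B ≤ trivModFixedSubgroup (N := N) h := by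
      intro b hb w hw
      obtain ⟨p, hp, q, hq', rfl⟩ := AddSubgroup.mem_sup.mp hw
      have hb' : b ∈ (trivModFixedSubgroup (N := N) h ⊔ A : Subgroup X) := by rw [h']; trivial
      obtain ⟨k, hk, a, ha, rfl⟩ := Subgroup.mem_sup_of_normal_left.mp hb'
      have h1 : (k * a) • p = k • p := by rw [mul_smul, quad_fix_moved hqA ha hp]
      have h2 : (k * a) • q = q := quad_fix_moved (quad_right h hqA) hb hq'
      rw [smul_add, h1, h2, add_sub_add_right_eq_sub]
      exact hk p ((le_sup_left : movedPart N A ≤ _) hp)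
    have hA : A ≤ trivModFixedSubgroup (N := N) h := by
      obtain ⟨x, -, hx⟩ := right_mem h.2
      intro a ha
      have := hB (by rw [hx]; exact conj_mem_conjBy ha x)
      simpa [mul_assoc] using hn.conj_mem _ this x⁻¹
    have hall : ∀ x : X, TrivModFixed A B N x := fun x => sup_le hA hB (mem_sup_rankOne h x)
    have hcomm : ∀ x y z : X,
        (x * y * x⁻¹ * y⁻¹) * z * (x * y * x⁻¹ * y⁻¹)⁻¹ * z⁻¹ ∈ Subgroup.center X := by
      intro x y z
      set g' := x * y * x⁻¹ * y⁻¹
      have h1 : ∀ m : N, g' • m - m ∈ fixedPart X N := by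
        intro m
        have hkey : ∀ k : N, x • y • k - y • x • k ∈ fixedPart X N := by
          intro k
          have e1 : x • y • k - y • x • k =
              (x • (y • k - k) - (y • k - k)) - (y • (x • k - k) - (x • k - k)) := by
            simp only [smul_sub]; abel
          rw [e1]
          exact sub_mem (hall x _ (smul_sub_mem_moved h y k)) (hall y _ (smul_sub_mem_moved h x k))
        simpa [g', mul_smul] using hkey (x⁻¹ • y⁻¹ • m)
      have h2 : ∀ w ∈ movedPart N A ⊔ movedPart N B, g' • w = w := by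
        intro w hw
        have hkey : ∀ k ∈ movedPart N A ⊔ movedPart N B, x • y • k = y • x • k := by
          intro k hk
          have e1 := hall x k hk y
          have e2 := hall y k hk x
          simp only [smul_sub] at e1 e2
          have e3 : x • y • k = (x • k) + (y • k - k) := by rw [← e2]; abel
          have e4 : y • x • k = (y • k) + (x • k - k) := by rw [← e1]; abel
          rw [e3, e4]; abel
        have := hkey _ (smul_moved_mem h x⁻¹ (smul_moved_mem h y⁻¹ hw))
        simpa [g', mul_smul] using this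
      refine kernel_le_center h hqA hnq _ fun m => ?_
      have hk : ∀ k : N, g' • z • k = z • g' • k := by
        intro k
        have e1 := h2 _ (smul_sub_mem_moved h z k)
        have e2 := h1 k z
        simp only [smul_sub] at e1 e2
        have e3 : g' • z • k = g' • k + (z • k - k) := by rw [← e1]; abel
        have e4 : z • g' • k = z • k + (g' • k - k) := by rw [← e2]; abel
        rw [e3, e4]; abel
      simp only [mul_smul]
      rw [hk]; simp
    apply center_ne_top h
    rw [eq_top_iff]
    intro x _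
    rw [← upperCentralSeries_two_eq_center h, Subgroup.mem_upperCentralSeries_succ_iff]
    intro y
    rw [Subgroup.upperCentralSeries_one, ← upperCentralSeries_two_eq_center h,
      Subgroup.mem_upperCentralSeries_succ_iff]
    intro z
    rw [Subgroup.upperCentralSeries_one]
    exact hcomm x y z
  · exact h' hg

omit hnq in
/-- The two relations satisfied modulo fixed points by a pair of partners. -/
lemma partner_relations {a b : X} (ha : a ∈ A) (hb : b ∈ B)
    (he : conjBy A b⁻¹ = conjBy B a⁻¹) :
    (∀ p ∈ movedPart N A,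
      (a • (b⁻¹ • p - p) - (b⁻¹ • p - p)) + p ∈ fixedPart X N) ∧
    (∀ q ∈ movedPart N B,
      (b⁻¹ • (a • q - q) - (a • q - q)) + q ∈ fixedPart X N) := by
  have hqB := quad_right h hqA
  constructor
  · intro p hp
    have h1 : conjBy A (a * b⁻¹) = B := by rw [← conjBy_conjBy, he, conjBy_conjBy_inv]
    have hm : (a * b⁻¹) • p ∈ movedPart N B := h1 ▸ smul_movedPart _ hp
    have hr : b⁻¹ • p - p ∈ movedPart N B :=
      AddSubgroup.subset_closure ⟨b⁻¹, inv_mem hb, p, rfl⟩
    have e : (a • (b⁻¹ • p - p) - (b⁻¹ • p - p)) + p = (a * b⁻¹) • p - (b⁻¹ • p - p) := by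
      rw [smul_sub, quad_fix_moved hqA ha hp, mul_smul]; abel
    refine moved_inter_fixed h hqA ?_ (e ▸ sub_mem hm hr)
    exact add_mem (AddSubgroup.subset_closure ⟨a, ha, _, rfl⟩) hp
  · intro q hq
    have h1 : conjBy B (b * a⁻¹) = A := by rw [← conjBy_conjBy, ← he, conjBy_conjBy_inv]
    have hm : (b * a⁻¹) • q ∈ movedPart N A := h1 ▸ smul_movedPart _ hq
    have ht : a • q - q ∈ movedPart N A :=
      AddSubgroup.subset_closure ⟨a, ha, q, rfl⟩
    have hx : (b⁻¹ • (a • q - q) - (a • q - q)) + q ∈ movedPart N B :=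
      add_mem (AddSubgroup.subset_closure ⟨b⁻¹, inv_mem hb, _, rfl⟩) hq
    refine moved_inter_fixed h hqA ?_ hx
    have hs : a⁻¹ • q = q - (a • q - q) := by
      rw [inv_smul_eq_iff, smul_sub a, quad_fix_moved hqA ha ht]; abel
    have hbm := quad_fix_moved hqB (inv_mem hb) hx
    have hbm' := quad_fix_moved hqB hb hx
    have e : (b⁻¹ • (a • q - q) - (a • q - q)) + q = (b * a⁻¹) • q + (a • q - q) - (a • q - q) -
        ((b * a⁻¹) • q - ((b⁻¹ • (a • q - q) - (a • q - q)) + q)) := by abel
    have e2 : (b * a⁻¹) • q - ((b⁻¹ • (a • q - q) - (a • q - q)) + q) = -(a • q - q) := by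
      rw [← hbm', mul_smul, hs]
      simp only [smul_add, smul_sub, smul_inv_smul]
      abel
    rw [e, e2]
    have : (b * a⁻¹) • q + (a • q - q) - (a • q - q) - -(a • q - q) =
        (b * a⁻¹) • q + (a • q - q) := by abel
    rw [this]
    exact add_mem hm ht

/-- Quadratic action forces speciality. -/
theorem special_of_quadratic {a b : X} (ha : a ∈ A) (hb : b ∈ B)
    (he : conjBy A b⁻¹ = conjBy B a⁻¹) :
    b⁻¹ * a * b = a⁻¹ * b⁻¹ * a := by
  have hqB := quad_right h hqA
  obtain ⟨r1, r2⟩ := partner_relations h hqA ha hb he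
  have hk : a * b⁻¹ * a * (b⁻¹ * a * b⁻¹)⁻¹ ∈ Subgroup.center X := by
    refine trivModFixed_le_center h hqA hnq fun w hw => ?_
    set w' := (b⁻¹ * a * b⁻¹)⁻¹ • w with hw'_def
    have hw' : w' ∈ movedPart N A ⊔ movedPart N B := smul_moved_mem h _ hw
    have e : w = (b⁻¹ * a * b⁻¹) • w' := (smul_inv_smul _ w).symm
    rw [mul_smul, ← hw'_def, e]
    obtain ⟨p, hp, q, hq', hpq⟩ := AddSubgroup.mem_sup.mp hw'
    rw [← hpq, smul_add, smul_add]
    have gp : (a * b⁻¹ * a) • p - (b⁻¹ * a * b⁻¹) • p ∈ fixedPart X N := by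
      simp only [mul_smul]
      rw [quad_fix_moved hqA ha hp]
      set r := b⁻¹ • p - p with hr
      have hrm : r ∈ movedPart N B := AddSubgroup.subset_closure ⟨b⁻¹, inv_mem hb, p, rfl⟩
      have hbp : b⁻¹ • p = p + r := by rw [hr]; abel
      set f := (a • r - r) + p
      have hf : f ∈ fixedPart X N := r1 p hp
      have hab : a • (b⁻¹ • p) = r + f := by
        rw [hbp, smul_add, quad_fix_moved hqA ha hp]; simp only [f]; abel
      rw [hab, smul_add, quad_fix_moved hqB (inv_mem hb) hrm, hf b⁻¹, sub_self]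
      exact zero_mem _
    have gq : (a * b⁻¹ * a) • q - (b⁻¹ * a * b⁻¹) • q ∈ fixedPart X N := by
      simp only [mul_smul]
      rw [quad_fix_moved hqB (inv_mem hb) hq']
      set t := a • q - q with ht
      have htm : t ∈ movedPart N A := AddSubgroup.subset_closure ⟨a, ha, q, rfl⟩
      have haq : a • q = q + t := by rw [ht]; abel
      set f := (b⁻¹ • t - t) + q
      have hf : f ∈ fixedPart X N := r2 q hq'
      have hba : b⁻¹ • (a • q) = t + f := by
        rw [haq, smul_add, quad_fix_moved hqB (inv_mem hb) hq']; simp only [f]; abel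
      rw [hba, smul_add, quad_fix_moved hqA ha htm, hf a, sub_self]
      exact zero_mem _
    have e2 : (a * b⁻¹ * a) • p + (a * b⁻¹ * a) • q -
        ((b⁻¹ * a * b⁻¹) • p + (b⁻¹ * a * b⁻¹) • q) =
        ((a * b⁻¹ * a) • p - (b⁻¹ * a * b⁻¹) • p) +
        ((a * b⁻¹ * a) • q - (b⁻¹ * a * b⁻¹) • q) := by abel
    rw [e2]; exact add_mem gp gq
  set k := b⁻¹ * a * b * (a⁻¹ * b⁻¹ * a)⁻¹ with hkdef
  have hkc : k ∈ Subgroup.center X := by
    have hconj := (inferInstance : (Subgroup.center X).Normal).conj_mem _ hk a⁻¹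
    simpa [hkdef, mul_assoc] using hconj
  have hkC : k ∈ conjBy A b⁻¹ := by
    refine mul_mem ?_ (inv_mem ?_)
    · simpa [mul_assoc] using conj_mem_conjBy ha b⁻¹
    · rw [he]; simpa [mul_assoc] using conj_mem_conjBy (inv_mem hb) a⁻¹
  have hk1 : k = 1 := by
    have hmem : k ∈ A := by
      have := mem_conjBy.mp hkC
      rwa [inv_inv, Subgroup.mem_center_iff.mp hkc, mul_inv_cancel_right] at this
    exact eq_one_of_fix h.2 hmem
      (conjBy_eq_of_commute fun x _ => (Subgroup.mem_center_iff.mp hkc x).symm)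
  exact mul_inv_eq_one.mp hk1

end

end CfsgLib.RootSubgroups
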