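import Cfsg.Agent.RootSubgroups.RootGraph
import Cfsg.Agent.RootSubgroups.Quadratic

/-! Rank one pairs in a non-degenerate class are special. -/

set_option autoImplicit false

namespace CfsgLib.RootSubgroups

open Cfsg

variable {G : Type*} [Group G] {S : Set (Subgroup G)} {A B : Subgroup G}

/-- A rank one pair seen inside a subgroup containing it. -/
lemma rankOnePair_subgroupOf {X : Subgroup G} (h : IsRankOnePair A B) (hA : A ≤ X) (hB : B ≤ X) :
    IsRankOnePair (A.subgroupOf X) (B.subgroupOf X) := by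
  have hinj := X.subtype_injective
  have hmapA : (A.subgroupOf X).map X.subtype = A := Subgroup.map_subgroupOf_eq_of_le hA
  have hmapB : (B.subgroupOf X).map X.subtype = B := Subgroup.map_subgroupOf_eq_of_le hB
  have hconj : ∀ (C : Subgroup X) (g : X),
      (conjBy C g).map X.subtype = conjBy (C.map X.subtype) (g : G) := fun C g => by
    rw [conjBy, conjBy, Subgroup.map_map, Subgroup.map_map]; rfl
  have hcond : ∀ {P Q : Subgroup G}, P ≤ X → Q ≤ X → RankOneCondition P Q →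
      RankOneCondition (P.subgroupOf X) (Q.subgroupOf X) := by
    intro P Q hP hQ hc a ha ha1
    obtain ⟨b, hb, hb1, he⟩ := hc a ha (fun h0 => ha1 (Subtype.ext h0))
    refine ⟨⟨b, hQ hb⟩, hb, fun h0 => hb1 (congrArg Subtype.val h0), ?_⟩
    apply Subgroup.map_injective hinj
    rw [hconj, hconj, Subgroup.map_subgroupOf_eq_of_le hP, Subgroup.map_subgroupOf_eq_of_le hQ]
    simpa using he
  refine ⟨fun he => h.ne ?_, ?_, ?_, hcond hA hB h.cond_left, hcond hB hA h.cond_right⟩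
  · rw [← hmapA, ← hmapB, he]
  · have := h.nilpotent_left
    exact Group.nilpotent_of_mulEquiv (Subgroup.subgroupOfEquivOfLe hA).symm
  · have := h.nilpotent_right
    exact Group.nilpotent_of_mulEquiv (Subgroup.subgroupOfEquivOfLe hB).symm

lemma rankOneGroup_subgroupOf (h : IsRankOnePair A B) :
    IsRankOneGroup ↥(A ⊔ B) (A.subgroupOf (A ⊔ B)) (B.subgroupOf (A ⊔ B)) := by
  refine ⟨?_, rankOnePair_subgroupOf h le_sup_left le_sup_right⟩
  apply Subgroup.map_injective (A ⊔ B).subtype_injective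
  rw [Subgroup.map_sup, Subgroup.map_subgroupOf_eq_of_le le_sup_left,
    Subgroup.map_subgroupOf_eq_of_le le_sup_right, ← MonoidHom.range_eq_map, Subgroup.range_subtype]

/-- A normalised abelian subgroup with quadratic action of `A` forces speciality. -/
theorem special_of_normalized (h : IsRankOnePair A B) (N : Subgroup G) (hN : IsMulCommutative N)
    (hnorm : ∀ x ∈ A ⊔ B, conjBy N x = N)
    (hq : ∀ a ∈ A, ∀ a' ∈ A, ∀ n ∈ N, Commute a' (a * n * a⁻¹ * n⁻¹))
    (hnq : ∃ x ∈ A ⊔ B, ∃ y ∈ A ⊔ B, ∃ n ∈ N, ¬ Commute y (x * n * x⁻¹ * n⁻¹)) :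
    IsSpecialRankOnePair A B := by
  let X := A ⊔ B
  letI : CommGroup N := { (inferInstance : Group N) with mul_comm := hN.is_comm.comm }
  have hmem : ∀ (x : X) (n : N), (x : G) * n * (x : G)⁻¹ ∈ N := fun x n => by
    have := conj_mem_conjBy n.2 (x : G)
    rwa [hnorm x x.2] at this
  letI : MulDistribMulAction X N :=
    { smul := fun x n => ⟨(x : G) * n * (x : G)⁻¹, hmem x n⟩
      one_smul := fun n => Subtype.ext (by show ((1 : X) : G) * n * ((1 : X) : G)⁻¹ = n; simp)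
      mul_smul := fun x y n => Subtype.ext (by
        show ((x * y : X) : G) * n * ((x * y : X) : G)⁻¹ =
          (x : G) * ((y : G) * n * (y : G)⁻¹) * (x : G)⁻¹
        simp [mul_assoc])
      smul_mul := fun x n m => Subtype.ext (by
        show (x : G) * ((n * m : N) : G) * (x : G)⁻¹ =
          ((x : G) * n * (x : G)⁻¹) * ((x : G) * m * (x : G)⁻¹)
        simp [mul_assoc])
      smul_one := fun x => Subtype.ext (by
        show (x : G) * ((1 : N) : G) * (x : G)⁻¹ = 1; simp) }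
  letI : DistribMulAction X (Additive N) :=
    { smul := fun x n => Additive.ofMul (x • n.toMul)
      one_smul := fun n => congrArg Additive.ofMul (one_smul X n.toMul)
      mul_smul := fun x y n => congrArg Additive.ofMul (mul_smul x y n.toMul)
      smul_zero := fun x => congrArg Additive.ofMul (smul_one x)
      smul_add := fun x n m => congrArg Additive.ofMul (smul_mul' x n.toMul m.toMul) }
  have hcoe : ∀ (x : X) (n : Additive N),
      (((x • n - n).toMul : N) : G) = (x : G) * (n.toMul : N) * (x : G)⁻¹ * ((n.toMul : N) : G)⁻¹ := by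
    intro x n
    show (((x • n.toMul) / n.toMul : N) : G) = _
    rw [div_eq_mul_inv]
    rfl
  have key : ∀ (x y : X) (n : Additive N), y • (x • n - n) = x • n - n ↔
      Commute (y : G) ((x : G) * (n.toMul : N) * (x : G)⁻¹ * ((n.toMul : N) : G)⁻¹) := by
    intro x y n
    rw [← hcoe, ← Additive.toMul.injective.eq_iff, Subtype.ext_iff]
    show (y : G) * _ * (y : G)⁻¹ = _ ↔ _
    rw [mul_inv_eq_iff_eq_mul]
    rfl
  have hX := rankOneGroup_subgroupOf h
  have hqA : IsQuadOn (Additive N) (A.subgroupOf X) := fun a ha a' ha' n =>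
    (key a a' n).mpr (hq a ha a' ha' _ n.toMul.2)
  have hnq' : ∃ x y : X, ∃ n : Additive N, y • (x • n - n) ≠ x • n - n := by
    obtain ⟨x, hx, y, hy, n, hn, hne⟩ := hnq
    exact ⟨⟨x, hx⟩, ⟨y, hy⟩, Additive.ofMul ⟨n, hn⟩, fun he => hne ((key _ _ _).mp he)⟩
  refine ⟨h, fun a ha _ b hb _ he => ?_⟩
  have he' : conjBy (A.subgroupOf X) (⟨b, (le_sup_right : B ≤ X) hb⟩ : X)⁻¹ =
      conjBy (B.subgroupOf X) (⟨a, (le_sup_left : A ≤ X) ha⟩ : X)⁻¹ := by
    apply Subgroup.map_injective X.subtype_injective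
    have hconj : ∀ (C : Subgroup X) (g : X),
        (conjBy C g).map X.subtype = conjBy (C.map X.subtype) (g : G) := fun C g => by
      rw [conjBy, conjBy, Subgroup.map_map, Subgroup.map_map]; rfl
    rw [hconj, hconj, Subgroup.map_subgroupOf_eq_of_le le_sup_left,
      Subgroup.map_subgroupOf_eq_of_le le_sup_right]
    simpa using he
  have := special_of_quadratic hX hqA hnq' (a := ⟨a, (le_sup_left : A ≤ X) ha⟩)
    (b := ⟨b, (le_sup_right : B ≤ X) hb⟩) ha hb he'
  simpa using congrArg Subtype.val this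

lemma exists_commCase_eq (hS : IsRootSubgroupClass S) (hnd : IsNondegenerateRootSet S) (hA : A ∈ S) :
    ∃ E ∈ S, ∃ F ∈ S, RootCommutatorCase S E F ∧ ⁅E, F⁆ = A := by
  obtain ⟨-, -, E, hE, F, hF, hc⟩ := hnd
  obtain ⟨g, rfl⟩ := hS.2.2 _ hc.1 A hA
  exact ⟨conjBy E g, hS.1.conj_mem E hE g, conjBy F g, hS.1.conj_mem F hF g,
    commCase_of_mem hS.1 (hS.1.conj_mem E hE g) (hS.1.conj_mem F hF g)
      (by rw [← conjBy_commutator]; exact hA), (conjBy_commutator E F g).symm⟩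

lemma exists_partner_of_class (hS : IsRootSubgroupClass S) (hnd : IsNondegenerateRootSet S)
    {C : Subgroup G} (hC : C ∈ S) : ∃ D, D ∈ S ∧ IsRankOnePair C D := by
  obtain ⟨-, ⟨A, hA, B, hB, hr⟩, -⟩ := hnd
  obtain ⟨g, rfl⟩ := hS.2.2 A hA C hC
  exact ⟨conjBy B g, hS.1.conj_mem B hB g, rankOnePair_conj hr g⟩

/-- Some line partner of `A` is a commutator partner of `B`. -/
theorem exists_line_commutator (hS : IsRootSubgroupClass S) (hnd : IsNondegenerateRootSet S)
    (hA : A ∈ S) (hB : B ∈ S) (hr : IsRankOnePair A B) :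
    ∃ C ∈ linePartners S A, RootCommutatorCase S B C := by
  obtain ⟨E, hE, F, hF, hc, hEF⟩ := exists_commCase_eq hS hnd hA
  obtain ⟨D, hD, hrE⟩ := exists_partner_of_class hS hnd hE
  -- every member of the line other than `A` is a line partner
  have hline : ∀ f ∈ F, conjBy E f ∈ linePartners S A := by
    intro f hf
    have h1 : ⁅conjBy E f, F⁆ = A := by
      nth_rewrite 1 [← conjBy_of_mem (A := F) hf]
      rw [← conjBy_commutator, hEF]
      exact conjBy_eq_of_commute fun a ha => (comm_right hc (hEF.symm ▸ ha) hf).symm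
    have h2 := commCase_of_mem hS.1 (hS.1.conj_mem E hE f) hF (h1.symm ▸ hA)
    have h3 := line_partner hS.1 (hS.1.conj_mem E hE f) h2 hF (hS.1.conj_mem D hD f)
      (rankOnePair_conj hrE f)
    rwa [h1] at h3
  suffices h : ∃ f ∈ F, ¬ IsRankOnePair (conjBy E f) B by
    obtain ⟨f, hf, hn⟩ := h
    refine ⟨conjBy E f, hline f hf, ?_⟩
    have hC := hline f hf
    obtain ⟨⟨hCS, hne, hcb⟩, -, hcover, -⟩ := hC
    have hcomm := commutator_eq_bot_iff_comm.mp hcb
    rcases trichotomy hS.1 hCS hB with h1 | h1 | h1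
    · exfalso
      obtain ⟨a, ha, ha1⟩ := exists_ne_one hS.1 hA
      obtain ⟨c, hc', hc1⟩ := exists_ne_one hS.1 hCS
      have hac : a * c ≠ 1 := fun h0 => hne (eq_of_mem hS.1 hA hB hr hCS (inv_mem ha)
        (by rwa [inv_eq_of_mul_eq_one_right h0]) (inv_ne_one.mpr ha1))
      obtain ⟨M, ⟨hM, -⟩, hMm⟩ := hcover _ (mul_mem ((le_sup_left : A ≤ A ⊔ conjBy E f) ha)
        ((le_sup_right : conjBy E f ≤ A ⊔ conjBy E f) hc')) hac
      exact hc1 (eq_of_mul_mem hS.1 hA hB hr (fun x hx => (hcomm x hx c hc').symm)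
        (h1 c hc') ha ha1 hM ((hcomm a ha c hc') ▸ hMm)).2
    · exact absurd h1 hn
    · exact commCase_symm h1
  by_contra hcon
  push Not at hcon
  have hrE' : IsRankOnePair E B := by simpa [conjBy_one] using hcon 1 (one_mem _)
  have hEA : ∀ e ∈ E, ∀ a ∈ A, e * a = a * e := fun e he a ha =>
    (comm_left hc (hEF.symm ▸ ha) he).symm
  obtain ⟨b, hb, hb1⟩ := exists_ne_one hS.1 hB
  obtain ⟨a, ha, ha1, hea⟩ := hr.cond_right b hb hb1
  obtain ⟨e, he, he1, hee⟩ := hrE'.cond_right b hb hb1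
  have hg : a * e⁻¹ ∈ E ⊔ ⁅E, F⁆ := by
    rw [hEF]; exact mul_mem ((le_sup_right : A ≤ _) ha) ((le_sup_left : E ≤ _) (inv_mem he))
  rcases line_cover hS.1 hE hc hg with h | ⟨f, hf, h⟩
  · rw [hEF] at h
    have := mul_mem (inv_mem ha) h
    rw [inv_mul_cancel_left] at this
    exact he1 (inv_eq_one.mp (comm_inf_eq_one hS.1 hc (inv_mem he) (hEF.symm ▸ this)))
  · have hne1 : a * e⁻¹ ≠ 1 := fun h0 => he1 (by
      have : a = e := mul_inv_eq_one.mp h0
      exact comm_inf_eq_one hS.1 hc he (by rw [hEF, ← this]; exact ha))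
    have hr' := hcon f hf
    obtain ⟨y, hy, hy1⟩ := exists_ne_one hS.1 hB
    have hfix : conjBy B (a * e⁻¹) ≠ B := fun h0 => hne1 (eq_one_of_fix hr' h h0)
    have hy' : (a * e⁻¹) * y * (a * e⁻¹)⁻¹ ∈ conjBy B (a * e⁻¹) := conj_mem_conjBy hy _
    refine hy1 (eq_one_of_fix_unip hr' (right_mem hr')
      (unip_conj_mem (right_mem hr') ((le_sup_left : conjBy E f ≤ _) h)) hfix.symm hy
      (conjBy_eq_of_commute fun z hz => ?_))
    rw [mem_conjBy] at hz
    have h1 : Commute (a⁻¹ * y * a) (e⁻¹ * ((a * e⁻¹)⁻¹ * z * (a * e⁻¹)) * e) := by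
      have m1 : a⁻¹ * y * a ∈ conjBy B a⁻¹ := by simpa [mul_assoc] using conj_mem_conjBy hy a⁻¹
      have m2 : e⁻¹ * ((a * e⁻¹)⁻¹ * z * (a * e⁻¹)) * e ∈ conjBy B e⁻¹ := by
        simpa using conj_mem_conjBy hz e⁻¹
      rw [hea, mem_conjBy, inv_inv] at m1
      rw [hee, mem_conjBy, inv_inv] at m2
      exact (Commute.conj_iff b).mp ((hEA _ m2 _ m1).symm)
    have h2 := (Commute.conj_iff a).mpr h1
    simpa [mul_assoc] using h2.eq

/-- Rank one pairs of a non-degenerate class are special. -/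
theorem special_of_nondegenerate (hS : IsRootSubgroupClass S) (hnd : IsNondegenerateRootSet S)
    (hA : A ∈ S) (hB : B ∈ S) (hr : IsRankOnePair A B) : IsSpecialRankOnePair A B := by
  obtain ⟨C, ⟨⟨hC, hneC, hcb⟩, -, hcover, -⟩, hBC⟩ := exists_line_commutator hS hnd hA hB hr
  have hAC := commutator_eq_bot_iff_comm.mp hcb
  have hc := commCase_symm hBC
  obtain ⟨D, hD, hrC⟩ := exists_partner_of_class hS hnd hC
  have hFB : ∀ f ∈ ⁅C, B⁆, ∀ y ∈ B, Commute f y := fun f hf y hy => comm_right hc hf hy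
  have hFC : ∀ f ∈ ⁅C, B⁆, ∀ c ∈ C, Commute f c := fun f hf y hy => comm_left hc hf hy
  have hcaseAF : RootCommutatorCase S A ⁅C, B⁆ := by
    rcases trichotomy hS.1 hA hc.1 with h1 | h1 | h1
    · exfalso
      obtain ⟨c, hc', hc1⟩ := exists_ne_one hS.1 hC
      refine hc1 (commCase_centralizes hS.1 hc hc' fun y hy => ?_)
      obtain ⟨b, hb, hb1⟩ := exists_ne_one hS.1 hB
      obtain ⟨a, ha, -, he⟩ := hr.cond_right b hb hb1
      have hm : a⁻¹ * y * a ∈ conjBy A b⁻¹ := by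
        rw [← he]; simpa [mul_assoc] using conj_mem_conjBy hy a⁻¹
      rw [mem_conjBy, inv_inv] at hm
      have hbc : b * c * b⁻¹ = c * rcomm c b⁻¹ := by
        simpa using conj_eq_mul_rcomm c b⁻¹
      have h2 : Commute (b * (a⁻¹ * y * a) * b⁻¹) (b * c * b⁻¹) := by
        rw [hbc]
        exact Commute.mul_right (hAC _ hm c hc') (h1 _ hm _ (rcomm_mem hc' (inv_mem hb)))
      have h3 := (Commute.conj_iff a).mpr ((Commute.conj_iff b).mp h2)
      have h4 : a * c * a⁻¹ = c := by rw [hAC a ha c hc', mul_inv_cancel_right]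
      rw [h4] at h3
      simpa [mul_assoc] using h3.eq.symm
    · exfalso
      obtain ⟨c, hc', hc1⟩ := exists_ne_one hS.1 hC
      obtain ⟨f, hf, hf1⟩ := exists_ne_one hS.1 hc.1
      obtain ⟨b, hb, rfl⟩ := rcomm_surj_right hc hc' hc1 hf
      exact hc1 (eq_of_mul_mem hS.1 hc.1 hA (RankOnePair_symm h1)
        (fun x hx => (hFC x hx c hc').eq.symm) (fun x hx => (hAC x hx c hc').symm) hf hf1
        (hS.1.conj_mem C hC b⁻¹) (by rw [← conj_eq_mul_rcomm]; simpa [mul_assoc] using hc')).2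
    · exact h1
  have hG : ⁅A, ⁅C, B⁆⁆ = C := by
    obtain ⟨c, hc', hc1⟩ := exists_ne_one hS.1 hC
    obtain ⟨b, hb, hb1⟩ := exists_ne_one hS.1 hB
    obtain ⟨a, ha, ha1, he⟩ := hr.cond_right b hb hb1
    set f := rcomm c b with hf
    have hfm : f ∈ ⁅C, B⁆ := rcomm_mem hc' hb
    set g := rcomm f a⁻¹ with hg
    have hgm : g ∈ ⁅A, ⁅C, B⁆⁆ := by
      rw [Subgroup.commutator_comm]; exact rcomm_mem hfm (inv_mem ha)
    have hgA : ∀ x ∈ A, Commute g x := fun x hx => comm_left hcaseAF hgm hx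
    have hgF : ∀ x ∈ ⁅C, B⁆, Commute g x := fun x hx => comm_right hcaseAF hgm hx
    have hzA : ∀ x ∈ A, c * g * x = x * (c * g) := fun x hx =>
      (Commute.mul_left (hAC x hx c hc').symm (hgA x hx)).eq
    have hw : ∀ y ∈ B, Commute (a * (b⁻¹ * c * b) * a⁻¹) y := by
      intro y hy
      have hm : a⁻¹ * y * a ∈ conjBy A b⁻¹ := by
        rw [← he]; simpa [mul_assoc] using conj_mem_conjBy hy a⁻¹
      rw [mem_conjBy, inv_inv] at hm
      have h2 : Commute (b * (b⁻¹ * c * b) * b⁻¹) (b * (a⁻¹ * y * a) * b⁻¹) := by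
        simpa [mul_assoc, Commute, SemiconjBy] using (hAC _ hm c hc').symm
      have h3 := (Commute.conj_iff a).mpr ((Commute.conj_iff b).mp h2)
      simpa [mul_assoc] using h3
    have hwe : a * (b⁻¹ * c * b) * a⁻¹ = f * (c * g) := by
      have e1 : a * f * a⁻¹ = f * g := by
        rw [hg, ← conj_eq_mul_rcomm f a⁻¹, inv_inv]
      calc a * (b⁻¹ * c * b) * a⁻¹ = (a * c * a⁻¹) * (a * f * a⁻¹) := by
            rw [conj_eq_mul_rcomm, ← hf]; group
        _ = c * (f * g) := by rw [hAC a ha c hc', mul_inv_cancel_right, e1]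
        _ = _ := by rw [← mul_assoc, ← (hFC f hfm c hc').eq, mul_assoc]
    have hzB : ∀ y ∈ B, c * g * y = y * (c * g) := by
      intro y hy
      have h1 := hw y hy
      rw [hwe] at h1
      have := (hFB f hfm y hy).inv_left.mul_left h1
      rw [inv_mul_cancel_left] at this
      exact this.eq
    by_cases hz : c * g = 1
    · have hgc : c = g⁻¹ := mul_eq_one_iff_eq_inv.mp hz
      exact eq_of_mem hS.1 hC hD hrC hcaseAF.1 hc' (hgc ▸ inv_mem hgm) hc1
    exfalso
    have hg1 : g ≠ 1 := fun h0 =>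
      hc1 (commCase_centralizes hS.1 hc hc' fun y hy => by simpa [h0] using hzB y hy)
    have hGB : ¬ IsRankOnePair ⁅A, ⁅C, B⁆⁆ B := by
      intro h1
      refine commutator_not_fix_right h1 hgm hg1 hb hb1 (conjBy_eq_of_commute fun y hy => ?_)
      have e : g * b * g⁻¹ * b⁻¹ = c⁻¹ * b * c⁻¹⁻¹ * b⁻¹ := by
        rw [inv_inv]
        calc g * b * g⁻¹ * b⁻¹ = c⁻¹ * ((c * g) * b) * g⁻¹ * b⁻¹ := by group
          _ = c⁻¹ * (b * (c * g)) * g⁻¹ * b⁻¹ := by rw [hzB b hb]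
          _ = _ := by group
      rw [e]
      exact comm_right hc (Subgroup.commutator_mem_commutator (inv_mem hc') hb) hy
    have hag : a * g⁻¹ ≠ 1 := fun h0 => ha1 (comm_inf_eq_one hS.1 hcaseAF ha (by
      rw [mul_inv_eq_one.mp h0]; exact hgm))
    rcases line_cover hS.1 hA hcaseAF (mul_mem ((le_sup_left : A ≤ A ⊔ ⁅A, ⁅C, B⁆⁆) ha)
      ((le_sup_right : ⁅A, ⁅C, B⁆⁆ ≤ A ⊔ ⁅A, ⁅C, B⁆⁆) (inv_mem hgm))) with h1 | ⟨k, hk, h1⟩
    · refine ha1 (comm_inf_eq_one hS.1 hcaseAF ha ?_)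
      simpa using mul_mem h1 hgm
    · have hMS := hS.1.conj_mem A hA k
      have hMB : IsRankOnePair (conjBy A k) B :=
        (rankOne_on_line hS.1 hA hcaseAF.1 hB hr (fun x hx y hy => (comm_left hcaseAF hy hx).symm)
          hMS ha ha1 (inv_mem hgm) (inv_ne_one.mpr hg1) h1 hag).resolve_left hGB
      have hzM : ∀ x ∈ conjBy A k, c * g * x = x * (c * g) := by
        intro x hx
        obtain ⟨a', ha', g', hg', rfl⟩ := (sup_comm_mem hcaseAF).mp (conjBy_le_line hS.1 hA hcaseAF hk hx)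
        have hcG : Commute c g' := by
          have hle : ⁅A, ⁅C, B⁆⁆ ≤ Subgroup.centralizer ({c} : Set G) :=
            (Subgroup.commutator_le_sup A _).trans (sup_le
              (fun x hx => Subgroup.mem_centralizer_singleton_iff.mpr (hAC x hx c hc'))
              (fun x hx => Subgroup.mem_centralizer_singleton_iff.mpr (hFC x hx c hc').eq))
          exact (Subgroup.mem_centralizer_singleton_iff.mp (hle hg')).symm
        have hgg : Commute g g' := comm_comm hcaseAF hgm hg'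
        exact (Commute.mul_right (hzA a' ha') (hcG.mul_left hgg)).eq
      have hca : c * g * (a * g⁻¹) = a * c := by
        rw [← mul_assoc, mul_assoc c g a, (hgA a ha).eq, ← mul_assoc, ← hAC a ha c hc',
          mul_inv_cancel_right]
      have hac : a * c ≠ 1 := fun h0 => hneC (eq_of_mem hS.1 hA hB hr hC (inv_mem ha)
        (by rwa [inv_eq_of_mul_eq_one_right h0]) (inv_ne_one.mpr ha1))
      obtain ⟨M, ⟨hM, -⟩, hMm⟩ := hcover _ (mul_mem ((le_sup_left : A ≤ A ⊔ C) ha)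
        ((le_sup_right : C ≤ A ⊔ C) hc')) hac
      exact hz (eq_of_mul_mem hS.1 hMS hB hMB hzM hzB h1 hag hM (hca.symm ▸ hMm)).2
  -- the action on `N = C F`
  have hNmem : ∀ {n : G}, n ∈ C ⊔ ⁅C, B⁆ ↔ ∃ c ∈ C, ∃ f ∈ ⁅C, B⁆, n = c * f :=
    sup_comm_mem hc
  have hN : IsMulCommutative ↥(C ⊔ ⁅C, B⁆) := ⟨⟨fun ⟨x, hx⟩ ⟨y, hy⟩ => Subtype.ext (by
    obtain ⟨c, hc', f, hf, rfl⟩ := hNmem.mp hx
    obtain ⟨c', hc'', f', hf', rfl⟩ := hNmem.mp hy
    exact (Commute.mul_left
      ((show Commute c c' from commute_self hS.1 hC hc' hc'').mul_right (hFC f' hf' c hc').symm)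
      ((hFC f hf c' hc'').mul_right (comm_comm hc hf hf'))).eq)⟩⟩
  have hqstep : ∀ a ∈ A, ∀ n ∈ C ⊔ ⁅C, B⁆, a * n * a⁻¹ * n⁻¹ ∈ C := by
    intro a ha n hn
    obtain ⟨c, hc', f, hf, rfl⟩ := hNmem.mp hn
    have hx : a * f * a⁻¹ * f⁻¹ ∈ C := by
      have := Subgroup.commutator_mem_commutator (H₁ := A) (H₂ := ⁅C, B⁆) ha hf
      rwa [hG, commutatorElement_def] at this
    have : a * (c * f) * a⁻¹ * (c * f)⁻¹ = c * (a * f * a⁻¹ * f⁻¹) * c⁻¹ := by
      rw [← mul_assoc a, hAC a ha c hc']; group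
    rw [this]
    exact mul_mem (mul_mem hc' hx) (inv_mem hc')
  refine special_of_normalized hr (C ⊔ ⁅C, B⁆) hN ?_ ?_ ?_
  · have hle : A ⊔ B ≤ Subgroup.normalizer ((C ⊔ ⁅C, B⁆ : Subgroup G) : Set G) := by
      have hA' : ∀ a ∈ A, ∀ n ∈ C ⊔ ⁅C, B⁆, a * n * a⁻¹ ∈ C ⊔ ⁅C, B⁆ := fun a ha n hn => by
        simpa using mul_mem ((le_sup_left : C ≤ C ⊔ ⁅C, B⁆) (hqstep a ha n hn)) hn
      have hB' : ∀ b ∈ B, ∀ n ∈ C ⊔ ⁅C, B⁆, b * n * b⁻¹ ∈ C ⊔ ⁅C, B⁆ := by
        intro b hb n hn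
        obtain ⟨c, hc', f, hf, rfl⟩ := hNmem.mp hn
        have e : b * (c * f) * b⁻¹ = (b⁻¹⁻¹ * c * b⁻¹) * (b * f * b⁻¹) := by group
        rw [e, conj_eq_mul_rcomm, ← (hFB f hf b hb).eq, mul_inv_cancel_right]
        exact mul_mem (mul_mem ((le_sup_left : C ≤ _) hc')
          ((le_sup_right : ⁅C, B⁆ ≤ _) (rcomm_mem hc' (inv_mem hb))))
          ((le_sup_right : ⁅C, B⁆ ≤ _) hf)
      refine sup_le (fun g hg => Subgroup.mem_normalizer_iff.mpr fun z => ⟨hA' g hg z, fun hz => ?_⟩)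
        (fun g hg => Subgroup.mem_normalizer_iff.mpr fun z => ⟨hB' g hg z, fun hz => ?_⟩)
      · simpa [mul_assoc] using hA' g⁻¹ (inv_mem hg) _ hz
      · simpa [mul_assoc] using hB' g⁻¹ (inv_mem hg) _ hz
    exact fun x hx => conjBy_eq_self_iff.mpr (hle hx)
  · exact fun a ha a' ha' n hn => hAC a' ha' _ (hqstep a ha n hn)
  · obtain ⟨f, hf, hf1⟩ := exists_ne_one hS.1 hc.1
    obtain ⟨c, hc', hc1⟩ := exists_ne_one hS.1 hC
    obtain ⟨b, hb, hbf⟩ := rcomm_surj_right hc hc' hc1 hf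
    have hex : ∃ y ∈ A, ¬ Commute y f := by
      by_contra h0
      push Not at h0
      exact hf1 (commCase_centralizes hS.1 (commCase_symm hcaseAF) hf fun y hy => (h0 y hy).eq.symm)
    obtain ⟨y, hy, hyf⟩ := hex
    refine ⟨b⁻¹, (le_sup_right : B ≤ A ⊔ B) (inv_mem hb), y, (le_sup_left : A ≤ A ⊔ B) hy,
      c, (le_sup_left : C ≤ C ⊔ ⁅C, B⁆) hc', ?_⟩
    rw [inv_inv, conj_eq_mul_rcomm, hbf, ← (hFC f hf c hc').eq, mul_inv_cancel_right]
    exact hyf

end CfsgLib.RootSubgroups
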