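import Cfsg.Agent.RootSubgroups.RootSet

/-! The commutator case: the maps `b ↦ a⁻¹ b⁻¹ a b`, and the line through `A` and `⁅A, B⁆`. -/

set_option autoImplicit false

namespace CfsgLib.RootSubgroups

open Cfsg

variable {G : Type*} [Group G] {S : Set (Subgroup G)} {A B : Subgroup G}

/-- The commutator `a⁻¹ b⁻¹ a b`. -/
def rcomm (a b : G) : G := a⁻¹ * b⁻¹ * a * b

lemma conj_eq_mul_rcomm (a b : G) : b⁻¹ * a * b = a * rcomm a b := by simp [rcomm, mul_assoc]

lemma rcomm_mem {a b : G} (ha : a ∈ A) (hb : b ∈ B) : rcomm a b ∈ ⁅A, B⁆ := by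
  have := Subgroup.commutator_mem_commutator (inv_mem ha) (inv_mem hb)
  simpa [rcomm, commutatorElement_def] using this

lemma rcomm_eq_one {a b : G} : rcomm a b = 1 ↔ a * b = b * a := by
  unfold rcomm
  rw [mul_assoc (a⁻¹ * b⁻¹) a b, ← mul_inv_rev, inv_mul_eq_one]
  exact eq_comm

section CommCase

variable (hc : RootCommutatorCase S A B)
include hc

lemma comm_left {c x : G} (h : c ∈ ⁅A, B⁆) (hx : x ∈ A) : c * x = x * c :=
  hc.2.1 c h x ((le_sup_left : A ≤ A ⊔ B) hx)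

lemma comm_right {c x : G} (h : c ∈ ⁅A, B⁆) (hx : x ∈ B) : c * x = x * c :=
  hc.2.1 c h x ((le_sup_right : B ≤ A ⊔ B) hx)

lemma comm_comm {c x : G} (h : c ∈ ⁅A, B⁆) (hx : x ∈ ⁅A, B⁆) : c * x = x * c :=
  hc.2.1 c h x (Subgroup.commutator_le_sup A B hx)

lemma rcomm_mul_right {a b b' : G} (ha : a ∈ A) (hb : b ∈ B) (hb' : b' ∈ B) :
    rcomm a (b * b') = rcomm a b * rcomm a b' := by
  rw [comm_comm hc (rcomm_mem ha hb) (rcomm_mem ha hb')]
  have h := comm_right hc (rcomm_mem ha hb) hb'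
  calc rcomm a (b * b') = a⁻¹ * b'⁻¹ * a * (rcomm a b * b') := by simp [rcomm, mul_assoc]
    _ = a⁻¹ * b'⁻¹ * a * (b' * rcomm a b) := by rw [h]
    _ = _ := by simp [rcomm, mul_assoc]

lemma rcomm_mul_left {a a' b : G} (ha : a ∈ A) (ha' : a' ∈ A) (hb : b ∈ B) :
    rcomm (a * a') b = rcomm a b * rcomm a' b := by
  have h := comm_left hc (rcomm_mem ha hb) ha'
  calc rcomm (a * a') b = a'⁻¹ * (rcomm a b * (b⁻¹ * a' * b)) := by simp [rcomm, mul_assoc]
    _ = a'⁻¹ * ((rcomm a b * a') * rcomm a' b) := by rw [conj_eq_mul_rcomm, mul_assoc]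
    _ = _ := by rw [h]; simp [mul_assoc]

lemma rcomm_inv_left {a b : G} (ha : a ∈ A) (hb : b ∈ B) :
    rcomm a⁻¹ b = (rcomm a b)⁻¹ :=
  eq_inv_of_mul_eq_one_left (by
    rw [← rcomm_mul_left hc (inv_mem ha) ha hb, inv_mul_cancel]; simp [rcomm])

lemma rcomm_inv_right {a b : G} (ha : a ∈ A) (hb : b ∈ B) :
    rcomm a b⁻¹ = (rcomm a b)⁻¹ :=
  eq_inv_of_mul_eq_one_left (by
    rw [← rcomm_mul_right hc ha (inv_mem hb) hb, inv_mul_cancel]; simp [rcomm])

lemma rcomm_surj_right {a : G} (ha : a ∈ A) (ha1 : a ≠ 1) {c : G} (hcm : c ∈ ⁅A, B⁆) :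
    ∃ b ∈ B, rcomm a b = c := by
  let H : Subgroup G :=
    { carrier := {z | ∃ b ∈ B, rcomm a b = z}
      one_mem' := ⟨1, one_mem _, by simp [rcomm]⟩
      mul_mem' := by
        rintro _ _ ⟨b, hb, rfl⟩ ⟨b', hb', rfl⟩
        exact ⟨b * b', mul_mem hb hb', rcomm_mul_right hc ha hb hb'⟩
      inv_mem' := by
        rintro _ ⟨b, hb, rfl⟩
        exact ⟨b⁻¹, inv_mem hb, rcomm_inv_right hc ha hb⟩ }
  rw [← hc.2.2.1 a⁻¹ (inv_mem ha) (inv_ne_one.mpr ha1)] at hcm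
  refine (Subgroup.closure_le H).mpr ?_ hcm
  rintro _ ⟨b, hb, rfl⟩
  exact ⟨b⁻¹, inv_mem hb, by simp [rcomm]⟩

lemma rcomm_surj_left {b : G} (hb : b ∈ B) (hb1 : b ≠ 1) {c : G} (hcm : c ∈ ⁅A, B⁆) :
    ∃ a ∈ A, rcomm a b = c := by
  let H : Subgroup G :=
    { carrier := {z | ∃ a ∈ A, rcomm a b = z}
      one_mem' := ⟨1, one_mem _, by simp [rcomm]⟩
      mul_mem' := by
        rintro _ _ ⟨a, ha, rfl⟩ ⟨a', ha', rfl⟩
        exact ⟨a * a', mul_mem ha ha', rcomm_mul_left hc ha ha' hb⟩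
      inv_mem' := by
        rintro _ ⟨a, ha, rfl⟩
        exact ⟨a⁻¹, inv_mem ha, rcomm_inv_left hc ha hb⟩ }
  rw [← hc.2.2.2 b⁻¹ (inv_mem hb) (inv_ne_one.mpr hb1)] at hcm
  refine (Subgroup.closure_le H).mpr ?_ hcm
  rintro _ ⟨a, ha, rfl⟩
  exact ⟨a⁻¹, inv_mem ha, by simp [rcomm]⟩

lemma sup_comm_mem {x : G} : x ∈ A ⊔ ⁅A, B⁆ ↔ ∃ a ∈ A, ∃ c ∈ ⁅A, B⁆, x = a * c := by
  constructor
  · intro hx
    have hle : A ≤ Subgroup.normalizer ((⁅A, B⁆ : Subgroup G) : Set G) := Subgroup.normalizer_commutator_ge_left A B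
    rw [← SetLike.mem_coe, Subgroup.coe_mul_of_left_le_normalizer_right _ _ hle] at hx
    obtain ⟨a, ha, c, hc', rfl⟩ := Set.mem_mul.mp hx
    exact ⟨a, ha, c, hc', rfl⟩
  · rintro ⟨a, ha, c, hc', rfl⟩
    exact mul_mem ((le_sup_left : A ≤ _) ha) ((le_sup_right : ⁅A, B⁆ ≤ _) hc')

end CommCase

lemma comm_inf_eq_one (hS : IsRootSubgroupSet S) (hc : RootCommutatorCase S A B) {x : G}
    (hA : x ∈ A) (hC : x ∈ ⁅A, B⁆) : x = 1 :=
  commCase_centralizes hS hc hA fun _ hb => comm_right hc hC hb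

lemma left_ne_comm (hS : IsRootSubgroupSet S) (hA : A ∈ S) (hc : RootCommutatorCase S A B) :
    A ≠ ⁅A, B⁆ := by
  intro he
  obtain ⟨a, ha, ha1⟩ := exists_ne_one hS hA
  exact ha1 (comm_inf_eq_one hS hc ha (he ▸ ha))

lemma not_isolated_conj {B' : Subgroup G} (hr : IsRankOnePair A B') (g : G) :
    IsRankOnePair (conjBy A g) (conjBy B' g) := rankOnePair_conj hr g

/-- If `A` has a partner, then no non-identity elements of `A` and `B` commute. -/
lemma rcomm_injective (hS : IsRootSubgroupSet S) (hA : A ∈ S) {D : Subgroup G} (hD : D ∈ S)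
    (hr : IsRankOnePair A D) (hc : RootCommutatorCase S A B) {a b : G} (ha : a ∈ A) (hb : b ∈ B)
    (ha1 : a ≠ 1) (h : rcomm a b = 1) : b = 1 := by
  by_contra hb1
  have hab := rcomm_eq_one.mp h
  have hfix : conjBy A b⁻¹ = A := eq_of_mem hS hA hD hr (hS.conj_mem A hA _) ha (by
    rw [mem_conjBy, inv_inv, ← hab, mul_inv_cancel_right]; exact ha) ha1
  apply hS.ne_bot _ hc.1
  rw [eq_bot_iff]
  intro c hcm
  obtain ⟨x, hx, rfl⟩ := rcomm_surj_left hc hb hb1 hcm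
  rw [Subgroup.mem_bot]
  refine comm_inf_eq_one hS hc ?_ (rcomm_mem hx hb)
  have h1 : b⁻¹ * x * b ∈ A := by
    have := conj_mem_conjBy hx b⁻¹
    rwa [hfix, inv_inv] at this
  have := mul_mem (inv_mem hx) h1
  simpa [rcomm, mul_assoc] using this

section Line

variable (hS : IsRootSubgroupSet S) (hA : A ∈ S) (hc : RootCommutatorCase S A B)
include hS hA hc

lemma line_cover {x : G} (hx : x ∈ A ⊔ ⁅A, B⁆) :
    x ∈ ⁅A, B⁆ ∨ ∃ b ∈ B, x ∈ conjBy A b := by
  obtain ⟨a, ha, c, hcm, rfl⟩ := (sup_comm_mem hc).mp hx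
  by_cases ha1 : a = 1
  · left; rw [ha1, one_mul]; exact hcm
  · obtain ⟨b, hb, rfl⟩ := rcomm_surj_right hc ha ha1 hcm
    right
    refine ⟨b⁻¹, inv_mem hb, ?_⟩
    rw [← conj_eq_mul_rcomm, mem_conjBy]
    simpa [mul_assoc] using ha

lemma conjBy_le_line {b : G} (hb : b ∈ B) : conjBy A b ≤ A ⊔ ⁅A, B⁆ := by
  intro x hx
  rw [mem_conjBy] at hx
  refine (sup_comm_mem hc).mpr ⟨b⁻¹ * x * b, hx, rcomm (b⁻¹ * x * b) b⁻¹,
    rcomm_mem hx (inv_mem hb), ?_⟩
  rw [← conj_eq_mul_rcomm]; group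

lemma conjBy_sup_line {b : G} (hb : b ∈ B) : conjBy A b ⊔ ⁅A, B⁆ = A ⊔ ⁅A, B⁆ := by
  refine le_antisymm (sup_le (conjBy_le_line hS hA hc hb) le_sup_right) (sup_le ?_ le_sup_right)
  intro a ha
  have h1 : b * a * b⁻¹ ∈ conjBy A b ⊔ ⁅A, B⁆ :=
    (le_sup_left : conjBy A b ≤ _) (conj_mem_conjBy ha b)
  have h2 : rcomm a b⁻¹ ∈ conjBy A b ⊔ ⁅A, B⁆ :=
    (le_sup_right : ⁅A, B⁆ ≤ _) (rcomm_mem ha (inv_mem hb))
  have := mul_mem h1 (inv_mem h2)
  rwa [show b * a * b⁻¹ = b⁻¹⁻¹ * a * b⁻¹ by rw [inv_inv], conj_eq_mul_rcomm,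
    mul_inv_cancel_right] at this

lemma conjBy_inter_comm {b x : G} (hb : b ∈ B) (hx : x ∈ conjBy A b) (hxc : x ∈ ⁅A, B⁆) :
    x = 1 := by
  rw [mem_conjBy] at hx
  have h1 : b⁻¹ * x * b = x := by rw [mul_assoc, comm_right hc hxc hb, inv_mul_cancel_left]
  rw [h1] at hx
  exact comm_inf_eq_one hS hc hx hxc

lemma conjBy_inter_conjBy (hinj : ∀ a ∈ A, ∀ b ∈ B, a ≠ 1 → rcomm a b = 1 → b = 1) {b b' x : G}
    (hb : b ∈ B) (hb' : b' ∈ B) (hx : x ∈ conjBy A b) (hx' : x ∈ conjBy A b') (hx1 : x ≠ 1) :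
    b = b' := by
  rw [mem_conjBy] at hx hx'
  set y := b⁻¹ * x * b with hy
  set e := b'⁻¹ * b with he
  have h1 : e * y * e⁻¹ = b'⁻¹ * x * b' := by rw [hy, he]; group
  have hyA : e * y * e⁻¹ ∈ A := h1 ▸ hx'
  have heB : e⁻¹ ∈ B := inv_mem (mul_mem (inv_mem hb') hb)
  have h2 : rcomm y e⁻¹ ∈ A := by
    have := mul_mem (inv_mem hx) hyA
    simpa [rcomm, mul_assoc] using this
  have h3 := comm_inf_eq_one hS hc h2 (rcomm_mem hx heB)
  have hy1 : y ≠ 1 := fun h0 => hx1 (by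
    rw [show x = b * y * b⁻¹ by rw [hy]; group, h0]; group)
  have h4 := hinj y hx e⁻¹ heB hy1 h3
  rw [inv_eq_one, he, inv_mul_eq_one] at h4
  exact h4.symm

/-- The partition of the line. -/
lemma line_partition (hinj : ∀ a ∈ A, ∀ b ∈ B, a ≠ 1 → rcomm a b = 1 → b = 1) :
    IsSubgroupPartition (A ⊔ ⁅A, B⁆) ((fun b : G => conjBy A b) '' (B : Set G) ∪ {⁅A, B⁆}) := by
  refine ⟨?_, ?_, ?_⟩
  · rintro C (⟨b, hb, rfl⟩ | rfl)
    · exact conjBy_le_line hS hA hc hb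
    · exact le_sup_right
  · intro x hx _
    rcases line_cover hS hA hc hx with h | ⟨b, hb, h⟩
    · exact ⟨_, Or.inr rfl, h⟩
    · exact ⟨_, Or.inl ⟨b, hb, rfl⟩, h⟩
  · rintro C hC D hD hne
    rw [Subgroup.eq_bot_iff_forall]
    rintro x ⟨hxC, hxD⟩
    by_contra hx1
    rcases hC with ⟨b, hb, rfl⟩ | rfl <;> rcases hD with ⟨b', hb', rfl⟩ | rfl
    · exact hne (by rw [conjBy_inter_conjBy hS hA hc hinj hb hb' hxC hxD hx1])
    · exact hx1 (conjBy_inter_comm hS hA hc hb hxC hxD)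
    · exact hx1 (conjBy_inter_comm hS hA hc hb' hxD hxC)
    · exact hne rfl

/-- The members inside the line. -/
lemma membersIn_line (hB : B ∈ S) {D : Subgroup G} (hD : D ∈ S) (hr : IsRankOnePair A D) :
    membersIn S (A ⊔ ⁅A, B⁆) = (fun b : G => conjBy A b) '' (B : Set G) ∪ {⁅A, B⁆} := by
  ext E
  constructor
  · rintro ⟨hE, hle⟩
    by_cases hsub : E ≤ ⁅A, B⁆
    · right
      obtain ⟨e, he, he1⟩ := exists_ne_one hS hE
      have hec := hsub he
      rcases trichotomy hS hc.1 hD with h1 | h1 | h1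
      · exfalso
        obtain ⟨a, ha, ha1⟩ := exists_ne_one hS hA
        obtain ⟨b, hb, hbe⟩ := rcomm_surj_right hc ha ha1 hec
        refine he1 (eq_of_mul_mem hS hA hD hr (z := e) (fun x hx => comm_left hc hec hx)
          (h1 e hec) ha ha1 (hS.conj_mem A hA b⁻¹) ?_).2
        rw [comm_left hc hec ha, ← hbe, ← conj_eq_mul_rcomm, mem_conjBy]
        simpa [mul_assoc] using ha
      · exact eq_of_mem hS hc.1 hD h1 hE hec he he1
      · rcases trichotomy hS hE hD with h2 | h2 | h2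
        · exact absurd (commCase_centralizes hS h1 hec (h2 e he)) he1
        · exact (eq_of_mem hS hE hD h2 hc.1 he hec he1).symm
        · refine le_antisymm hsub fun c hcm => ?_
          obtain ⟨d, hd, hd1⟩ := exists_ne_one hS hD
          have h1' := commCase_symm h1
          have h2' := commCase_symm h2
          have hFE : ⁅D, ⁅A, B⁆⁆ ≤ ⁅D, E⁆ := by
            rw [Subgroup.commutator_comm D ⁅A, B⁆, ← h1.2.2.1 e hec he1,
              Subgroup.commutator_comm D E, Subgroup.closure_le]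
            rintro _ ⟨y, hy, rfl⟩
            exact Subgroup.commutator_mem_commutator he hy
          obtain ⟨e', he', hee⟩ := rcomm_surj_right h2' hd hd1 (hFE (rcomm_mem hd hcm))
          have h5 : rcomm d (e'⁻¹ * c) = 1 := by
            rw [rcomm_mul_right h1' hd (inv_mem (hsub he')) hcm,
              rcomm_inv_right h1' hd (hsub he'), hee, inv_mul_cancel]
          have := rcomm_injective hS hD hA (RankOnePair_symm hr) h1' hd
            (mul_mem (inv_mem (hsub he')) hcm) hd1 h5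
          rw [inv_mul_eq_one] at this
          exact this ▸ he'
    · left
      obtain ⟨e, he, hec⟩ := SetLike.not_le_iff_exists.mp hsub
      rcases line_cover hS hA hc (hle he) with h | ⟨b, hb, h⟩
      · exact absurd h hec
      · exact ⟨b, hb, (eq_of_mem hS (hS.conj_mem A hA b) (hS.conj_mem D hD b)
          (rankOnePair_conj hr b) hE h he fun h0 => hec (h0 ▸ one_mem _)).symm⟩
  · rintro (⟨b, hb, rfl⟩ | rfl)
    · exact ⟨hS.conj_mem A hA b, conjBy_le_line hS hA hc hb⟩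
    · exact ⟨hc.1, le_sup_right⟩

lemma line_partner (hB : B ∈ S) {D : Subgroup G} (hD : D ∈ S) (hr : IsRankOnePair A D) :
    A ∈ linePartners S ⁅A, B⁆ := by
  refine ⟨⟨hA, left_ne_comm hS hA hc, commutator_eq_bot_iff_comm.mpr fun x hx y hy =>
    comm_left hc hx hy⟩, ?_⟩
  rw [sup_comm ⁅A, B⁆ A, membersIn_line hS hA hc hB hD hr]
  exact line_partition hS hA hc fun a ha b hb ha1 h => rcomm_injective hS hA hD hr hc ha hb ha1 h

end Line

/-- Two rank one partner tests along a line. -/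
lemma rankOne_on_line (hS : IsRootSubgroupSet S) (hA : A ∈ S) {C D M : Subgroup G} (hC : C ∈ S)
    (hD : D ∈ S) (hr : IsRankOnePair A D) (hcomm : ∀ x ∈ A, ∀ y ∈ C, x * y = y * x) (hM : M ∈ S)
    {a c : G} (ha : a ∈ A) (ha1 : a ≠ 1) (hc : c ∈ C) (hc1 : c ≠ 1) (hmem : a * c ∈ M)
    (hne : a * c ≠ 1) :
    IsRankOnePair C D ∨ IsRankOnePair M D := by
  rcases trichotomy hS hC hD with h1 | h1 | h1
  · exfalso
    exact hc1 (eq_of_mul_mem hS hA hD hr (fun x hx => (hcomm x hx c hc).symm) (h1 c hc) ha ha1 hM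
      ((hcomm a ha c hc) ▸ hmem)).2
  · exact Or.inl h1
  rcases trichotomy hS hM hD with h2 | h2 | h2
  · exfalso
    obtain ⟨d, hd, hd1⟩ := exists_ne_one hS hD
    refine commutator_not_fix_right hr (inv_mem ha) (inv_ne_one.mpr ha1) hd hd1
      (conjBy_eq_of_commute ?_)
    have e1 : a * c * d * (a * c)⁻¹ = d := by rw [h2 _ hmem d hd, mul_inv_cancel_right]
    have e2 : c * d * c⁻¹ = a⁻¹ * d * a := by
      calc c * d * c⁻¹ = a⁻¹ * (a * c * d * (a * c)⁻¹) * a := by group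
        _ = _ := by rw [e1]
    have e : a⁻¹ * d * a⁻¹⁻¹ * d⁻¹ = c * d * c⁻¹ * d⁻¹ := by rw [e2, inv_inv]
    exact fun x hx => by rw [e]; exact comm_right h1 (Subgroup.commutator_mem_commutator hc hd) hx
  · exact Or.inr h2
  · exfalso
    obtain ⟨d, hd, hd1⟩ := exists_ne_one hS hD
    obtain ⟨d₀, hd₀, -, he⟩ := hr.cond_left a ha ha1
    set f := c * d * c⁻¹ * d⁻¹ with hf
    have hg : ∀ x ∈ D, a * (f * d) * a⁻¹ * x = x * (a * (f * d) * a⁻¹) := by
      intro x hx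
      have e : a * (f * d) * a⁻¹ = (a * c * d * (a * c)⁻¹ * d⁻¹) * d := by rw [hf]; group
      have h' := comm_right h2 (Subgroup.commutator_mem_commutator hmem hd) hx
      rw [commutatorElement_def] at h'
      rw [e, mul_assoc, commute_self hS hD hd hx, ← mul_assoc, h', mul_assoc]
    refine ha1 ?_
    -- `c d c⁻¹` centralises `A`, so `d` does
    have hcd : ∀ y ∈ A, (c * d * c⁻¹) * y = y * (c * d * c⁻¹) := by
      intro y hy
      have h3 : d₀⁻¹ * y * d₀ ∈ conjBy D a⁻¹ := by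
        rw [← he, mem_conjBy]; simpa [mul_assoc] using hy
      rw [mem_conjBy, inv_inv] at h3
      have h4 : Commute (a * (f * d) * a⁻¹) (a * (d₀⁻¹ * y * d₀) * a⁻¹) := hg _ h3
      rw [Commute.conj_iff] at h4
      have h5 : Commute (f * d) d₀ := Commute.mul_left
        (comm_right h1 (Subgroup.commutator_mem_commutator hc hd) hd₀) (commute_self hS hD hd hd₀)
      have h6 : Commute (f * d) y := by
        have := (h5.mul_right h4).mul_right h5.inv_right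
        simpa [mul_assoc] using this
      rw [show c * d * c⁻¹ = f * d by rw [hf]; group]
      exact h6
    have h7 : Commute d a := by
      have h8 : Commute (c * d * c⁻¹) (c * a * c⁻¹) := by
        rw [show c * a * c⁻¹ = a by rw [← hcomm a ha c hc, mul_inv_cancel_right]]
        exact hcd a ha
      exact (Commute.conj_iff c).mp h8
    exact eq_one_of_commute hr ha hd hd1 h7.eq.symm

end CfsgLib.RootSubgroups
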