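import Cfsg.Agent.RootSubgroups.LineStructure
import Cfsg.Agent.RootSubgroups.RootSpecial
import Cfsg.Agent.RootSubgroups.RootGraph
import Cfsg.Agent.S5036

/-! Consequences of the line structure for a non-degenerate class: connectivity of the line graph,
generation by line partners and one partner, weak TI subsets, and maximality of centralisers. -/

set_option autoImplicit false

namespace CfsgLib.RootSubgroups

open Cfsg

variable {G : Type*} [Group G] {S : Set (Subgroup G)} {A B C : Subgroup G}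

lemma linePartners_symm (hA : A ∈ S) (h : B ∈ linePartners S A) : A ∈ linePartners S B := by
  obtain ⟨⟨-, hne, hcb⟩, hpart⟩ := h
  refine ⟨⟨hA, hne.symm, ?_⟩, ?_⟩
  · rw [Subgroup.commutator_comm]; exact hcb
  · rw [sup_comm]; exact hpart

variable (hS : IsRootSubgroupClass S) (hnd : IsNondegenerateRootSet S)
include hS hnd

/-- A commutator case can be reversed along its line. -/
theorem exists_swap (hA : A ∈ S) (hB : B ∈ S) (hc : RootCommutatorCase S A B) :
    ∃ F ∈ S, (∀ a ∈ A, ∀ f ∈ F, a * f = f * a) ∧ ⁅F, ⁅A, B⁆⁆ = A ∧ IsRankOnePair B F ∧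
      F ∈ linePartners S A := by
  set K := ⁅A, B⁆ with hK
  obtain ⟨E, hE, hrE⟩ := exists_partner_of_class hS hnd hA
  obtain ⟨D₀, hD₀, hr₀⟩ := exists_partner_of_class hS hnd hc.1
  have hlp : A ∈ linePartners S K := line_partner hS.1 hA hc hB hE hrE
  obtain ⟨C₀, hC₀, h1, h2, h3, h4⟩ := line_structure hS.1 hc.1 hlp hD₀ hr₀
  have hmem : C₀ ∈ membersIn S (A ⊔ K) := ⟨hC₀, by rw [sup_comm, ← h4]; exact le_sup_right⟩
  rw [membersIn_line hS.1 hA hc hB hE hrE] at hmem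
  have hne : C₀ ≠ K := fun e => left_ne_comm hS.1 hc.1 h2 (by rw [h3, e])
  obtain ⟨b, hb, rfl⟩ := hmem.resolve_right hne
  have hKb : conjBy K b⁻¹ = K := conjBy_eq_of_commute fun x hx => (comm_right hc hx (inv_mem hb)).symm
  set D := conjBy D₀ b⁻¹ with hD
  have hDS : D ∈ S := hS.1.conj_mem _ hD₀ _
  have hr : IsRankOnePair K D := by
    have := rankOnePair_conj hr₀ b⁻¹
    rwa [hKb] at this
  have hAD : RootCommutatorCase S A D := by
    refine commCase_of_mem hS.1 hA hDS ?_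
    rw [hD, ← conjBy_inv_conjBy A b, ← conjBy_commutator]
    exact hS.1.conj_mem _ h1.1 _
  obtain ⟨⟨-, hne', hcb⟩, -, hcover, hdisj⟩ := hlp
  obtain ⟨hKF, hF⟩ := commutator_line_eq hS.1 hc.1 hA hDS hr hAD
    (fun x hx a ha => commutator_eq_bot_iff_comm.mp hcb x hx a ha)
    (fun x hx hx1 a ha _ => by
      have h0 : x * a ≠ 1 := fun h0 => by
        have : x ∈ K ⊓ A := ⟨hx, by rw [mul_eq_one_iff_eq_inv.mp h0]; exact A.inv_mem ha⟩
        rw [hdisj K ⟨hc.1, le_sup_left⟩ A ⟨hA, le_sup_right⟩ hne'.symm, Subgroup.mem_bot] at this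
        exact hx1 this
      obtain ⟨M, hM, hm⟩ := hcover (x * a) (mul_mem ((le_sup_left : K ≤ K ⊔ A) hx)
        ((le_sup_right : A ≤ K ⊔ A) ha)) h0
      exact ⟨M, hM.1, hm⟩)
  refine ⟨⁅A, D⁆, hAD.1, fun a ha f hf => (comm_left hAD hf ha).symm, by rw [Subgroup.commutator_comm]; exact hF, ?_, ?_⟩
  · exact (Cfsg.Agent.S5036.result hS.1 hA hB hc.1 hAD.1 (by rw [Subgroup.commutator_comm]; exact hF)).1
  · exact linePartners_symm hAD.1 (line_partner hS.1 hA hAD hDS hE hrE)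

theorem hconn : IsConnectedFamily (FAdj S) S := by
  obtain ⟨-, ⟨P, hP, Q, hQ, hr⟩, -⟩ := hnd
  exact connected_of_class hS.1 hS.2 ⟨P, hP, Q, hQ, hr⟩

theorem line_connected : IsConnectedFamily (EAdj S S) S := by
  intro P hP Q hQ
  have h := hconn hS hnd P hP Q hQ
  clear hQ
  induction h with
  | refl => exact Relation.ReflTransGen.refl
  | @tail R T _ hRT ih =>
    obtain ⟨C, hC, hTC⟩ := exists_line_commutator hS hnd hRT.1 hRT.2.1 hRT.2.2
    obtain ⟨D, hD, hrD⟩ := exists_partner_of_class hS hnd hRT.2.1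
    obtain ⟨D', hD', hrD'⟩ := exists_partner_of_class hS hnd hC.1.1
    have hCT := commCase_symm hTC
    have e1 : C ∈ linePartners S ⁅C, T⁆ := line_partner hS.1 hC.1.1 hCT hRT.2.1 hD' hrD'
    have e2 : T ∈ linePartners S ⁅T, C⁆ := line_partner hS.1 hRT.2.1 hTC hC.1.1 hD hrD
    rw [Subgroup.commutator_comm] at e2
    exact ((ih.tail ⟨hRT.1, hC.1.1, hC⟩).tail ⟨hC.1.1, hCT.1, linePartners_symm hCT.1 e1⟩).tail
      ⟨hCT.1, hRT.2.1, e2⟩

theorem commuting_connected : IsConnectedFamily (DAdj S) S := fun P hP Q hQ =>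
  (line_connected hS hnd P hP Q hQ).lift id fun _ _ h => ⟨h.1, h.2.1, h.2.2.1.2.1.symm, h.2.2.1.2.2⟩

/-- Line partners of `A` and one partner generate. -/
theorem generate_line_partner (hA : A ∈ S) (hB : B ∈ rankOnePartners S A) :
    (⨆ C ∈ linePartners S A, C) ⊔ B = ⊤ := by
  set H := (⨆ C ∈ linePartners S A, C) ⊔ B with hH
  have hLH : ∀ C ∈ linePartners S A, C ≤ H := fun C hC =>
    le_sup_of_le_left (le_biSup (fun C : Subgroup G => C) hC)
  -- the facts for one line through `A`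
  have hline : ∀ C' ∈ linePartners S A, ∃ C ∈ S, ⁅C, B⁆ ∈ S ∧ RootCommutatorCase S A ⁅C, B⁆ ∧ ⁅A, ⁅C, B⁆⁆ = C ∧
      ⁅C, B⁆ ≤ H ∧ C ≤ H ∧ A ≤ H ∧ (∀ f ∈ ⁅C, B⁆, conjBy C f = C) ∧
      membersIn S (A ⊔ C') = (fun b : G => conjBy A b) '' ((⁅C, B⁆ : Subgroup G) : Set G) ∪ {C} := by
    intro C' hC'
    obtain ⟨C, hC, h1, h2, h3, h4⟩ := line_structure hS.1 hA hC' hB.1 hB.2
    have hmem : membersIn S (A ⊔ C') = (fun b : G => conjBy A b) '' ((⁅C, B⁆ : Subgroup G) : Set G) ∪ {C} := by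
      rw [← h4]
      have h := membersIn_line hS.1 hA h2 h1.1 hB.1 hB.2
      rwa [h3] at h
    -- all members different from `A` are line partners of `A`
    have hlp : ∀ f ∈ ⁅C, B⁆, conjBy A f ≠ A → conjBy A f ≤ H := by
      intro f hf hne
      refine hLH _ ?_
      have hcn : conjBy A f ∈ membersIn S (A ⊔ C') := by rw [hmem]; exact Or.inl ⟨f, hf, rfl⟩
      have hcomm : ⁅A, conjBy A f⁆ = ⊥ := by
        refine commutator_eq_bot_iff_comm.mpr fun a ha y hy => ?_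
        have hy' := conjBy_le_line hS.1 hA h2 hf hy
        have hle : A ⊔ ⁅A, ⁅C, B⁆⁆ ≤ Subgroup.centralizer (A : Set G) := sup_le
          (fun x hx => Subgroup.mem_centralizer_iff.2 fun z hz => commute_self hS.1 hA hz hx)
          (fun x hx => Subgroup.mem_centralizer_iff.2 fun z hz => (comm_left h2 hx hz).symm)
        exact Subgroup.mem_centralizer_iff.1 (hle hy') a ha
      refine ⟨⟨hS.1.conj_mem A hA f, hne, hcomm⟩, ?_⟩
      have hsup : A ⊔ conjBy A f = A ⊔ C := by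
        refine le_antisymm (sup_le le_sup_left ?_) (sup_le le_sup_left ?_)
        · have := conjBy_le_line hS.1 hA h2 hf
          rwa [h3] at this
        · intro c hc
          obtain ⟨a₀, ha₀, hac⟩ : ∃ a ∈ A, rcomm a f⁻¹ = c :=
            rcomm_surj_left h2 (inv_mem hf) (fun e => hne (by rw [inv_eq_one.mp e, conjBy_one])) (h3.symm ▸ hc)
          rw [← hac, rcomm, mul_assoc, mul_assoc]
          refine mul_mem ((le_sup_left : A ≤ _) (inv_mem ha₀)) ((le_sup_right : conjBy A f ≤ _) ?_)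
          rw [mem_conjBy]; simpa [mul_assoc] using ha₀
      rw [hsup, h4]
      exact hC'.2
    have hCH : C ≤ H := by
      refine hLH C ⟨⟨hC, fun e => left_ne_comm hS.1 hA h2 (by rw [h3, e]), commutator_eq_bot_iff_comm.mpr
        fun a ha c hc => (comm_left h2 (h3.symm ▸ hc) ha).symm⟩, ?_⟩
      rw [h4]; exact hC'.2
    have hFH : ⁅C, B⁆ ≤ H := (Subgroup.commutator_le_sup C B).trans (sup_le hCH le_sup_right)
    have hAH : A ≤ H := by
      obtain ⟨f, hf, hf1⟩ := exists_ne_one hS.1 h1.1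
      have hne : conjBy A f ≠ A := by
        intro e
        obtain ⟨a, ha, ha1⟩ := exists_ne_one hS.1 hA
        have h5 : f⁻¹ * a * f ∈ A := by rw [← mem_conjBy, e]; exact ha
        have h6 : rcomm a f = a⁻¹ * (f⁻¹ * a * f) := by rw [conj_eq_mul_rcomm, inv_mul_cancel_left]
        exact hf1 (rcomm_injective hS.1 hA hB.1 hB.2 h2 ha hf ha1
          (comm_inf_eq_one hS.1 h2 (h6 ▸ mul_mem (inv_mem ha) h5) (rcomm_mem ha hf)))
      intro a ha
      have h5 := hlp f hf hne (conj_mem_conjBy ha f)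
      have h7 := mul_mem (mul_mem (inv_mem (hFH hf)) h5) (hFH hf)
      simpa [mul_assoc] using h7
    exact ⟨C, hC, h1.1, h2, h3, hFH, hCH, hAH, fun f hf => conjBy_eq_of_commute fun c hc => comm_left h1 hf hc, hmem⟩
  -- every line partner is an `H`-conjugate of `A`
  have horb : ∀ C' ∈ linePartners S A, ∃ h ∈ H, conjBy A h = C' := by
    intro C' hC'
    obtain ⟨C, hC, hFS, h2, h3, hFH, -, -, hfix, hmem⟩ := hline C' hC'
    have hC'm : C' ∈ membersIn S (A ⊔ C') := ⟨hC'.1.1, le_sup_right⟩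
    rw [hmem] at hC'm
    rcases hC'm with ⟨f, hf, e⟩ | e
    · exact ⟨f, hFH hf, e⟩
    · rw [Set.mem_singleton_iff] at e
      rw [e]
      obtain ⟨F, hF, hcm, hFC, -, hlpF⟩ := exists_swap hS hnd hA hFS h2
      rw [h3] at hFC
      have hcF : RootCommutatorCase S C F := commCase_of_mem hS.1 hC hF (by rw [Subgroup.commutator_comm, hFC]; exact hA)
      have hFC' : ⁅C, F⁆ = A := by rw [Subgroup.commutator_comm]; exact hFC
      obtain ⟨Q, hQ, hrQ⟩ := exists_partner_of_class hS hnd hC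
      obtain ⟨u, hu, hu1⟩ := exists_ne_one hS.1 hF
      obtain ⟨c, hc, hc1⟩ := exists_ne_one hS.1 hC
      have hne : conjBy C u ≠ C := by
        intro e'
        have h5 : u⁻¹ * c * u ∈ C := by rw [← mem_conjBy, e']; exact hc
        have h6 : rcomm c u = c⁻¹ * (u⁻¹ * c * u) := by rw [conj_eq_mul_rcomm, inv_mul_cancel_left]
        exact hu1 (rcomm_injective hS.1 hC hQ hrQ hcF hc hu hc1
          (comm_inf_eq_one hS.1 hcF (h6 ▸ mul_mem (inv_mem hc) h5) (rcomm_mem hc hu)))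
      have hmem' : conjBy C u ∈ membersIn S (A ⊔ C') := by
        refine ⟨hS.1.conj_mem C hC u, le_trans ?_ (le_of_eq (by rw [e, sup_comm]) : C ⊔ A ≤ A ⊔ C')⟩
        have := conjBy_le_line hS.1 hC hcF hu
        rwa [hFC'] at this
      rw [hmem] at hmem'
      obtain ⟨f, hf, ef⟩ := hmem'.resolve_right hne
      refine ⟨u⁻¹ * f, mul_mem (inv_mem (hLH F hlpF hu)) (hFH hf), ?_⟩
      rw [← conjBy_conjBy, show conjBy A f = conjBy C u from ef, conjBy_inv_conjBy]
  -- the orbit of `A` is everything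
  have hall : ∀ P ∈ S, ∃ h ∈ H, conjBy A h = P := by
    intro P hP
    have h := line_connected hS hnd A hA P hP
    clear hP
    induction h with
    | refl => exact ⟨1, one_mem H, conjBy_one A⟩
    | @tail P Q _ hPQ ih =>
      obtain ⟨h, hh, rfl⟩ := ih
      obtain ⟨⟨hQS, hne, hcb⟩, hcov, hcov2, hdis⟩ := hPQ.2.2
      have hsup : conjBy (A ⊔ conjBy Q h⁻¹) h = conjBy A h ⊔ Q := by rw [conjBy_sup, conjBy_conjBy_inv]
      have hQ' : conjBy Q h⁻¹ ∈ linePartners S A := by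
        refine ⟨⟨hS.1.conj_mem Q hQS h⁻¹, fun e => hne (by rw [← conjBy_conjBy_inv Q h, e]), ?_⟩, ?_, ?_, ?_⟩
        · rw [← conjBy_inv_conjBy A h, ← conjBy_commutator, hcb, conjBy_bot]
        · exact fun M hM => hM.2
        · intro x hx hx1
          obtain ⟨M, hM, hxM⟩ := hcov2 (h * x * h⁻¹) (hsup ▸ conj_mem_conjBy hx h) (by simpa using hx1)
          refine ⟨conjBy M h⁻¹, ⟨hS.1.conj_mem M hM.1 _, ?_⟩, ?_⟩
          · have := conjBy_mono hM.2 h⁻¹
            rwa [← hsup, conjBy_inv_conjBy] at this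
          · rw [mem_conjBy]; simpa [mul_assoc] using hxM
        · intro M hM N hN hMN
          have h5 := hdis (conjBy M h) ⟨hS.1.conj_mem M hM.1 h, hsup ▸ conjBy_mono hM.2 h⟩ (conjBy N h)
            ⟨hS.1.conj_mem N hN.1 h, hsup ▸ conjBy_mono hN.2 h⟩ fun e => hMN (conjBy_injective h e)
          rw [Subgroup.eq_bot_iff_forall]
          rintro x ⟨hx1, hx2⟩
          have : h * x * h⁻¹ ∈ conjBy M h ⊓ conjBy N h := ⟨conj_mem_conjBy hx1 h, conj_mem_conjBy hx2 h⟩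
          rw [h5, Subgroup.mem_bot] at this
          simpa using this
      obtain ⟨k, hk, e⟩ := horb _ hQ'
      exact ⟨h * k, mul_mem hh hk, by rw [← conjBy_conjBy, e, conjBy_conjBy_inv]⟩
  obtain ⟨C', hC', -⟩ := exists_line_commutator hS hnd hA hB.1 hB.2
  obtain ⟨-, -, -, -, -, -, -, hAH, -⟩ := hline C' hC'
  rw [eq_top_iff, ← hS.1.generates]
  refine iSup₂_le fun P hP => ?_
  obtain ⟨h, hh, rfl⟩ := hall P hP
  rintro _ ⟨a, ha, rfl⟩
  exact mul_mem (mul_mem hh (hAH ha)) (inv_mem hh)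

omit hnd in
/-- A monotone conjugation invariant is constant once comparable, given a common partner. -/
theorem invariant_eq {Φ : Subgroup G → Set (Subgroup G)}
    (hΦ : ∀ P g, Φ (conjBy P g) = (fun X => conjBy X g) '' Φ P)
    (hno : ∀ P ∈ S, ∀ Q ∈ S, IsRankOnePair P Q → ¬ Φ P ⊆ Φ Q)
    (hA : A ∈ S) (hC : C ∈ S) (hle : Φ A ⊆ Φ C) (hB : B ∈ S) (hrA : IsRankOnePair A B)
    (hrC : IsRankOnePair C B) (hcomm : ∀ a ∈ A, ∀ c ∈ C, a * c = c * a) : Φ A = Φ C := by
  by_contra hne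
  have hlt : Φ A ⊂ Φ C := lt_of_le_of_ne hle hne
  have hmap : ∀ {P Q : Subgroup G} (g : G), Φ P ⊂ Φ Q → Φ (conjBy P g) ⊂ Φ (conjBy Q g) := by
    intro P Q g h
    rw [hΦ, hΦ]
    exact ⟨Set.image_mono h.1, fun h' => h.2 ((Set.image_subset_image_iff (conjBy_injective g)).1 h')⟩
  obtain ⟨b, hb, hb1⟩ := exists_ne_one hS.1 hB
  obtain ⟨a, ha, ha1, hea⟩ := hrA.cond_right b hb hb1
  obtain ⟨c, hc, hc1, hec⟩ := hrC.cond_right b hb hb1
  -- first step
  have h1 : Φ B ⊂ Φ (conjBy B (a * c⁻¹)) := by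
    have h := hmap a (show Φ (conjBy B a⁻¹) ⊂ Φ (conjBy B c⁻¹) by rw [hea, hec]; exact hmap b⁻¹ hlt)
    rwa [conjBy_conjBy_inv, conjBy_conjBy] at h
  -- a second step cancelling `a`
  obtain ⟨b', hb', hb'1, hea'⟩ := hrA.cond_left a⁻¹ (inv_mem ha) (inv_ne_one.mpr ha1)
  obtain ⟨c', hc', hc'1, hec'⟩ := hrC.cond_right b' hb' hb'1
  rw [inv_inv] at hea'
  have h2 : Φ B ⊂ Φ (conjBy B (a⁻¹ * c'⁻¹)) := by
    have h := hmap a⁻¹ (show Φ (conjBy B a) ⊂ Φ (conjBy B c'⁻¹) by rw [← hea', hec']; exact hmap b'⁻¹ hlt)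
    rwa [conjBy_inv_conjBy, conjBy_conjBy] at h
  have h3 : Φ B ⊂ Φ (conjBy B (c⁻¹ * c'⁻¹)) := by
    have h := lt_trans h1 (hmap (a * c⁻¹) h2)
    rw [conjBy_conjBy] at h
    have e : a * c⁻¹ * (a⁻¹ * c'⁻¹) = c⁻¹ * c'⁻¹ := by
      rw [(show Commute a c⁻¹ from (show Commute a c from hcomm a ha c hc).inv_right).eq, mul_assoc,
        mul_inv_cancel_left]
    rwa [e] at h
  have hu : c⁻¹ * c'⁻¹ ∈ C := mul_mem (inv_mem hc) (inv_mem hc')
  have hne' : conjBy B (c⁻¹ * c'⁻¹) ≠ B := fun e => by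
    rw [e] at h3
    exact lt_irrefl _ h3
  obtain ⟨hr, -, -⟩ := pair_of_unip hrC (right_mem hrC)
    (unip_conj_mem (right_mem hrC) ((le_sup_left : C ≤ C ⊔ B) hu)) hne'.symm
  exact hno B hB _ (hS.1.conj_mem B hB _) hr h3.le

end CfsgLib.RootSubgroups
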