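import Cfsg.Agent.RootSubgroups.RootSet

/-!
# Speciality from a commuting member

If `A, B` is a rank one pair in a set of abstract root subgroups and a further member `C`
commutes with `A` and forms a rank one pair with `B`, then `A, B` is special.

`cj A x` is the right conjugate `x⁻¹ A x`, so that `cj (cj A x) y = cj A (x * y)`.
-/

set_option autoImplicit false

namespace CfsgLib.RootSubgroups.Deg

open Cfsg

variable {G : Type*} [Group G]

/-- Right conjugate. -/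
abbrev cj (A : Subgroup G) (x : G) : Subgroup G := conjBy A x⁻¹

/-- Elementwise commuting. -/
def Com (A B : Subgroup G) : Prop := ∀ a ∈ A, ∀ b ∈ B, Commute a b

lemma Com.symm {A B : Subgroup G} (h : Com A B) : Com B A := fun b hb a ha => (h a ha b hb).symm

lemma com_iff {A B : Subgroup G} : Com A B ↔ ⁅A, B⁆ = ⊥ := commutator_eq_bot_iff_comm.symm

lemma mem_cj {A : Subgroup G} {x y : G} : x ∈ cj A y ↔ y * x * y⁻¹ ∈ A := by
  rw [mem_conjBy, inv_inv]

lemma conj_mem_cj {A : Subgroup G} {a : G} (ha : a ∈ A) (y : G) : y⁻¹ * a * y ∈ cj A y := by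
  simpa [mem_cj, mul_assoc] using ha

lemma cj_one (A : Subgroup G) : cj A 1 = A := by rw [cj, inv_one, conjBy_one]

lemma cj_cj (A : Subgroup G) (x y : G) : cj (cj A x) y = cj A (x * y) := by
  rw [cj, cj, cj, conjBy_conjBy, mul_inv_rev]

lemma cj_inj {A B : Subgroup G} {x : G} (h : cj A x = cj B x) : A = B := conjBy_injective _ h

lemma cj_of_mem {A : Subgroup G} {x : G} (h : x ∈ A) : cj A x = A := conjBy_of_mem (inv_mem h)

lemma cj_of_commute {A : Subgroup G} {x : G} (h : ∀ a ∈ A, Commute x a) : cj A x = A :=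
  conjBy_eq_of_commute fun a ha => (h a ha).inv_left.eq

lemma cj_eq_iff {A B : Subgroup G} {x y : G} : cj A x = cj B y ↔ cj A (x * y⁻¹) = B := by
  constructor
  · intro h; rw [← cj_cj, h, cj_cj, mul_inv_cancel, cj_one]
  · intro h; rw [← h, cj_cj, inv_mul_cancel_right]

lemma Com.cj {A B : Subgroup G} (h : Com A B) (y : G) : Com (Deg.cj A y) (Deg.cj B y) := by
  intro a ha b hb
  have := h _ (mem_cj.mp ha) _ (mem_cj.mp hb)
  exact (Commute.conj_iff y).mp this

lemma pair_cj {A B : Subgroup G} (h : IsRankOnePair A B) (x : G) :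
    IsRankOnePair (Deg.cj A x) (Deg.cj B x) := rankOnePair_conj h _

lemma not_com {A B : Subgroup G} (h : IsRankOnePair A B) : ¬ Com A B :=
  fun hc => rankOnePair_not_commute h (com_iff.mp hc)

lemma exists_partner {A B : Subgroup G} (h : IsRankOnePair A B) {a : G} (ha : a ∈ A) (ha1 : a ≠ 1) :
    ∃ b ∈ B, b ≠ 1 ∧ cj A b = cj B a := h.cond_left a ha ha1

lemma eq_one_of_cj_eq {A B : Subgroup G} (h : IsRankOnePair A B) {a : G} (ha : a ∈ A)
    (he : cj B a = B) : a = 1 :=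
  inv_eq_one.mp (eq_one_of_fix h (inv_mem ha) he)

/-- A member commuting with two different conjugates `Q^c`, `Q^d` commutes with `Q` and `C`. -/
lemma com_of_two {C Q E : Subgroup G} (hr : IsRankOnePair C Q) {c d : G} (hc : c ∈ C)
    (hd : d ∈ C) (hne : c ≠ d) (h1 : Com E (cj Q c)) (h2 : Com E (cj Q d)) :
    Com E Q ∧ Com E C := by
  have hQ' : Com (cj E c⁻¹) Q := by
    have := h1.cj c⁻¹
    rwa [cj_cj, mul_inv_cancel, cj_one] at this
  have hd' : Com (cj E c⁻¹) (cj Q (d * c⁻¹)) := by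
    have := h2.cj c⁻¹
    rwa [cj_cj Q] at this
  obtain ⟨q, hq, -, he⟩ := exists_partner hr (mul_mem hd (inv_mem hc))
    (fun h => hne (mul_inv_eq_one.mp h).symm)
  have hC' : Com (cj E c⁻¹) C := by
    rw [← he] at hd'
    have h3 := hd'.cj q⁻¹
    rwa [cj_cj C, mul_inv_cancel, cj_one,
      cj_of_commute (fun x hx => (hQ' x hx q hq).symm.inv_left)] at h3
  have hE : E = cj E c⁻¹ := by
    conv_lhs => rw [← cj_one E, ← inv_mul_cancel c, ← cj_cj]
    exact cj_of_commute fun x hx => (hC' x hx c hc).symm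
  exact ⟨hE ▸ hQ', hE ▸ hC'⟩

section
variable {S : Set (Subgroup G)} {A B : Subgroup G}

/-- For `f` centralising `A` with `B`, `B^f` commuting, the elements `b^f b⁻¹` conjugate `A` to a
member commuting with `A`. -/
lemma line_com (hS : IsRootSubgroupSet S) (hA : A ∈ S) (hr : IsRankOnePair A B) {f : G}
    (hf : ∀ a ∈ A, Commute f a) (hBL : Com B (cj B f)) {b : G} (hb : b ∈ B) :
    Com A (cj A (f⁻¹ * b * f * b⁻¹)) := by
  by_cases hb1 : b = 1
  · subst hb1
    simp only [mul_one, inv_mul_cancel, inv_one, cj_one]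
    exact fun x hx y hy => commute_self hS hA hx hy
  obtain ⟨a, ha, -, he⟩ := exists_partner (RankOnePair_symm hr) hb hb1
  have e : cj A (f⁻¹ * b * f) = cj (cj B f) a := by
    rw [mul_assoc, ← cj_cj, cj_of_commute (fun x hx => (hf x hx).inv_left), ← cj_cj, ← he, cj_cj,
      cj_cj, (hf a ha).eq]
  have h1 : Com (cj A b) (cj A (f⁻¹ * b * f)) := by
    rw [e, ← he]; exact hBL.cj a
  have := h1.cj b⁻¹
  rwa [cj_cj, cj_cj, mul_inv_cancel, cj_one] at this

lemma line_ne (hr : IsRankOnePair A B) {f : G} (hf : ∀ a ∈ A, Commute f a) (hne : cj B f ≠ B)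
    {b : G} (hb : b ∈ B) (hb1 : b ≠ 1) : cj A (f⁻¹ * b * f * b⁻¹) ≠ A := by
  intro h
  obtain ⟨a, ha, -, he⟩ := exists_partner (RankOnePair_symm hr) hb hb1
  apply hne
  have h' : cj A (f⁻¹ * b * f) = cj A b := cj_eq_iff.mpr h
  rw [mul_assoc, ← cj_cj, cj_of_commute (fun x hx => (hf x hx).inv_left), ← cj_cj, ← he, cj_cj,
    ← (hf a ha).eq, ← cj_cj] at h'
  exact cj_inj h'

lemma line_commute (hS : IsRootSubgroupSet S) (hB : B ∈ S) {f : G} (hBL : Com B (cj B f))
    {b : G} (hb : b ∈ B) : ∀ x ∈ B, Commute (f⁻¹ * b * f * b⁻¹) x := fun x hx =>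
  ((hBL x hx _ (conj_mem_cj hb f)).symm).mul_left
    (Commute.inv_left (show Commute b x from commute_self hS hB hb hx))

/-- The configuration used twice below. -/
theorem exists_translation (hS : IsRootSubgroupSet S) (hA : A ∈ S) (hB : B ∈ S)
    (hr : IsRankOnePair A B) {C : Subgroup G} (hAC : Com A C) (hne : A ≠ C)
    (hCB : IsRankOnePair C B) {a b : G} (ha : a ∈ A) (hb : b ∈ B) (hb1 : b ≠ 1)
    (he : cj A b = cj B a) :
    ∃ k m : G, m = a * (k * a⁻¹ * k⁻¹) ∧ k = m⁻¹ * b * m * b⁻¹ ∧ (∀ x ∈ B, Commute k x) ∧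
      (∀ x ∈ A, Commute m x) ∧ Com A (cj A k) ∧ cj A k ≠ A ∧ Com B (cj B m) ∧ cj B m ≠ B := by
  obtain ⟨c, hc, -, hec⟩ := exists_partner (RankOnePair_symm hCB) hb hb1
  set f := a * c⁻¹ with hfdef
  have hfA : ∀ x ∈ A, Commute f x := fun x hx =>
    (show Commute a x from commute_self hS hA ha hx).mul_left (hAC x hx c⁻¹ (inv_mem hc)).symm
  have hBL : Com B (cj B f) := by
    have h1 : Com (cj B a) (cj B c) := by rw [← he, hec]; exact hAC.cj b
    have h2 := (h1.cj c⁻¹).symm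
    rwa [cj_cj, cj_cj, mul_inv_cancel, cj_one] at h2
  have hBne : cj B f ≠ B := fun h => hne (by
    have h' : cj B a = cj B c := cj_eq_iff.mpr h
    rw [← he, hec] at h'
    exact cj_inj h')
  set k := f⁻¹ * b * f * b⁻¹ with hkdef
  have hkA : Com A (cj A k) := line_com hS hA hr hfA hBL hb
  have hkne : cj A k ≠ A := line_ne hr hfA hBne hb hb1
  have hkB : ∀ x ∈ B, Commute k x := line_commute hS hB hBL hb
  have hkAinv : Com (cj A k⁻¹) A := by
    have := hkA.cj k⁻¹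
    rwa [cj_cj, mul_inv_cancel, cj_one] at this
  have hmem : k * a⁻¹ * k⁻¹ ∈ cj A k⁻¹ := by
    simpa using conj_mem_cj (inv_mem ha) k⁻¹
  set m := a * (k * a⁻¹ * k⁻¹) with hmdef
  have hmA : ∀ x ∈ A, Commute m x := fun x hx =>
    (show Commute a x from commute_self hS hA ha hx).mul_left (hkAinv _ hmem x hx)
  have hkb : k * b = f⁻¹ * b * f := by rw [hkdef, inv_mul_cancel_right]
  have h1 : cj B (a * k) = cj B (f * a) := by
    rw [← cj_cj, ← he, cj_cj, ← (hkB b hb).eq, hkb, mul_assoc, ← cj_cj,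
      cj_of_commute (fun x hx => (hfA x hx).inv_left), ← cj_cj, he, cj_cj, (hfA a ha).eq]
  have hm : cj B m = cj B f := by
    have e : m = a * k * a⁻¹ * k⁻¹ := by rw [hmdef]; group
    rw [e, ← cj_cj B (a * k * a⁻¹), ← cj_cj B (a * k) a⁻¹, h1, cj_cj B (f * a) a⁻¹, mul_inv_cancel_right]
    refine cj_of_commute fun x hx => ?_
    have hl : f⁻¹ * b * f ∈ cj B f := conj_mem_cj hb f
    exact ((show Commute (f⁻¹ * b * f) x from
      commute_self hS (hS.conj_mem B hB f⁻¹) hl hx).mul_left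
        (hBL b hb x hx).inv_left).inv_left
  have hBm : Com B (cj B m) := by rw [hm]; exact hBL
  have hkm : k = m⁻¹ * b * m * b⁻¹ := by
    have hl : f⁻¹ * b * f ∈ cj B f := conj_mem_cj hb f
    have hl' : m⁻¹ * b * m ∈ cj B f := by rw [← hm]; exact conj_mem_cj hb m
    by_contra hcon
    have h3 := hkA.cj b
    rw [cj_cj, hkb] at h3
    have h4 := (line_com hS hA hr hmA hBm hb).cj b
    rw [cj_cj, inv_mul_cancel_right] at h4
    have hrL : IsRankOnePair (cj B f) A := by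
      have := pair_cj hr f
      rw [cj_of_commute hfA] at this
      exact RankOnePair_symm this
    have hne' : f⁻¹ * b * f ≠ m⁻¹ * b * m := fun h => hcon (by rw [hkdef, h])
    have h5 := (com_of_two hrL hl hl' hne' h3 h4).1
    refine not_com (pair_cj hr a) ?_
    rw [← he, cj_of_mem ha]
    exact h5.symm
  exact ⟨k, m, hmdef, hkm, hkB, hmA, hkA, hkne, hBm, hm ▸ hBne⟩

/-- The main criterion. -/
theorem special_of_com (hS : IsRootSubgroupSet S) (hA : A ∈ S) (hB : B ∈ S)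
    (hr : IsRankOnePair A B) {C : Subgroup G} (hAC : Com A C) (hne : A ≠ C)
    (hCB : IsRankOnePair C B) : IsSpecialRankOnePair A B := by
  refine ⟨hr, fun a ha ha1 b hb hb1 he => ?_⟩
  replace he : cj A b = cj B a := he
  obtain ⟨k, m, hm, hk, hkB, hmA, hkA, -, hBm, hBne⟩ :=
    exists_translation hS hA hB hr hAC hne hCB ha hb hb1 he
  obtain ⟨b2, hb2, -, he2⟩ := exists_partner hr (inv_mem ha) (inv_ne_one.mpr ha1)
  set l := m⁻¹ * b * m with hldef
  have hlL : l ∈ cj B m := conj_mem_cj hb m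
  have hkAinv : Com (cj A k⁻¹) A := by
    have := hkA.cj k⁻¹
    rwa [cj_cj, mul_inv_cancel, cj_one] at this
  -- `A^k` and `A^{k⁻¹}` commute
  have hkk : Com (cj A k⁻¹) (cj A k) := by
    have h2 := line_com hS hA hr hmA hBm (mul_mem hb hb)
    have e : m⁻¹ * (b * b) * m * (b * b)⁻¹ = k * k := by
      have hcomm : Commute l b⁻¹ := (hBm _ (inv_mem hb) l hlL).symm
      calc m⁻¹ * (b * b) * m * (b * b)⁻¹ = l * (l * b⁻¹) * b⁻¹ := by rw [hldef]; group
        _ = l * (b⁻¹ * l) * b⁻¹ := by rw [hcomm.eq]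
        _ = (l * b⁻¹) * (l * b⁻¹) := by group
        _ = k * k := by rw [hk, hldef]
    rw [e] at h2
    have h3 := h2.cj k⁻¹
    rwa [cj_cj A (k * k), mul_inv_cancel_right] at h3
  have hmem : k * a⁻¹ * k⁻¹ ∈ cj A k⁻¹ := by simpa using conj_mem_cj (inv_mem ha) k⁻¹
  have hmk : ∀ x ∈ cj A k, Commute m x := fun x hx => by
    rw [hm]
    exact (hkA a ha x hx).mul_left (hkk _ hmem x hx)
  have haq : Commute a (k * a⁻¹ * k⁻¹) := (hkAinv _ hmem a ha).symm
  -- `B^{m⁻¹}` commutes with `B^m`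
  have hLL : Com (cj B m⁻¹) (cj B m) := by
    have hdual := line_com hS hB (RankOnePair_symm hr) (f := k⁻¹)
      (fun x hx => (hkB x hx).inv_left) hkAinv.symm (mul_mem ha ha)
    have e : k⁻¹⁻¹ * (a * a) * k⁻¹ * (a * a)⁻¹ = (m * m)⁻¹ := by
      have e1 : m * m = (a * a) * ((k * a⁻¹ * k⁻¹) * (k * a⁻¹ * k⁻¹)) := by
        rw [hm]
        calc a * (k * a⁻¹ * k⁻¹) * (a * (k * a⁻¹ * k⁻¹))
            = a * ((k * a⁻¹ * k⁻¹) * a) * (k * a⁻¹ * k⁻¹) := by group
          _ = a * (a * (k * a⁻¹ * k⁻¹)) * (k * a⁻¹ * k⁻¹) := by rw [haq.eq]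
          _ = _ := by group
      rw [e1]; simp [mul_assoc]
    rw [e] at hdual
    have h3 := hdual.cj m
    rw [cj_cj] at h3
    have e2 : (m * m)⁻¹ * m = m⁻¹ := by group
    rw [e2] at h3
    exact h3.symm
  have hBm' : Com (cj B m⁻¹) B := by
    have := hBm.cj m⁻¹
    rwa [cj_cj, mul_inv_cancel, cj_one] at this
  have hkL' : cj (cj B m⁻¹) k = cj B m⁻¹ := cj_of_commute fun x hx => by
    rw [hk]
    exact (hLL x hx l hlL).symm.mul_left (hBm' x hx _ (inv_mem hb)).symm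
  -- the image of `B` under `a⁻¹ k`
  have hminv : m⁻¹ = a⁻¹ * (k * a * k⁻¹) := by
    rw [hm, mul_inv_rev]
    calc (k * a⁻¹ * k⁻¹)⁻¹ * a⁻¹ = a⁻¹ * (k * a⁻¹ * k⁻¹)⁻¹ := (haq.inv_inv).eq.symm
      _ = _ := by group
  have h1 : cj B (a⁻¹ * k) = cj B (a⁻¹ * m⁻¹) := by
    have e : m⁻¹ * k = a⁻¹ * k * a := by rw [hminv]; group
    have : cj B (a⁻¹ * k * a) = cj B m⁻¹ := by rw [← e, ← cj_cj, hkL']
    rw [((hmA a ha).inv_inv).symm.eq]
    refine cj_eq_iff.mpr ?_
    have e3 : a⁻¹ * k * (m⁻¹ * a⁻¹)⁻¹ = a⁻¹ * k * a * m := by group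
    rw [e3, ← cj_cj, this, cj_cj, inv_mul_cancel, cj_one]
  have hmA' : cj A m = A := cj_of_commute hmA
  have h2 : cj A (b2 * k) = cj A (m * b2 * m⁻¹) := by
    have : cj A (b2 * k) = cj A (b2 * m⁻¹) := by
      rw [← cj_cj, he2, cj_cj, h1, ← cj_cj, ← he2, cj_cj]
    rw [this, mul_assoc m b2, ← cj_cj A m, hmA']
  have h3 : cj A (m * k * m⁻¹) = cj A k := by
    rw [mul_assoc, ← cj_cj, hmA', ← cj_cj]
    exact cj_of_commute fun x hx => (hmk x hx).inv_left
  set P0 := m * b * m⁻¹ with hP0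
  have hP0L : P0 ∈ cj B m⁻¹ := by rw [mem_cj, hP0]; simpa [mul_assoc] using hb
  have e1 : m * k * m⁻¹ = P0⁻¹ * b := by
    have hc1 : Commute b P0⁻¹ := (hBm' _ (inv_mem hP0L) b hb).symm
    calc m * k * m⁻¹ = b * P0⁻¹ := by rw [hk, hP0, hldef]; group
      _ = _ := hc1.eq
  set e := b * b2 with hedef
  have heB : e ∈ B := mul_mem hb hb2
  have h4 : cj A (P0⁻¹ * e) = cj A (m * b2 * m⁻¹) := by
    rw [hedef, ← mul_assoc, ← e1, ← cj_cj, h3, cj_cj, (hkB b2 hb2).eq, h2]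
  have hbb : b * b2 = b2 * b := commute_self hS hB hb hb2
  have h5 : cj A e = cj A (m * e * m⁻¹) := by
    have hc1 : Commute P0⁻¹ e := hBm' _ (inv_mem hP0L) e heB
    have e2 : m * e * m⁻¹ = m * b2 * m⁻¹ * P0 := by rw [hedef, hbb, hP0]; group
    rw [e2, ← cj_cj A (m * b2 * m⁻¹), ← h4, cj_cj, hc1.eq, inv_mul_cancel_right]
  have he1 : e = 1 := by
    by_contra hne1
    obtain ⟨x, hx, -, hex⟩ := exists_partner (RankOnePair_symm hr) heB hne1
    rw [mul_assoc, ← cj_cj A m, hmA', ← cj_cj A e, ← hex, cj_cj,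
      ((hmA x hx).inv_left).symm.eq] at h5
    have h6 : cj B m⁻¹ = B := by
      have := h5.symm
      rw [← cj_cj] at this
      exact cj_inj this
    apply hBne
    conv_lhs => rw [← h6]
    rw [cj_cj, inv_mul_cancel, cj_one]
  have hb2eq : b2 = b⁻¹ := eq_inv_of_mul_eq_one_right he1
  rw [hb2eq] at he2
  -- both elements lie in `A^b` and conjugate `A` to `B`
  have hu1 : cj A (b⁻¹ * a * b) = B := by
    rw [mul_assoc, ← cj_cj, he2, cj_cj, inv_mul_cancel_left, cj_of_mem hb]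
  have hu2 : cj A (a⁻¹ * b⁻¹ * a) = B := by
    rw [← cj_cj, ← cj_cj, cj_of_mem (inv_mem ha), he2, cj_cj, inv_mul_cancel, cj_one]
  have hm1 : b⁻¹ * a * b ∈ cj A b := conj_mem_cj ha b
  have hm2 : a⁻¹ * b⁻¹ * a ∈ cj A b := by rw [he]; exact conj_mem_cj (inv_mem hb) a
  have hpair : IsRankOnePair (cj A b) A := by
    have := pair_cj (RankOnePair_symm hr) a
    rwa [cj_of_mem ha, ← he] at this
  exact mul_inv_eq_one.mp (eq_one_of_cj_eq hpair (mul_mem hm1 (inv_mem hm2))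
    ((cj_eq_iff.mp (hu1.trans hu2.symm))))

end

end CfsgLib.RootSubgroups.Deg
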