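import Cfsg.Agent.RootSubgroups.RootLines
import Cfsg.Agent.RootSubgroups.RootChain

/-! The structure of a line `AB` seen from a rank one partner of `A`: exactly one member `C` of the
line is not a partner, and `F = ⁅C, D⁆` moves all the others transitively, fixing `C`. -/

set_option autoImplicit false

namespace CfsgLib.RootSubgroups

open Cfsg

variable {G : Type*} [Group G] {S : Set (Subgroup G)} {A B C D : Subgroup G}

/-- If `C` commutes with `A`, is in the commutator case with a partner `D` of `A`, and products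
`ac` lie in members, then `⁅A, ⁅C, D⁆⁆ = C`. -/
theorem commutator_line_eq (hS : IsRootSubgroupSet S) (hA : A ∈ S) (hC : C ∈ S) (hD : D ∈ S)
    (hr : IsRankOnePair A D) (hCD : RootCommutatorCase S C D)
    (hcomm : ∀ a ∈ A, ∀ c ∈ C, a * c = c * a)
    (hcover : ∀ a ∈ A, a ≠ 1 → ∀ c ∈ C, c ≠ 1 → ∃ M ∈ S, a * c ∈ M) :
    RootCommutatorCase S A ⁅C, D⁆ ∧ ⁅A, ⁅C, D⁆⁆ = C := by
  set F := ⁅C, D⁆ with hFdef
  have hF : F ∈ S := hCD.1
  obtain ⟨d0, hd0, hd01⟩ := exists_ne_one hS hD
  -- `A` does not commute with `F`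
  have hnc : ⁅A, F⁆ ≠ ⊥ := by
    intro hbot
    rw [commutator_eq_bot_iff_comm] at hbot
    have hne : A ≠ conjBy A d0 := fun e => hd01 (eq_one_of_fix (RankOnePair_symm hr) hd0 e.symm)
    obtain ⟨-, hsup, -⟩ := pair_of_unip hr (unip_left_mem A D)
      (unip_conj_mem (unip_left_mem A D) ((le_sup_right : D ≤ A ⊔ D) hd0)) hne
    refine hS.ne_bot F hF (commutator_eq_bot_iff_comm.mpr fun c hc d hd => ?_)
    have h1 : ∀ x ∈ conjBy A d0, x * c = c * x := by
      intro x hx
      rw [mem_conjBy] at hx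
      have h2 : Commute (d0⁻¹ * x * d0) (c * rcomm c d0) :=
        (show Commute (d0⁻¹ * x * d0) c from hcomm _ hx c hc).mul_right (hbot _ hx _ (rcomm_mem hc hd0))
      rw [← conj_eq_mul_rcomm] at h2
      have h3 := (Commute.conj_iff d0).mpr h2
      simpa [mul_assoc] using h3.eq
    have hle : A ⊔ conjBy A d0 ≤ Subgroup.centralizer {c} := sup_le
      (fun x hx => Subgroup.mem_centralizer_iff.2 fun y hy => by
        rw [Set.mem_singleton_iff.1 hy]; exact (hcomm x hx c hc).symm)
      (fun x hx => Subgroup.mem_centralizer_iff.2 fun y hy => by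
        rw [Set.mem_singleton_iff.1 hy]; exact (h1 x hx).symm)
    rw [hsup] at hle
    exact Subgroup.mem_centralizer_iff.1 (hle ((le_sup_right : D ≤ A ⊔ D) hd)) c rfl
  -- hence the commutator case
  have hAF : RootCommutatorCase S A F := by
    refine commCase_of_mem hS hA hF ?_
    have heq := (chain_half hS hA hC hCD hcomm hd0 hd01).1
    rw [hFdef, ← heq]
    rcases trichotomy hS hA (hS.conj_mem C hC d0⁻¹) with h | h | h
    · refine absurd ?_ hnc
      rw [hFdef, ← heq]
      exact commutator_eq_bot_iff_comm.mpr h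
    · exact absurd h (chain_not_rankOne hS hA hC hCD hcomm hd0 hd01)
    · exact h.1
  set G' := ⁅A, F⁆ with hG'def
  have hFD : ∀ f ∈ F, ∀ y ∈ D, f * y = y * f := fun f hf y hy => comm_right hCD hf hy
  have hCF : ∀ c ∈ C, ∀ f ∈ F, c * f = f * c := fun c hc f hf => (comm_left hCD hf hc).symm
  have hCG' : ∀ c ∈ C, ∀ g ∈ G', c * g = g * c := by
    intro c hc g hg
    have hle : A ⊔ F ≤ Subgroup.centralizer {c} := sup_le
      (fun x hx => Subgroup.mem_centralizer_iff.2 fun y hy => by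
        rw [Set.mem_singleton_iff.1 hy]; exact (hcomm x hx c hc).symm)
      (fun x hx => Subgroup.mem_centralizer_iff.2 fun y hy => by
        rw [Set.mem_singleton_iff.1 hy]; exact hCF c hc x hx)
    exact Subgroup.mem_centralizer_iff.1 (hle (Subgroup.commutator_le_sup A F hg)) c rfl
  obtain ⟨a, ha, ha1⟩ := exists_ne_one hS hA
  obtain ⟨d, hd, hd1, hcond⟩ := hr.cond_left a ha ha1
  -- the key equation
  have key : conjBy F a⁻¹ = conjBy G' d⁻¹ := by
    have h1 : conjBy ⁅C, D⁆ a⁻¹ = ⁅conjBy C a⁻¹, conjBy D a⁻¹⁆ := conjBy_commutator C D a⁻¹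
    have h2 : conjBy C a⁻¹ = C :=
      conjBy_eq_of_commute fun c hc => ((show Commute a c from hcomm a ha c hc).inv_left).eq
    have h3 : ⁅A, conjBy C d⁆ = G' := by
      have := (chain_half hS hA hC hCD hcomm (inv_mem hd) (inv_ne_one.mpr hd1)).1
      rwa [inv_inv] at this
    rw [hFdef, h1, h2, ← hcond, ← conjBy_inv_conjBy C d, ← conjBy_commutator,
      Subgroup.commutator_comm, h3]
  -- `G'` is in the commutator case with `D`
  have hG'D : RootCommutatorCase S G' D := by
    refine commCase_of_mem hS hAF.1 hD ?_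
    have e1 : ⁅G', D⁆ = conjBy ⁅conjBy F a⁻¹, D⁆ d := by
      rw [conjBy_commutator, key, conjBy_conjBy_inv, conjBy_of_mem hd]
    obtain ⟨d', hd', -, hcond'⟩ := hr.cond_left a⁻¹ (inv_mem ha) (inv_ne_one.mpr ha1)
    rw [inv_inv] at hcond'
    have e2 : ⁅conjBy F a⁻¹, D⁆ = conjBy (conjBy ⁅F, A⁆ d'⁻¹) a⁻¹ := by
      rw [conjBy_commutator F A d'⁻¹, hcond',
        conjBy_eq_of_commute fun f hf => (hFD f hf _ (inv_mem hd')).symm,
        conjBy_commutator F (conjBy D a) a⁻¹, conjBy_inv_conjBy]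
    rw [e1, e2, Subgroup.commutator_comm F A]
    exact hS.conj_mem _ (hS.conj_mem _ (hS.conj_mem _ hAF.1 _) _) _
  -- every `c` is the corresponding element of `G'`
  have main : ∀ f ∈ F, ∀ c ∈ C, rcomm c d = f → c = a⁻¹ * f * a * f⁻¹ := by
    intro f hf c hc hcf
    have hg : a⁻¹ * f * a * f⁻¹ ∈ G' := by
      simpa [commutatorElement_def] using Subgroup.commutator_mem_commutator (inv_mem ha) hf
    set g := a⁻¹ * f * a * f⁻¹ with hgdef
    by_cases hc1 : c = 1
    · rw [hc1] at hcf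
      simp only [rcomm, inv_one, one_mul, mul_one, inv_mul_cancel] at hcf
      rw [hc1, hgdef, ← hcf]; simp
    have hmem : g * f ∈ conjBy F a⁻¹ := by
      rw [hgdef, inv_mul_cancel_right]; simpa using conj_mem_conjBy hf a⁻¹
    rw [key, mem_conjBy, inv_inv] at hmem
    -- `g f = g' f'`
    set g' := d * (g * f) * d⁻¹ with hg'
    have e1 : g * f = g' * rcomm g' d := by rw [← conj_eq_mul_rcomm, hg']; group
    have hf' : rcomm g' d ∈ ⁅G', D⁆ := rcomm_mem hmem hd
    have hgg : g'⁻¹ * g = rcomm g' d * f⁻¹ := by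
      rw [eq_mul_inv_iff_mul_eq, mul_assoc, e1, inv_mul_cancel_left]
    have heq : g = g' := by
      have := commCase_centralizes hS hG'D (mul_mem (inv_mem hmem) hg) (fun y hy => by
        rw [hgg]
        exact ((show Commute (rcomm g' d) y from comm_right hG'D hf' hy).mul_left
          (show Commute f y from hFD f hf y hy).inv_left).eq)
      exact (inv_mul_eq_one.mp this).symm
    have hfd : rcomm g d = f := by
      have := e1
      rw [← heq] at this
      exact (mul_left_cancel this).symm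
    -- the discrepancy is central
    set z := g * c⁻¹ with hz
    have hzd : Commute z d := by
      have e : d⁻¹ * z * d = z := by
        have : d⁻¹ * z * d = (d⁻¹ * g * d) * (d⁻¹ * c * d)⁻¹ := by rw [hz]; group
        rw [this, conj_eq_mul_rcomm, conj_eq_mul_rcomm, hfd, hcf, hz]; group
      show z * d = d * z
      conv_rhs => rw [← e]
      group
    have hzA : ∀ x ∈ A, Commute z x := fun x hx =>
      (show Commute g x from comm_left hAF hg hx).mul_left
        (show Commute c x from (hcomm x hx c hc).symm).inv_left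
    have hzF : Commute z f := (show Commute g f from comm_right hAF hg hf).mul_left
      (show Commute c f from hCF c hc f hf).inv_left
    have hzD : ∀ y ∈ D, Commute z y := by
      have h1 : ∀ x ∈ conjBy D a⁻¹, Commute z x := by
        intro x hx
        rw [← hcond, mem_conjBy, inv_inv] at hx
        have h2 := hzA _ hx
        have h3 : z = d⁻¹ * z * d⁻¹⁻¹ := by rw [inv_inv, mul_assoc, hzd.eq, inv_mul_cancel_left]
        have h4 := (Commute.conj_iff d⁻¹).mpr h2
        rw [← h3] at h4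
        simpa [mul_assoc] using h4
      intro y hy
      have hsup : A ⊔ conjBy D a⁻¹ = A ⊔ D := by
        nth_rewrite 1 [← conjBy_of_mem (A := A) (inv_mem ha)]
        exact sup_conj_eq ((le_sup_left : A ≤ A ⊔ D) (inv_mem ha))
      have hle : A ⊔ conjBy D a⁻¹ ≤ Subgroup.centralizer {z} := sup_le
        (fun x hx => Subgroup.mem_centralizer_iff.2 fun w hw => by
          rw [Set.mem_singleton_iff.1 hw]; exact (hzA x hx).eq)
        (fun x hx => Subgroup.mem_centralizer_iff.2 fun w hw => by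
          rw [Set.mem_singleton_iff.1 hw]; exact (h1 x hx).eq)
      rw [hsup] at hle
      exact Subgroup.mem_centralizer_iff.1 (hle ((le_sup_right : D ≤ A ⊔ D) hy)) z rfl
    have hrE : IsRankOnePair (conjBy A f) D := by
      have := rankOnePair_conj hr f
      rwa [conjBy_eq_of_commute fun y hy => hFD f hf y hy] at this
    have hE : a * g ∈ conjBy A f := by
      have : a * g = f * a * f⁻¹ := by rw [hgdef]; group
      rw [this]; exact conj_mem_conjBy ha f
    obtain ⟨M, hM, hMm⟩ := hcover a ha ha1 c hc hc1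
    have hag1 : a * g ≠ 1 := by
      have : a * g = f * a * f⁻¹ := by rw [hgdef]; group
      rw [this]; simpa using ha1
    have hzE : ∀ x ∈ conjBy A f, z⁻¹ * x = x * z⁻¹ := by
      intro x hx
      rw [mem_conjBy] at hx
      have h2 := (hzA _ hx).inv_left
      have h3 : z⁻¹ = f * z⁻¹ * f⁻¹ := by rw [← hzF.inv_left.eq, mul_inv_cancel_right]
      have h4 := (Commute.conj_iff f).mpr h2
      rw [← h3] at h4
      simpa [mul_assoc] using h4.eq
    have hz1 := (eq_of_mul_mem hS (hS.conj_mem A hA f) hD hrE (z := z⁻¹) (a := a * g) hzE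
      (fun y hy => ((hzD y hy).inv_left).eq) hE hag1 hM (by
        have e : z⁻¹ * (a * g) = a * c := by
          rw [← mul_assoc, ((hzA a ha).inv_left).eq, hz]; group
        rw [e]; exact hMm)).2
    rw [inv_eq_one, hz, mul_inv_eq_one] at hz1
    exact hz1.symm
  refine ⟨hAF, le_antisymm ?_ fun c hc => ?_⟩
  · intro g hg
    obtain ⟨f, hf, hfg⟩ := rcomm_surj_right hAF ha ha1 hg
    obtain ⟨c, hc, hcf⟩ := rcomm_surj_left hCD hd hd1 (inv_mem hf)
    have := main f⁻¹ (inv_mem hf) c hc hcf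
    have e : g = c := by rw [← hfg, this, inv_inv]; rfl
    exact e ▸ hc
  · have := main (rcomm c d) (rcomm_mem hc hd) c hc rfl
    rw [this]
    simpa [commutatorElement_def] using Subgroup.commutator_mem_commutator (inv_mem ha) (rcomm_mem hc hd)

/-- Members with the same conjugation condition at `d`: their quotient lies in no partner of `D`. -/
lemma not_rankOne_of_same_cond (hS : IsRootSubgroupSet S) (hA : A ∈ S) (hB : B ∈ S) (hC : C ∈ S)
    (hA' : IsRankOnePair A D) (hcomm : ∀ a ∈ A, ∀ b ∈ B, a * b = b * a) {d a b : G}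
    (ha : a ∈ A) (hb : b ∈ B) (hca : conjBy D a⁻¹ = conjBy A d⁻¹)
    (hcb : conjBy D b⁻¹ = conjBy B d⁻¹) (hmem : a * b⁻¹ ∈ C) (hne : a * b⁻¹ ≠ 1) :
    ¬ IsRankOnePair C D := by
  intro hr
  obtain ⟨y, hy, hy1⟩ := exists_ne_one_right hA'
  have hfix : conjBy D (a * b⁻¹) ≠ D := fun h0 => hne (eq_one_of_fix hr hmem h0)
  refine hy1 (eq_one_of_fix_unip hr (right_mem hr)
    (unip_conj_mem (right_mem hr) ((le_sup_left : C ≤ _) hmem)) hfix.symm hy
    (conjBy_eq_of_commute fun z hz => ?_))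
  rw [mem_conjBy] at hz
  have h1 : Commute (a⁻¹ * y * a) (b⁻¹ * ((a * b⁻¹)⁻¹ * z * (a * b⁻¹)) * b) := by
    have m1 : a⁻¹ * y * a ∈ conjBy D a⁻¹ := by simpa [mul_assoc] using conj_mem_conjBy hy a⁻¹
    have m2 : b⁻¹ * ((a * b⁻¹)⁻¹ * z * (a * b⁻¹)) * b ∈ conjBy D b⁻¹ := by
      simpa using conj_mem_conjBy hz b⁻¹
    rw [hca, mem_conjBy, inv_inv] at m1
    rw [hcb, mem_conjBy, inv_inv] at m2
    exact (Commute.conj_iff d).mp (hcomm _ m1 _ m2)
  have h2 := (Commute.conj_iff a).mpr h1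
  simpa [mul_assoc] using h2.eq

/-- The line through `A` and a line partner `B`, seen from a partner `D` of `A`. -/
theorem line_structure (hS : IsRootSubgroupSet S) (hA : A ∈ S) (hB : B ∈ linePartners S A)
    (hD : D ∈ S) (hr : IsRankOnePair A D) :
    ∃ C ∈ S, RootCommutatorCase S C D ∧ RootCommutatorCase S A ⁅C, D⁆ ∧ ⁅A, ⁅C, D⁆⁆ = C ∧
      A ⊔ C = A ⊔ B := by
  obtain ⟨⟨hBS, hBne, hcb⟩, -, hcover, hdisj⟩ := hB
  have hAB := commutator_eq_bot_iff_comm.mp hcb
  have hBA : A ⊓ B = ⊥ := hdisj A ⟨hA, le_sup_left⟩ B ⟨hBS, le_sup_right⟩ hBne.symm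
  have hline : A ⊔ B ≤ Subgroup.centralizer (A : Set G) := sup_le
    (fun x hx => Subgroup.mem_centralizer_iff.2 fun y hy => commute_self hS hA hy hx)
    (fun x hx => Subgroup.mem_centralizer_iff.2 fun y hy => hAB y hy x hx)
  -- products with elements of a member of the line are covered
  have prod : ∀ C ∈ S, C ≤ A ⊔ B → C ≠ A →
      (∀ a ∈ A, a ≠ 1 → ∀ c ∈ C, c ≠ 1 → ∃ M ∈ S, a * c ∈ M) ∧
        ∀ a ∈ A, ∀ c ∈ C, a * c = c * a := by
    intro C hC hCle hne
    refine ⟨fun a ha ha1 c hc _ => ?_, fun a ha c hc => Subgroup.mem_centralizer_iff.1 (hline (hCle hc)) a ha⟩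
    by_cases h1 : a * c = 1
    · exact absurd (eq_of_mem hS hA hD hr hC (inv_mem ha)
        (by rwa [inv_eq_of_mul_eq_one_right h1]) (inv_ne_one.mpr ha1)) hne
    · obtain ⟨M, hM, hm⟩ := hcover (a * c) (mul_mem ((le_sup_left : A ≤ A ⊔ B) ha) (hCle hc)) h1
      exact ⟨M, hM.1, hm⟩
  -- a member of the line which is not a partner gives everything
  have main : ∀ C ∈ S, C ≤ A ⊔ B → C ≠ A → ¬ IsRankOnePair C D →
      RootCommutatorCase S C D ∧ RootCommutatorCase S A ⁅C, D⁆ ∧ ⁅A, ⁅C, D⁆⁆ = C := by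
    intro C hC hCle hne hnr
    obtain ⟨hcov, hcomm⟩ := prod C hC hCle hne
    have hCD : RootCommutatorCase S C D := by
      rcases trichotomy hS hC hD with h | h | h
      · exfalso
        obtain ⟨a, ha, ha1⟩ := exists_ne_one hS hA
        obtain ⟨c, hc, hc1⟩ := exists_ne_one hS hC
        obtain ⟨M, hM, hm⟩ := hcov a ha ha1 c hc hc1
        exact hc1 (eq_of_mul_mem hS hA hD hr (fun x hx => (hcomm x hx c hc).symm) (h c hc) ha ha1 hM
          ((hcomm a ha c hc) ▸ hm)).2
      · exact absurd h hnr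
      · exact h
    exact ⟨hCD, commutator_line_eq hS hA hC hD hr hCD hcomm hcov⟩
  by_cases hBD : IsRankOnePair B D
  · obtain ⟨d, hd, hd1⟩ := exists_ne_one hS hD
    obtain ⟨a, ha, ha1, hca⟩ := hr.cond_right d hd hd1
    obtain ⟨b, hb, hb1, hcb'⟩ := hBD.cond_right d hd hd1
    have hne : a * b⁻¹ ≠ 1 := fun h => by
      have e : a = b := mul_inv_eq_one.mp h
      have : a ∈ A ⊓ B := ⟨ha, e ▸ hb⟩
      rw [hBA, Subgroup.mem_bot] at this
      exact ha1 this
    obtain ⟨C, ⟨hC, hCle⟩, hCm⟩ := hcover _ (mul_mem ((le_sup_left : A ≤ A ⊔ B) ha)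
      ((le_sup_right : B ≤ A ⊔ B) (inv_mem hb))) hne
    have hCne : C ≠ A := fun h => by
      rw [h] at hCm
      have : b ∈ A ⊓ B := ⟨by simpa using mul_mem (inv_mem hCm) ha, hb⟩
      rw [hBA, Subgroup.mem_bot] at this
      exact hb1 this
    have hnr := not_rankOne_of_same_cond hS hA hBS hC hr hAB ha hb hca hcb' hCm hne
    obtain ⟨h1, h2, h3⟩ := main C hC hCle hCne hnr
    refine ⟨C, hC, h1, h2, h3, le_antisymm (sup_le le_sup_left hCle) (sup_le le_sup_left ?_)⟩
    have hbmem : b ∈ A ⊔ ⁅A, ⁅C, D⁆⁆ := by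
      rw [h3]
      have := mul_mem ((le_sup_right : C ≤ A ⊔ C) (inv_mem hCm)) ((le_sup_left : A ≤ A ⊔ C) ha)
      simpa using this
    rcases line_cover hS hA h2 hbmem with h | ⟨f, hf, h⟩
    · rw [h3] at h
      exact absurd (eq_of_mem hS hBS hD hBD hC hb h hb1 ▸ hBD) hnr
    · have e := eq_of_mem hS hBS hD hBD (hS.conj_mem A hA f) hb h hb1
      rw [← e, ← h3]
      exact conjBy_le_line hS hA h2 hf
  · obtain ⟨h1, h2, h3⟩ := main B hBS le_sup_right hBne hBD
    exact ⟨B, hBS, h1, h2, h3, rfl⟩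

end CfsgLib.RootSubgroups
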