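import Cfsg.Agent.RootSubgroups.RootTransport

/-! Images of `SL₂` seen inside a subgroup. -/

set_option autoImplicit false

namespace CfsgLib.RootSubgroups.Transport

open Cfsg

variable {G : Type*} [Group G] {X : Subgroup G} {A B : Subgroup G}

lemma psl2_subgroupOf {k : Type*} [Field k] (h : IsPSL2PairOver k A B) (hA : A ≤ X) (hB : B ≤ X) :
    IsPSL2PairOver k (A.subgroupOf X) (B.subgroupOf X) := by
  obtain ⟨φ, e1, e2, e3, e4⟩ := h
  have hmem : ∀ g, φ g ∈ X := fun g => by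
    have : φ g ∈ A ⊔ B := e1 ▸ ⟨g, rfl⟩
    exact (sup_le hA hB) this
  have key : ∀ (K : Subgroup (Matrix.SpecialLinearGroup (Fin 2) k)) (C : Subgroup G),
      K.map φ = C → K.map (φ.codRestrict X hmem) = C.subgroupOf X := by
    intro K C hKC
    ext y
    rw [Subgroup.mem_subgroupOf, ← hKC]
    constructor
    · rintro ⟨g, hg, rfl⟩; exact ⟨g, hg, rfl⟩
    · rintro ⟨g, hg, e⟩; exact ⟨g, hg, Subtype.ext e⟩
  refine ⟨φ.codRestrict X hmem, ?_, ?_, key _ _ e3, key _ _ e4⟩
  · rw [MonoidHom.range_eq_map, key ⊤ _ ((MonoidHom.range_eq_map φ).symm.trans e1)]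
    exact Subgroup.subgroupOf_sup hA hB
  · rw [MonoidHom.ker_codRestrict]; exact e2

end CfsgLib.RootSubgroups.Transport
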