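import Cfsg.Agent.RootSubgroups.QuadCommutator

/-! Two classes: commuting, opposite, or in the commutator case. -/

set_option autoImplicit false

namespace CfsgLib.RootSubgroups.QuadPair

open Cfsg

universe u

variable {k : Type u} [Field k] {M : Type u} [AddCommGroup M] [Module k M]
  [FiniteDimensional k M]
variable {G : Subgroup (LinearMap.GeneralLinearGroup k M)}
  {σ τ ζ : LinearMap.GeneralLinearGroup k M}

omit [FiniteDimensional k M] in
/-- The kernel and range conditions of `U(ζ)` pass to the generated subgroup. -/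
lemma core_closure {S : Set (LinearMap.GeneralLinearGroup k M)}
    (hζ : nil ζ * nil ζ = 0)
    (h : ∀ g ∈ S, Core (nil ζ) (nil g) ∧ nil g * nil g = 0)
    {g : LinearMap.GeneralLinearGroup k M} (hg : g ∈ Subgroup.closure S) :
    Core (nil ζ) (nil g) := by
  have hmul : ∀ {a b : Module.End k M}, Core (nil ζ) a → Core (nil ζ) b →
      Core (nil ζ) (a + b + a * b) := fun {a b} ha hb => by
    refine ⟨by simp [mul_add, ← mul_assoc, ha.left, hb.left], by
      simp [add_mul, mul_assoc, ha.right, hb.right], fun m hm => ?_⟩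
    refine add_mem (add_mem (ha.step m hm) (hb.step m hm)) ?_
    obtain ⟨x, hx⟩ := hb.step m hm
    refine ha.step _ ?_
    rw [← hx]; exact LinearMap.congr_fun hζ x
  refine Subgroup.closure_induction'' (p := fun g _ => Core (nil ζ) (nil g)) ?_ ?_ ?_ ?_ hg
  · exact fun x hx => (h x hx).1
  · intro x hx
    rw [nil_inv (h x hx).2]
    exact ⟨by rw [mul_neg, (h x hx).1.left, neg_zero], by rw [neg_mul, (h x hx).1.right, neg_zero],
      fun m hm => neg_mem ((h x hx).1.step m hm)⟩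
  · rw [nil_one]; exact ⟨mul_zero _, zero_mul _, fun m _ => zero_mem _⟩
  · intro x y _ _ hx hy
    rw [nil_mul]; exact hmul hx hy

variable (hk2 : ringChar k ≠ 2) (hk3 : Nat.card k ≠ 3) (hirr : Reduced G)
  (hσ : σ ∈ minimalQuadraticElements G) (hτ : τ ∈ minimalQuadraticElements G)

include hk2 hk3 hirr hσ hτ

/-- The commutator case. -/
theorem commutator_case (hT : Triple G σ τ)
    (hne : ⁅sameActionSubgroup G σ, sameActionSubgroup G τ⁆ ≠ ⊥) :
    ∃ ζ ∈ minimalQuadraticElements G,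
      ⁅sameActionSubgroup G σ, sameActionSubgroup G τ⁆ = sameActionSubgroup G ζ ∧
      (∀ e ∈ sameActionSubgroup G σ, e ≠ 1 → Subgroup.closure
        ((fun f : LinearMap.GeneralLinearGroup k M => e * f * e⁻¹ * f⁻¹) ''
          (sameActionSubgroup G τ : Set (LinearMap.GeneralLinearGroup k M))) =
            ⁅sameActionSubgroup G σ, sameActionSubgroup G τ⁆) ∧
      (∀ f ∈ sameActionSubgroup G τ, f ≠ 1 → Subgroup.closure
        ((fun e : LinearMap.GeneralLinearGroup k M => e * f * e⁻¹ * f⁻¹) ''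
          (sameActionSubgroup G σ : Set (LinearMap.GeneralLinearGroup k M))) =
            ⁅sameActionSubgroup G σ, sameActionSubgroup G τ⁆) ∧
      (∀ c ∈ sameActionSubgroup G ζ, ∀ x ∈ sameActionSubgroup G σ ⊔ sameActionSubgroup G τ,
        c * x = x * c) ∧
      ((sameActionSubgroup G σ ⊔ sameActionSubgroup G τ :
          Subgroup (LinearMap.GeneralLinearGroup k M)) : Set (LinearMap.GeneralLinearGroup k M)) ⊆
        quadraticUnipotentCore G (sameActionSubgroup G ζ) := by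
  set A := sameActionSubgroup G σ with hA
  set B := sameActionSubgroup G τ with hB
  have hne' : nil σ * nil τ ≠ nil τ * nil σ := fun h => hne (commutator_eq_bot_iff_comm.2
    fun x hx y hy => commute_iff_nil.2 (Triple.comm_all hσ hτ hT (inRoot_self hσ.1) (quad_ne hσ.1.2.1)
      (inRoot_self hτ.1) (quad_ne hτ.1.2.1) h ((mem_E hσ).1 hx) ((mem_E hτ).1 hy)))
  obtain ⟨ζ, hζ, hz, hall, hca, hcb⟩ := Triple.shape hσ hτ hT hne'
  have hle : ⁅A, B⁆ ≤ sameActionSubgroup G ζ := Subgroup.commutator_le.2 fun x hx y hy => by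
    rw [commutatorElement_def, mem_E hζ, Triple.commutator hσ hτ hT hx hy]
    exact (hall _ ((mem_E hσ).1 hx) _ ((mem_E hτ).1 hy)).1
  have hcl : ∀ x ∈ A, x ≠ 1 → ∀ c ∈ sameActionSubgroup G ζ,
      ∃ y ∈ B, x * y * x⁻¹ * y⁻¹ = c := by
    intro x hx hx1 c hc
    obtain ⟨x', hx', ex, hkx, hrx⟩ := InRoot.exists_minimal hσ ((mem_E hσ).1 hx)
      (fun h => hx1 (nil_eq_zero_iff.1 h))
    have hEx : sameActionSubgroup G x' = A := E_eq_of hkx hrx
    have hTx : Triple G x' τ :=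
      ⟨fun a ha b hb a' ha' => hT.1 a (ha.congr hkx hrx) b hb a' (ha'.congr hkx hrx),
        fun b hb a ha b' hb' => hT.2 b hb a (ha.congr hkx hrx) b' hb'⟩
    have hnx : nil x' * nil τ ≠ nil τ * nil x' := by
      rw [ex]
      exact (hall _ ((mem_E hσ).1 hx) _ (inRoot_self hτ.1)).2
        (fun h => hx1 (nil_eq_zero_iff.1 h)) (quad_ne hτ.1.2.1)
    obtain ⟨ζ', hζ', hz', hall', hca', hcb'⟩ := Triple.shape hx' hτ hTx hnx
    obtain ⟨hk, hr⟩ := same_of_common hζ' hζ (inRoot_self hζ'.1)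
      (by rw [hz', ex]; exact (hall _ ((mem_E hσ).1 hx) _ (inRoot_self hτ.1)).1) (quad_ne hζ'.1.2.1)
    obtain ⟨b, hb, hb'⟩ := commutator_surjective hk2 hk3 hirr hx' hτ hTx hζ' hz' hca' hcb'
      (((mem_E hζ).1 hc).congr hk.symm hr.symm)
    obtain ⟨y, -, ey⟩ := hb.2.2.exists_elem
    have hy : y ∈ B := (mem_E hτ).2 (ey ▸ hb)
    refine ⟨y, hy, nil_injective ?_⟩
    rw [Triple.commutator hσ hτ hT hx hy, ← ex, ey, hb']
  have hcl' : ∀ y ∈ B, y ≠ 1 → ∀ c ∈ sameActionSubgroup G ζ,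
      ∃ x ∈ A, x * y * x⁻¹ * y⁻¹ = c := by
    intro y hy hy1 c hc
    obtain ⟨y', hy', ey, hky, hry⟩ := InRoot.exists_minimal hτ ((mem_E hτ).1 hy)
      (fun h => hy1 (nil_eq_zero_iff.1 h))
    have hTy : Triple G y' σ :=
      ⟨fun a ha b hb a' ha' => hT.2 a (ha.congr hky hry) b hb a' (ha'.congr hky hry),
        fun b hb a ha b' hb' => hT.1 b hb a (ha.congr hky hry) b' hb'⟩
    have hny : nil y' * nil σ ≠ nil σ * nil y' := by
      rw [ey]
      exact ((hall _ (inRoot_self hσ.1) _ ((mem_E hτ).1 hy)).2 (quad_ne hσ.1.2.1)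
        (fun h => hy1 (nil_eq_zero_iff.1 h))).symm
    obtain ⟨ζ', hζ', hz', hall', hca', hcb'⟩ := Triple.shape hy' hσ hTy hny
    obtain ⟨hk, hr⟩ := same_of_common hζ' hζ (inRoot_self hζ'.1)
      (by rw [hz', ey, ← neg_sub]
          exact (hall _ (inRoot_self hσ.1) _ ((mem_E hτ).1 hy)).1.neg) (quad_ne hζ'.1.2.1)
    obtain ⟨a, ha, ha'⟩ := commutator_surjective hk2 hk3 hirr hy' hσ hTy hζ' hz' hca' hcb'
      (((mem_E hζ).1 hc).neg.congr hk.symm hr.symm)
    obtain ⟨x, -, ex⟩ := ha.2.2.exists_elem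
    have hx : x ∈ A := (mem_E hσ).2 (ex ▸ ha)
    refine ⟨x, hx, nil_injective ?_⟩
    rw [Triple.commutator hσ hτ hT hx hy, ex, ← ey, ← neg_sub, ha', neg_neg]
  have hσA : σ ∈ A := (mem_E hσ).2 (inRoot_self hσ.1)
  have hσ1 : σ ≠ 1 := fun h => quad_ne hσ.1.2.1 (by rw [h, nil_one])
  have heq : ⁅A, B⁆ = sameActionSubgroup G ζ := le_antisymm hle fun c hc => by
    obtain ⟨y, hy, e⟩ := hcl σ hσA hσ1 c hc
    rw [← e, ← commutatorElement_def]
    exact Subgroup.commutator_mem_commutator hσA hy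
  -- the conditions defining `U(ζ)`
  have hcore : ∀ x ∈ A ⊔ B, Core (nil ζ) (nil x) := fun x hx => by
    rw [← Subgroup.closure_eq A, ← Subgroup.closure_eq B, ← Subgroup.closure_union] at hx
    refine core_closure (nil_sq hζ.1.2.1) ?_ hx
    rintro g (hg | hg)
    · exact ⟨hca _ ((mem_E hσ).1 hg), InRoot.mul_eq_zero hσ ((mem_E hσ).1 hg) ((mem_E hσ).1 hg)⟩
    · exact ⟨hcb _ ((mem_E hτ).1 hg), InRoot.mul_eq_zero hτ ((mem_E hτ).1 hg) ((mem_E hτ).1 hg)⟩
  have hcent : ∀ c ∈ sameActionSubgroup G ζ, ∀ x ∈ A ⊔ B, c * x = x * c := fun c hc x hx => by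
    obtain ⟨h1, h2⟩ := (hcore x hx).kill ((mem_E hζ).1 hc)
    rw [commute_iff_nil, h1, h2]
  refine ⟨ζ, hζ, heq, fun e he he1 => ?_, fun f hf hf1 => ?_, hcent, fun x hx => ?_⟩
  · refine le_antisymm ((Subgroup.closure_le _).2 ?_) fun c hc => ?_
    · rintro _ ⟨f, hf, rfl⟩
      exact Subgroup.commutator_mem_commutator he hf
    · obtain ⟨y, hy, rfl⟩ := hcl e he he1 c (heq ▸ hc)
      exact Subgroup.subset_closure ⟨y, hy, rfl⟩
  · refine le_antisymm ((Subgroup.closure_le _).2 ?_) fun c hc => ?_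
    · rintro _ ⟨e, he, rfl⟩
      exact Subgroup.commutator_mem_commutator he hf
    · obtain ⟨x, hx, rfl⟩ := hcl' f hf hf1 c (heq ▸ hc)
      exact Subgroup.subset_closure ⟨x, hx, rfl⟩
  · have hc := hcore x hx
    refine ⟨sup_le (E_le hσ) (E_le hτ) hx, ?_, fun m => ?_, fun m hm => ?_, fun m hm => ?_⟩
    · rw [Subgroup.mem_normalizer_iff]
      intro c
      constructor
      · intro hc'
        rw [← hcent c hc' x hx, mul_inv_cancel_right]; exact hc'
      · intro hc'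
        have := hcent _ hc' x⁻¹ (inv_mem hx)
        rw [show x⁻¹ * (x * c * x⁻¹) = c * x⁻¹ by group] at this
        rw [← mul_right_cancel this]; exact hc'
    · rw [fixed_E hζ]
      show nil ζ (nil x m) = 0
      exact LinearMap.congr_fun hc.left m
    · rw [fixed_E hζ] at hm
      rw [comm_E hζ]
      exact hc.step m hm
    · rw [comm_E hζ] at hm
      obtain ⟨y, rfl⟩ := hm
      rw [coe_eq_one_add x, LinearMap.add_apply, ← Module.End.mul_apply (nil x), hc.right]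
      simp

/-- In the commutator case the join has class two. -/
theorem class_two (hT : Triple G σ τ)
    (hne : ⁅sameActionSubgroup G σ, sameActionSubgroup G τ⁆ ≠ ⊥) :
    ⁅sameActionSubgroup G σ ⊔ sameActionSubgroup G τ, sameActionSubgroup G σ ⊔ sameActionSubgroup G τ⁆ ≠ ⊥ ∧
    ⁅⁅sameActionSubgroup G σ ⊔ sameActionSubgroup G τ, sameActionSubgroup G σ ⊔ sameActionSubgroup G τ⁆,
      sameActionSubgroup G σ ⊔ sameActionSubgroup G τ⁆ = ⊥ := by
  refine ⟨fun h => hne (eq_bot_iff.2 (h ▸ Subgroup.commutator_mono le_sup_left le_sup_right)), ?_⟩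
  obtain ⟨ζ, hζ, -, -, -, -, hU⟩ := commutator_case hk2 hk3 hirr hσ hτ hT hne
  set X := sameActionSubgroup G σ ⊔ sameActionSubgroup G τ
  have hcore : ∀ x ∈ X, Core (nil ζ) (nil x) := fun x hx => by
    obtain ⟨-, -, h1, h2, h3⟩ := hU hx
    rw [fixed_E hζ] at h1 h2
    rw [comm_E hζ] at h2 h3
    refine ⟨LinearMap.ext fun m => h1 m, LinearMap.ext fun m => ?_, fun m hm => h2 m hm⟩
    show nil x (nil ζ m) = 0
    have := h3 (nil ζ m) ⟨m, rfl⟩
    rw [nil, LinearMap.sub_apply, Module.End.one_apply]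
    exact sub_eq_zero.2 this
  have h3 : ∀ {a b c : Module.End k M}, Core (nil ζ) a → Core (nil ζ) b → Core (nil ζ) c →
      a * b * c = 0 := fun {a b c} ha hb hc => LinearMap.ext fun m => by
    obtain ⟨y, hy⟩ := hb.step (c m) (LinearMap.congr_fun hc.left m)
    show a (b (c m)) = 0
    rw [← hy]
    exact LinearMap.congr_fun ha.right y
  suffices h : ∀ x ∈ X, ∀ y ∈ X, ∀ w ∈ X, (x * y * x⁻¹ * y⁻¹) * w = w * (x * y * x⁻¹ * y⁻¹) by
    rw [eq_bot_iff, Subgroup.commutator_le]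
    intro c hc w hw
    rw [Subgroup.mem_bot, commutatorElement_eq_one_iff_mul_comm]
    have hle : ⁅X, X⁆ ≤ Subgroup.centralizer (X : Set (LinearMap.GeneralLinearGroup k M)) :=
      Subgroup.commutator_le.2 fun x hx y hy => Subgroup.mem_centralizer_iff.2 fun w hw =>
        (h x hx y hy w hw).symm
    exact ((Subgroup.mem_centralizer_iff.1 (hle hc)) w hw).symm
  intro x hx y hy w hw
  have hxy : x⁻¹ * y⁻¹ ∈ X := mul_mem (inv_mem hx) (inv_mem hy)
  have e : nil (x * y * x⁻¹ * y⁻¹) = (nil x * nil y - nil y * nil x) *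
      ((x⁻¹ * y⁻¹ : LinearMap.GeneralLinearGroup k M) : M →ₗ[k] M) := by
    have h0 : ((x⁻¹ * y⁻¹ : LinearMap.GeneralLinearGroup k M) : M →ₗ[k] M) =
        ((y * x)⁻¹ : LinearMap.GeneralLinearGroup k M) := by rw [mul_inv_rev]
    have h1 : ((y : M →ₗ[k] M) * (x : M →ₗ[k] M)) *
        ((x⁻¹ * y⁻¹ : LinearMap.GeneralLinearGroup k M) : M →ₗ[k] M) = 1 := by
      rw [h0, ← Units.val_mul, Units.mul_inv]
    have h2 : nil x * nil y - nil y * nil x =
        (x : M →ₗ[k] M) * (y : M →ₗ[k] M) - (y : M →ₗ[k] M) * (x : M →ₗ[k] M) := by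
      rw [nil, nil]; noncomm_ring
    rw [h2, sub_mul, h1, nil, mul_assoc (x * y) x⁻¹ y⁻¹, Units.val_mul, Units.val_mul]
  rw [commute_iff_nil, e]
  have cx := hcore x hx
  have cy := hcore y hy
  have cw := hcore w hw
  have l : nil w * ((nil x * nil y - nil y * nil x) *
      ((x⁻¹ * y⁻¹ : LinearMap.GeneralLinearGroup k M) : M →ₗ[k] M)) = 0 := by
    rw [← mul_assoc, mul_sub, ← mul_assoc, ← mul_assoc, h3 cw cx cy, h3 cw cy cx, sub_zero, zero_mul]
  rw [l]
  have c' := hcore _ hxy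
  rw [coe_eq_one_add (x⁻¹ * y⁻¹), mul_assoc, add_mul, one_mul, mul_add, sub_mul, sub_mul,
    h3 cx cy cw, h3 cy cx cw, mul_assoc (nil x) (nil y), mul_assoc (nil y) (nil x),
    ← mul_assoc (nil y) (nil (x⁻¹ * y⁻¹)) (nil w), h3 cy c' cw,
    ← mul_assoc (nil x) (nil (x⁻¹ * y⁻¹)) (nil w), h3 cx c' cw, mul_zero, mul_zero, sub_zero, add_zero]

end CfsgLib.RootSubgroups.QuadPair
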