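import Cfsg.Agent.RootSubgroups.QuadCommutator

/-! A quadratic element orthogonal to all minimal elements centralises them. -/

set_option autoImplicit false

namespace CfsgLib.RootSubgroups.QuadPair

open Cfsg

universe u

variable {k : Type u} [Field k] {M : Type u} [AddCommGroup M] [Module k M]
  [FiniteDimensional k M]
variable {G : Subgroup (LinearMap.GeneralLinearGroup k M)}

/-- `a x a = 0` for all minimal `1 + a`. -/
def Orth (G : Subgroup (LinearMap.GeneralLinearGroup k M)) (x : Module.End k M) : Prop :=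
  ∀ ρ ∈ minimalQuadraticElements G, nil ρ * x * nil ρ = 0

omit [FiniteDimensional k M] in
lemma Orth.add {x y : Module.End k M} (hx : Orth G x) (hy : Orth G y) : Orth G (x + y) :=
  fun ρ hρ => by rw [mul_add, add_mul, hx ρ hρ, hy ρ hρ, add_zero]

omit [FiniteDimensional k M] in
lemma Orth.smul {x : Module.End k M} (hx : Orth G x) (c : k) : Orth G (c • x) :=
  fun ρ hρ => by rw [mul_smul_comm, smul_mul_assoc, hx ρ hρ, smul_zero]

omit [FiniteDimensional k M] in
lemma Orth.sub {x y : Module.End k M} (hx : Orth G x) (hy : Orth G y) : Orth G (x - y) := by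
  rw [sub_eq_add_neg, ← neg_one_smul k y]; exact hx.add (hy.smul _)

lemma Orth.conj {x : Module.End k M} (hx : Orth G x) {g : LinearMap.GeneralLinearGroup k M}
    (hg : g ∈ G) : Orth G ((g : M →ₗ[k] M) * x * ((g⁻¹ : LinearMap.GeneralLinearGroup k M) : M →ₗ[k] M)) := by
  intro ρ hρ
  have hm := conj_minimal hρ (inv_mem hg)
  have h := hx _ hm
  rw [conj_val, inv_inv] at h
  calc nil ρ * ((g : M →ₗ[k] M) * x * ((g⁻¹ : LinearMap.GeneralLinearGroup k M) : M →ₗ[k] M)) * nil ρ
      = (g : M →ₗ[k] M) * (((g⁻¹ : LinearMap.GeneralLinearGroup k M) : M →ₗ[k] M) * nil ρ * (g : M →ₗ[k] M) * x *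
          (((g⁻¹ : LinearMap.GeneralLinearGroup k M) : M →ₗ[k] M) * nil ρ * (g : M →ₗ[k] M))) *
          ((g⁻¹ : LinearMap.GeneralLinearGroup k M) : M →ₗ[k] M) := by
        simp only [← mul_assoc, Units.mul_inv, one_mul]
        simp only [mul_assoc, Units.mul_inv, mul_one]
    _ = 0 := by rw [h, mul_zero, zero_mul]

variable (hk2 : ringChar k ≠ 2) (hk3 : Nat.card k ≠ 3)

include hk2 hk3

/-- For minimal elements the relation `a b a = 0` is symmetric. -/
lemma aba_symm {σ τ : LinearMap.GeneralLinearGroup k M} (hσ : σ ∈ minimalQuadraticElements G)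
    (hτ : τ ∈ minimalQuadraticElements G) (h : nil σ * nil τ * nil σ = 0) :
    nil τ * nil σ * nil τ = 0 := by
  rcases opp_or_triple hσ hτ hk2 hk3 with hop | hT
  · exact absurd (Opp.aba_ne hop hσ hτ (inRoot_self hσ.1) (inRoot_self hτ.1) (quad_ne hτ.1.2.1) h)
      (quad_ne hσ.1.2.1)
  · exact hT.2 _ (inRoot_self hτ.1) _ (inRoot_self hσ.1) _ (inRoot_self hτ.1)

omit hk3 in
/-- The sandwich `f g f` has a family when `g f g = 0`. -/
lemma hasFamily_sandwich {f g : Module.End k M} (hf : HasFamily G f) (hg : HasFamily G g)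
    (hf2 : f * f = 0) (hg2 : g * g = 0) (h : g * f * g = 0) : HasFamily G (f * g * f) := by
  obtain ⟨x, hx, ex⟩ := hf.exists_elem
  obtain ⟨y, hy, ey⟩ := hf.neg.exists_elem
  have hxx : nil x * nil x = 0 := by rw [ex, hf2]
  have hyy : nil y * nil y = 0 := by rw [ey, neg_mul, mul_neg, hf2, neg_zero, neg_zero]
  set P := f * g - g * f with hP
  set Q := f * g * f with hQ
  have c1 : (x : M →ₗ[k] M) * g * ((x⁻¹ : LinearMap.GeneralLinearGroup k M) : M →ₗ[k] M) = g + P - Q := by
    rw [coe_eq_one_add x, coe_eq_one_add x⁻¹, nil_inv hxx, ex, hP, hQ]; noncomm_ring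
  have c2 : (y : M →ₗ[k] M) * g * ((y⁻¹ : LinearMap.GeneralLinearGroup k M) : M →ₗ[k] M) = g - P - Q := by
    rw [coe_eq_one_add y, coe_eq_one_add y⁻¹, nil_inv hyy, ey, hP, hQ]; noncomm_ring
  have f1 := hg.conj hx
  have f2 := hg.conj hy
  rw [c1] at f1
  rw [c2] at f2
  have h0 : (g + P - Q) * (g - P - Q) = 0 := by
    have hff : ∀ z, f * (f * z) = 0 := fun z => by rw [← mul_assoc, hf2, zero_mul]
    have hgg : ∀ z, g * (g * z) = 0 := fun z => by rw [← mul_assoc, hg2, zero_mul]
    have hgfg : ∀ z, g * (f * (g * z)) = 0 := fun z => by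
      rw [show g * (f * (g * z)) = g * f * g * z by simp only [mul_assoc], h, zero_mul]
    have hgfg' : g * (f * g) = 0 := by rw [← mul_assoc, h]
    simp [hP, hQ, add_mul, mul_sub, sub_mul, mul_assoc, hg2, hff, hgg, hgfg, hgfg']
  have h3 : (g + P - Q + (g - P - Q)) * ((-1 : k) • ((2 : k) • g)) = 0 := by
    have e : (g + P - Q + (g - P - Q)) * g = 0 := by
      calc (g + P - Q + (g - P - Q)) * g = 2 • (g * g) - 2 • (f * (g * f * g)) := by
            rw [hP, hQ]; noncomm_ring
        _ = 0 := by rw [hg2, h]; simp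
    rw [mul_smul_comm, mul_smul_comm, e, smul_zero, smul_zero]
  have h4 := ((f1.add f2 h0).add ((hg.smul (2 : k)).smul (-1)) h3).smul (-(2 : k)⁻¹)
  have e : (-(2 : k)⁻¹) • (g + P - Q + (g - P - Q) + (-1 : k) • ((2 : k) • g)) = Q := by
    have h2 : (2 : k) ≠ 0 := Ring.two_ne_zero hk2
    have : g + P - Q + (g - P - Q) + (-1 : k) • ((2 : k) • g) = (-2 : k) • Q := by module
    rw [this, smul_smul, show -(2 : k)⁻¹ * -2 = 1 by field_simp, one_smul]
  rwa [e] at h4

/-- The product of two orthogonal elements, one a difference of minimal maps, is nilpotent. -/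
lemma orth_nilpotent {x y : LinearMap.GeneralLinearGroup k M} (hy : y ∈ quadraticElements G)
    (hxo : Orth G (nil x)) (hyo : Orth G (nil y))
    {β β' : LinearMap.GeneralLinearGroup k M} (hβ : β ∈ minimalQuadraticElements G)
    (hβ' : β' ∈ minimalQuadraticElements G) (e : nil x = nil β' - nil β) :
    IsNilpotent (nil x * nil y) := by
  set b := nil β
  set b' := nil β'
  set Y := nil y
  have hYY : Y * Y = 0 := nil_sq hy.2.1
  have h1 : b * Y * b = 0 := hyo β hβ
  have h1' : b' * Y * b' = 0 := hyo β' hβ'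
  have diff : ∀ ρ ∈ minimalQuadraticElements G, nil ρ * b * nil ρ = nil ρ * b' * nil ρ := fun ρ hρ => by
    have := hxo ρ hρ
    rw [e, mul_sub, sub_mul, sub_eq_zero] at this
    exact this.symm
  have key : ∀ {γ γ' : LinearMap.GeneralLinearGroup k M}, γ ∈ minimalQuadraticElements G →
      γ' ∈ minimalQuadraticElements G → nil γ * Y * nil γ = 0 → nil γ' * Y * nil γ' = 0 →
      (∀ ρ ∈ minimalQuadraticElements G, nil ρ * nil γ * nil ρ = nil ρ * nil γ' * nil ρ) →
      nil γ * (Y * nil γ' * Y) * nil γ = 0 := by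
    intro γ γ' hγ hγ' hg hg' hd
    set Z := Y * nil γ' * Y with hZ
    rcases eq_or_ne Z 0 with hz | hz
    · rw [hz, mul_zero, zero_mul]
    have hZf : HasFamily G Z := hasFamily_sandwich hk2 (hasFamily_nil hy) (hasFamily_nil hγ'.1)
      hYY (nil_sq hγ'.1.2.1) hg'
    have hZ2 : Z * Z = 0 := by
      rw [hZ, show Y * nil γ' * Y * (Y * nil γ' * Y) = Y * nil γ' * (Y * Y) * (nil γ' * Y) by
        simp only [mul_assoc], hYY]; simp
    have hle : LinearMap.range Z ≤ (cspace γ').map Y := by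
      rintro _ ⟨m, rfl⟩
      exact ⟨nil γ' (Y m), ⟨_, rfl⟩, rfl⟩
    obtain ⟨ρ, hρ, eρ⟩ := exists_minimal hγ' hZf hZ2 hz
      ((Submodule.finrank_mono hle).trans (Submodule.finrank_map_le _ _))
    have h0 : nil γ' * nil ρ * nil γ' = 0 := by
      rw [eρ, hZ, show nil γ' * (Y * nil γ' * Y) * nil γ' = (nil γ' * Y * nil γ') * Y * nil γ' by
        simp only [mul_assoc], hg']; simp
    have h2 : nil ρ * nil γ * nil ρ = 0 := by rw [hd ρ hρ]; exact aba_symm hk2 hk3 hγ' hρ h0
    rw [← eρ]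
    exact aba_symm hk2 hk3 hρ hγ h2
  have k1 : b * (Y * b' * Y) * b = 0 := key hβ hβ' h1 h1' diff
  have k2 : b' * (Y * b * Y) * b' = 0 := key hβ' hβ h1' h1 fun ρ hρ => (diff ρ hρ).symm
  refine ⟨3, ?_⟩
  have uu : b * Y * (b * Y) = 0 := by rw [← mul_assoc, h1, zero_mul]
  have vv : b' * Y * (b' * Y) = 0 := by rw [← mul_assoc, h1', zero_mul]
  have uvu : b * Y * (b' * Y) * (b * Y) = 0 := by
    rw [show b * Y * (b' * Y) * (b * Y) = b * (Y * b' * Y) * b * Y by simp only [mul_assoc], k1,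
      zero_mul]
  have vuv : b' * Y * (b * Y) * (b' * Y) = 0 := by
    rw [show b' * Y * (b * Y) * (b' * Y) = b' * (Y * b * Y) * b' * Y by simp only [mul_assoc], k2,
      zero_mul]
  rw [e, sub_mul]
  generalize b * Y = u at uu uvu vuv
  generalize b' * Y = v at vv uvu vuv
  calc (v - u) ^ 3 = (v * v) * v - (v * v) * u - v * u * v + v * (u * u) - u * (v * v) + u * v * u
        + (u * u) * v - (u * u) * u := by noncomm_ring
    _ = 0 := by rw [uu, vv, uvu, vuv]; simp

/-- The key lemma. -/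
theorem orth_central (hred : Reduced G) {q : LinearMap.GeneralLinearGroup k M}
    (hq : q ∈ quadraticElements G) (ho : Orth G (nil q))
    {σ : LinearMap.GeneralLinearGroup k M} (hσ : σ ∈ minimalQuadraticElements G) : q * σ = σ * q := by
  classical
  set e := nil q
  set b := nil σ
  have hee : e * e = 0 := nil_sq hq.2.1
  have hbb : b * b = 0 := nil_sq hσ.1.2.1
  have hbeb : b * e * b = 0 := ho σ hσ
  set σ' := q * σ * q⁻¹ with hσ'def
  have hσ' : σ' ∈ minimalQuadraticElements G := conj_minimal hσ hq.1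
  set b' := nil σ' with hb'
  have hb'e : b' = b + (e * b - b * e) - e * b * e := by
    rw [hb', conj_val, coe_eq_one_add q, coe_eq_one_add q⁻¹, nil_inv hee]; noncomm_ring
  have hbb' : b * b' = 0 := by
    rw [hb'e]
    calc b * (b + (e * b - b * e) - e * b * e) = b * b + b * e * b - (b * b) * e - (b * e * b) * e := by
          noncomm_ring
      _ = 0 := by rw [hbb, hbeb]; simp
  have hb'b : b' * b = 0 := by
    rw [hb'e]
    calc (b + (e * b - b * e) - e * b * e) * b = b * b + e * (b * b) - b * e * b - e * (b * e * b) := by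
          noncomm_ring
      _ = 0 := by rw [hbb, hbeb]; simp
  have hP : Orth G (e * b - b * e) := by
    have h := ho.sub (ho.conj hσ.1.1)
    rw [coe_eq_one_add σ, coe_eq_one_add σ⁻¹, nil_inv hbb] at h
    rw [show e - (1 + b) * e * (1 + -b) = e * b - b * e + b * e * b by noncomm_ring, hbeb,
      add_zero] at h
    exact h
  have hQ : Orth G (e * b * e) := by
    have h := (hP.sub (hP.conj hq.1)).smul (2 : k)⁻¹
    rw [coe_eq_one_add q, coe_eq_one_add q⁻¹, nil_inv hee] at h
    have e1 : (e * b - b * e) - (1 + e) * (e * b - b * e) * (1 + -e) = (2 : k) • (e * b * e) := by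
      calc (e * b - b * e) - (1 + e) * (e * b - b * e) * (1 + -e)
          = -((e * e) * b) + e * b * e + e * b * e - b * (e * e) + (e * e) * b * e - e * b * (e * e) := by
            noncomm_ring
        _ = (2 : k) • (e * b * e) := by rw [hee, two_smul]; simp
    rw [e1, smul_smul, inv_mul_cancel₀ (Ring.two_ne_zero hk2), one_smul] at h
    exact h
  have hXo : Orth G (b' - b) := by
    rw [show b' - b = (e * b - b * e) - e * b * e by rw [hb'e]; abel]; exact hP.sub hQ
  by_contra hne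
  have hX0 : b' - b ≠ 0 := fun h => hne (by
    have : σ' = σ := nil_injective (sub_eq_zero.1 h)
    rw [← mul_inv_eq_iff_eq_mul]; exact this)
  have hXf : HasFamily G (b' - b) := by
    rw [sub_eq_add_neg]; exact (hasFamily_nil hσ'.1).add (hasFamily_nil hσ.1).neg (by rw [mul_neg, hb'b, neg_zero])
  obtain ⟨x, hxG, ex⟩ := hXf.exists_elem
  have hXX : (b' - b) * (b' - b) = 0 := by
    rw [mul_sub, sub_mul, sub_mul, hb'b, hbb', hbb, show b' * b' = 0 from nil_sq hσ'.1.2.1]; simp
  have hxq : x ∈ quadraticElements G := by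
    refine ⟨hxG, ⟨by show nil x * nil x = 0; rw [ex, hXX], by show nil x ≠ 0; rwa [ex]⟩, ?_⟩
    rintro z ⟨c, hc⟩
    obtain ⟨z', hz', e'⟩ := hXf c
    rw [show z = z' from Units.ext (by rw [hc, e', ← ex]; rfl)]
    exact hz'
  -- the family of all these elements
  let T : Set (LinearMap.GeneralLinearGroup k M) := {z | z ∈ quadraticElements G ∧ Orth G (nil z) ∧
    ∃ γ ∈ minimalQuadraticElements G, ∃ γ' ∈ minimalQuadraticElements G, nil z = nil γ' - nil γ}
  let W : Set (Subgroup (LinearMap.GeneralLinearGroup k M)) :=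
    {A | ∃ z ∈ T, A = Subgroup.closure (scalarFamily z)}
  have hTle : ∀ z ∈ T, Subgroup.closure (scalarFamily z) ≤ G := fun z hz =>
    (Subgroup.closure_le G).2 hz.1.2.2
  have hWconj : ∀ A ∈ W, ∀ g ∈ G, conjBy A g ∈ W := by
    rintro _ ⟨z, ⟨hz, hzo, γ, hγ, γ', hγ', ez⟩, rfl⟩ g hg
    have hfam : ∀ c : k, ∀ w : LinearMap.GeneralLinearGroup k M, (w : M →ₗ[k] M) = 1 + c • nil z →
        ((g * w * g⁻¹ : LinearMap.GeneralLinearGroup k M) : M →ₗ[k] M) = 1 + c • nil (g * z * g⁻¹) := by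
      intro c w hw
      rw [Units.val_mul, Units.val_mul, hw, conj_val, mul_add, add_mul, mul_one, Units.mul_inv,
        mul_smul_comm, smul_mul_assoc]
    refine ⟨g * z * g⁻¹, ⟨⟨mul_mem (mul_mem hg hz.1) (inv_mem hg), ⟨?_, ?_⟩, ?_⟩, ?_,
      g * γ * g⁻¹, conj_minimal hγ hg, g * γ' * g⁻¹, conj_minimal hγ' hg, ?_⟩, ?_⟩
    · show nil (g * z * g⁻¹) * nil (g * z * g⁻¹) = 0
      rw [conj_val]
      simp only [mul_assoc, Units.inv_mul_cancel_left]
      rw [← mul_assoc (nil z), nil_sq hz.2.1, zero_mul, mul_zero]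
    · intro h0
      change nil (g * z * g⁻¹) = 0 at h0
      rw [nil_eq_zero_iff, conj_eq_one_iff] at h0
      exact hz.2.1.2 (show nil z = 0 by rw [h0, nil_one])
    · rintro w ⟨c, hc⟩
      obtain ⟨w', hw', e'⟩ := hasFamily_nil hz c
      rw [show w = g * w' * g⁻¹ from Units.ext (hc.trans (hfam c w' e').symm)]
      exact mul_mem (mul_mem hg hw') (inv_mem hg)
    · rw [conj_val]; exact hzo.conj hg
    · rw [conj_val, conj_val, conj_val, ez, mul_sub, sub_mul]
    · rw [conjBy, MonoidHom.map_closure]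
      congr 1
      ext w
      constructor
      · rintro ⟨w', ⟨c, hc⟩, rfl⟩; exact ⟨c, hfam c w' hc⟩
      · rintro ⟨c, hc⟩
        obtain ⟨w', -, e'⟩ := hasFamily_nil hz c
        exact ⟨w', ⟨c, e'⟩, Units.ext ((hfam c w' e').trans hc.symm)⟩
  have hu : IsUnipotentOn (⨆ A ∈ W, A) := by
    refine unipotent_family (G := G) ?_ ?_ hWconj
    · rintro _ ⟨z, hz, rfl⟩; exact hTle z hz
    · rintro _ ⟨z, hz, rfl⟩ _ ⟨w, hw, rfl⟩
      rw [← Subgroup.closure_union]
      obtain ⟨hzq, hzo, γ, hγ, γ', hγ', ez⟩ := hz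
      exact unipotent_of_nilpotent hzq.2.1 hw.1.2.1 (orth_nilpotent hk2 hk3 hw.1 hzo hw.2.1 hγ hγ' ez)
  have hbot : (⨆ A ∈ W, A) = ⊥ := by
    refine hred _ (iSup₂_le fun A hA => ?_) hu fun g hg => ?_
    · obtain ⟨z, hz, rfl⟩ := hA; exact hTle z hz
    have key : ∀ g ∈ G, conjBy (⨆ A ∈ W, A) g ≤ ⨆ A ∈ W, A := fun g hg => by
      rw [conjBy, Subgroup.map_iSup]
      simp only [Subgroup.map_iSup]
      exact iSup₂_le fun A hA => le_biSup (fun Z : Subgroup (LinearMap.GeneralLinearGroup k M) => Z)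
        (i := conjBy A g) (hWconj A hA g hg)
    refine le_antisymm (key g hg) ?_
    have := conjBy_mono (key g⁻¹ (inv_mem hg)) g
    rwa [conjBy_conjBy_inv] at this
  have hxmem : x ∈ ⨆ A ∈ W, A :=
    le_biSup (fun Z : Subgroup (LinearMap.GeneralLinearGroup k M) => Z)
      (show Subgroup.closure (scalarFamily x) ∈ W from
        ⟨x, ⟨hxq, ex ▸ hXo, σ, hσ, σ', hσ', ex⟩, rfl⟩)
      (Subgroup.subset_closure ⟨1, by rw [one_smul]; abel⟩)
  rw [hbot, Subgroup.mem_bot] at hxmem
  exact hX0 (by rw [← ex, hxmem, nil_one])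

end CfsgLib.RootSubgroups.QuadPair
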