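import Cfsg.Agent.RootSubgroups.RankOne

/-! `SL₂(k)`: the unitriangular subgroups form a special rank one pair; Bruhat words. -/

set_option autoImplicit false

namespace CfsgLib.RootSubgroups.SL2

open Cfsg Matrix

variable {k : Type*} [Field k]

/-- The upper elementary matrix. -/
def U (s : k) : SpecialLinearGroup (Fin 2) k :=
  ⟨!![1, s; 0, 1], by simp [det_fin_two_of]⟩

/-- The lower elementary matrix. -/
def L (t : k) : SpecialLinearGroup (Fin 2) k :=
  ⟨!![1, 0; t, 1], by simp [det_fin_two_of]⟩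

/-- The Weyl element. -/
def W : SpecialLinearGroup (Fin 2) k :=
  ⟨!![0, 1; -1, 0], by simp [det_fin_two_of]⟩

@[simp] lemma coe_U (s : k) : (U s : Matrix (Fin 2) (Fin 2) k) = !![1, s; 0, 1] := rfl
@[simp] lemma coe_L (s : k) : (L s : Matrix (Fin 2) (Fin 2) k) = !![1, 0; s, 1] := rfl
@[simp] lemma coe_W : ((W : SpecialLinearGroup (Fin 2) k) : Matrix (Fin 2) (Fin 2) k) =
    !![0, 1; -1, 0] := rfl

lemma ext2 {g h : SpecialLinearGroup (Fin 2) k}
    (h00 : (g : Matrix (Fin 2) (Fin 2) k) 0 0 = (h : Matrix (Fin 2) (Fin 2) k) 0 0)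
    (h01 : (g : Matrix (Fin 2) (Fin 2) k) 0 1 = (h : Matrix (Fin 2) (Fin 2) k) 0 1)
    (h10 : (g : Matrix (Fin 2) (Fin 2) k) 1 0 = (h : Matrix (Fin 2) (Fin 2) k) 1 0)
    (h11 : (g : Matrix (Fin 2) (Fin 2) k) 1 1 = (h : Matrix (Fin 2) (Fin 2) k) 1 1) : g = h := by
  apply Subtype.ext
  ext i j
  fin_cases i <;> fin_cases j <;> assumption

lemma det_eq (g : SpecialLinearGroup (Fin 2) k) :
    (g : Matrix (Fin 2) (Fin 2) k) 0 0 * (g : Matrix (Fin 2) (Fin 2) k) 1 1 -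
      (g : Matrix (Fin 2) (Fin 2) k) 0 1 * (g : Matrix (Fin 2) (Fin 2) k) 1 0 = 1 := by
  rw [← det_fin_two]; exact g.2

lemma U_mul (s t : k) : U s * U t = U (s + t) := by apply ext2 <;> simp [add_comm]
lemma L_mul (s t : k) : L s * L t = L (s + t) := by apply ext2 <;> simp
lemma U_zero : U (0 : k) = 1 := by apply ext2 <;> simp
lemma L_zero : L (0 : k) = 1 := by apply ext2 <;> simp
lemma U_inv (s : k) : (U s)⁻¹ = U (-s) := by
  rw [inv_eq_iff_mul_eq_one, U_mul, add_neg_cancel, U_zero]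
lemma L_inv (s : k) : (L s)⁻¹ = L (-s) := by
  rw [inv_eq_iff_mul_eq_one, L_mul, add_neg_cancel, L_zero]

lemma U_eq_one {s : k} : U s = 1 ↔ s = 0 := by
  refine ⟨fun h => ?_, fun h => h ▸ U_zero⟩
  simpa using congrArg (fun g : SpecialLinearGroup (Fin 2) k => (g : Matrix (Fin 2) (Fin 2) k) 0 1) h

lemma L_eq_one {s : k} : L s = 1 ↔ s = 0 := by
  refine ⟨fun h => ?_, fun h => h ▸ L_zero⟩
  simpa using congrArg (fun g : SpecialLinearGroup (Fin 2) k => (g : Matrix (Fin 2) (Fin 2) k) 1 0) h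

lemma mem_upper {g : SpecialLinearGroup (Fin 2) k} : g ∈ upperUnipotentSL2 k ↔ ∃ s, g = U s := by
  constructor
  · intro hg
    unfold upperUnipotentSL2 at hg
    induction hg using Subgroup.closure_induction with
    | mem g hg =>
      obtain ⟨h1, h2, h3⟩ := hg
      exact ⟨(g : Matrix (Fin 2) (Fin 2) k) 0 1, by apply ext2 <;> simp [h1, h2, h3]⟩
    | one => exact ⟨0, U_zero.symm⟩
    | mul a b _ _ ha hb =>
      obtain ⟨s, rfl⟩ := ha; obtain ⟨t, rfl⟩ := hb; exact ⟨s + t, U_mul s t⟩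
    | inv a _ ha => obtain ⟨s, rfl⟩ := ha; exact ⟨-s, U_inv s⟩
  · rintro ⟨s, rfl⟩
    exact Subgroup.subset_closure ⟨by simp, by simp, by simp⟩

lemma mem_lower {g : SpecialLinearGroup (Fin 2) k} : g ∈ lowerUnipotentSL2 k ↔ ∃ s, g = L s := by
  constructor
  · intro hg
    unfold lowerUnipotentSL2 at hg
    induction hg using Subgroup.closure_induction with
    | mem g hg =>
      obtain ⟨h1, h2, h3⟩ := hg
      exact ⟨(g : Matrix (Fin 2) (Fin 2) k) 1 0, by apply ext2 <;> simp [h1, h2, h3]⟩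
    | one => exact ⟨0, L_zero.symm⟩
    | mul a b _ _ ha hb =>
      obtain ⟨s, rfl⟩ := ha; obtain ⟨t, rfl⟩ := hb; exact ⟨s + t, L_mul s t⟩
    | inv a _ ha => obtain ⟨s, rfl⟩ := ha; exact ⟨-s, L_inv s⟩
  · rintro ⟨s, rfl⟩
    exact Subgroup.subset_closure ⟨by simp, by simp, by simp⟩

lemma U_mem (s : k) : U s ∈ upperUnipotentSL2 k := mem_upper.mpr ⟨s, rfl⟩
lemma L_mem (s : k) : L s ∈ lowerUnipotentSL2 k := mem_lower.mpr ⟨s, rfl⟩

lemma W_eq : (W : SpecialLinearGroup (Fin 2) k) = U 1 * L (-1) * U 1 := by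
  apply ext2 <;> simp

lemma W_conj_U (s : k) : W * U s * W⁻¹ = L (-s) := by
  rw [mul_inv_eq_iff_eq_mul]; apply ext2 <;> simp

lemma W_conj_L (s : k) : W * L s * W⁻¹ = U (-s) := by
  rw [mul_inv_eq_iff_eq_mul]; apply ext2 <;> simp

/-- `SL₂(k)` is generated by the upper elementary matrices and the Weyl element. -/
lemma generated (S : Subgroup (SpecialLinearGroup (Fin 2) k)) (hU : ∀ s, U s ∈ S) (hW : W ∈ S) :
    S = ⊤ := by
  have hL : ∀ t, L t ∈ S := fun t => by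
    have := mul_mem (mul_mem hW (hU (-t))) (inv_mem hW)
    rwa [W_conj_U, neg_neg] at this
  have key : ∀ g : SpecialLinearGroup (Fin 2) k, (g : Matrix (Fin 2) (Fin 2) k) 1 0 ≠ 0 → g ∈ S := by
    intro g hc
    set a := (g : Matrix (Fin 2) (Fin 2) k) 0 0
    set c := (g : Matrix (Fin 2) (Fin 2) k) 1 0
    set d := (g : Matrix (Fin 2) (Fin 2) k) 1 1
    have hdet := det_eq g
    have : g = U ((a - 1) / c) * L c * U ((d - 1) / c) := by
      apply ext2 <;> simp
      · field_simp; ring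
      · field_simp; linear_combination -hdet
      · rfl
      · field_simp; ring
    rw [this]
    exact mul_mem (mul_mem (hU _) (hL _)) (hU _)
  refine eq_top_iff.mpr fun g _ => ?_
  by_cases hc : (g : Matrix (Fin 2) (Fin 2) k) 1 0 = 0
  · have hd : (g : Matrix (Fin 2) (Fin 2) k) 0 0 ≠ 0 := fun h => by simpa [h, hc] using det_eq g
    have := key (L 1 * g) (by simpa [mul_apply, hc] using hd)
    simpa [← mul_assoc] using mul_mem (inv_mem (hL 1)) this
  · exact key g hc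

lemma lower_sup_upper : lowerUnipotentSL2 k ⊔ upperUnipotentSL2 k = ⊤ := by
  refine generated _ (fun s => (le_sup_right : upperUnipotentSL2 k ≤ _) (U_mem s)) ?_
  rw [W_eq]
  exact mul_mem (mul_mem ((le_sup_right : upperUnipotentSL2 k ≤ _) (U_mem 1))
    ((le_sup_left : lowerUnipotentSL2 k ≤ _) (L_mem _)))
    ((le_sup_right : upperUnipotentSL2 k ≤ _) (U_mem 1))

lemma lower_abelian : IsMulCommutative (lowerUnipotentSL2 k) := ⟨⟨fun ⟨x, hx⟩ ⟨y, hy⟩ => by
  obtain ⟨s, rfl⟩ := mem_lower.mp hx; obtain ⟨t, rfl⟩ := mem_lower.mp hy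
  exact Subtype.ext (by simp only [MulMemClass.mk_mul_mk, L_mul, add_comm])⟩⟩

lemma upper_abelian : IsMulCommutative (upperUnipotentSL2 k) := ⟨⟨fun ⟨x, hx⟩ ⟨y, hy⟩ => by
  obtain ⟨s, rfl⟩ := mem_upper.mp hx; obtain ⟨t, rfl⟩ := mem_upper.mp hy
  exact Subtype.ext (by simp only [MulMemClass.mk_mul_mk, U_mul, add_comm])⟩⟩

lemma nilpotent_of_comm {G : Type*} [Group G] (A : Subgroup G) (h : IsMulCommutative A) :
    Group.IsNilpotent A := by
  refine ⟨⟨1, ?_⟩⟩
  rw [Subgroup.upperCentralSeries_one, eq_top_iff]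
  intro x _
  exact Subgroup.mem_center_iff.mpr fun y => h.is_comm.comm y x

lemma conj_pair (t : k) (ht : t ≠ 0) :
    L t * (U (t⁻¹))⁻¹ * L t = (U (t⁻¹))⁻¹ * L t * (U (t⁻¹))⁻¹ := by
  rw [U_inv]; apply ext2 <;> simp [mul_apply, ht]

lemma cond_lower (t : k) (ht : t ≠ 0) :
    conjBy (lowerUnipotentSL2 k) (U t⁻¹)⁻¹ = conjBy (upperUnipotentSL2 k) (L t)⁻¹ := by
  have key : ∀ r : k, (U t⁻¹)⁻¹ * L r * U t⁻¹ = (L t)⁻¹ * U (-(r / t ^ 2)) * L t := by
    intro r
    rw [U_inv, L_inv]; apply ext2 <;> simp [mul_apply] <;> field_simp <;> ring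
  ext g
  simp only [mem_conjBy, inv_inv]
  constructor
  · intro hg
    obtain ⟨r, hr⟩ := mem_lower.mp hg
    rw [mem_upper]
    refine ⟨-(r / t ^ 2), ?_⟩
    have : g = (U t⁻¹)⁻¹ * L r * U t⁻¹ := by rw [← hr]; group
    rw [this, key]; group
  · intro hg
    obtain ⟨s, hs⟩ := mem_upper.mp hg
    rw [mem_lower]
    refine ⟨-(s * t ^ 2), ?_⟩
    have : g = (L t)⁻¹ * U (-(-(s * t ^ 2) / t ^ 2)) * L t := by
      rw [show -(-(s * t ^ 2) / t ^ 2) = s by field_simp, ← hs]; group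
    rw [this, ← key]; group

theorem rankOnePair : IsRankOnePair (lowerUnipotentSL2 k) (upperUnipotentSL2 k) where
  ne := by
    intro he
    have : L (1 : k) ∈ upperUnipotentSL2 k := he ▸ L_mem 1
    obtain ⟨s, hs⟩ := mem_upper.mp this
    simpa using congrArg
      (fun g : SpecialLinearGroup (Fin 2) k => (g : Matrix (Fin 2) (Fin 2) k) 1 0) hs
  nilpotent_left := nilpotent_of_comm _ lower_abelian
  nilpotent_right := nilpotent_of_comm _ upper_abelian
  cond_left := by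
    intro a ha ha1
    obtain ⟨t, rfl⟩ := mem_lower.mp ha
    have ht : t ≠ 0 := fun h => ha1 (L_eq_one.mpr h)
    exact ⟨U t⁻¹, U_mem _, fun h => inv_ne_zero ht (U_eq_one.mp h), cond_lower t ht⟩
  cond_right := by
    intro b hb hb1
    obtain ⟨s, rfl⟩ := mem_upper.mp hb
    have hs : s ≠ 0 := fun h => hb1 (U_eq_one.mpr h)
    exact ⟨L s⁻¹, L_mem _, fun h => inv_ne_zero hs (L_eq_one.mp h),
      by simpa using (cond_lower s⁻¹ (inv_ne_zero hs)).symm⟩

theorem rankOneGroup :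
    IsRankOneGroup (SpecialLinearGroup (Fin 2) k) (lowerUnipotentSL2 k) (upperUnipotentSL2 k) :=
  ⟨lower_sup_upper, rankOnePair⟩

theorem special : IsSpecialRankOnePair (lowerUnipotentSL2 k) (upperUnipotentSL2 k) := by
  refine ⟨rankOnePair, fun a ha ha1 b hb _ he => ?_⟩
  obtain ⟨t, rfl⟩ := mem_lower.mp ha
  have ht : t ≠ 0 := fun h => ha1 (L_eq_one.mpr h)
  obtain rfl : b = U t⁻¹ := unique_partner rankOnePair hb (U_mem _) he (cond_lower t ht)
  have hb' := conj_pair t ht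
  calc (U t⁻¹)⁻¹ * L t * U t⁻¹
      = (L t)⁻¹ * (L t * (U t⁻¹)⁻¹ * L t) * U t⁻¹ := by group
    _ = (L t)⁻¹ * ((U t⁻¹)⁻¹ * L t * (U t⁻¹)⁻¹) * U t⁻¹ := by rw [hb']
    _ = _ := by group

/-- A central element of `SL₂(k)` is a scalar `±1`. -/
lemma eq_one_or_of_center {g : SpecialLinearGroup (Fin 2) k}
    (hg : g ∈ Subgroup.center (SpecialLinearGroup (Fin 2) k)) :
    g = 1 ∨ (g : Matrix (Fin 2) (Fin 2) k) = -1 := by
  rw [Subgroup.mem_center_iff] at hg
  have h1 := congrArg (fun g : SpecialLinearGroup (Fin 2) k => (g : Matrix (Fin 2) (Fin 2) k)) (hg (U 1))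
  have h2 := congrArg (fun g : SpecialLinearGroup (Fin 2) k => (g : Matrix (Fin 2) (Fin 2) k)) (hg (L 1))
  have e1 := congrFun (congrFun h1 0) 0
  have e2 := congrFun (congrFun h1 0) 1
  have e3 := congrFun (congrFun h2 0) 0
  simp [mul_apply] at e1 e2 e3
  have hdet := det_eq g
  rw [e1, e3, mul_zero, sub_zero] at hdet
  have had : (g : Matrix (Fin 2) (Fin 2) k) 1 1 = (g : Matrix (Fin 2) (Fin 2) k) 0 0 := by
    linear_combination e2 - (0 : k) * e3
  rw [had] at hdet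
  rcases mul_self_eq_one_iff.mp hdet with h | h
  · left; apply ext2 <;> simp [e1, e3, had, h]
  · right
    ext i j
    fin_cases i <;> fin_cases j <;> simp [e1, e3, had, h]

end CfsgLib.RootSubgroups.SL2
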