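import Cfsg.Agent.RootSubgroups.SL2GenField

/-! The group generated by `up (k)` and `lo (k • lam)` in `SL₂` of a finite commutative `k`-algebra
`k[lam]`, `lam` a unit: a normal subgroup of `p`-power index contains a non-trivial `up b`, and
unless the algebra is a field one with `b` a non-unit. -/

set_option autoImplicit false
set_option linter.unusedSectionVars false

namespace CfsgLib.RootSubgroups.Gen2

open Cfsg Matrix Polynomial
open scoped MatrixGroups

variable {R : Type*} [CommRing R] {k : Type*} [Field k] [Algebra k R]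

section Small

variable {p : ℕ}

lemma tri_pow_entry {g : SL(2, R)} (hg : (g : Matrix (Fin 2) (Fin 2) R) 1 0 = 0) (n : ℕ) :
    ((g ^ n : SL(2, R)) : Matrix (Fin 2) (Fin 2) R) 1 0 = 0 ∧
      ((g ^ n : SL(2, R)) : Matrix (Fin 2) (Fin 2) R) 0 0 =
        (g : Matrix (Fin 2) (Fin 2) R) 0 0 ^ n ∧
      ((g ^ n : SL(2, R)) : Matrix (Fin 2) (Fin 2) R) 1 1 =
        (g : Matrix (Fin 2) (Fin 2) R) 1 1 ^ n := by
  induction n with
  | zero => simp
  | succ n ih =>
    obtain ⟨h1, h2, h3⟩ := ih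
    simp only [pow_succ, Matrix.SpecialLinearGroup.coe_mul, Matrix.mul_apply, Fin.sum_univ_two,
      h1, h2, h3, hg]
    simp

lemma eq_one_of_sq_of_pow {a : R} (hp : Odd p) (h2 : a * a = 1) {m : ℕ} (h : a ^ p ^ m = 1) :
    a = 1 := by
  obtain ⟨j, hj⟩ := hp.pow (n := m)
  rwa [hj, pow_succ, pow_mul, pow_two, h2, one_pow, one_mul] at h

/-- An element of `p`-power order commuting with `up 1` is some `up b`. -/
lemma eq_up_of_comm (hp : Odd p) {g : SL(2, R)} {m : ℕ} (hg : g ^ p ^ m = 1)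
    (hc : g * up 1 = up 1 * g) : ∃ b, g = up b := by
  have e00 := congrArg (fun h : SL(2, R) => (h : Matrix (Fin 2) (Fin 2) R) 0 0) hc
  have e01 := congrArg (fun h : SL(2, R) => (h : Matrix (Fin 2) (Fin 2) R) 0 1) hc
  simp [Matrix.mul_apply, Fin.sum_univ_two] at e00 e01
  have hc0 : (g : Matrix (Fin 2) (Fin 2) R) 1 0 = 0 := by linear_combination e00
  have had : (g : Matrix (Fin 2) (Fin 2) R) 0 0 = (g : Matrix (Fin 2) (Fin 2) R) 1 1 := by
    linear_combination e01
  have hd := det_eq g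
  rw [hc0, mul_zero, sub_zero, ← had] at hd
  have hpow := (tri_pow_entry hc0 (p ^ m)).2.1
  rw [hg] at hpow
  have ha := eq_one_of_sq_of_pow hp hd (by simpa using hpow.symm)
  exact ⟨(g : Matrix (Fin 2) (Fin 2) R) 0 1, by apply ext2 <;> simp [hc0, ← had, ha]⟩

/-- An element of `p`-power order commuting with `lo t`, `t` a unit, is some `lo b`. -/
lemma eq_lo_of_comm (hp : Odd p) {g : SL(2, R)} {m : ℕ} (hg : g ^ p ^ m = 1) {t : R}
    (ht : IsUnit t) (hc : g * lo t = lo t * g) : ∃ b, g = lo b := by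
  have e00 := congrArg (fun h : SL(2, R) => (h : Matrix (Fin 2) (Fin 2) R) 0 0) hc
  have e10 := congrArg (fun h : SL(2, R) => (h : Matrix (Fin 2) (Fin 2) R) 1 0) hc
  simp [Matrix.mul_apply, Fin.sum_univ_two] at e00 e10
  have hb0 : (g : Matrix (Fin 2) (Fin 2) R) 0 1 = 0 :=
    (ht.mul_left_eq_zero).1 (by linear_combination e00)
  have had : (g : Matrix (Fin 2) (Fin 2) R) 0 0 = (g : Matrix (Fin 2) (Fin 2) R) 1 1 :=
    ht.mul_left_cancel (by linear_combination -e10)
  have hd := det_eq g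
  rw [hb0, zero_mul, sub_zero, ← had] at hd
  have hpow : ∀ n : ℕ, ((g ^ n : SL(2, R)) : Matrix (Fin 2) (Fin 2) R) 0 1 = 0 ∧
      ((g ^ n : SL(2, R)) : Matrix (Fin 2) (Fin 2) R) 0 0 =
        (g : Matrix (Fin 2) (Fin 2) R) 0 0 ^ n := fun n => by
    induction n with
    | zero => simp
    | succ n ih =>
      simp only [pow_succ, Matrix.SpecialLinearGroup.coe_mul, Matrix.mul_apply, Fin.sum_univ_two,
        ih.1, ih.2, hb0]
      simp
  have h := (hpow (p ^ m)).2
  rw [hg] at h
  have ha := eq_one_of_sq_of_pow hp hd (by simpa using h.symm)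
  exact ⟨(g : Matrix (Fin 2) (Fin 2) R) 1 0, by apply ext2 <;> simp [hb0, ← had, ha]⟩

lemma ideal_mul_entries {I J : Ideal R} {A B : Matrix (Fin 2) (Fin 2) R}
    (hA : ∀ i j, A i j ∈ I) (hB : ∀ i j, B i j ∈ J) : ∀ i j, (A * B) i j ∈ I * J := fun i j => by
  rw [Matrix.mul_apply]
  exact Ideal.sum_mem _ fun l _ => Ideal.mul_mem_mul (hA i l) (hB l j)

/-- Congruence to one modulo a nilpotent ideal gives `p`-power order. -/
lemma pow_eq_one_of_congr (p : ℕ) [Fact p.Prime] [CharP R p] {g : SL(2, R)} {J : Ideal R} {n : ℕ}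
    (hJ : J ^ n = ⊥) (hg : ∀ i j, ((g : Matrix (Fin 2) (Fin 2) R) - 1) i j ∈ J) :
    g ^ p ^ n = 1 := by
  apply Subtype.ext
  rw [Matrix.SpecialLinearGroup.coe_pow, Matrix.SpecialLinearGroup.coe_one]
  set A := (g : Matrix (Fin 2) (Fin 2) R) - 1 with hA
  have hpow : ∀ j : ℕ, ∀ a b, (A ^ j) a b ∈ J ^ j := fun j => by
    induction j with
    | zero => intro a b; simp
    | succ j ih => rw [pow_succ, pow_succ]; exact ideal_mul_entries ih hg
  have hge : (g : Matrix (Fin 2) (Fin 2) R) = 1 + A := by rw [hA]; abel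
  have hzero : A ^ p ^ n = 0 := by
    ext a b
    have h1 := hpow (p ^ n) a b
    have h2 : J ^ p ^ n ≤ J ^ n :=
      Ideal.pow_le_pow_right (Nat.lt_pow_self (Fact.out : p.Prime).one_lt).le
    simpa [hJ] using h2 h1
  rw [hge, add_pow_char_pow_of_commute p n (Commute.one_left A), hzero, one_pow, add_zero]

end Small

/-- The subspace of the entries of the upper unitriangular elements of an invariant subgroup. -/
def upSub (hk2 : (2 : k) ≠ 0) (N : Subgroup SL(2, R))
    (hN : ∀ c : kˣ, ∀ g ∈ N, (dg c : SL(2, R)) * g * (dg c)⁻¹ ∈ N) : Submodule k R where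
  carrier := {r | up r ∈ N}
  zero_mem' := by simp [up_zero]
  add_mem' := fun ha hb => by
    simp only [Set.mem_ofPred_eq] at *; rw [← up_mul]; exact mul_mem ha hb
  smul_mem' := fun c r hr => by
    let A : AddSubgroup R :=
      { carrier := {r | up r ∈ N}
        zero_mem' := by simp [up_zero]
        add_mem' := fun ha hb => by
          simp only [Set.mem_ofPred_eq] at *; rw [← up_mul]; exact mul_mem ha hb
        neg_mem' := fun ha => by
          simp only [Set.mem_ofPred_eq] at *; rw [← up_inv]; exact inv_mem ha }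
    exact smul_mem_of_sq (A := A) hk2 (fun c r hr => by
      show up ((((c : k)) ^ 2) • r) ∈ N
      rw [← dg_conj_up (R := R)]; exact hN c _ hr) c hr

/-- The subspace of the entries of the lower unitriangular elements of an invariant subgroup. -/
def loSub (hk2 : (2 : k) ≠ 0) (N : Subgroup SL(2, R))
    (hN : ∀ c : kˣ, ∀ g ∈ N, (dg c : SL(2, R)) * g * (dg c)⁻¹ ∈ N) : Submodule k R where
  carrier := {r | lo r ∈ N}
  zero_mem' := by simp [lo_zero]
  add_mem' := fun ha hb => by
    simp only [Set.mem_ofPred_eq] at *; rw [← lo_mul]; exact mul_mem ha hb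
  smul_mem' := fun c r hr => by
    let A : AddSubgroup R :=
      { carrier := {r | lo r ∈ N}
        zero_mem' := by simp [lo_zero]
        add_mem' := fun ha hb => by
          simp only [Set.mem_ofPred_eq] at *; rw [← lo_mul]; exact mul_mem ha hb
        neg_mem' := fun ha => by
          simp only [Set.mem_ofPred_eq] at *; rw [← lo_inv]; exact inv_mem ha }
    exact smul_mem_of_sq (A := A) hk2 (fun c r hr => by
      show lo ((((c : k)) ^ 2) • r) ∈ N
      have := hN c⁻¹ _ hr
      rwa [dg_conj_lo, inv_inv] at this) c hr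

lemma map_genGroup {R' : Type*} [CommRing R'] [Algebra k R'] (f : R →ₐ[k] R') (lam : R) :
    (genGroup k lam).map (Matrix.SpecialLinearGroup.map f.toRingHom) = genGroup k (f lam) := by
  unfold genGroup
  rw [MonoidHom.map_closure, Set.image_union]
  have hup : ∀ c : k, Matrix.SpecialLinearGroup.map f.toRingHom (up (algebraMap k R c)) =
      up (algebraMap k R' c) := fun c => by apply ext2 <;> simp
  have hlo : ∀ c : k, Matrix.SpecialLinearGroup.map f.toRingHom (lo (algebraMap k R c * lam)) =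
      lo (algebraMap k R' c * f lam) := fun c => by apply ext2 <;> simp
  congr 1
  congr 1 <;> ext g
  · exact ⟨fun ⟨_, ⟨c, hc⟩, e⟩ => ⟨c, by rw [← e, hc, hup]⟩,
      fun ⟨c, hc⟩ => ⟨_, ⟨c, rfl⟩, by rw [hup, hc]⟩⟩
  · exact ⟨fun ⟨_, ⟨c, hc⟩, e⟩ => ⟨c, by rw [← e, hc, hlo]⟩,
      fun ⟨c, hc⟩ => ⟨_, ⟨c, rfl⟩, by rw [hlo, hc]⟩⟩

/-! ### The special linear group of a field -/

section Residue

variable {K : Type*} [Field K]

/-- A normal subgroup of `SL₂(K)` is central or everything. -/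
lemma normal_central_or_top (hK : ∃ u : K, u ≠ 0 ∧ u ^ 2 ≠ 1) (N : Subgroup SL(2, K)) [N.Normal] :
    N ≤ Subgroup.center SL(2, K) ∨ N = ⊤ := by
  rcases normal_dichotomy_top SL2.rankOneGroup N with h | h
  swap
  · exact Or.inl h
  right
  obtain ⟨u, hu0, hu1⟩ := hK
  -- the quotient by `N` is abelian
  have hq : ∀ a b : SL(2, K), a * b * a⁻¹ * b⁻¹ ∈ N := by
    intro a b
    have ha : a ∈ N ⊔ lowerUnipotentSL2 K := h ▸ Subgroup.mem_top a
    have hb : b ∈ N ⊔ lowerUnipotentSL2 K := h ▸ Subgroup.mem_top b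
    rw [Subgroup.mem_sup_of_normal_left] at ha hb
    obtain ⟨n, hn, l, hl, rfl⟩ := ha
    obtain ⟨n', hn', l', hl', rfl⟩ := hb
    rw [← QuotientGroup.eq_one_iff]
    have hn0 : ((n : SL(2, K)) : SL(2, K) ⧸ N) = 1 := (QuotientGroup.eq_one_iff n).2 hn
    have hn0' : ((n' : SL(2, K)) : SL(2, K) ⧸ N) = 1 := (QuotientGroup.eq_one_iff n').2 hn'
    have hc : l * l' = l' * l :=
      congrArg Subtype.val ((SL2.lower_abelian (k := K)).is_comm.comm ⟨l, hl⟩ ⟨l', hl'⟩)
    simp only [QuotientGroup.mk_mul, QuotientGroup.mk_inv, hn0, hn0', one_mul]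
    rw [← QuotientGroup.mk_mul, hc, QuotientGroup.mk_mul]
    group
  let D : SL(2, K) := ⟨!![u, 0; 0, u⁻¹], by simp [det_fin_two_of, mul_inv_cancel₀ hu0]⟩
  have hne : u * u - 1 ≠ 0 := sub_ne_zero.2 fun e => hu1 (by rw [pow_two, e])
  have hU : ∀ x : K, SL2.U x ∈ N := fun x => by
    have h' : D * up (x / (u * u - 1)) * D⁻¹ * (up (x / (u * u - 1)))⁻¹ ∈ N := hq _ _
    rw [tri_conj_up (by rfl), up_inv, up_mul] at h'
    convert h' using 1
    show SL2.U x = up _
    apply ext2 <;> simp [D]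
    field_simp
    ring
  refine SL2.generated N hU ?_
  have hL : SL2.L (-1 : K) ∈ N := by
    rw [← SL2.W_conj_U]; exact Subgroup.Normal.conj_mem inferInstance _ (hU 1) _
  rw [SL2.W_eq]
  exact mul_mem (mul_mem (hU 1) hL) (hU 1)

end Residue

lemma exists_sq_ne_one (hk2 : ringChar k ≠ 2) (hk3 : Nat.card k ≠ 3) [Finite k] :
    ∃ u : k, u ≠ 0 ∧ u ^ 2 ≠ 1 := by
  classical
  by_contra hall
  push Not at hall
  have h4 := four_lt_card_of hk2 hk3
  have : Fintype k := Fintype.ofFinite k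
  have hsub : (Finset.univ : Finset k) ⊆ {0, 1, -1} := fun x _ => by
    rcases eq_or_ne x 0 with rfl | hx
    · simp
    · rcases sq_eq_one_iff.1 (hall x hx) with rfl | rfl <;> simp
  have h5 := (Finset.card_le_card hsub).trans Finset.card_le_three
  rw [Finset.card_univ, ← Nat.card_eq_fintype_card] at h5
  omega

lemma sq_ne_one_map {A : Type*} [CommRing A] [Nontrivial A] [Algebra k A] {u : k} (h0 : u ≠ 0)
    (h1 : u ^ 2 ≠ 1) : algebraMap k A u ≠ 0 ∧ algebraMap k A u ^ 2 ≠ 1 :=
  ⟨by simpa using h0, by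
    rw [← map_pow, ← map_one (algebraMap k A)]
    exact fun e => h1 ((algebraMap k A).injective e)⟩

section Finite

variable {p : ℕ} [Fact p.Prime] [CharP R p] [Finite R] [Finite k]

/-- A normal subgroup of order divisible by `p` contains some non-trivial `up b`. -/
lemma exists_up_of_dvd (hp : Odd p) (H M : Subgroup SL(2, R)) (hup : up 1 ∈ H)
    (hM : ∀ g ∈ H, ∀ m ∈ M, g * m * g⁻¹ ∈ M) (hdvd : p ∣ Nat.card M) :
    ∃ b, b ≠ 0 ∧ up b ∈ M := by
  set z : SL(2, R) := up 1 with hz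
  have hzp : z ^ p = 1 := by
    have hpow : ∀ n : ℕ, (up 1 : SL(2, R)) ^ n = up (n : R) := fun n => by
      induction n with
      | zero => simp [up_zero]
      | succ n ih => rw [pow_succ, ih, up_mul, Nat.cast_succ]
    rw [hz, hpow, CharP.cast_eq_zero, up_zero]
  let P := Subgroup.zpowers z
  have hPH : P ≤ H := Subgroup.zpowers_le.2 hup
  have hP : IsPGroup p P := by
    intro x
    obtain ⟨i, hi⟩ := x.2
    refine ⟨1, Subtype.ext ?_⟩
    rw [pow_one, Subgroup.coe_pow, Subgroup.coe_one, ← hi, ← zpow_natCast, ← _root_.zpow_mul, mul_comm,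
      _root_.zpow_mul, zpow_natCast, hzp, _root_.one_zpow]
  let act : MulAction P M :=
    { smul := fun g m => ⟨(g : SL(2, R)) * m * (g : SL(2, R))⁻¹, hM _ (hPH g.2) _ m.2⟩
      one_smul := fun m => Subtype.ext (show (1 : SL(2, R)) * m * 1⁻¹ = m by group)
      mul_smul := fun g h m => Subtype.ext (show ((g : SL(2, R)) * h) * m * ((g : SL(2, R)) * h)⁻¹ =
        g * (h * m * (h : SL(2, R))⁻¹) * (g : SL(2, R))⁻¹ by group) }
  have hfix : ∀ m : M, m ∈ MulAction.fixedPoints P M ↔ (m : SL(2, R)) * z = z * m := by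
    intro m
    constructor
    · intro h
      have := congrArg Subtype.val (h ⟨z, Subgroup.mem_zpowers z⟩)
      change z * (m : SL(2, R)) * z⁻¹ = m at this
      exact (mul_inv_eq_iff_eq_mul.1 this).symm
    · rintro h ⟨g, i, rfl⟩
      apply Subtype.ext
      show z ^ i * (m : SL(2, R)) * (z ^ i)⁻¹ = m
      have hc : Commute z (m : SL(2, R)) := h.symm
      rw [(hc.zpow_left i).eq, mul_inv_cancel_right]
  let C : Subgroup M := (Subgroup.centralizer {z}).subgroupOf M
  have hcard : p ∣ Nat.card C := by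
    have e : Nat.card C = Nat.card (MulAction.fixedPoints P M) := Nat.card_congr
      (Equiv.subtypeEquivRight fun m => by
        rw [Subgroup.mem_subgroupOf, Subgroup.mem_centralizer_singleton_iff, hfix])
    rw [e]
    exact Nat.modEq_zero_iff_dvd.1 ((hP.card_modEq_card_fixedPoints M).symm.trans
      (Nat.modEq_zero_iff_dvd.2 hdvd))
  obtain ⟨x, hx⟩ := exists_prime_orderOf_dvd_card' p hcard
  set g : SL(2, R) := ((x : M) : SL(2, R)) with hgdef
  have hgp : g ^ p ^ 1 = 1 := by
    have h := congrArg (fun c : C => ((c : M) : SL(2, R))) (hx ▸ pow_orderOf_eq_one x)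
    simpa [hgdef] using h
  obtain ⟨b, hb⟩ := eq_up_of_comm hp hgp
    (Subgroup.mem_centralizer_singleton_iff.1 (Subgroup.mem_subgroupOf.1 x.2))
  refine ⟨b, fun h0 => ?_, hb ▸ (x : M).2⟩
  have : x = 1 := Subtype.ext (Subtype.ext (show g = 1 by rw [hb, h0, up_zero]))
  rw [this, orderOf_one] at hx
  exact (Fact.out : p.Prime).ne_one hx.symm

variable {lam : R} (hk2 : ringChar k ≠ 2) (hk3 : Nat.card k ≠ 3) (hlam : IsUnit lam)
  (hgen : ∀ x : R, ∃ f : k[X], aeval lam f = x)

include hk2 hk3 hlam hgen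

/-- Every element of the residue group lifts to the generated group. -/
lemma residue_lift (I : Ideal R) [I.IsMaximal] (x : SL(2, R ⧸ I)) :
    ∃ g ∈ genGroup k lam, Matrix.SpecialLinearGroup.map (Ideal.Quotient.mk I) g = x := by
  let := Ideal.Quotient.field I
  let f : R →ₐ[k] R ⧸ I := Ideal.Quotient.mkₐ k I
  have hne : f lam ≠ 0 := (hlam.map f).ne_zero
  have : Finite (R ⧸ I) := Finite.of_surjective _ (Ideal.Quotient.mk_surjective (I := I))
  have htop := genGroup_eq_top hk2 hk3 hne (IsIntegral.of_finite k (f lam)) fun y => by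
    obtain ⟨y, rfl⟩ := Ideal.Quotient.mk_surjective y
    obtain ⟨g, rfl⟩ := hgen y
    exact ⟨g, Polynomial.aeval_algHom_apply f lam g⟩
  have hx : x ∈ genGroup k (f lam) := htop ▸ Subgroup.mem_top x
  rw [← map_genGroup] at hx
  exact hx

/-- A normal subgroup of order prime to `p` is central. -/
lemma central_of_not_dvd (hp : Odd p) (M : Subgroup SL(2, R)) (hMH : M ≤ genGroup k lam)
    (hM : ∀ g ∈ genGroup k lam, ∀ m ∈ M, g * m * g⁻¹ ∈ M) (hnd : ¬ p ∣ Nat.card M)
    {m g : SL(2, R)} (hm : m ∈ M) (hg : g ∈ genGroup k lam) : m * g = g * m := by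
  set c := m * g * m⁻¹ * g⁻¹ with hc
  have hcM : c ∈ M := by
    have h' := hM g hg _ (inv_mem hm)
    have : c = m * (g * m⁻¹ * g⁻¹) := by rw [hc]; group
    rw [this]; exact mul_mem hm h'
  have hres : ∀ I : Ideal R, I.IsMaximal → ∀ i j, ((c : Matrix (Fin 2) (Fin 2) R) - 1) i j ∈ I := by
    intro I hI i j
    let := Ideal.Quotient.field I
    have : Finite (R ⧸ I) := Finite.of_surjective _ (Ideal.Quotient.mk_surjective (I := I))
    set π := Matrix.SpecialLinearGroup.map (n := Fin 2) (Ideal.Quotient.mk I) with hπ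
    have hnorm : (M.map π).Normal := ⟨by
      rintro _ ⟨n, hn, rfl⟩ y
      obtain ⟨y', hy', rfl⟩ := residue_lift hk2 hk3 hlam hgen I y
      exact ⟨y' * n * y'⁻¹, hM y' hy' n hn, by simp [hπ]⟩⟩
    obtain ⟨u, hu0, hu1⟩ := exists_sq_ne_one hk2 hk3
    have hK : ∃ u : R ⧸ I, u ≠ 0 ∧ u ^ 2 ≠ 1 :=
      ⟨algebraMap k (R ⧸ I) u, sq_ne_one_map hu0 hu1⟩
    rcases normal_central_or_top hK (M.map π) with h | h
    · have hcomm := Subgroup.mem_center_iff.1 (h ⟨m, hm, rfl⟩) (π g)
      have : π c = 1 := by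
        rw [hc, map_mul, map_mul, map_mul, map_inv, map_inv, ← hcomm]; group
      have he := congrArg (fun z : SL(2, R ⧸ I) => (z : Matrix (Fin 2) (Fin 2) (R ⧸ I)) i j) this
      rw [← Ideal.Quotient.eq_zero_iff_mem]
      fin_cases i <;> fin_cases j <;> simp [hπ] at he ⊢ <;> simp [he]
    · exfalso
      apply hnd
      have hU : (up 1 : SL(2, R ⧸ I)) ∈ M.map π := h ▸ Subgroup.mem_top _
      have hord : orderOf (up 1 : SL(2, R ⧸ I)) = p := by
        refine orderOf_eq_prime ?_ ?_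
        · have hup : (up 1 : SL(2, R)) ^ p = 1 := by
            have hpow : ∀ n : ℕ, (up 1 : SL(2, R)) ^ n = up (n : R) := fun n => by
              induction n with
              | zero => simp [up_zero]
              | succ n ih => rw [pow_succ, ih, up_mul, Nat.cast_succ]
            rw [hpow, CharP.cast_eq_zero, up_zero]
          have e : π (up 1) = up 1 := by apply ext2 <;> simp [hπ]
          rw [← e, ← map_pow, hup, map_one]
        · rw [← up_zero]; exact fun e => one_ne_zero (up_injective e)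
      exact (hord ▸ Subgroup.orderOf_dvd_natCard _ hU).trans (Subgroup.card_map_dvd M π)
  obtain ⟨n, hn⟩ := IsArtinianRing.isNilpotent_jacobson_bot (R := R)
  have hpc := pow_eq_one_of_congr p (g := c) hn fun i j => by
    rw [Ideal.jacobson, Ideal.mem_sInf]
    exact fun {I} hI => hres I hI.2 i j
  have h1 : orderOf c = 1 := by
    obtain ⟨e, -, he⟩ := (Nat.dvd_prime_pow (Fact.out : p.Prime)).1 (orderOf_dvd_of_pow_eq_one hpc)
    rcases Nat.eq_zero_or_pos e with rfl | hpos
    · simpa using he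
    · exact absurd ((dvd_pow_self p hpos.ne').trans (he ▸ Subgroup.orderOf_dvd_natCard M hcM)) hnd
  rw [orderOf_eq_one_iff, hc] at h1
  calc m * g = m * g * m⁻¹ * g⁻¹ * (g * m) := by group
    _ = g * m := by rw [h1, one_mul]

omit hk2 hk3 hlam hgen in
/-- A central `p'`-element relating two elements of order dividing `p` is trivial. -/
lemma eq_of_central {M : Subgroup SL(2, R)} (hnd : ¬ p ∣ Nat.card M) {a b : SL(2, R)}
    (ha : a ^ p = 1) (hb : b ^ p = 1) (hab : a * b⁻¹ ∈ M)
    (hcomm : a * b⁻¹ * b = b * (a * b⁻¹)) : a = b := by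
  set c := a * b⁻¹ with hc
  have : a = c * b := by rw [hc, inv_mul_cancel_right]
  rw [this, (show Commute c b from hcomm).mul_pow, hb, mul_one] at ha
  rcases (Nat.dvd_prime (Fact.out : p.Prime)).1 (orderOf_dvd_of_pow_eq_one ha) with h | h
  · rw [orderOf_eq_one_iff] at h
    rw [this, h, one_mul]
  · exact absurd (h ▸ Subgroup.orderOf_dvd_natCard M hab) hnd

/-- The main lemma. -/
theorem field_or_nonunit [Nontrivial R] (N : Subgroup SL(2, R)) (hNH : N ≤ genGroup k lam)
    (hN : ∀ g ∈ genGroup k lam, ∀ m ∈ N, g * m * g⁻¹ ∈ N)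
    (hNd : ∀ c : kˣ, ∀ g ∈ N, (dg c : SL(2, R)) * g * (dg c)⁻¹ ∈ N)
    (hidx : ∀ g ∈ genGroup k lam, ∃ m : ℕ, g ^ p ^ m ∈ N) :
    (IsField R ∧ ∃ b, b ≠ 0 ∧ up b ∈ N) ∨ ∃ b, b ≠ 0 ∧ ¬ IsUnit b ∧ up b ∈ N := by
  classical
  have hp : Odd p := (Fact.out : p.Prime).odd_of_ne_two fun h2 => by
    subst h2
    have := (RingHom.charP_iff _ (algebraMap k R).injective 2).2 (inferInstance : CharP R 2)
    exact hk2 (ringChar.eq k 2)
  have h2k : (2 : k) ≠ 0 := two_ne_zero_of_char hk2
  set H := genGroup k lam with hH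
  have hup1 : up 1 ∈ H := by simpa using up_const_mem (k := k) lam 1
  have hlolam : lo lam ∈ H := by simpa using lo_lam_mem (k := k) lam 1
  -- `p` divides the order of `N`
  have hNp : p ∣ Nat.card N := by
    by_contra hnd
    have hc : ∀ m ∈ N, ∀ g ∈ H, m * g = g * m := fun m hm g hg =>
      central_of_not_dvd hk2 hk3 hlam hgen hp N hNH hN hnd hm hg
    let N' : Subgroup H := N.subgroupOf H
    have hN' : N'.Normal := ⟨fun n hn g => hN g g.2 n hn⟩
    have hnil : Group.IsNilpotent H := by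
      have hq : IsPGroup p (H ⧸ N') := by
        intro x
        induction x using QuotientGroup.induction_on with
        | H g =>
          obtain ⟨m, hm⟩ := hidx g g.2
          exact ⟨m, by rw [← QuotientGroup.mk_pow, QuotientGroup.eq_one_iff]; exact hm⟩
      have := hq.isNilpotent
      refine isNilpotent_of_ker_le_center (QuotientGroup.mk' N') ?_
      rw [QuotientGroup.ker_mk']
      exact fun n hn => Subgroup.mem_center_iff.2 fun g => Subtype.ext (hc n hn g g.2).symm
    obtain ⟨I, hI⟩ := Ideal.exists_maximal R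
    let := Ideal.Quotient.field I
    let π : H →* SL(2, R ⧸ I) :=
      (Matrix.SpecialLinearGroup.map (Ideal.Quotient.mk I)).comp H.subtype
    have hsurj : Function.Surjective π := fun x => by
      obtain ⟨g, hg, rfl⟩ := residue_lift hk2 hk3 hlam hgen I x
      exact ⟨⟨g, hg⟩, rfl⟩
    exact not_isNilpotent SL2.rankOneGroup (Group.nilpotent_of_surjective π hsurj)
  obtain ⟨b₀, hb₀, hb₀N⟩ := exists_up_of_dvd hp H N hup1 hN hNp
  by_cases hnu : ∃ b, b ≠ 0 ∧ ¬ IsUnit b ∧ up b ∈ N
  · exact Or.inr hnu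
  push Not at hnu
  left
  have hunit : ∀ b, up b ∈ N → b ≠ 0 → IsUnit b := fun b hb h0 =>
    by_contra fun h => hnu b h0 h hb
  refine ⟨?_, b₀, hb₀, hb₀N⟩
  obtain ⟨I, hI⟩ := Ideal.exists_maximal R
  let := Ideal.Quotient.field I
  set π := Matrix.SpecialLinearGroup.map (n := Fin 2) (Ideal.Quotient.mk I) with hπ
  have hπup : ∀ x : R, π (up x) = up (Ideal.Quotient.mk I x) := fun x => by
    apply ext2 <;> simp [hπ]
  have hπlo : ∀ x : R, π (lo x) = lo (Ideal.Quotient.mk I x) := fun x => by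
    apply ext2 <;> simp [hπ]
  have hrpow : ∀ (x : R) (n : ℕ), (up x : SL(2, R)) ^ n = up ((n : R) * x) ∧
      (lo x : SL(2, R)) ^ n = lo ((n : R) * x) := fun x n => by
    induction n with
    | zero => simp [up_zero, lo_zero]
    | succ n ih =>
      rw [pow_succ, pow_succ, ih.1, ih.2, up_mul, lo_mul]
      push_cast
      ring_nf
      exact ⟨trivial, trivial⟩
  have hup_p : ∀ x : R, (up x : SL(2, R)) ^ p = 1 := fun x => by
    rw [(hrpow x p).1, CharP.cast_eq_zero, zero_mul, up_zero]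
  have hlo_p : ∀ x : R, (lo x : SL(2, R)) ^ p = 1 := fun x => by
    rw [(hrpow x p).2, CharP.cast_eq_zero, zero_mul, lo_zero]
  set NI : Subgroup SL(2, R) := N ⊓ π.ker with hNI
  have hNIn : ∀ g ∈ H, ∀ m ∈ NI, g * m * g⁻¹ ∈ NI := fun g hg m hm =>
    ⟨hN g hg m hm.1, (MonoidHom.normal_ker π).conj_mem m hm.2 g⟩
  have hnd : ¬ p ∣ Nat.card NI := fun hdvd => by
    obtain ⟨b, hb, hbN⟩ := exists_up_of_dvd hp H NI hup1 hNIn hdvd
    have h1 : π (up b) = 1 := hbN.2
    rw [hπup, ← up_zero] at h1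
    exact hI.ne_top (Ideal.eq_top_of_isUnit_mem I
      (Ideal.Quotient.eq_zero_iff_mem.1 (up_injective h1)) (hunit b hbN.1 hb))
  have hcen : ∀ m ∈ NI, ∀ g ∈ H, m * g = g * m := fun m hm g hg =>
    central_of_not_dvd hk2 hk3 hlam hgen hp NI (fun x hx => hNH hx.1) hNIn hnd hm hg
  have heq : ∀ a b : SL(2, R), a ∈ N → b ∈ N → a ^ p = 1 → b ^ p = 1 → π a = π b → a = b :=
    fun a b ha hb hap hbp he => by
      have hm : a * b⁻¹ ∈ NI := Subgroup.mem_inf.2 ⟨N.mul_mem ha (N.inv_mem hb),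
        by show π _ = 1; rw [map_mul, map_inv, he, mul_inv_cancel]⟩
      exact eq_of_central hnd hap hbp hm (hcen _ hm b (hNH hb))
  -- `N` maps onto the residue group
  have hNtop : N.map π = ⊤ := by
    have hnorm : (N.map π).Normal := ⟨by
      rintro _ ⟨n, hn, rfl⟩ y
      obtain ⟨y', hy', rfl⟩ := residue_lift hk2 hk3 hlam hgen I y
      exact ⟨y' * n * y'⁻¹, hN y' hy' n hn, by simp [hπ]⟩⟩
    have h4 := four_lt_card_of hk2 hk3
    obtain ⟨u, hu0, hu1⟩ := exists_sq_ne_one hk2 hk3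
    refine (normal_central_or_top ⟨algebraMap k (R ⧸ I) u, sq_ne_one_map hu0 hu1⟩
      (N.map π)).resolve_left fun hle => ?_
    have := hle ⟨up b₀, hb₀N, rfl⟩
    rcases SL2.eq_one_or_of_center this with e | e
    · rw [hπup, ← up_zero] at e
      exact hI.ne_top (Ideal.eq_top_of_isUnit_mem I
        (Ideal.Quotient.eq_zero_iff_mem.1 (up_injective e)) (hunit b₀ hb₀N hb₀))
    · have e01 := congrFun (congrFun e 0) 1
      rw [hπup] at e01
      simp at e01
      exact hI.ne_top (Ideal.eq_top_of_isUnit_mem I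
        (Ideal.Quotient.eq_zero_iff_mem.1 e01) (hunit b₀ hb₀N hb₀))
  -- lifts of residues
  have hlift : ∀ g : SL(2, R ⧸ I), g ^ p = 1 → ∃ y ∈ N, (∃ m, y ^ p ^ m = 1) ∧ π y = g := by
    intro g hgp
    obtain ⟨n, hn, rfl⟩ : g ∈ N.map π := hNtop ▸ Subgroup.mem_top g
    obtain ⟨a, r, hr, har⟩ := Nat.exists_eq_pow_mul_and_not_dvd
      (orderOf_pos n).ne' p (Fact.out : p.Prime).ne_one
    have hcop : Nat.Coprime r p :=
      Nat.Coprime.symm ((Fact.out : p.Prime).coprime_iff_not_dvd.2 hr)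
    obtain ⟨e, he1, he2⟩ := Nat.chineseRemainder hcop 0 1
    refine ⟨n ^ e, pow_mem hn e, ⟨a, ?_⟩, ?_⟩
    · rw [← pow_mul]
      obtain ⟨j, rfl⟩ := Nat.modEq_zero_iff_dvd.1 he1
      rw [show r * j * p ^ a = p ^ a * r * j by ring, ← har, pow_mul, pow_orderOf_eq_one, one_pow]
    · rw [map_pow]
      have hd : orderOf (π n) ∣ p := orderOf_dvd_of_pow_eq_one hgp
      conv_rhs => rw [← pow_one (π n)]
      exact pow_eq_pow_iff_modEq.2 (Nat.ModEq.of_dvd hd he2)
  have hliftU : ∀ x : R, ∃ b, up b ∈ N ∧ Ideal.Quotient.mk I b = Ideal.Quotient.mk I x := by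
    intro x
    obtain ⟨y, hyN, ⟨m, hym⟩, hy⟩ :=
      hlift (π (up x)) (by rw [← map_pow, hup_p, map_one])
    have hmem : y * up 1 * y⁻¹ * (up 1)⁻¹ ∈ NI := by
      refine ⟨?_, ?_⟩
      · have h' := hN _ hup1 _ (inv_mem hyN)
        have : y * up 1 * y⁻¹ * (up 1)⁻¹ = y * (up 1 * y⁻¹ * (up 1)⁻¹) := by group
        rw [this]
        exact mul_mem hyN h'
      · show π _ = 1; rw [map_mul, map_mul, map_mul, map_inv, map_inv, hy,
          ← map_inv, ← map_inv, ← map_mul, ← map_mul, ← map_mul, up_inv, up_inv, up_mul, up_mul,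
          up_mul, show x + 1 + -x + -1 = (0 : R) by ring, up_zero, map_one]
    have hcm := eq_of_central hnd (a := y * up 1 * y⁻¹) (b := up 1)
      (by rw [conj_pow, hup_p, mul_one, mul_inv_cancel]) (hup_p 1) hmem (hcen _ hmem _ hup1)
    obtain ⟨b, hb⟩ := eq_up_of_comm hp hym (mul_inv_eq_iff_eq_mul.1 hcm)
    refine ⟨b, hb ▸ hyN, ?_⟩
    rw [hb, hπup, hπup] at hy
    exact up_injective hy
  have hliftL : ∀ x : R, ∃ b, lo b ∈ N ∧ Ideal.Quotient.mk I b = Ideal.Quotient.mk I x := by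
    intro x
    obtain ⟨y, hyN, ⟨m, hym⟩, hy⟩ :=
      hlift (π (lo x)) (by rw [← map_pow, hlo_p, map_one])
    have hmem : y * lo lam * y⁻¹ * (lo lam)⁻¹ ∈ NI := by
      refine ⟨?_, ?_⟩
      · have h' := hN _ hlolam _ (inv_mem hyN)
        have : y * lo lam * y⁻¹ * (lo lam)⁻¹ = y * (lo lam * y⁻¹ * (lo lam)⁻¹) := by group
        rw [this]
        exact mul_mem hyN h'
      · show π _ = 1; rw [map_mul, map_mul, map_mul, map_inv, map_inv, hy,
          ← map_inv, ← map_inv, ← map_mul, ← map_mul, ← map_mul, lo_inv, lo_inv, lo_mul, lo_mul,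
          lo_mul, show x + lam + -x + -lam = (0 : R) by ring, lo_zero, map_one]
    have hcm := eq_of_central hnd (a := y * lo lam * y⁻¹) (b := lo lam)
      (by rw [conj_pow, hlo_p, mul_one, mul_inv_cancel]) (hlo_p lam) hmem (hcen _ hmem _ hlolam)
    obtain ⟨b, hb⟩ := eq_lo_of_comm hp hym hlam (mul_inv_eq_iff_eq_mul.1 hcm)
    refine ⟨b, hb ▸ hyN, ?_⟩
    rw [hb, hπlo, hπlo] at hy
    exact lo_injective hy
  set S := upSub h2k N hNd
  set T := loSub h2k N hNd
  have hSmem : ∀ x, x ∈ S ↔ up x ∈ N := fun x => Iff.rfl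
  have hTmem : ∀ x, x ∈ T ↔ lo x ∈ N := fun x => Iff.rfl
  have hSinj : ∀ x ∈ S, ∀ y ∈ S, Ideal.Quotient.mk I x = Ideal.Quotient.mk I y → x = y :=
    fun x hx y hy e => up_injective (heq _ _ hx hy (hup_p x) (hup_p y) (by rw [hπup, hπup, e]))
  have hTinj : ∀ x ∈ T, ∀ y ∈ T, Ideal.Quotient.mk I x = Ideal.Quotient.mk I y → x = y :=
    fun x hx y hy e => lo_injective (heq _ _ hx hy (hlo_p x) (hlo_p y) (by rw [hπlo, hπlo, e]))
  have hSunit : ∀ x ∈ S, x ≠ 0 → IsUnit x := fun x hx => hunit x hx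
  -- `1 ∈ S`: `up (1 - b)` commutes with some `lo t`, `t` a unit
  have h1S : (1 : R) ∈ S := by
    obtain ⟨b, hbN, hb⟩ := hliftU 1
    obtain ⟨t, htN, ht⟩ := hliftL 1
    have hdH : up (1 - b) ∈ H := by
      rw [sub_eq_add_neg, ← up_mul]; exact mul_mem hup1 (up_inv b ▸ inv_mem (hNH hbN))
    have hπd : π (up (1 - b)) = 1 := by rw [hπup, map_sub, hb, sub_self, up_zero]
    have hconj : up (1 - b) * lo t * (up (1 - b))⁻¹ = lo t :=
      heq _ _ (hN _ hdH _ htN) htN (by rw [conj_pow, hlo_p, mul_one, mul_inv_cancel]) (hlo_p t)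
        (by rw [map_mul, map_mul, map_inv, hπd, one_mul, inv_one, mul_one])
    rw [mul_inv_eq_iff_eq_mul] at hconj
    have e := congrArg (fun g : SL(2, R) => (g : Matrix (Fin 2) (Fin 2) R) 0 0) hconj
    simp [Matrix.mul_apply, Fin.sum_univ_two] at e
    -- a `t` congruent to `1` is a unit
    have htu : IsUnit t := by
      obtain ⟨t', ht'N, ht'⟩ := hliftU t
      obtain ⟨b', hb'N, hb'⟩ := hliftL (-1)
      have hg : up t' * lo b' * up t' ∈ N := mul_mem (mul_mem ht'N hb'N) ht'N
      by_contra hnu'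
      obtain ⟨J, hJ, htJ⟩ := Ideal.exists_le_maximal (Ideal.span {t})
        (by rwa [Ne, Ideal.span_singleton_eq_top])
      have htJ' : t ∈ J := htJ (Ideal.mem_span_singleton_self t)
      let π' := Matrix.SpecialLinearGroup.map (n := Fin 2) (Ideal.Quotient.mk J)
      -- `lo t` lies in the kernel for `J`, a normal subgroup
      set NJ : Subgroup SL(2, R) := N ⊓ π'.ker
      have hNJn : ∀ g ∈ H, ∀ m ∈ NJ, g * m * g⁻¹ ∈ NJ := fun g hg m hm =>
        ⟨hN g hg m hm.1, (MonoidHom.normal_ker π').conj_mem m hm.2 g⟩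
      have hmemJ : lo t ∈ NJ := ⟨htN, by
        show π' _ = 1
        apply ext2 <;> simp [π', Ideal.Quotient.eq_zero_iff_mem.2 htJ']⟩
      have hndJ : p ∣ Nat.card NJ := by
        have hne : lo t ≠ (1 : SL(2, R)) := fun e => by
          rw [← lo_zero] at e
          have ht0 := lo_injective e
          rw [ht0, map_zero, map_one] at ht
          exact zero_ne_one ht
        exact (orderOf_eq_prime (hlo_p t) hne) ▸ Subgroup.orderOf_dvd_natCard _ hmemJ
      obtain ⟨x, hx0, hxN⟩ := exists_up_of_dvd hp H NJ hup1 hNJn hndJ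
      have h1 : π' (up x) = 1 := hxN.2
      have e1 := congrArg (fun g : SL(2, R ⧸ J) => (g : Matrix (Fin 2) (Fin 2) (R ⧸ J)) 0 1) h1
      simp [π'] at e1
      exact hJ.ne_top (Ideal.eq_top_of_isUnit_mem J (Ideal.Quotient.eq_zero_iff_mem.1 e1)
        (hunit x hxN.1 hx0))
    have : b = 1 := (sub_eq_zero.1 (htu.mul_left_eq_zero.1 e)).symm
    exact this ▸ hbN
  have hlamT : lam ∈ T := by
    obtain ⟨t, htN, ht⟩ := hliftL lam
    have hdH : lo (lam - t) ∈ H := by
      rw [sub_eq_add_neg, ← lo_mul]; exact mul_mem hlolam (lo_inv t ▸ inv_mem (hNH htN))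
    have hπd : π (lo (lam - t)) = 1 := by rw [hπlo, map_sub, ht, sub_self, lo_zero]
    have hconj : lo (lam - t) * up 1 * (lo (lam - t))⁻¹ = up 1 :=
      heq _ _ (hN _ hdH _ h1S) h1S (by rw [conj_pow, hup_p, mul_one, mul_inv_cancel]) (hup_p 1)
        (by rw [map_mul, map_mul, map_inv, hπd, one_mul, inv_one, mul_one])
    rw [mul_inv_eq_iff_eq_mul] at hconj
    have e := congrArg (fun g : SL(2, R) => (g : Matrix (Fin 2) (Fin 2) R) 0 0) hconj
    simp [Matrix.mul_apply, Fin.sum_univ_two] at e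
    exact (sub_eq_zero.1 e).symm ▸ htN
  -- inverses
  have hinvS : ∀ x ∈ S, x ≠ 0 → Ring.inverse x ∈ T ∧ x * Ring.inverse x = 1 := by
    intro x hx hx0
    have hxu := hSunit x hx hx0
    refine ⟨?_, Ring.mul_inverse_cancel x hxu⟩
    obtain ⟨y, hyN, hy⟩ := hliftL (-Ring.inverse x)
    set g := up x * lo y * up x with hg
    have hgN : g ∈ N := mul_mem (mul_mem hx hyN) hx
    set e := g * up 1 * g⁻¹ with he
    obtain ⟨t, htN, ht⟩ := hliftL (-(y * y))
    have hxy : Ideal.Quotient.mk I x * Ideal.Quotient.mk I y = -1 := by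
      rw [hy, map_neg, mul_neg, ← map_mul, Ring.mul_inverse_cancel x hxu, map_one]
    have hπe : π e = π (lo t) := by
      rw [he, map_mul, map_mul, map_inv, mul_inv_eq_iff_eq_mul, hg, map_mul, map_mul, hπup, hπlo,
        hπup, hπlo, ht, map_neg, map_mul]
      set X := Ideal.Quotient.mk I x
      set Y := Ideal.Quotient.mk I y
      apply ext2 <;> simp [Matrix.mul_apply, Fin.sum_univ_two]
      all_goals first
        | linear_combination hxy
        | linear_combination -hxy
        | (right; linear_combination hxy)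
        | linear_combination Y * (X * Y + 1) * hxy
        | linear_combination -(Y * (X * Y + 1)) * hxy
    have hee : e = lo t := heq _ _
      (mul_mem (mul_mem hgN h1S) (inv_mem hgN)) htN
      (by rw [he, conj_pow, hup_p, mul_one, mul_inv_cancel]) (hlo_p t) hπe
    rw [he, mul_inv_eq_iff_eq_mul, hg] at hee
    have e00 := congrArg (fun g : SL(2, R) => (g : Matrix (Fin 2) (Fin 2) R) 0 0) hee
    have e01 := congrArg (fun g : SL(2, R) => (g : Matrix (Fin 2) (Fin 2) R) 0 1) hee
    simp [Matrix.mul_apply, Fin.sum_univ_two] at e00 e01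
    have ha : 1 + x * y = 0 := by linear_combination e01
    have hval : y = -Ring.inverse x := by
      linear_combination Ring.inverse x * ha - y * Ring.mul_inverse_cancel x hxu
    have := T.neg_mem (show y ∈ T from hyN)
    rwa [hval, neg_neg] at this
  have hcardST : Nat.card S = Nat.card T := by
    have key : ∀ (W : Submodule k R),
        (∀ x ∈ W, ∀ y ∈ W, Ideal.Quotient.mk I x = Ideal.Quotient.mk I y → x = y) →
        (∀ x : R, ∃ b ∈ W, Ideal.Quotient.mk I b = Ideal.Quotient.mk I x) →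
        Nat.card W = Nat.card (R ⧸ I) := fun W hi hs =>
      Nat.card_eq_of_bijective (fun x : W => Ideal.Quotient.mk I (x : R))
        ⟨fun a b e => Subtype.ext (hi _ a.2 _ b.2 e), fun z => by
          obtain ⟨z, rfl⟩ := Ideal.Quotient.mk_surjective z
          obtain ⟨b, hb, e⟩ := hs z
          exact ⟨⟨b, hb⟩, e⟩⟩
    rw [key S hSinj hliftU, key T hTinj hliftL]
  have hT_inv : ∀ z ∈ T, z ≠ 0 → ∃ x ∈ S, x * z = 1 := by
    intro z hz hz0
    let φ : {x : S // x ≠ 0} → {z : T // z ≠ 0} := fun x =>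
      ⟨⟨Ring.inverse ((x.1 : S) : R), (hinvS _ x.1.2 (fun h => x.2 (Subtype.ext h))).1⟩, fun h => by
        have h2 := (hinvS _ x.1.2 (fun h => x.2 (Subtype.ext h))).2
        rw [show Ring.inverse ((x.1 : S) : R) = 0 from congrArg Subtype.val h, mul_zero] at h2
        exact zero_ne_one h2⟩
    have hφ : Function.Injective φ := by
      intro a b e
      have e' : Ring.inverse ((a.1 : S) : R) = Ring.inverse ((b.1 : S) : R) :=
        congrArg (fun w : {z : T // z ≠ 0} => ((w.1 : T) : R)) e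
      have ha := (hinvS _ a.1.2 (fun h => a.2 (Subtype.ext h))).2
      have hb := (hinvS _ b.1.2 (fun h => b.2 (Subtype.ext h))).2
      apply Subtype.ext; apply Subtype.ext
      linear_combination ((b.1 : S) : R) * ha - ((a.1 : S) : R) * hb -
        ((a.1 : S) : R) * ((b.1 : S) : R) * e'
    have hbij : Function.Bijective φ := by
      rw [Nat.bijective_iff_injective_and_card]
      refine ⟨hφ, ?_⟩
      have := Fintype.ofFinite S
      have := Fintype.ofFinite T
      rw [Nat.card_eq_fintype_card, Nat.card_eq_fintype_card, Fintype.card_subtype_compl,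
        Fintype.card_subtype_compl, Fintype.card_subtype_eq, Fintype.card_subtype_eq,
        ← Nat.card_eq_fintype_card, ← Nat.card_eq_fintype_card, hcardST]
    obtain ⟨x, hx⟩ := hbij.2 ⟨⟨z, hz⟩, fun h => hz0 (congrArg Subtype.val h)⟩
    refine ⟨(x.1 : S), x.1.2, ?_⟩
    have e : Ring.inverse ((x.1 : S) : R) = z :=
      congrArg (fun w : {z : T // z ≠ 0} => ((w.1 : T) : R)) hx
    rw [← e]
    exact (hinvS _ x.1.2 (fun h => x.2 (Subtype.ext h))).2
  have hHua : ∀ x ∈ S, ∀ z ∈ T, x * x * z ∈ S := by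
    intro x hx z hz
    rcases eq_or_ne x 0 with rfl | hx0
    · simp
    rcases eq_or_ne z 0 with rfl | hz0
    · simp
    obtain ⟨zi, hzi, hziz⟩ := hT_inv z hz hz0
    rcases eq_or_ne zi x with rfl | hne
    · rw [mul_assoc, hziz, mul_one]; exact hzi
    have hd : zi - x ∈ S := S.sub_mem hzi hx
    have hd0 : zi - x ≠ 0 := sub_ne_zero.2 hne
    obtain ⟨h1, h1'⟩ := hinvS x hx hx0
    obtain ⟨h2, h2'⟩ := hinvS _ hd hd0
    set σ := Ring.inverse x + Ring.inverse (zi - x)
    have hσ : σ * (x * (zi - x) * z) = 1 := by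
      linear_combination ((zi - x) * z) * h1' + (x * z) * h2' + hziz
    obtain ⟨w, hw, hwσ⟩ := hT_inv σ (T.add_mem h1 h2) fun h0 => by
      rw [h0, zero_mul] at hσ; exact zero_ne_one hσ
    have hwe : w = x - x * x * z := by
      linear_combination x * (zi - x) * z * hwσ - w * hσ + x * hziz
    have := S.sub_mem hx (hwe ▸ hw)
    simpa using this
  have hTS : T ≤ S := fun z hz => by simpa using hHua 1 h1S z hz
  have hSTeq : (S : Set R) = T := (Set.eq_of_subset_of_ncard_le hTS
    (by rw [← Nat.card_coe_set_eq, ← Nat.card_coe_set_eq]; exact hcardST.le)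
    (Set.toFinite _)).symm
  have hsq : ∀ x ∈ S, ∀ z ∈ S, x * x * z ∈ S := fun x hx z hz =>
    hHua x hx z (by rw [← SetLike.mem_coe, ← hSTeq]; exact hz)
  have hmul : ∀ x ∈ S, ∀ y ∈ S, x * y ∈ S := by
    intro x hx y hy
    have h := S.sub_mem (S.sub_mem (hsq (x + y) (S.add_mem hx hy) 1 h1S) (hsq x hx 1 h1S))
      (hsq y hy 1 h1S)
    have e : x * y = (2 : k)⁻¹ • ((x + y) * (x + y) * 1 - x * x * 1 - y * y * 1) := by
      rw [show (x + y) * (x + y) * 1 - x * x * 1 - y * y * 1 = (2 : k) • (x * y) by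
        rw [two_smul]; ring, inv_smul_smul₀ h2k]
    exact e ▸ S.smul_mem _ h
  have hlamS : lam ∈ S := hTS hlamT
  have hall : ∀ r : R, r ∈ S := fun r => by
    obtain ⟨f, rfl⟩ := hgen r
    induction f using Polynomial.induction_on' with
    | add f g hf hg => rw [map_add]; exact S.add_mem hf hg
    | monomial m a =>
      rw [aeval_monomial, ← Algebra.smul_def]
      refine S.smul_mem _ ?_
      induction m with
      | zero => simpa using h1S
      | succ m ih => rw [pow_succ]; exact hmul _ ih _ hlamS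
  exact ⟨exists_pair_ne R, mul_comm, fun {a} ha => (hSunit a (hall a) ha).exists_right_inv⟩

end Finite

end CfsgLib.RootSubgroups.Gen2
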