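import Cfsg.Agent.RootSubgroups.SL2GenField
import Cfsg.Agent.RootSubgroups.SL2GenAlgebra
import Cfsg.Agent.RootSubgroups.SL2

/-! The generated group over `k[X] / (X² m)`, `m` irreducible, contains all elementary matrices with
entry divisible by `X²`. -/

set_option autoImplicit false

namespace CfsgLib.RootSubgroups.Gen2

open Cfsg Matrix Polynomial
open scoped MatrixGroups

variable {k : Type*} [Field k]

/-- `SL₂` of a field with more than three elements is perfect. -/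
lemma sl2_commutator_top {K : Type*} [Field K] (hK : ∃ u : K, u ≠ 0 ∧ u ^ 2 ≠ 1) :
    ⁅(⊤ : Subgroup SL(2, K)), (⊤ : Subgroup SL(2, K))⁆ = ⊤ := by
  obtain ⟨u, hu0, hu1⟩ := hK
  have h1 : u ^ 2 - 1 ≠ 0 := sub_ne_zero.2 hu1
  have key : ∀ s : K, up s ∈ (⁅(⊤ : Subgroup SL(2, K)), (⊤ : Subgroup SL(2, K))⁆ : Subgroup SL(2, K)) ∧
      lo s ∈ (⁅(⊤ : Subgroup SL(2, K)), (⊤ : Subgroup SL(2, K))⁆ : Subgroup SL(2, K)) := by
    intro s
    set c := Units.mk0 u hu0
    set r := s / (u ^ 2 - 1)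
    constructor
    · have e : up s = (dg c : SL(2, K)) * up r * (dg c)⁻¹ * (up r)⁻¹ := by
        rw [dg_conj_up, up_inv, up_mul]
        congr 1
        simp only [c, Units.val_mk0, smul_eq_mul, r]
        field_simp
        ring
      rw [e]
      exact Subgroup.commutator_mem_commutator (Subgroup.mem_top _) (Subgroup.mem_top _)
    · have e : lo s = (dg c⁻¹ : SL(2, K)) * lo r * (dg c⁻¹)⁻¹ * (lo r)⁻¹ := by
        rw [dg_conj_lo, lo_inv, lo_mul]
        congr 1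
        simp only [c, inv_inv, Units.val_mk0, smul_eq_mul, r]
        field_simp
        ring
      rw [e]
      exact Subgroup.commutator_mem_commutator (Subgroup.mem_top _) (Subgroup.mem_top _)
  have hU : ∀ s, SL2.U s ∈ (⁅(⊤ : Subgroup SL(2, K)), (⊤ : Subgroup SL(2, K))⁆ : Subgroup SL(2, K)) :=
    fun s => (show (up s : SL(2, K)) = SL2.U s from rfl) ▸ (key s).1
  refine SL2.generated _ hU ?_
  rw [SL2.W_eq]
  exact mul_mem (mul_mem (hU 1) ((show (lo (-1) : SL(2, K)) = SL2.L (-1) from rfl) ▸ (key (-1)).2)) (hU 1)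

lemma exists_sq_ne_one' (hk2 : ringChar k ≠ 2) (hk3 : Nat.card k ≠ 3) :
    ∃ u : k, u ≠ 0 ∧ u ^ 2 ≠ 1 := by
  by_contra hall
  push Not at hall
  have hsub : (Set.univ : Set k) ⊆ {0, 1, -1} := fun c _ => by
    by_cases h : c = 0
    · simp [h]
    · rcases sq_eq_one_iff.1 (hall c h) with h' | h' <;> simp [h']
  have : Finite k := Set.finite_univ_iff.1 ((by simp : ({0, 1, -1} : Set k).Finite).subset hsub)
  have h4 := four_lt_card_of hk2 hk3
  have := Set.ncard_le_ncard hsub (by simp)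
  rw [Set.ncard_univ] at this
  have h5 := Set.ncard_insert_le (0 : k) {1, -1}
  have h6 := Set.ncard_insert_le (1 : k) {-1}
  rw [Set.ncard_singleton] at h6
  omega

/-- Over an algebra with an augmentation whose kernel squares to zero, the generated group of an
element of that kernel has trivial second derived group. -/
lemma second_derived {R : Type*} [CommRing R] [Algebra k R] (red : R →ₐ[k] k) {lam : R}
    (hlam : red lam = 0) (hred : ∀ z : R, red z = 0 → ∀ z' : R, red z' = 0 → z * z' = 0) :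
    ⁅(⁅genGroup k lam, genGroup k lam⁆ : Subgroup SL(2, R)),
      (⁅genGroup k lam, genGroup k lam⁆ : Subgroup SL(2, R))⁆ = ⊥ := by
  set H := genGroup k lam
  let πr := Matrix.SpecialLinearGroup.map (n := Fin 2) red.toRingHom
  have htri : ∀ x ∈ H, ∃ b, πr x = up b := by
    intro x hx
    induction hx using Subgroup.closure_induction with
    | mem x hx =>
      rcases hx with ⟨c, rfl⟩ | ⟨c, rfl⟩
      · refine ⟨c, ?_⟩
        apply Gen2.ext2 <;> simp [πr]
      · refine ⟨0, ?_⟩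
        apply Gen2.ext2 <;> simp [πr, hlam]
    | one => exact ⟨0, by simp [up_zero]⟩
    | mul x y _ _ hx hy =>
      obtain ⟨a, ha⟩ := hx; obtain ⟨b, hb⟩ := hy
      exact ⟨a + b, by rw [map_mul, ha, hb, up_mul]⟩
    | inv x _ hx =>
      obtain ⟨a, ha⟩ := hx
      exact ⟨-a, by rw [map_inv, ha, up_inv]⟩
  have hker : (⁅H, H⁆ : Subgroup SL(2, R)) ≤ πr.ker := by
    refine Subgroup.commutator_le.2 fun x hx y hy => ?_
    obtain ⟨a, ha⟩ := htri x hx
    obtain ⟨b, hb⟩ := htri y hy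
    rw [commutatorElement_def, MonoidHom.mem_ker, map_mul, map_mul, map_mul, map_inv, map_inv, ha,
      hb, up_inv, up_inv, up_mul, up_mul, up_mul, ← up_zero]
    congr 1; ring
  rw [eq_bot_iff, Subgroup.commutator_le]
  intro u hu v hv
  have hz : ∀ {u : SL(2, R)}, πr u = 1 → ∀ i j,
      red (((u : Matrix (Fin 2) (Fin 2) R) - 1) i j) = 0 := fun {u} hu i j => by
    have e := congrArg (fun z : SL(2, k) => (z : Matrix (Fin 2) (Fin 2) k) i j) hu
    rw [Matrix.sub_apply, map_sub, sub_eq_zero]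
    refine Eq.trans (show red ((u : Matrix (Fin 2) (Fin 2) R) i j) = _ from e) ?_
    fin_cases i <;> fin_cases j <;> simp
  have hprod : ∀ (a b : Matrix (Fin 2) (Fin 2) R), (∀ i j, red (a i j) = 0) →
      (∀ i j, red (b i j) = 0) → a * b = 0 := fun a b ha hb => by
    ext i j
    rw [Matrix.mul_apply]
    exact Finset.sum_eq_zero fun l _ => hred _ (ha i l) _ (hb l j)
  rw [Subgroup.mem_bot, commutatorElement_eq_one_iff_mul_comm]
  apply Subtype.ext
  rw [Matrix.SpecialLinearGroup.coe_mul, Matrix.SpecialLinearGroup.coe_mul]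
  have e1 := hprod _ _ (hz (MonoidHom.mem_ker.1 (hker hu))) (hz (MonoidHom.mem_ker.1 (hker hv)))
  have e2 := hprod _ _ (hz (MonoidHom.mem_ker.1 (hker hv))) (hz (MonoidHom.mem_ker.1 (hker hu)))
  calc (u : Matrix (Fin 2) (Fin 2) R) * v
      = ((u : Matrix (Fin 2) (Fin 2) R) - 1) * ((v : Matrix (Fin 2) (Fin 2) R) - 1)
        + (u : Matrix (Fin 2) (Fin 2) R) + (v : Matrix (Fin 2) (Fin 2) R) - 1 := by
        simp only [sub_mul, mul_sub, one_mul, mul_one]; abel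
    _ = ((v : Matrix (Fin 2) (Fin 2) R) - 1) * ((u : Matrix (Fin 2) (Fin 2) R) - 1)
        + (u : Matrix (Fin 2) (Fin 2) R) + (v : Matrix (Fin 2) (Fin 2) R) - 1 := by rw [e1, e2]
    _ = (v : Matrix (Fin 2) (Fin 2) R) * u := by simp only [sub_mul, mul_sub, one_mul, mul_one]; abel

/-- The augmentation of `k[X] / (X²)`. -/
lemma augment : ∃ red : AdjoinRoot (X ^ 2 : k[X]) →ₐ[k] k,
    red (AdjoinRoot.root (X ^ 2 : k[X])) = 0 ∧ ∀ z, red z = 0 → ∀ z', red z' = 0 → z * z' = 0 := by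
  let red : AdjoinRoot (X ^ 2 : k[X]) →ₐ[k] k :=
    AdjoinRoot.liftAlgHom (X ^ 2 : k[X]) (Algebra.ofId k k) 0 (by simp)
  have hroot : red (AdjoinRoot.root (X ^ 2 : k[X])) = 0 := AdjoinRoot.liftAlgHom_root ..
  refine ⟨red, hroot, ?_⟩
  have hd : ∀ z, red z = 0 → ∃ w, z = AdjoinRoot.root (X ^ 2 : k[X]) * w := by
    intro z hz
    obtain ⟨g, rfl⟩ := AdjoinRoot.mk_surjective z
    have hg : g.coeff 0 = 0 := by
      rw [← AdjoinRoot.aeval_eq, ← Polynomial.aeval_algHom_apply, hroot] at hz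
      rwa [coeff_zero_eq_aeval_zero]
    refine ⟨AdjoinRoot.mk _ g.divX, ?_⟩
    conv_lhs => rw [← X_mul_divX_add g, hg, map_zero, add_zero, map_mul, AdjoinRoot.mk_X]
  intro z hz z' hz'
  obtain ⟨w, rfl⟩ := hd z hz
  obtain ⟨w', rfl⟩ := hd z' hz'
  have : AdjoinRoot.root (X ^ 2 : k[X]) * AdjoinRoot.root (X ^ 2 : k[X]) = 0 := by
    rw [← AdjoinRoot.mk_X, ← map_mul, AdjoinRoot.mk_eq_zero, sq]
  linear_combination w * w' * this

/-- The abstract gluing of the two quotients. -/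
lemma glue {R R₀ K : Type*} [CommRing R] [CommRing R₀] [Field K] [Algebra k R] [Algebra k R₀]
    [Algebra k K] (q₀ : R →ₐ[k] R₀) (q₁ : R →ₐ[k] K) {lam : R}
    (hinj : ∀ z : R, q₀ z = 0 → q₁ z = 0 → z = 0) (htop : genGroup k (q₁ lam) = ⊤)
    (hK : ∃ u : K, u ≠ 0 ∧ u ^ 2 ≠ 1)
    (hsol : ⁅(⁅genGroup k (q₀ lam), genGroup k (q₀ lam)⁆ : Subgroup SL(2, R₀)),
      (⁅genGroup k (q₀ lam), genGroup k (q₀ lam)⁆ : Subgroup SL(2, R₀))⁆ = ⊥)
    {z : R} (hz : q₀ z = 0) : up z ∈ genGroup k lam ∧ lo z ∈ genGroup k lam := by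
  set π₀ := Matrix.SpecialLinearGroup.map (n := Fin 2) q₀.toRingHom
  set π₁ := Matrix.SpecialLinearGroup.map (n := Fin 2) q₁.toRingHom
  set H := genGroup k lam
  set D := ⁅(⁅H, H⁆ : Subgroup SL(2, R)), (⁅H, H⁆ : Subgroup SL(2, R))⁆ with hD
  have hDH : D ≤ H := (Subgroup.commutator_le_self _).trans (Subgroup.commutator_le_self H)
  have hD1 : D.map π₁ = ⊤ := by
    rw [hD, Subgroup.map_commutator, Subgroup.map_commutator,
      show H.map π₁ = ⊤ from (map_genGroup q₁ lam).trans htop, sl2_commutator_top hK,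
      sl2_commutator_top hK]
  have hD0 : D.map π₀ = ⊥ := by
    rw [hD, Subgroup.map_commutator, Subgroup.map_commutator,
      show H.map π₀ = genGroup k (q₀ lam) from map_genGroup q₀ lam, hsol]
  have hfin : ∀ g : SL(2, R), π₀ g = 1 → g ∈ H := by
    intro g hg
    obtain ⟨x, hx, hxe⟩ : π₁ g ∈ D.map π₁ := hD1 ▸ Subgroup.mem_top _
    have hx0 : π₀ x = 1 := by
      rw [← Subgroup.mem_bot, ← hD0]; exact ⟨x, hx, rfl⟩
    suffices g = x from this ▸ hDH hx
    apply Subtype.ext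
    ext i j
    refine sub_eq_zero.1 (hinj _ ?_ ?_)
    · have e := congrArg (fun z : SL(2, R₀) => (z : Matrix (Fin 2) (Fin 2) R₀) i j) (hg.trans hx0.symm)
      rw [map_sub, sub_eq_zero]; exact e
    · have e := congrArg (fun z : SL(2, K) => (z : Matrix (Fin 2) (Fin 2) K) i j) hxe
      rw [map_sub, sub_eq_zero]; exact e.symm
  exact ⟨hfin _ (by apply Gen2.ext2 <;> simp [π₀, hz]), hfin _ (by apply Gen2.ext2 <;> simp [π₀, hz])⟩

/-- Elementary matrices with entry divisible by `X²` are generated. -/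
theorem sq_mem {m : k[X]} (hirr : Irreducible m) (hX : ¬ X ∣ m) (hk2 : ringChar k ≠ 2)
    (hk3 : Nat.card k ≠ 3) (r : k[X]) :
    up (AdjoinRoot.mk (X ^ 2 * m) (X ^ 2 * r)) ∈ genGroup k (AdjoinRoot.root (X ^ 2 * m)) ∧
      lo (AdjoinRoot.mk (X ^ 2 * m) (X ^ 2 * r)) ∈ genGroup k (AdjoinRoot.root (X ^ 2 * m)) := by
  have : Fact (Irreducible m) := ⟨hirr⟩
  have hPm : aeval (AdjoinRoot.root m) (X ^ 2 * m) = 0 := by
    rw [AdjoinRoot.aeval_eq, AdjoinRoot.mk_eq_zero]; exact dvd_mul_left _ _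
  have hP0 : aeval (AdjoinRoot.root (X ^ 2 : k[X])) (X ^ 2 * m) = 0 := by
    rw [AdjoinRoot.aeval_eq, AdjoinRoot.mk_eq_zero]; exact dvd_mul_right _ _
  let q₁ : AdjoinRoot (X ^ 2 * m) →ₐ[k] AdjoinRoot m :=
    AdjoinRoot.liftAlgHom _ (Algebra.ofId k _) (AdjoinRoot.root m) hPm
  let q₀ : AdjoinRoot (X ^ 2 * m) →ₐ[k] AdjoinRoot (X ^ 2 : k[X]) :=
    AdjoinRoot.liftAlgHom _ (Algebra.ofId k _) (AdjoinRoot.root (X ^ 2 : k[X])) hP0
  have r1 : q₁ (AdjoinRoot.root (X ^ 2 * m)) = AdjoinRoot.root m := AdjoinRoot.liftAlgHom_root ..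
  have r0 : q₀ (AdjoinRoot.root (X ^ 2 * m)) = AdjoinRoot.root (X ^ 2 : k[X]) :=
    AdjoinRoot.liftAlgHom_root ..
  have hq1 : ∀ g, q₁ (AdjoinRoot.mk _ g) = AdjoinRoot.mk m g := fun g => by
    rw [← AdjoinRoot.aeval_eq, ← Polynomial.aeval_algHom_apply, ← AdjoinRoot.aeval_eq, r1]
  have hq0 : ∀ g, q₀ (AdjoinRoot.mk _ g) = AdjoinRoot.mk (X ^ 2) g := fun g => by
    rw [← AdjoinRoot.aeval_eq, ← Polynomial.aeval_algHom_apply, ← AdjoinRoot.aeval_eq, r0]
  obtain ⟨red, hroot, hred⟩ := augment (k := k)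
  refine glue q₀ q₁ (fun z => ?_) ?_ ?_ (r0 ▸ second_derived red hroot hred) ?_
  · obtain ⟨g, rfl⟩ := AdjoinRoot.mk_surjective z
    rw [hq0, hq1, AdjoinRoot.mk_eq_zero, AdjoinRoot.mk_eq_zero, AdjoinRoot.mk_eq_zero]
    exact fun h0 h1 => ((Prime.coprime_iff_not_dvd Polynomial.prime_X).2 hX).pow_left.mul_dvd h0 h1
  · have hlne : AdjoinRoot.root m ≠ 0 := fun h => hX
      (hirr.associated_of_dvd Polynomial.irreducible_X
        (AdjoinRoot.mk_eq_zero.1 (AdjoinRoot.mk_X.trans h))).symm.dvd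
    rw [r1]
    exact genGroup_eq_top hk2 hk3 hlne (AdjoinRoot.isIntegral_root hirr.ne_zero) (fun x => by
      obtain ⟨g, rfl⟩ := AdjoinRoot.mk_surjective x; exact ⟨g, AdjoinRoot.aeval_eq g⟩)
  · obtain ⟨u, h0, h1⟩ := exists_sq_ne_one' hk2 hk3
    refine ⟨algebraMap k (AdjoinRoot m) u, ?_, ?_⟩
    · rwa [Ne, map_eq_zero]
    · rw [← map_pow, ← map_one (algebraMap k (AdjoinRoot m))]
      exact fun e => h1 ((algebraMap k (AdjoinRoot m)).injective e)
  · rw [hq0, AdjoinRoot.mk_eq_zero]; exact dvd_mul_right _ _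

end CfsgLib.RootSubgroups.Gen2
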