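import Cfsg.Agent.RootSubgroups.QuadRankOne
import Cfsg.Agent.RootSubgroups.SL2GenSquare

/-! Splitting an element of minimal rank off an arbitrary quadratic element. -/

set_option autoImplicit false

namespace CfsgLib.RootSubgroups.QuadPair

open Cfsg Matrix Polynomial
open CfsgLib.RootSubgroups.Gen2 CfsgLib.RootSubgroups.QuadWord
open scoped MatrixGroups

universe u

variable {k : Type u} [Field k] {M : Type u} [AddCommGroup M] [Module k M]
  [FiniteDimensional k M]
variable {G : Subgroup (LinearMap.GeneralLinearGroup k M)} {σ τ : LinearMap.GeneralLinearGroup k M}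
variable (hσ : σ ∈ minimalQuadraticElements G) (hτ : τ ∈ quadraticElements G)

include hσ hτ

/-- A lower element with entry `X h` of the group over `k[X]/(X²Q)` gives a word in `G`. -/
lemma word_mem_lower {Q : k[X]} (hQ : aeval (phi σ τ) Q = 0) (f : k[X])
    (hmem : lo (AdjoinRoot.mk (X ^ 2 * Q) (X * f)) ∈ genGroup k (AdjoinRoot.root (X ^ 2 * Q))) :
    ∃ g ∈ G, (g : M →ₗ[k] M) = 1 + nil τ * aeval (nil σ * nil τ) f := by
  set s := nil σ
  set t := nil τ
  have hs : s * s = 0 := nil_sq hσ.1.2.1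
  have ht : t * t = 0 := nil_sq hτ.2.1
  set P := X ^ 2 * Q with hP
  let π : k[X] →ₐ[k] AdjoinRoot P := aeval (AdjoinRoot.root P)
  have hπ : ∀ g, π g = AdjoinRoot.mk P g := fun g => AdjoinRoot.aeval_eq g
  have hroot : π X = AdjoinRoot.root P := by simp [π]
  rw [← hroot, ← map_genGroup] at hmem
  obtain ⟨B, hB, hBe⟩ := hmem
  refine ⟨wordHom hs ht ⟨B, hB⟩, (wordHom_mem hσ hτ ⟨B, hB⟩).2, ?_⟩
  rw [wordHom_apply]
  have hent : ∀ i j, P ∣ (B : Matrix (Fin 2) (Fin 2) k[X]) i j - !![(1 : k[X]), 0; X * f, 1] i j := by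
    intro i j
    have e := congrArg (fun g : SL(2, AdjoinRoot P) => (g : Matrix (Fin 2) (Fin 2) (AdjoinRoot P)) i j) hBe
    rw [← AdjoinRoot.mk_eq_mk]
    simp [hπ] at e
    fin_cases i <;> fin_cases j <;> simp at e ⊢ <;> exact e
  have hst : aeval (s * t) (X * Q) = 0 := by
    rw [mul_comm, map_mul, aeval_X]; exact aeval_mul_word_eq_zero hQ
  have kill1 : ∀ g, P ∣ g → aeval (s * t) g = 0 := by
    rintro g ⟨r, rfl⟩
    rw [hP, show X ^ 2 * Q * r = X * Q * (X * r) by ring, map_mul, hst, zero_mul]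
  have kill2 : ∀ g, P ∣ g → aeval (t * s) g = 0 := by
    rintro g ⟨r, rfl⟩
    rw [hP, show X ^ 2 * Q * r = X * (X * Q) * r by ring, map_mul, map_mul, aeval_X, mul_assoc t,
      mul_aeval_comm, hst, zero_mul, mul_zero, zero_mul]
  have h00 := hent 0 0
  have h01 := hent 0 1
  have h10 := hent 1 0
  have h11 := hent 1 1
  simp at h00 h01 h10 h11
  have hdiv : aeval (s * t) ((B : Matrix (Fin 2) (Fin 2) k[X]) 1 0).divX = aeval (s * t) f := by
    obtain ⟨r, hr⟩ := h10
    rw [sub_eq_iff_eq_add.1 hr, hP, show X ^ 2 * Q * r + X * f = X * (X * Q * r + f) by ring,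
      show (X * (X * Q * r + f) : k[X]).divX = X * Q * r + f by ext n; rw [coeff_divX, coeff_X_mul],
      map_add, map_mul, hst, zero_mul, zero_add]
  have e01 := kill1 _ h01
  rw [theta, kill1 _ h00, kill2 _ h11, hdiv, e01, zero_mul, add_zero, add_zero, add_zero]

variable (hk2 : ringChar k ≠ 2) (hk3 : Nat.card k ≠ 3)

include hk2 hk3

/-- `φ` vanishes or is invertible with irreducible minimal polynomial. -/
lemma phi_cases : phi σ τ = 0 ∨
    (Function.Injective (phi σ τ) ∧ Irreducible (minpoly k (phi σ τ)) ∧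
      ¬ X ∣ minpoly k (phi σ τ)) := by
  by_cases hn : ∃ e, (phi σ τ) ^ e = 0
  · obtain ⟨e, he⟩ := hn
    have h2 : (2 : k) ≠ 0 := two_ne_zero_of_char hk2
    have hQ : aeval (phi σ τ) (X ^ e : k[X]) = 0 := by simp [he]
    have hl : AdjoinRoot.root (X ^ 2 * X ^ e : k[X]) ^ (2 + e) = 0 := by
      have : AdjoinRoot.mk (X ^ 2 * X ^ e : k[X]) (X ^ 2 * X ^ e) = 0 := AdjoinRoot.mk_self
      rw [map_mul, map_pow, map_pow, AdjoinRoot.mk_X] at this
      rw [pow_add]; exact this
    have hgen : ∀ x : AdjoinRoot (X ^ 2 * X ^ e : k[X]), ∃ f : k[X],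
        aeval (AdjoinRoot.root (X ^ 2 * X ^ e : k[X])) f = x := fun x => by
      obtain ⟨f, rfl⟩ := AdjoinRoot.mk_surjective x; exact ⟨f, AdjoinRoot.aeval_eq f⟩
    have h := word_smul_mem hτ hσ h2 hQ X (mem_upSet.2 (by
      have := up_mul_lam_mem h2 hl hgen 1
      rwa [mul_one, ← AdjoinRoot.mk_X] at this))
    rw [aeval_X] at h
    refine h.imp id fun hi => ?_
    exfalso
    have hi' : Function.Injective ⇑((phi σ τ) ^ e) := by rw [Module.End.coe_pow]; exact hi.iterate e
    apply quad_ne hσ.1.2.1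
    refine LinearMap.ext fun m => ?_
    exact congrArg Subtype.val
      (hi' (a₁ := ⟨nil σ m, LinearMap.mem_range_self _ _⟩) (a₂ := 0) (by rw [he]; rfl))
  push Not at hn
  obtain ⟨hinj, hdiv⟩ := division_of_not_nilpotent hσ hτ hk2 hk3 hn
  refine Or.inr ⟨hinj, ?_⟩
  set φ := phi σ τ with hφ
  have hint : IsIntegral k φ := IsIntegral.of_finite k φ
  have hm0 : minpoly k φ ≠ 0 := minpoly.ne_zero hint
  have hne : φ ≠ 0 := by simpa using hn 1
  have : Nontrivial (Module.End k (cspace σ)) := ⟨φ, 0, hne⟩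
  have hirr : Irreducible (minpoly k φ) := by
    refine ⟨minpoly.not_isUnit k φ, fun a b hab => ?_⟩
    have h := minpoly.aeval k φ
    rw [hab, map_mul] at h
    have ha0 : a ≠ 0 := fun h => hm0 (by rw [hab, h, zero_mul])
    have hb0 : b ≠ 0 := fun h => hm0 (by rw [hab, h, mul_zero])
    rcases hdiv a with ha | ha
    · refine Or.inr (Polynomial.isUnit_iff_degree_eq_zero.2 ?_)
      have hle := minpoly.degree_le_of_ne_zero k φ ha0 ha
      rw [hab, degree_mul, degree_eq_natDegree ha0, degree_eq_natDegree hb0] at hle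
      rw [degree_eq_natDegree hb0]
      have : a.natDegree + b.natDegree ≤ a.natDegree := by exact_mod_cast hle
      exact_mod_cast (show b.natDegree = 0 by omega)
    · refine Or.inl (Polynomial.isUnit_iff_degree_eq_zero.2 ?_)
      have hbz : aeval φ b = 0 := LinearMap.ext fun v => ha (by
        rw [← Module.End.mul_apply, h]; simp)
      have hle := minpoly.degree_le_of_ne_zero k φ hb0 hbz
      rw [hab, degree_mul, degree_eq_natDegree ha0, degree_eq_natDegree hb0] at hle
      rw [degree_eq_natDegree ha0]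
      have : a.natDegree + b.natDegree ≤ b.natDegree := by exact_mod_cast hle
      exact_mod_cast (show a.natDegree = 0 by omega)
  refine ⟨hirr, fun hd => hne ?_⟩
  obtain ⟨r, hr⟩ := ((hirr.dvd_iff.1 hd).resolve_left Polynomial.not_isUnit_X).dvd
  have := congrArg (aeval φ) hr
  rwa [aeval_X, map_mul, minpoly.aeval, zero_mul] at this

/-- If `b e b ≠ 0`, a minimal element splits off `e`. -/
theorem peel (hbeb : nil σ * nil τ * nil σ ≠ 0) :
    ∃ a : Module.End k M, a ≠ 0 ∧ (∃ ρ ∈ minimalQuadraticElements G, nil ρ = a) ∧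
      nil τ * a = 0 ∧ a * nil τ = 0 ∧ HasFamily G (nil τ - a) ∧
      (nil τ - a) * (nil τ - a) = 0 ∧ a * (nil τ - a) = 0 ∧ (nil τ - a) * a = 0 ∧
      Module.finrank k (LinearMap.range (nil τ - a)) < Module.finrank k (cspace τ) := by
  set φ := phi σ τ with hφ
  have hne : φ ≠ 0 := fun h => hbeb (by
    refine LinearMap.ext fun m => ?_
    have e := aeval_word_apply σ τ (X : k[X]) m
    rw [aeval_X, aeval_X, ← hφ, h] at e
    exact e)
  obtain ⟨hinj, hirr, hX⟩ := (phi_cases hσ hτ hk2 hk3).resolve_left hne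
  have hm : aeval φ (minpoly k φ) = 0 := minpoly.aeval k φ
  obtain ⟨f, hf⟩ : ∃ f : k[X], aeval φ f * φ = 1 := by
    obtain ⟨f, r, hfr⟩ := (Prime.coprime_iff_not_dvd Polynomial.prime_X).2 hX
    refine ⟨f, ?_⟩
    have := congrArg (aeval φ) hfr
    rwa [map_add, map_mul, map_mul, hm, mul_zero, add_zero, aeval_X, map_one] at this
  set s := nil σ with hs'
  set t := nil τ with ht'
  have hs : s * s = 0 := nil_sq hσ.1.2.1
  have ht : t * t = 0 := nil_sq hτ.2.1
  set g : k[X] := X ^ 2 * f ^ 3 with hg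
  have hgφ : aeval φ g * φ = 1 := by
    have hc : Commute (aeval φ f) φ := by
      have := congrArg (aeval φ) (mul_comm f (X : k[X]))
      simpa [map_mul, Commute, SemiconjBy] using this
    rw [hg, map_mul, map_pow, map_pow, aeval_X]
    have h1 : φ ^ 2 * aeval φ f ^ 3 * φ = (aeval φ f * φ) ^ 3 := by
      rw [hc.mul_pow, (hc.pow_pow 3 2).symm.eq, mul_assoc, ← pow_succ]
    rw [h1, hf, one_pow]
  -- the element of the class of `σ` inverse to `e`
  have hup : ∀ c : k, ∃ x ∈ G, (x : M →ₗ[k] M) = 1 + aeval (s * t) (C c * g) * s := fun c =>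
    word_mem hσ hτ hm _ (by
      rw [hg, show C c * (X ^ 2 * f ^ 3) = X ^ 2 * (C c * f ^ 3) by ring]
      exact (sq_mem hirr hX hk2 hk3 _).1)
  have hlo : ∀ c : k, ∃ x ∈ G, (x : M →ₗ[k] M) = 1 + t * aeval (s * t) (C c * (g * X)) := fun c =>
    word_mem_lower hσ hτ hm _ (by
      rw [hg, show X * (C c * (X ^ 2 * f ^ 3 * X)) = X ^ 2 * (C c * f ^ 3 * X ^ 2) by ring]
      exact (sq_mem hirr hX hk2 hk3 _).2)
  set b := aeval (s * t) g * s with hb
  set a := t * b * t with ha
  have haX : a = t * aeval (s * t) (g * X) := by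
    rw [ha, hb, map_mul _ g X, aeval_X]; simp only [mul_assoc]
  have hfa : HasFamily G a := fun c => by
    obtain ⟨x, hx, e⟩ := hlo c
    refine ⟨x, hx, ?_⟩
    rw [e, map_mul, aeval_C, ← mul_assoc t, ← Algebra.commutes c t, mul_assoc, ← haX, ← Algebra.smul_def]
  have hbR : InRoot G σ b := by
    refine ⟨fun m hm' => ?_, ?_, fun c => ?_⟩
    · show b m = 0
      rw [hb, Module.End.mul_apply, show s m = 0 from hm', map_zero]
    · rintro _ ⟨m, rfl⟩
      rw [hb, hs', ht', aeval_word_apply]; exact Submodule.coe_mem _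
    · obtain ⟨x, hx, e⟩ := hup c
      exact ⟨x, hx, by rw [e, map_mul, aeval_C, mul_assoc, ← Algebra.smul_def]⟩
  have hbtb : b * t * b = b := by
    refine LinearMap.ext fun m => ?_
    have hval : ∀ m, b m = ((aeval φ g ⟨s m, LinearMap.mem_range_self _ _⟩ : cspace σ) : M) :=
      fun m => aeval_word_apply σ τ g m
    rw [Module.End.mul_apply, Module.End.mul_apply, hval (t (b m))]
    set y := aeval φ g ⟨s m, LinearMap.mem_range_self _ _⟩
    have hy : b m = (y : M) := hval m
    have e : (⟨s (t (b m)), LinearMap.mem_range_self _ _⟩ : cspace σ) = φ y :=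
      Subtype.ext (by rw [hy]; rfl)
    rw [e, ← Module.End.mul_apply, hgφ, Module.End.one_apply]
    exact hy.symm
  have hta : t * a = 0 := by rw [ha, ← mul_assoc, ← mul_assoc, ht, zero_mul, zero_mul]
  have hat : a * t = 0 := by rw [ha, mul_assoc, ht, mul_zero]
  have haba : a * b * t = a := by
    rw [ha, show t * b * t * b * t = t * (b * t * b) * t by simp only [mul_assoc], hbtb]
  have htba : t * b * a = a := by
    rw [ha, show t * b * (t * b * t) = t * (b * t * b) * t by simp only [mul_assoc], hbtb]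
  have haa : a * a = 0 := by
    conv_lhs => arg 2; rw [ha]
    rw [← mul_assoc, ← mul_assoc, hat, zero_mul, zero_mul]
  have hb0 : b ≠ 0 := by
    intro h
    apply quad_ne hσ.1.2.1
    refine LinearMap.ext fun m => ?_
    have h1 : aeval φ g ⟨s m, LinearMap.mem_range_self _ _⟩ = 0 := Subtype.ext (by
      have := LinearMap.congr_fun h m
      rw [hb, hs', ht', aeval_word_apply] at this
      exact this)
    have hc : φ * aeval φ g = aeval φ g * φ := by
      have := congrArg (aeval φ) (mul_comm (X : k[X]) g)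
      simpa [map_mul] using this
    have h2 := congrArg φ h1
    rw [← Module.End.mul_apply, hc, hgφ, map_zero, Module.End.one_apply] at h2
    exact congrArg Subtype.val h2
  have ha0 : a ≠ 0 := fun h => hb0 (by
    calc b = b * t * b * t * b := by rw [hbtb, hbtb]
      _ = b * a * b := by rw [ha]; simp only [mul_assoc]
      _ = 0 := by rw [h, mul_zero, zero_mul])
  have hrank : Module.finrank k (LinearMap.range a) ≤ Module.finrank k (cspace σ) := by
    have hle : LinearMap.range a ≤ (cspace σ).map t := by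
      rintro _ ⟨m, rfl⟩
      exact ⟨b (t m), hbR.2.1 ⟨_, rfl⟩, rfl⟩
    exact (Submodule.finrank_mono hle).trans (Submodule.finrank_map_le _ _)
  obtain ⟨ρ, hρ, eρ⟩ := exists_minimal hσ hfa haa ha0 hrank
  refine ⟨a, ha0, ⟨ρ, hρ, eρ⟩, hta, hat, ?_, ?_, by rw [mul_sub, hat, haa, sub_zero],
    by rw [sub_mul, hta, haa, sub_zero], ?_⟩
  · have := (hasFamily_nil hτ).add hfa.neg (by rw [mul_neg, hta, neg_zero])
    rwa [← sub_eq_add_neg] at this
  · simp [sub_mul, mul_sub, ht, hta, hat, haa]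
  · refine Submodule.finrank_lt_finrank_of_lt (lt_of_le_of_ne ?_ ?_)
    · rintro _ ⟨m, rfl⟩
      rw [LinearMap.sub_apply]
      exact sub_mem ⟨m, rfl⟩ ⟨b (t m), rfl⟩
    · intro heq
      apply ha0
      refine LinearMap.ext fun m => ?_
      obtain ⟨x, hx⟩ : a m ∈ LinearMap.range (t - a) := heq ▸ (⟨b (t m), rfl⟩ : a m ∈ cspace τ)
      have h1 : t * b * (t - a) = 0 := by rw [mul_sub, htba, ← ha, sub_self]
      rw [← htba, Module.End.mul_apply, ← hx, ← Module.End.mul_apply, h1]
      rfl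

end CfsgLib.RootSubgroups.QuadPair
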