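import Cfsg.Agent.RootSubgroups.QuadComponents
import Cfsg.Agent.RootSubgroups.QuadPeel
import Cfsg.Agent.RootSubgroups.QuadOrth

/-! Every quadratic element lies in the group of the classes up to its centraliser; the whole group
is a central product of quasisimple groups. -/

set_option autoImplicit false

namespace CfsgLib.RootSubgroups.QuadPair

open Cfsg

universe u

variable {k : Type u} [Field k] {M : Type u} [AddCommGroup M] [Module k M]
  [FiniteDimensional k M]
variable {G H : Subgroup (LinearMap.GeneralLinearGroup k M)}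

/-- The group generated by all classes. -/
def G0 (H : Subgroup (LinearMap.GeneralLinearGroup k M)) : Subgroup (LinearMap.GeneralLinearGroup k M) :=
  ⨆ B ∈ quadraticRootSubgroups H, B

lemma minimal_mem_E {σ : LinearMap.GeneralLinearGroup k M} (hσ : σ ∈ minimalQuadraticElements H) :
    σ ∈ sameActionSubgroup H σ := (mem_E hσ).2 (inRoot_self hσ.1)

lemma minimal_mem_G0 {σ : LinearMap.GeneralLinearGroup k M} (hσ : σ ∈ minimalQuadraticElements H) :
    σ ∈ G0 H :=
  le_biSup (fun Z : Subgroup (LinearMap.GeneralLinearGroup k M) => Z)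
    (E_mem_quadraticRootSubgroups hσ) (minimal_mem_E hσ)

omit [FiniteDimensional k M] in
lemma commutes_G0 {x : LinearMap.GeneralLinearGroup k M}
    (h : ∀ σ ∈ minimalQuadraticElements H, x * σ = σ * x) : ∀ g ∈ G0 H, g * x = x * g := by
  intro g hg
  have hle : G0 H ≤ Subgroup.centralizer ({x} : Set (LinearMap.GeneralLinearGroup k M)) := by
    refine iSup₂_le ?_
    rintro _ ⟨σ, hσ, rfl⟩
    refine (Subgroup.closure_le _).2 fun τ hτ => Subgroup.mem_centralizer_iff.2 fun y hy => ?_
    rw [Set.mem_singleton_iff.1 hy]; exact h τ hτ.1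
  exact (Subgroup.mem_centralizer_iff.1 (hle hg) x rfl).symm

/-- An element realising a square-zero family is quadratic. -/
lemma exists_quadratic {f : Module.End k M} (hf : HasFamily H f) (h2 : f * f = 0) (h0 : f ≠ 0) :
    ∃ q ∈ quadraticElements H, nil q = f := by
  obtain ⟨g, hg, rfl⟩ := hf.exists_elem
  refine ⟨g, ⟨hg, ⟨h2, h0⟩, ?_⟩, rfl⟩
  rintro x ⟨c, hc⟩
  obtain ⟨y, hy, e⟩ := hf c
  rw [show x = y from Units.ext (hc.trans e.symm)]
  exact hy

/-- An element with `a (e - a) = 0` factors. -/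
lemma eq_mul_of_split {q q' ρ : LinearMap.GeneralLinearGroup k M}
    (hq' : nil q' = nil q - nil ρ) (h : nil ρ * (nil q - nil ρ) = 0) : q = ρ * q' :=
  nil_injective (by rw [nil_mul, hq', h]; abel)

variable (hk2 : ringChar k ≠ 2) (hk3 : Nat.card k ≠ 3)

include hk2 hk3

/-- Induction on the rank: split off minimal elements until the rest is orthogonal. -/
theorem quad_induction (hred : Reduced H) {P : LinearMap.GeneralLinearGroup k M → Prop}
    (hmin : ∀ ρ ∈ minimalQuadraticElements H, P ρ)
    (hcen : ∀ q ∈ quadraticElements H, (∀ σ ∈ minimalQuadraticElements H, q * σ = σ * q) → P q)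
    (hstep : ∀ ρ ∈ minimalQuadraticElements H, ∀ q' ∈ quadraticElements H,
      nil ρ * nil q' = 0 → P q' → P (ρ * q')) :
    ∀ q ∈ quadraticElements H, P q := by
  suffices key : ∀ n, ∀ q ∈ quadraticElements H, Module.finrank k (cspace q) = n → P q from
    fun q hq => key _ q hq rfl
  intro n
  induction n using Nat.strong_induction_on with
  | _ n ih =>
    intro q hq hn
    by_cases ho : Orth H (nil q)
    · exact hcen q hq fun σ hσ => orth_central hk2 hk3 hred hq ho hσ
    · obtain ⟨σ, hσ, hne⟩ : ∃ σ ∈ minimalQuadraticElements H, nil σ * nil q * nil σ ≠ 0 := by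
        simpa [Orth] using ho
      obtain ⟨a, -, ⟨ρ, hρ, rfl⟩, -, -, hf, h2, hl, -, hlt⟩ := peel hσ hq hk2 hk3 hne
      rcases eq_or_ne (nil q - nil ρ) 0 with h0 | h0
      · rw [nil_injective (sub_eq_zero.1 h0)]; exact hmin ρ hρ
      · obtain ⟨q', hq', e'⟩ := exists_quadratic hf h2 h0
        rw [eq_mul_of_split e' hl]
        refine hstep ρ hρ q' hq' (e' ▸ hl) (ih _ ?_ q' hq' rfl)
        rw [cspace, e', ← hn]; exact hlt

/-- Every quadratic element lies in `G₀ C(G₀)`. -/
theorem quad_mem_cocentral (hred : Reduced H) {q : LinearMap.GeneralLinearGroup k M}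
    (hq : q ∈ quadraticElements H) :
    q ∈ G0 H ⊔ (H ⊓ Subgroup.centralizer (G0 H : Set (LinearMap.GeneralLinearGroup k M))) := by
  refine quad_induction hk2 hk3 hred
    (P := fun q => q ∈ G0 H ⊔ (H ⊓ Subgroup.centralizer (G0 H : Set (LinearMap.GeneralLinearGroup k M))))
    (fun ρ hρ => Subgroup.mem_sup_left (minimal_mem_G0 hρ))
    (fun x hx h => Subgroup.mem_sup_right ⟨hx.1, Subgroup.mem_centralizer_iff.2 (commutes_G0 h)⟩)
    (fun ρ hρ q' _ _ h => mul_mem (Subgroup.mem_sup_left (minimal_mem_G0 hρ)) h) q hq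

/-- A component group of a normal generated subgroup whose quadratic complement centralises it is
normal. -/
lemma compGroup_normal (hred : Reduced H) (hgen : Subgroup.closure (quadraticElements G) = G)
    (hsplit : ∀ q ∈ quadraticElements G, q ∈ quadraticElements H ∨ ∀ h ∈ H, q * h = h * q)
    {A : Subgroup (LinearMap.GeneralLinearGroup k M)} {g : LinearMap.GeneralLinearGroup k M}
    (hg : g ∈ G) : conjBy (compGroup H A) g = compGroup H A := by
  suffices hle : G ≤ Subgroup.normalizer
      (compGroup H A : Set (LinearMap.GeneralLinearGroup k M)) from conjBy_eq_self_iff.2 (hle hg)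
  rw [← hgen, Subgroup.closure_le]
  have hXH : compGroup H A ≤ H := compGroup_le_sup.trans sup_root_le
  intro q hq
  rcases hsplit q hq with hqH | hc
  · have h1 : G0 H ≤ Subgroup.normalizer (compGroup H A : Set (LinearMap.GeneralLinearGroup k M)) := by
      intro x hx
      have key : ∀ x ∈ G0 H, conjBy (compGroup H A) x ≤ compGroup H A := fun x hx => by
        rw [compGroup, conjBy, Subgroup.map_iSup]
        simp only [Subgroup.map_iSup]
        exact iSup₂_le fun B hB => le_biSup (fun Z : Subgroup (LinearMap.GeneralLinearGroup k M) => Z)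
          (comp_conj hk2 hk3 hred hB hx)
      refine conjBy_eq_self_iff.1 (le_antisymm (key x hx) ?_)
      have := conjBy_mono (key x⁻¹ (inv_mem hx)) x
      rwa [conjBy_conjBy_inv] at this
    have h2 : H ⊓ Subgroup.centralizer (G0 H : Set (LinearMap.GeneralLinearGroup k M)) ≤
        Subgroup.normalizer (compGroup H A : Set (LinearMap.GeneralLinearGroup k M)) := fun x hx =>
      conjBy_eq_self_iff.1 (conjBy_eq_of_commute fun a ha =>
        (Subgroup.mem_centralizer_iff.1 hx.2 a (compGroup_le_sup ha)).symm)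
    exact sup_le h1 h2 (quad_mem_cocentral hk2 hk3 hred hqH)
  · exact conjBy_eq_self_iff.1 (conjBy_eq_of_commute fun a ha => hc a (hXH ha))

omit hk2 hk3 [FiniteDimensional k M] in
lemma fixed_invariant {X : Subgroup (LinearMap.GeneralLinearGroup k M)}
    {g : LinearMap.GeneralLinearGroup k M} (hn : conjBy X g = X) {m : M}
    (hm : m ∈ fixedSubmodule X) : (g : M →ₗ[k] M) m ∈ fixedSubmodule X := by
  simp only [fixedSubmodule, Submodule.mem_iInf, LinearMap.mem_ker] at hm ⊢
  intro x hx
  have hx' : g⁻¹ * x * g ∈ X := by rw [← hn] at hx; exact mem_conjBy.1 hx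
  have hp := hm _ hx'
  rw [LinearMap.sub_apply, Module.End.one_apply, sub_eq_zero, Units.val_mul, Units.val_mul,
    Module.End.mul_apply, Module.End.mul_apply] at hp
  rw [LinearMap.sub_apply, Module.End.one_apply, sub_eq_zero]
  conv_rhs => rw [← hp, coe_apply_inv]

/-- Nothing outside a normal component group is annihilated by it. -/
theorem eq_zero_of_killed (hirr : IsIrreducibleFor G) (hred : Reduced H)
    {ρ : LinearMap.GeneralLinearGroup k M} (hρ : ρ ∈ minimalQuadraticElements H)
    (hn : ∀ g ∈ G, conjBy (compGroup H (sameActionSubgroup H ρ)) g = compGroup H (sameActionSubgroup H ρ))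
    {c : Module.End k M}
    (hcomm : ∀ x ∈ compGroup H (sameActionSubgroup H ρ), (x : M →ₗ[k] M) * c = c * (x : M →ₗ[k] M))
    (h0 : nil ρ * c = 0) : c = 0 := by
  set A := sameActionSubgroup H ρ with hAdef
  have hA : A ∈ quadraticRootSubgroups H := E_mem_quadraticRootSubgroups hρ
  set X := compGroup H A
  have hfix : ∀ m, c m ∈ fixedSubmodule X := by
    intro m
    let S : Subgroup (LinearMap.GeneralLinearGroup k M) :=
      { carrier := {g | (g : M →ₗ[k] M) (c m) = c m}
        one_mem' := rfl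
        mul_mem' := fun {x y} hx hy => by
          show ((x * y : LinearMap.GeneralLinearGroup k M) : M →ₗ[k] M) (c m) = c m
          rw [Units.val_mul, Module.End.mul_apply, hy, hx]
        inv_mem' := fun {x} hx => by
          show ((x⁻¹ : LinearMap.GeneralLinearGroup k M) : M →ₗ[k] M) (c m) = c m
          conv_lhs => rw [← (show (x : M →ₗ[k] M) (c m) = c m from hx)]
          exact coe_inv_apply x (c m) }
    have hXS : X ≤ S := by
      refine iSup₂_le fun B hB => ?_
      obtain ⟨g, hg⟩ := (comp_root_class hk2 hk3 hred hA).2.2 _ ⟨A, comp_self hA, rfl⟩ _ ⟨B, hB, rfl⟩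
      have hgH : (g : LinearMap.GeneralLinearGroup k M) ∈ H := sup_root_le (compGroup_le_sup g.2)
      have hB' : B = conjBy A (g : LinearMap.GeneralLinearGroup k M) := by
        have e := congrArg (fun Z => Z.map X.subtype) hg
        simp only [Transport.map_conjBy] at e
        rwa [Subgroup.map_subgroupOf_eq_of_le (le_compGroup hB),
          Subgroup.map_subgroupOf_eq_of_le (le_compGroup (comp_self hA))] at e
      have hB'' : B = sameActionSubgroup H
          ((g : LinearMap.GeneralLinearGroup k M) * ρ * (g : LinearMap.GeneralLinearGroup k M)⁻¹) := hB'.trans (conjBy_E hρ hgH)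
      rw [hB'']
      intro b hb
      have hker := ((mem_E (conj_minimal hρ hgH)).1 hb).1
      have : nil ((g : LinearMap.GeneralLinearGroup k M) * ρ * (g : LinearMap.GeneralLinearGroup k M)⁻¹) (c m) = 0 := by
        rw [← Module.End.mul_apply, conj_val, mul_assoc, hcomm _ (inv_mem g.2), ← mul_assoc,
          mul_assoc _ (nil ρ) c, h0, mul_zero, zero_mul]
        rfl
      have hb0 : nil b (c m) = 0 := hker this
      show (b : M →ₗ[k] M) (c m) = c m
      rw [coe_eq_one_add b, LinearMap.add_apply, Module.End.one_apply, hb0, add_zero]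
    simp only [fixedSubmodule, Submodule.mem_iInf, LinearMap.mem_ker]
    intro x hx
    rw [LinearMap.sub_apply, Module.End.one_apply, sub_eq_zero]
    exact hXS hx
  rcases hirr.2 (fixedSubmodule X) (fun g hg m hm => fixed_invariant (hn g hg) hm) with h | h
  · exact LinearMap.ext fun m => (Submodule.mem_bot k).1 (h ▸ hfix m)
  · exfalso
    apply quad_ne hρ.1.2.1
    refine LinearMap.ext fun m => ?_
    have hm : m ∈ fixedSubmodule X := h ▸ Submodule.mem_top
    simp only [fixedSubmodule, Submodule.mem_iInf, LinearMap.mem_ker] at hm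
    exact hm ρ (le_compGroup (comp_self hA) (minimal_mem_E hρ))

/-- A quadratic element lies in one component group or centralises all of them. -/
theorem quad_component (hirr : IsIrreducibleFor G) (hred : Reduced H)
    (hgen : Subgroup.closure (quadraticElements G) = G)
    (hsplit : ∀ q ∈ quadraticElements G, q ∈ quadraticElements H ∨ ∀ h ∈ H, q * h = h * q) :
    ∀ q ∈ quadraticElements H, (∃ A ∈ quadraticRootSubgroups H, q ∈ compGroup H A) ∨
      ∀ g ∈ G0 H, g * q = q * g := by
  refine quad_induction hk2 hk3 hred ?_ (fun q _ h => Or.inr (commutes_G0 h)) ?_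
  · exact fun ρ hρ => Or.inl ⟨_, E_mem_quadraticRootSubgroups hρ,
      le_compGroup (comp_self (E_mem_quadraticRootSubgroups hρ)) (minimal_mem_E hρ)⟩
  · intro ρ hρ q' hq' h0 hP
    set A := sameActionSubgroup H ρ with hAdef
    have hA : A ∈ quadraticRootSubgroups H := E_mem_quadraticRootSubgroups hρ
    have hρX : ρ ∈ compGroup H A := le_compGroup (comp_self hA) (minimal_mem_E hρ)
    suffices hin : q' ∈ compGroup H A from Or.inl ⟨A, hA, mul_mem hρX hin⟩
    by_contra hout
    have hcomm : ∀ x ∈ compGroup H A, x * q' = q' * x := by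
      rcases hP with ⟨B, hB, hq'B⟩ | h
      · have hne : comp H A ≠ comp H B := fun h => hout (by rw [compGroup, h]; exact hq'B)
        exact fun x hx => commutator_eq_bot_iff_comm.1 (comp_groups_commute hk2 hk3 hred hne) x hx q' hq'B
      · exact fun x hx => h x (compGroup_le_sup hx)
    refine quad_ne hq'.2.1 (eq_zero_of_killed hk2 hk3 hirr hred hρ
      (fun g hg => compGroup_normal hk2 hk3 hred hgen hsplit hg) (fun x hx => ?_) h0)
    rw [coe_eq_one_add x, add_mul, mul_add, one_mul, mul_one, (commute_iff_nil.1 (hcomm x hx))]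

/-- The span of the maps `q - 1`. -/
def quadSpan (H : Subgroup (LinearMap.GeneralLinearGroup k M)) : Submodule k (Module.End k M) :=
  Submodule.span k (nil '' quadraticElements H)

omit hk2 hk3 [FiniteDimensional k M] in
lemma quadratic_mono {K : Subgroup (LinearMap.GeneralLinearGroup k M)} (h : K ≤ H) :
    quadraticElements K ⊆ quadraticElements H :=
  fun _ hq => ⟨h hq.1, hq.2.1, fun _ hx => h (hq.2.2 hx)⟩

/-- The central product decomposition, for a subgroup split off by the quadratic elements. -/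
theorem central_product (hG : IsQuadraticPair G) :
    ∀ H : Subgroup (LinearMap.GeneralLinearGroup k M), H ≤ G →
      Subgroup.closure (quadraticElements H) = H → (∀ g ∈ G, conjBy H g = H) →
      (∀ q ∈ quadraticElements G, q ∈ quadraticElements H ∨ ∀ h ∈ H, q * h = h * q) →
      ∃ S : Set (Subgroup (LinearMap.GeneralLinearGroup k M)), S.Finite ∧
        (∀ X ∈ S, X ≤ H ∧ (∀ g ∈ G, conjBy X g = X) ∧ IsQuasisimple ↥X ∧
          Subgroup.closure (quadraticElements G ∩ (X : Set (LinearMap.GeneralLinearGroup k M))) = X) ∧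
        (∀ X ∈ S, ∀ Y ∈ S, X ≠ Y → ⁅X, Y⁆ = ⊥) ∧ ∀ q ∈ quadraticElements H, ∃ X ∈ S, q ∈ X := by
  suffices key : ∀ n, ∀ H : Subgroup (LinearMap.GeneralLinearGroup k M),
      Module.finrank k (quadSpan H) = n → H ≤ G →
      Subgroup.closure (quadraticElements H) = H → (∀ g ∈ G, conjBy H g = H) →
      (∀ q ∈ quadraticElements G, q ∈ quadraticElements H ∨ ∀ h ∈ H, q * h = h * q) →
      ∃ S : Set (Subgroup (LinearMap.GeneralLinearGroup k M)), S.Finite ∧
        (∀ X ∈ S, X ≤ H ∧ (∀ g ∈ G, conjBy X g = X) ∧ IsQuasisimple ↥X ∧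
          Subgroup.closure (quadraticElements G ∩ (X : Set (LinearMap.GeneralLinearGroup k M))) = X) ∧
        (∀ X ∈ S, ∀ Y ∈ S, X ≠ Y → ⁅X, Y⁆ = ⊥) ∧ ∀ q ∈ quadraticElements H, ∃ X ∈ S, q ∈ X from
    fun H => key _ H rfl
  intro n
  induction n using Nat.strong_induction_on with
  | _ n ih =>
  intro H hn hle hclH hnH hsplit
  rcases (quadraticElements H).eq_empty_or_nonempty with hempty | ⟨q₀, hq₀⟩
  · exact ⟨∅, Set.finite_empty, by simp, by simp, by simp [hempty]⟩
  obtain ⟨hirr, hgen⟩ := hG
  have hred : Reduced H := reduced_of_normal (reduced_of_irreducible hirr) hle hnH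
  obtain ⟨σ, hσ⟩ : (minimalQuadraticElements H).Nonempty := by
    obtain ⟨σ, hσ, h⟩ := exists_minimalFor_of_wellFoundedLT (· ∈ quadraticElements H) commutatorRank ⟨q₀, hq₀⟩
    exact ⟨σ, hσ, fun τ hτ => (le_total _ _).elim id fun h' => h hτ h'⟩
  have hcomp := quad_component hk2 hk3 hirr hred hgen hsplit
  set Q1 := {q | q ∈ quadraticElements H ∧ ∀ g ∈ G0 H, g * q = q * g}
  set H1 := Subgroup.closure Q1 with hH1
  have hnX : ∀ A, ∀ g ∈ G, conjBy (compGroup H A) g = compGroup H A := fun A g hg =>
    compGroup_normal hk2 hk3 hred hgen hsplit hg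
  have hH1H : H1 ≤ H := (Subgroup.closure_le H).2 fun q hq => hq.1.1
  have hH1c : ∀ y ∈ H1, ∀ g ∈ G0 H, g * y = y * g := by
    have : H1 ≤ Subgroup.centralizer (G0 H : Set (LinearMap.GeneralLinearGroup k M)) :=
      (Subgroup.closure_le _).2 fun q hq => Subgroup.mem_centralizer_iff.2 hq.2
    exact fun y hy g hg => Subgroup.mem_centralizer_iff.1 (this hy) g hg
  have hQ1 : Q1 ⊆ quadraticElements H1 := fun q hq => by
    refine ⟨Subgroup.subset_closure hq, hq.1.2.1, fun x hx => ?_⟩
    obtain ⟨c, hc⟩ := hx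
    have ex : nil x = c • nil q := by rw [nil, hc, add_sub_cancel_left]; rfl
    rcases eq_or_ne x 1 with rfl | hx1
    · exact one_mem _
    refine Subgroup.subset_closure ⟨⟨hq.1.2.2 ⟨c, hc⟩, ⟨?_, ?_⟩, ?_⟩, fun g hg => ?_⟩
    · show nil x * nil x = 0
      rw [ex, smul_mul_smul_comm, nil_sq hq.1.2.1, smul_zero]
    · exact fun h => hx1 (nil_eq_zero_iff.1 h)
    · rintro y ⟨d, hd⟩
      exact hq.1.2.2 ⟨d * c, by rw [hd, mul_smul]; exact congrArg (fun z => 1 + d • z) ex⟩
    · rw [commute_iff_nil, ex, mul_smul_comm, smul_mul_assoc, commute_iff_nil.1 (hq.2 g hg)]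
  have hcl1 : Subgroup.closure (quadraticElements H1) = H1 :=
    le_antisymm ((Subgroup.closure_le _).2 fun q hq => hq.1) (Subgroup.closure_mono hQ1)
  have hn1 : ∀ g ∈ G, conjBy H1 g = H1 := by
    have hG0 : ∀ g ∈ G, ∀ a ∈ G0 H, g * a * g⁻¹ ∈ G0 H := by
      intro g hg a ha
      have h : conjBy (G0 H) g ≤ G0 H := by
        rw [G0, conjBy, Subgroup.map_iSup]
        simp only [Subgroup.map_iSup]
        refine iSup₂_le fun B hB => ?_
        refine (Subgroup.map_mono (le_compGroup (comp_self hB))).trans ?_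
        rw [show (compGroup H B).map (MulAut.conj g).toMonoidHom = conjBy (compGroup H B) g from rfl,
          hnX B g hg]
        exact compGroup_le_sup
      exact h (conj_mem_conjBy ha g)
    have key : ∀ g ∈ G, conjBy H1 g ≤ H1 := fun g hg => by
      rw [conjBy, MonoidHom.map_closure, Subgroup.closure_le]
      rintro _ ⟨q, hq, rfl⟩
      refine Subgroup.subset_closure ?_
      show g * q * g⁻¹ ∈ Q1
      refine ⟨?_, fun a ha => ?_⟩
      · obtain ⟨q', hq', e⟩ := exists_quadratic (H := H) (f := nil (g * q * g⁻¹)) (fun c => by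
          obtain ⟨x, hx, e⟩ := hasFamily_nil hq.1 c
          refine ⟨g * x * g⁻¹, hnH g hg ▸ conj_mem_conjBy hx g, ?_⟩
          rw [Units.val_mul, Units.val_mul, e, conj_val, mul_add, add_mul, mul_one, Units.mul_inv,
            mul_smul_comm, smul_mul_assoc]) (by
            rw [conj_val]
            simp only [mul_assoc, Units.inv_mul_cancel_left]
            rw [← mul_assoc (nil q), nil_sq hq.1.2.1, zero_mul, mul_zero]) (fun h0 => by
            rw [nil_eq_zero_iff, conj_eq_one_iff] at h0
            exact quad_ne hq.1.2.1 (by rw [h0, nil_one]))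
        rw [← nil_injective e]; exact hq'
      · have h := hG0 g⁻¹ (inv_mem hg) a ha
        rw [inv_inv] at h
        have := hq.2 _ h
        calc a * (g * q * g⁻¹) = g * ((g⁻¹ * a * g) * q) * g⁻¹ := by group
          _ = g * (q * (g⁻¹ * a * g)) * g⁻¹ := by rw [this]
          _ = g * q * g⁻¹ * a := by group
    intro g hg
    refine le_antisymm (key g hg) ?_
    have := conjBy_mono (key g⁻¹ (inv_mem hg)) g
    rwa [conjBy_conjBy_inv] at this
  have hsplit1 : ∀ q ∈ quadraticElements G, q ∈ quadraticElements H1 ∨ ∀ h ∈ H1, q * h = h * q := by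
    intro q hq
    rcases hsplit q hq with hqH | hc
    · rcases hcomp q hqH with ⟨A, -, hqA⟩ | h
      · exact Or.inr fun y hy => hH1c y hy q (compGroup_le_sup hqA)
      · exact Or.inl (hQ1 ⟨hqH, h⟩)
    · exact Or.inr fun y hy => hc y (hH1H hy)
  have hlt : Module.finrank k (quadSpan H1) < n := by
    rw [← hn]
    refine Submodule.finrank_lt_finrank_of_lt (lt_of_le_of_ne
      (Submodule.span_mono (Set.image_mono (quadratic_mono hH1H))) fun heq => ?_)
    obtain ⟨g, hg, hop⟩ := exists_opp hk2 hk3 hred hσ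
    set τ := g * σ * g⁻¹ with hτdef
    have hτ : τ ∈ minimalQuadraticElements H := conj_minimal hσ hg
    let Z : Submodule k (Module.End k M) :=
      LinearMap.ker (LinearMap.mulLeft k (nil τ) - LinearMap.mulRight k (nil τ))
    have hZ : quadSpan H1 ≤ Z := by
      rw [quadSpan, Submodule.span_le]
      rintro _ ⟨q, hq, rfl⟩
      show (LinearMap.mulLeft k (nil τ) - LinearMap.mulRight k (nil τ)) (nil q) = 0
      rw [LinearMap.sub_apply, LinearMap.mulLeft_apply, LinearMap.mulRight_apply, sub_eq_zero]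
      exact commute_iff_nil.1 (hH1c q hq.1 τ (minimal_mem_G0 hτ))
    have hmem : nil σ ∈ Z := hZ (heq ▸ Submodule.subset_span ⟨σ, hσ.1, rfl⟩)
    have hc : nil τ * nil σ = nil σ * nil τ := sub_eq_zero.1 hmem
    rcases Opp.not_comm hσ hτ hop (inRoot_self hσ.1) (inRoot_self hτ.1) hc.symm with h | h
    · exact quad_ne hσ.1.2.1 h
    · exact quad_ne hτ.1.2.1 h
  obtain ⟨S1, hfin1, hS1, hpair1, hcov1⟩ := ih _ hlt H1 rfl (hH1H.trans hle) hcl1 hn1 hsplit1
  refine ⟨{X | ∃ A ∈ quadraticRootSubgroups H, X = compGroup H A} ∪ S1, ?_, ?_, ?_, ?_⟩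
  · refine Set.Finite.union ?_ hfin1
    have := comp_finite hk2 hk3 hred
    refine (Set.finite_range fun P : {P // ∃ A ∈ quadraticRootSubgroups H, P = comp H A} =>
      ⨆ B ∈ P.1, B).subset ?_
    rintro _ ⟨A, hA, rfl⟩
    exact ⟨⟨comp H A, A, hA, rfl⟩, rfl⟩
  · rintro X (⟨A, hA, rfl⟩ | hX)
    · refine ⟨compGroup_le_sup.trans sup_root_le, hnX A, comp_quasisimple hk2 hk3 hred hA,
        le_antisymm ((Subgroup.closure_le _).2 Set.inter_subset_right) (iSup₂_le fun B hB => ?_)⟩
      have hBX := le_compGroup (G := H) (A := A) hB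
      obtain ⟨τ, hτ, rfl⟩ := hB.1
      exact Subgroup.closure_mono fun y hy =>
        ⟨quadratic_mono hle hy.1.1, hBX (Subgroup.subset_closure hy)⟩
    · exact ⟨(hS1 X hX).1.trans hH1H, (hS1 X hX).2⟩
  · have hcross : ∀ A, ∀ Y ∈ S1, ⁅compGroup H A, Y⁆ = ⊥ := fun A Y hY =>
      commutator_eq_bot_iff_comm.2 fun x hx y hy => hH1c y ((hS1 Y hY).1 hy) x (compGroup_le_sup hx)
    rintro X (⟨A, hA, rfl⟩ | hX) Y (⟨B, hB, rfl⟩ | hY) hne
    · exact comp_groups_commute hk2 hk3 hred fun h => hne (by rw [compGroup, compGroup, h])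
    · exact hcross A Y hY
    · rw [Subgroup.commutator_comm]; exact hcross B X hX
    · exact hpair1 X hX Y hY hne
  · intro q hq
    rcases hcomp q hq with ⟨A, hA, hqA⟩ | h
    · exact ⟨_, Or.inl ⟨A, hA, rfl⟩, hqA⟩
    · obtain ⟨X, hX, hqX⟩ := hcov1 q (hQ1 ⟨hq, h⟩)
      exact ⟨X, Or.inr hX, hqX⟩

end CfsgLib.RootSubgroups.QuadPair
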