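import Cfsg.Agent.RootSubgroups.SL2Gen

/-! When `lam` is nilpotent the generated group contains every `up (lam * r)`, `r ∈ k[lam]`. -/

set_option autoImplicit false
set_option linter.unusedSectionVars false

namespace CfsgLib.RootSubgroups.Gen2

open Cfsg Matrix Polynomial
open scoped MatrixGroups

variable {R : Type*} [CommRing R] {k : Type*} [Field k] [Algebra k R]

/-- `diag (1 + x, 1 - x)` for `x * x = 0`. -/
def dgOne {x : R} (hx : x * x = 0) : SL(2, R) :=
  ⟨!![1 + x, 0; 0, 1 - x], by simp [det_fin_two_of]; linear_combination -hx⟩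

@[simp] lemma coe_dgOne {x : R} (hx : x * x = 0) :
    (dgOne hx : Matrix (Fin 2) (Fin 2) R) = !![1 + x, 0; 0, 1 - x] := rfl

section Layer

variable (hk2 : (2 : k) ≠ 0) {lam : R} {j : ℕ}

/-- `lam ^ j` times a scalar squares to zero when `lam ^ (j + 1) = 0` and `1 ≤ j`. -/
lemma layer_sq (hj : 1 ≤ j) (h : lam ^ (j + 1) = 0) (c : k) :
    (algebraMap k R c * lam ^ j) * (algebraMap k R c * lam ^ j) = 0 := by
  have : lam ^ j * lam ^ j = 0 := by
    rw [← pow_add, show j + j = j + 1 + (j - 1) by omega, pow_add, h, zero_mul]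
  linear_combination (algebraMap k R c * algebraMap k R c) * this

include hk2

/-- From the lower layer, the upper and diagonal ones. -/
lemma layer_of_lo (hj : 1 ≤ j) (h : lam ^ (j + 1) = 0)
    (hL : ∀ c : k, lo (algebraMap k R c * lam ^ j) ∈ genGroup k lam) :
    (∀ c : k, up (algebraMap k R c * lam ^ j) ∈ genGroup k lam) ∧
      ∀ c : k, dgOne (layer_sq hj h c) ∈ genGroup k lam := by
  have hU : ∀ c : k, up (algebraMap k R c * lam ^ j) ∈ genGroup k lam := by
    intro c
    set η := algebraMap k R (-c / 2) * lam ^ j with hη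
    have hsq : η * η = 0 := layer_sq hj h _
    have hm : ∀ a : k, up (algebraMap k R a) * lo η * up (algebraMap k R (-a)) * lo (-η) ∈
        genGroup k lam := fun a => by
      refine mul_mem (mul_mem (mul_mem (up_const_mem lam a) (hL _)) (up_const_mem lam _)) ?_
      rw [← lo_inv]; exact inv_mem (hL _)
    have e : up (algebraMap k R 1) * lo η * up (algebraMap k R (-1)) * lo (-η) *
        (up (algebraMap k R (-1)) * lo η * up (algebraMap k R (- -1)) * lo (-η)) =
        up (algebraMap k R c * lam ^ j) := by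
      have h2 : -(2 * η) = algebraMap k R c * lam ^ j := by
        rw [hη, ← mul_assoc, ← neg_mul, show (2 : R) = algebraMap k R 2 from (map_ofNat _ 2).symm,
          ← map_mul, ← map_neg]
        congr 2
        field_simp
      rw [← h2]
      apply ext2 <;> simp [Matrix.mul_apply, Fin.sum_univ_two]
      all_goals first
        | linear_combination hsq | linear_combination -hsq
        | linear_combination (2 : R) * hsq | linear_combination (-2 : R) * hsq
        | grobner
    exact e ▸ mul_mem (hm 1) (hm (-1))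
  refine ⟨hU, fun c => ?_⟩
  set η := algebraMap k R c * lam ^ j with hη
  have hsq : η * η = 0 := layer_sq hj h c
  have hmem : up (algebraMap k R 1) * lo η * up (algebraMap k R (-1)) * lo (-η) * up η ∈
      genGroup k lam := by
    refine mul_mem (mul_mem (mul_mem (mul_mem (up_const_mem lam _) (hL c)) (up_const_mem lam _)) ?_)
      (hU c)
    rw [← lo_inv]; exact inv_mem (hL c)
  have e : up (algebraMap k R 1) * lo η * up (algebraMap k R (-1)) * lo (-η) * up η =
      dgOne (layer_sq hj h c) := by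
    apply ext2 <;> simp [Matrix.mul_apply, Fin.sum_univ_two, ← hη]
    all_goals first
      | linear_combination hsq | linear_combination -hsq
      | linear_combination η * hsq | linear_combination (2 : R) * hsq
      | grobner
  exact e ▸ hmem

end Layer

/-- The diagonal layer lowered into the next lower layer. -/
lemma lo_step {lam : R} {j : ℕ} (h : lam ^ (j + 2) = 0) (hj : 1 ≤ j)
    {g : SL(2, R)} {c : k} {A : Fin 2 → Fin 2 → R}
    (h00 : (g : Matrix (Fin 2) (Fin 2) R) 0 0 = 1 + algebraMap k R c * lam ^ j + lam ^ (j + 1) * A 0 0)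
    (h01 : (g : Matrix (Fin 2) (Fin 2) R) 0 1 = lam ^ (j + 1) * A 0 1)
    (h10 : (g : Matrix (Fin 2) (Fin 2) R) 1 0 = lam ^ (j + 1) * A 1 0)
    (h11 : (g : Matrix (Fin 2) (Fin 2) R) 1 1 = 1 - algebraMap k R c * lam ^ j + lam ^ (j + 1) * A 1 1)
    (b : k) :
    g * lo (algebraMap k R b * lam) =
      lo (algebraMap k R b * lam - 2 * algebraMap k R (b * c) * lam ^ (j + 1)) * g := by
  have e1 : lam ^ (j + 1) * lam = 0 := by rw [← pow_succ]; exact h
  have e2 : lam ^ j * lam = lam ^ (j + 1) := (pow_succ _ _).symm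
  have e3 : lam ^ (j + 1) * lam ^ (j + 1) = 0 := by
    rw [← pow_add, show j + 1 + (j + 1) = j + 2 + j by omega, pow_add, h, zero_mul]
  have e4 : lam ^ (j + 1) * lam ^ j = 0 := by
    rw [← pow_add, show j + 1 + j = j + 2 + (j - 1) by omega, pow_add, h, zero_mul]
  rw [map_mul]
  set B := algebraMap k R b
  set C := algebraMap k R c
  apply ext2 <;> simp [Matrix.mul_apply, Fin.sum_univ_two, h00, h01, h10, h11]
  · linear_combination A 0 1 * B * e1
  · linear_combination A 1 1 * B * e1 - A 0 0 * B * e1 - 2 * B * C * e2 + 2 * B * C * A 0 0 * e3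
      + 2 * B * C * C * e4
  · linear_combination (A 0 1 * B) * e1 - 2 * B * C * A 0 1 * e3

/-- Congruences modulo a power of `lam` lift from the quotient. -/
lemma exists_lift (lam : R) (n : ℕ) {x : SL(2, R ⧸ Ideal.span {lam ^ n})}
    (hx : x ∈ genGroup k (Ideal.Quotient.mk (Ideal.span {lam ^ n}) lam)) :
    ∃ g ∈ genGroup k lam, Matrix.SpecialLinearGroup.map (Ideal.Quotient.mk (Ideal.span {lam ^ n})) g = x := by
  let f : R →ₐ[k] R ⧸ Ideal.span {lam ^ n} := Ideal.Quotient.mkₐ k _
  have hmap : genGroup k (f lam) ≤ (genGroup k lam).map (Matrix.SpecialLinearGroup.map f.toRingHom) := by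
    unfold genGroup
    rw [Subgroup.closure_le]
    rintro g (⟨c, rfl⟩ | ⟨c, rfl⟩)
    · exact ⟨up (algebraMap k R c), Subgroup.subset_closure (Or.inl ⟨c, rfl⟩),
        by apply ext2 <;> simp⟩
    · exact ⟨lo (algebraMap k R c * lam), Subgroup.subset_closure (Or.inr ⟨c, rfl⟩),
        by apply ext2 <;> simp⟩
  exact hmap hx

universe v

/-- The three layers. -/
theorem layers (hk2 : (2 : k) ≠ 0) : ∀ j : ℕ, 1 ≤ j → ∀ (S : Type v) [CommRing S] [Algebra k S]
    (lam : S), lam ^ (j + 1) = 0 → ∀ c : k, lo (algebraMap k S c * lam ^ j) ∈ genGroup k lam := by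
  intro j
  induction j with
  | zero => intro h; omega
  | succ j ih =>
    intro _ S _ _ lam h c
    rcases Nat.eq_zero_or_pos j with rfl | hj
    · simpa using lo_lam_mem (k := k) lam c
    set I : Ideal S := Ideal.span {lam ^ (j + 1)}
    set π := Ideal.Quotient.mk I
    have hq : π lam ^ (j + 1) = 0 := by
      rw [← map_pow]; exact Ideal.Quotient.eq_zero_iff_mem.2 (Ideal.mem_span_singleton_self _)
    obtain ⟨-, hD⟩ := layer_of_lo hk2 hj hq (ih hj (S ⧸ I) (π lam) hq)
    set c' : k := -c / 2 with hc'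
    obtain ⟨g, hg, hge⟩ := exists_lift lam (j + 1) (hD c')
    have hent : ∀ a b, ∃ A : S, (g : Matrix (Fin 2) (Fin 2) S) a b =
        !![1 + algebraMap k S c' * lam ^ j, 0; 0, 1 - algebraMap k S c' * lam ^ j] a b +
          lam ^ (j + 1) * A := by
      intro a b
      have e := congrArg (fun z : SL(2, S ⧸ I) => (z : Matrix (Fin 2) (Fin 2) (S ⧸ I)) a b) hge
      have : π ((g : Matrix (Fin 2) (Fin 2) S) a b) =
          π (!![1 + algebraMap k S c' * lam ^ j, 0; 0, 1 - algebraMap k S c' * lam ^ j] a b) := by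
        fin_cases a <;> fin_cases b <;> simp [π] at e ⊢ <;> simpa using e
      rw [Ideal.Quotient.eq, Ideal.mem_span_singleton] at this
      obtain ⟨A, hA⟩ := this
      exact ⟨A, by rw [← hA]; ring⟩
    choose A hA using hent
    have hs := lo_step (R := S) h hj (g := g) (c := c') (A := A) (by simpa using hA 0 0)
      (by simpa using hA 0 1) (by simpa using hA 1 0) (by simpa using hA 1 1) 1
    have e : lo (algebraMap k S c * lam ^ (j + 1)) =
        g * lo (algebraMap k S 1 * lam) * g⁻¹ * (lo (algebraMap k S 1 * lam))⁻¹ := by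
      rw [hs, mul_inv_cancel_right, lo_inv, lo_mul, one_mul]
      congr 1
      rw [show c = -(2 * c') by rw [hc']; field_simp, map_neg, map_mul, map_ofNat]
      ring
    rw [e]
    exact mul_mem (mul_mem (mul_mem hg (lo_lam_mem lam 1)) (inv_mem hg))
      (inv_mem (lo_lam_mem lam 1))

/-- For nilpotent `lam` every `up (lam * r)` is in the group. -/
theorem up_mul_lam_mem (hk2 : (2 : k) ≠ 0) {lam : R} {N : ℕ} (hN : lam ^ N = 0)
    (hgen : ∀ x : R, ∃ f : k[X], aeval lam f = x) (r : R) : up (lam * r) ∈ genGroup k lam := by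
  suffices h : ∀ n j : ℕ, N ≤ j + n → 1 ≤ j → ∀ g : SL(2, R),
      (∀ a b, lam ^ j ∣ ((g : Matrix (Fin 2) (Fin 2) R) - 1) a b) → g ∈ genGroup k lam by
    refine h N 1 (by omega) le_rfl _ fun a b => ?_
    fin_cases a <;> fin_cases b <;> simp
  intro n
  induction n with
  | zero =>
    intro j hj _ g hg
    have h0 : lam ^ j = 0 := pow_eq_zero_of_le (by omega) hN
    have : g = 1 := Subtype.ext (by
      ext a b
      have := hg a b
      rw [h0, zero_dvd_iff, Matrix.sub_apply, sub_eq_zero] at this
      simpa using this)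
    rw [this]; exact one_mem _
  | succ n ih =>
    intro j hjn hj g hg
    set I : Ideal R := Ideal.span {lam ^ (j + 1)}
    set π := Ideal.Quotient.mk I
    have hq : π lam ^ (j + 1) = 0 := by
      rw [← map_pow]; exact Ideal.Quotient.eq_zero_iff_mem.2 (Ideal.mem_span_singleton_self _)
    have hL := layers hk2 j hj (R ⧸ I) (π lam) hq
    obtain ⟨hU, hD⟩ := layer_of_lo hk2 hj hq hL
    choose q hq' using hg
    have hred : ∀ y : R, ∃ c : k, π (lam ^ j * y) = algebraMap k (R ⧸ I) c * π lam ^ j := by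
      intro y
      obtain ⟨f, rfl⟩ := hgen y
      refine ⟨f.coeff 0, ?_⟩
      conv_lhs => rw [← X_mul_divX_add f]
      simp only [map_add, map_mul, aeval_X, aeval_C, map_pow, mul_add]
      rw [← mul_assoc, ← pow_succ, hq, zero_mul, zero_add, mul_comm]
      rfl
    obtain ⟨c₀, h0⟩ := hred (q 0 0)
    obtain ⟨c₁, h1⟩ := hred (q 0 1)
    obtain ⟨c₂, h2⟩ := hred (q 1 0)
    obtain ⟨c₃, h3⟩ := hred (q 1 1)
    set x := up (algebraMap k (R ⧸ I) c₁ * π lam ^ j) * lo (algebraMap k (R ⧸ I) c₂ * π lam ^ j) *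
      dgOne (layer_sq hj hq c₀) with hx
    have hxmem : x ∈ genGroup k (π lam) := mul_mem (mul_mem (hU _) (hL _)) (hD _)
    obtain ⟨g', hg', hge'⟩ := exists_lift lam (j + 1) hxmem
    have hgimg : Matrix.SpecialLinearGroup.map π g = x := by
      have p00 : π ((g : Matrix (Fin 2) (Fin 2) R) 0 0) = 1 + algebraMap k (R ⧸ I) c₀ * π lam ^ j := by
        rw [← h0, ← hq' 0 0]; simp
      have p01 : π ((g : Matrix (Fin 2) (Fin 2) R) 0 1) = algebraMap k (R ⧸ I) c₁ * π lam ^ j := by
        rw [← h1, ← hq' 0 1]; simp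
      have p10 : π ((g : Matrix (Fin 2) (Fin 2) R) 1 0) = algebraMap k (R ⧸ I) c₂ * π lam ^ j := by
        rw [← h2, ← hq' 1 0]; simp
      have hll : π lam ^ j * π lam ^ j = 0 := by
        rw [← pow_add, show j + j = j + 1 + (j - 1) by omega, pow_add, hq, zero_mul]
      have p11 : π ((g : Matrix (Fin 2) (Fin 2) R) 1 1) = 1 - algebraMap k (R ⧸ I) c₀ * π lam ^ j := by
        have e3 : π ((g : Matrix (Fin 2) (Fin 2) R) 1 1) = 1 + algebraMap k (R ⧸ I) c₃ * π lam ^ j := by
          rw [← h3, ← hq' 1 1]; simp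
        have hd := congrArg π (det_eq g)
        rw [map_sub, map_mul, map_mul, p00, p01, p10, e3, map_one] at hd
        rw [e3]
        linear_combination hd + (algebraMap k (R ⧸ I) c₁ * algebraMap k (R ⧸ I) c₂ -
          algebraMap k (R ⧸ I) c₀ * algebraMap k (R ⧸ I) c₃) * hll
      set e := π lam ^ j
      set u := algebraMap k (R ⧸ I) c₀
      set v := algebraMap k (R ⧸ I) c₁
      set w := algebraMap k (R ⧸ I) c₂
      apply ext2 <;> simp [hx, Matrix.mul_apply, Fin.sum_univ_two, p00, p01, p10, p11]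
      all_goals first
        | linear_combination (-(v * w) * (1 + u * e)) * hll
        | linear_combination (v * u) * hll
        | linear_combination (-(w * u)) * hll
        | linear_combination (v * w) * hll
        | grobner
    have hdiff : g'⁻¹ * g ∈ genGroup k lam := by
      refine ih (j + 1) (by omega) (by omega) _ fun a b => ?_
      rw [← Ideal.mem_span_singleton, ← Ideal.Quotient.eq_zero_iff_mem]
      have h1 : Matrix.SpecialLinearGroup.map π (g'⁻¹ * g) = 1 := by
        rw [map_mul, map_inv, hge', hgimg, inv_mul_cancel]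
      have e := congrArg (fun z : SL(2, R ⧸ I) => (z : Matrix (Fin 2) (Fin 2) (R ⧸ I)) a b) h1
      generalize g'⁻¹ * g = z at e ⊢
      rw [Matrix.sub_apply, map_sub, sub_eq_zero]
      refine Eq.trans (show π ((z : Matrix (Fin 2) (Fin 2) R) a b) = _ from e) ?_
      fin_cases a <;> fin_cases b <;> simp
    simpa using mul_mem hg' hdiff

end CfsgLib.RootSubgroups.Gen2
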