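import Cfsg.Agent.RootSubgroups.QuadPairSL2
import Cfsg.Agent.RootSubgroups.SL2GenNilp

/-! The spaces `σ - 1` of the classes of quadratic elements of minimal rank, and the dichotomy for
two of them: opposite, or all triple products vanish. -/

set_option autoImplicit false

namespace CfsgLib.RootSubgroups.QuadPair

open Cfsg Matrix Polynomial
open CfsgLib.RootSubgroups.Gen2 CfsgLib.RootSubgroups.QuadWord
open scoped MatrixGroups

universe u

variable {k : Type u} [Field k] {M : Type u} [AddCommGroup M] [Module k M]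
  [FiniteDimensional k M]
variable {G : Subgroup (LinearMap.GeneralLinearGroup k M)} {σ τ : LinearMap.GeneralLinearGroup k M}

/-- `1 + c • f` lies in `G` for every scalar `c`. -/
def HasFamily (G : Subgroup (LinearMap.GeneralLinearGroup k M)) (f : Module.End k M) : Prop :=
  ∀ c : k, ∃ g ∈ G, (g : M →ₗ[k] M) = 1 + c • f

/-- The maps `ρ - 1`, `ρ` in the class of `σ`, together with zero. -/
def InRoot (G : Subgroup (LinearMap.GeneralLinearGroup k M)) (σ : LinearMap.GeneralLinearGroup k M)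
    (a : Module.End k M) : Prop :=
  LinearMap.ker (nil σ) ≤ LinearMap.ker a ∧ LinearMap.range a ≤ LinearMap.range (nil σ) ∧ HasFamily G a

omit [FiniteDimensional k M] in
lemma coe_eq_one_add (g : LinearMap.GeneralLinearGroup k M) : (g : M →ₗ[k] M) = 1 + nil g := by
  rw [nil]; abel

omit [FiniteDimensional k M] in
lemma nil_one : nil (1 : LinearMap.GeneralLinearGroup k M) = 0 := by
  rw [nil, Units.val_one, sub_self]

omit [FiniteDimensional k M] in
lemma nil_mul (g h : LinearMap.GeneralLinearGroup k M) :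
    nil (g * h) = nil g + nil h + nil g * nil h := by
  rw [nil, nil, nil, Units.val_mul]; noncomm_ring

omit [FiniteDimensional k M] in
lemma nil_eq_zero_iff {g : LinearMap.GeneralLinearGroup k M} : nil g = 0 ↔ g = 1 := by
  rw [nil, sub_eq_zero, Units.ext_iff, Units.val_one]

omit [FiniteDimensional k M] in
lemma nil_injective {g h : LinearMap.GeneralLinearGroup k M} (e : nil g = nil h) : g = h :=
  Units.ext (by rw [coe_eq_one_add g, coe_eq_one_add h, e])

omit [FiniteDimensional k M] in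
lemma conj_val (g x : LinearMap.GeneralLinearGroup k M) :
    nil (g * x * g⁻¹) = (g : M →ₗ[k] M) * nil x * ((g⁻¹ : LinearMap.GeneralLinearGroup k M) : M →ₗ[k] M) := by
  rw [nil, nil, Units.val_mul, Units.val_mul, mul_sub, sub_mul, mul_one, Units.mul_inv]

lemma quad_ne (h : IsQuadraticOn σ) : nil σ ≠ 0 := h.2

lemma hasFamily_nil (hσ : σ ∈ quadraticElements G) : HasFamily G (nil σ) := by
  intro c
  have h2 : nil σ * nil σ = 0 := nil_sq hσ.2.1
  have h' : ∀ a b : k, (1 + a • nil σ) * (1 + b • nil σ) = 1 + (a + b) • nil σ := fun a b => by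
    rw [mul_add, add_mul, add_mul, one_mul, mul_one, one_mul, smul_mul_smul_comm, h2, smul_zero,
      add_zero, add_smul, add_assoc]
  let g : LinearMap.GeneralLinearGroup k M :=
    ⟨1 + c • nil σ, 1 + (-c) • nil σ, by rw [h', add_neg_cancel, zero_smul, add_zero],
      by rw [h', neg_add_cancel, zero_smul, add_zero]⟩
  exact ⟨g, hσ.2.2 ⟨c, rfl⟩, rfl⟩

lemma inRoot_self (hσ : σ ∈ quadraticElements G) : InRoot G σ (nil σ) :=
  ⟨le_rfl, le_rfl, hasFamily_nil hσ⟩

lemma inRoot_zero : InRoot G σ 0 :=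
  ⟨by simp, by simp, fun c => ⟨1, one_mem _, by simp⟩⟩

omit [FiniteDimensional k M] in
/-- An element realising a map with a family. -/
lemma HasFamily.exists_elem {f : Module.End k M} (hf : HasFamily G f) :
    ∃ g ∈ G, nil g = f := by
  obtain ⟨g, hg, e⟩ := hf 1
  exact ⟨g, hg, by rw [nil, e, one_smul, add_sub_cancel_left]⟩

omit [FiniteDimensional k M] in
lemma HasFamily.smul {f : Module.End k M} (hf : HasFamily G f) (c : k) : HasFamily G (c • f) :=
  fun d => by
    obtain ⟨g, hg, e⟩ := hf (d * c)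
    exact ⟨g, hg, by rw [e, mul_smul]⟩

omit [FiniteDimensional k M] in
lemma HasFamily.add {f f' : Module.End k M} (hf : HasFamily G f) (hf' : HasFamily G f')
    (h : f * f' = 0) : HasFamily G (f + f') := fun c => by
  obtain ⟨g, hg, e⟩ := hf c
  obtain ⟨g', hg', e'⟩ := hf' c
  exact ⟨g * g', mul_mem hg hg', by
    rw [Units.val_mul, e, e', mul_add, mul_one, add_mul, one_mul, smul_mul_smul_comm, h, smul_zero,
      add_zero, smul_add, add_assoc]⟩

omit [FiniteDimensional k M] in
lemma HasFamily.neg {f : Module.End k M} (hf : HasFamily G f) : HasFamily G (-f) := by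
  simpa using hf.smul (-1)

omit [FiniteDimensional k M] in
lemma HasFamily.conj {f : Module.End k M} (hf : HasFamily G f)
    {g : LinearMap.GeneralLinearGroup k M} (hg : g ∈ G) :
    HasFamily G ((g : M →ₗ[k] M) * f * ((g⁻¹ : LinearMap.GeneralLinearGroup k M) : M →ₗ[k] M)) :=
  fun c => by
    obtain ⟨x, hx, e⟩ := hf c
    refine ⟨g * x * g⁻¹, mul_mem (mul_mem hg hx) (inv_mem hg), ?_⟩
    rw [Units.val_mul, Units.val_mul, e, mul_add, add_mul, mul_one, Units.mul_inv, mul_smul_comm,
      smul_mul_assoc]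

variable (hσ : σ ∈ minimalQuadraticElements G)

include hσ

/-- A square-zero map with a family is zero or has rank at least the minimum. -/
lemma eq_zero_or_rank_le {f : Module.End k M} (hf : HasFamily G f) (h2 : f * f = 0) :
    f = 0 ∨ Module.finrank k (cspace σ) ≤ Module.finrank k (LinearMap.range f) := by
  rcases eq_or_ne f 0 with h | h
  · exact Or.inl h
  right
  obtain ⟨g, hg, rfl⟩ := hf.exists_elem
  refine hσ.2 g ⟨hg, ⟨h2, h⟩, ?_⟩
  rintro x ⟨c, hc⟩
  obtain ⟨y, hy, e⟩ := hf c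
  rw [show x = y from Units.ext (hc.trans e.symm)]
  exact hy

/-- A square-zero map with a family and rank at most the minimum is `ρ - 1`, `ρ` minimal. -/
lemma exists_minimal {f : Module.End k M} (hf : HasFamily G f) (h2 : f * f = 0) (h0 : f ≠ 0)
    (hr : Module.finrank k (LinearMap.range f) ≤ Module.finrank k (cspace σ)) :
    ∃ g ∈ minimalQuadraticElements G, nil g = f := by
  obtain ⟨g, hg, rfl⟩ := hf.exists_elem
  refine ⟨g, ⟨⟨hg, ⟨h2, h0⟩, ?_⟩, fun x hx => le_trans hr (hσ.2 x hx)⟩, rfl⟩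
  rintro x ⟨c, hc⟩
  obtain ⟨y, hy, e⟩ := hf c
  rw [show x = y from Units.ext (hc.trans e.symm)]
  exact hy

lemma range_le_ker : cspace σ ≤ LinearMap.ker (nil σ) := by
  rintro _ ⟨m, rfl⟩; exact nil_apply_nil hσ.1.2.1 m

lemma InRoot.mul_eq_zero {a a' : Module.End k M} (ha : InRoot G σ a) (ha' : InRoot G σ a') :
    a * a' = 0 :=
  LinearMap.ext fun _ => ha.1 (range_le_ker hσ (ha'.2.1 ⟨_, rfl⟩))

lemma InRoot.ker_range {a : Module.End k M} (ha : InRoot G σ a) (h0 : a ≠ 0) :
    LinearMap.ker a = LinearMap.ker (nil σ) ∧ LinearMap.range a = cspace σ := by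
  have hle := (eq_zero_or_rank_le hσ ha.2.2 (InRoot.mul_eq_zero hσ ha ha)).resolve_left h0
  have hr := Submodule.eq_of_le_of_finrank_le ha.2.1 hle
  refine ⟨(Submodule.eq_of_le_of_finrank_le ha.1 ?_).symm, hr⟩
  have h1 := LinearMap.finrank_range_add_finrank_ker a
  have h2 := LinearMap.finrank_range_add_finrank_ker (nil σ)
  rw [hr] at h1
  omega

lemma InRoot.exists_minimal {a : Module.End k M} (ha : InRoot G σ a) (h0 : a ≠ 0) :
    ∃ g ∈ minimalQuadraticElements G, nil g = a ∧ LinearMap.ker (nil g) = LinearMap.ker (nil σ) ∧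
      cspace g = cspace σ := by
  obtain ⟨hk, hr⟩ := InRoot.ker_range hσ ha h0
  obtain ⟨g, hg, e⟩ := QuadPair.exists_minimal hσ ha.2.2 (InRoot.mul_eq_zero hσ ha ha) h0 (by rw [hr])
  exact ⟨g, hg, e, e ▸ hk, by rw [cspace, e, hr]⟩

omit hσ [FiniteDimensional k M] in
lemma InRoot.smul {a : Module.End k M} (ha : InRoot G σ a) (c : k) : InRoot G σ (c • a) :=
  ⟨fun m hm => by simp [show a m = 0 from ha.1 hm],
    fun x ⟨m, hm⟩ => hm ▸ Submodule.smul_mem _ c (ha.2.1 ⟨m, rfl⟩), ha.2.2.smul c⟩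

omit hσ [FiniteDimensional k M] in
lemma InRoot.neg {a : Module.End k M} (ha : InRoot G σ a) : InRoot G σ (-a) := by
  simpa using ha.smul (-1)

lemma InRoot.add {a a' : Module.End k M} (ha : InRoot G σ a) (ha' : InRoot G σ a') :
    InRoot G σ (a + a') :=
  ⟨fun m hm => by simp [show a m = 0 from ha.1 hm, show a' m = 0 from ha'.1 hm],
    (LinearMap.range_add_le a a').trans (sup_le ha.2.1 ha'.2.1),
    ha.2.2.add ha'.2.2 (InRoot.mul_eq_zero hσ ha ha')⟩

lemma InRoot.sub {a a' : Module.End k M} (ha : InRoot G σ a) (ha' : InRoot G σ a') :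
    InRoot G σ (a - a') := by
  rw [sub_eq_add_neg]; exact InRoot.add hσ ha ha'.neg

lemma inRoot_of_class {g : LinearMap.GeneralLinearGroup k M} (hg : g ∈ sameActionClass G σ) :
    InRoot G σ (nil g) := ⟨hg.2.1.ge, hg.2.2.le, hasFamily_nil hg.1.1⟩

/-- Membership in `E(σ)`. -/
theorem mem_E {g : LinearMap.GeneralLinearGroup k M} :
    g ∈ sameActionSubgroup G σ ↔ InRoot G σ (nil g) := by
  constructor
  · intro hg
    induction hg using Subgroup.closure_induction with
    | mem x hx => exact inRoot_of_class hσ hx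
    | one => rw [nil_one]; exact inRoot_zero
    | mul x y _ _ hx hy =>
      rw [nil_mul, InRoot.mul_eq_zero hσ hx hy, add_zero]; exact InRoot.add hσ hx hy
    | inv x _ hx =>
      have hneg := hx.neg
      obtain ⟨y, -, hy⟩ := hneg.2.2.exists_elem
      have : x⁻¹ = y := inv_eq_of_mul_eq_one_right (nil_eq_zero_iff.1 (by
        rw [nil_mul, hy, InRoot.mul_eq_zero hσ hx hneg, add_neg_cancel, add_zero]))
      rw [this, hy]; exact hneg
  · intro hg
    rcases eq_or_ne (nil g) 0 with h | h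
    · rw [nil_eq_zero_iff.1 h]; exact one_mem _
    obtain ⟨x, hx, e, hk, hr⟩ := InRoot.exists_minimal hσ hg h
    rw [← nil_injective e]
    exact Subgroup.subset_closure ⟨hx, hk, hr⟩

omit hσ in
lemma E_eq_of {σ' : LinearMap.GeneralLinearGroup k M}
    (hk : LinearMap.ker (nil σ') = LinearMap.ker (nil σ)) (hr : cspace σ' = cspace σ) :
    sameActionSubgroup G σ' = sameActionSubgroup G σ := by
  have : sameActionClass G σ' = sameActionClass G σ := by
    ext x
    exact ⟨fun h => ⟨h.1, h.2.1.trans hk, h.2.2.trans hr⟩,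
      fun h => ⟨h.1, h.2.1.trans hk.symm, h.2.2.trans hr.symm⟩⟩
  rw [sameActionSubgroup, this]; rfl

lemma exists_ne_zero : ∃ a, InRoot G σ a ∧ a ≠ 0 := ⟨nil σ, inRoot_self hσ.1, quad_ne hσ.1.2.1⟩

lemma E_le : sameActionSubgroup G σ ≤ G :=
  (Subgroup.closure_le G).2 fun _ hx => hx.1.1.1

omit hσ [FiniteDimensional k M] in
lemma conj_ker (g x : LinearMap.GeneralLinearGroup k M) :
    LinearMap.ker (nil (g * x * g⁻¹)) =
      (LinearMap.ker (nil x)).comap ((g⁻¹ : LinearMap.GeneralLinearGroup k M) : M →ₗ[k] M) := by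
  ext m
  rw [LinearMap.mem_ker, conj_val, Submodule.mem_comap, LinearMap.mem_ker, Module.End.mul_apply,
    Module.End.mul_apply]
  refine ⟨fun h => ?_, fun h => by rw [h, map_zero]⟩
  have := congrArg ((g⁻¹ : LinearMap.GeneralLinearGroup k M) : M →ₗ[k] M) h
  rwa [map_zero, ← Module.End.mul_apply, Units.inv_mul, Module.End.one_apply] at this

omit hσ [FiniteDimensional k M] in
lemma conj_range (g x : LinearMap.GeneralLinearGroup k M) :
    cspace (g * x * g⁻¹) = (cspace x).map (g : M →ₗ[k] M) := by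
  apply le_antisymm
  · rintro _ ⟨m, rfl⟩
    exact ⟨nil x (((g⁻¹ : LinearMap.GeneralLinearGroup k M) : M →ₗ[k] M) m), ⟨_, rfl⟩,
      by rw [conj_val]; rfl⟩
  · rintro _ ⟨_, ⟨m, rfl⟩, rfl⟩
    refine ⟨(g : M →ₗ[k] M) m, ?_⟩
    rw [conj_val, Module.End.mul_apply, Module.End.mul_apply,
      ← Module.End.mul_apply ((g⁻¹ : LinearMap.GeneralLinearGroup k M) : M →ₗ[k] M), Units.inv_mul,
      Module.End.one_apply]

/-- Conjugates of minimal elements are minimal. -/
lemma conj_minimal {g : LinearMap.GeneralLinearGroup k M} (hg : g ∈ G) :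
    g * σ * g⁻¹ ∈ minimalQuadraticElements G := by
  have hf : HasFamily G (nil (g * σ * g⁻¹)) := by
    rw [conj_val]; exact (hasFamily_nil hσ.1).conj hg
  have h2 : nil (g * σ * g⁻¹) * nil (g * σ * g⁻¹) = 0 := by
    rw [conj_val]
    simp only [mul_assoc, Units.inv_mul_cancel_left]
    rw [← mul_assoc (nil σ), nil_sq hσ.1.2.1, zero_mul, mul_zero]
  have hne : nil (g * σ * g⁻¹) ≠ 0 := fun h => quad_ne hσ.1.2.1 (by
    rw [nil_eq_zero_iff, conj_eq_one_iff] at h; rw [h, nil_one])
  obtain ⟨x, hx, e⟩ := QuadPair.exists_minimal hσ hf h2 hne (by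
    have := conj_range g σ
    rw [cspace] at this
    rw [this]; exact Submodule.finrank_map_le _ _)
  rwa [← nil_injective e]

lemma conjBy_E {g : LinearMap.GeneralLinearGroup k M} (hg : g ∈ G) :
    conjBy (sameActionSubgroup G σ) g = sameActionSubgroup G (g * σ * g⁻¹) := by
  have key : ∀ (x : LinearMap.GeneralLinearGroup k M), ∀ g ∈ G, ∀ y ∈ sameActionClass G x,
      g * y * g⁻¹ ∈ sameActionClass G (g * x * g⁻¹) := fun x g hg y hy => by
    refine ⟨conj_minimal hy.1 hg, ?_, ?_⟩
    · show LinearMap.ker (nil (g * y * g⁻¹)) = LinearMap.ker (nil (g * x * g⁻¹))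
      rw [conj_ker, conj_ker, show LinearMap.ker (nil y) = LinearMap.ker (nil x) from hy.2.1]
    · show cspace (g * y * g⁻¹) = cspace (g * x * g⁻¹)
      rw [conj_range, conj_range, show cspace y = cspace x from hy.2.2]
  rw [sameActionSubgroup, conjBy, MonoidHom.map_closure, sameActionSubgroup]
  congr 1
  ext y
  constructor
  · rintro ⟨z, hz, rfl⟩; exact key σ g hg z hz
  · intro hy
    refine ⟨g⁻¹ * y * g⁻¹⁻¹, ?_, by simp [mul_assoc]⟩
    have := key _ g⁻¹ (inv_mem hg) y hy
    rwa [show g⁻¹ * (g * σ * g⁻¹) * g⁻¹⁻¹ = σ by group] at this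

end CfsgLib.RootSubgroups.QuadPair
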