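import Cfsg.Agent.RootSubgroups.QuadGraded

/-! The commutator of two non-commuting classes generating a unipotent group is a class. -/

set_option autoImplicit false

namespace CfsgLib.RootSubgroups.QuadPair

open Cfsg

universe u

variable {k : Type u} [Field k] {M : Type u} [AddCommGroup M] [Module k M]
  [FiniteDimensional k M]
variable {G : Subgroup (LinearMap.GeneralLinearGroup k M)}
  {σ τ ζ η : LinearMap.GeneralLinearGroup k M} {d a b : Module.End k M}

variable (hk2 : ringChar k ≠ 2) (hk3 : Nat.card k ≠ 3)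

include hk2 in
/-- The graded part of `a`. -/
theorem grade (h : InvPair G ζ η d) (hσ : σ ∈ minimalQuadraticElements G) (ha : InRoot G σ a)
    (hc : Core (nil ζ) a) :
    HasFamily G (a - nil ζ * d * a * (d * nil ζ)) ∧
      (a - nil ζ * d * a * (d * nil ζ)) * (a - nil ζ * d * a * (d * nil ζ)) = 0 ∧
      InRoot G ζ (nil ζ * d * a * (d * nil ζ)) ∧
      Module.finrank k (LinearMap.range (a - nil ζ * d * a * (d * nil ζ))) ≤
        Module.finrank k (cspace σ) ∧
      Core (nil ζ) (a - nil ζ * d * a * (d * nil ζ)) ∧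
      nil ζ * d * (a - nil ζ * d * a * (d * nil ζ)) * (d * nil ζ) = 0 := by
  set z := nil ζ with hzdef
  have hzz : z * z = 0 := h.zz
  have hdd := h.dd
  have hzdz : z * d * z = z := h.zdz
  have haa := InRoot.mul_eq_zero hσ ha ha
  obtain ⟨ap', qa'⟩ := hc.p_kill (d := d)
  have ap : a * (z * d) = 0 := ap'
  have qa : d * z * a = 0 := qa'
  have hs : z * d * (a * (1 - d * z)) = a * (1 - d * z) := hc.step_eq h
  set hh := z * d * a * (d * z) with hhdef
  set a0 := a - hh with ha0def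
  -- the involution of `⟨z, d⟩`
  obtain ⟨gd, hgd, hgde⟩ := h.inRoot.2.2.exists_elem
  set i := ζ * gd⁻¹ * ζ * (ζ * gd⁻¹ * ζ) with hidef
  have hiG : i ∈ G :=
    mul_mem (mul_mem (mul_mem h.minζ.1.1 (inv_mem hgd)) h.minζ.1.1)
      (mul_mem (mul_mem h.minζ.1.1 (inv_mem hgd)) h.minζ.1.1)
  have hw : nil (ζ * gd⁻¹ * ζ) = z - d - z * d - d * z := by
    simp only [nil_mul, nil_inv (show nil gd * nil gd = 0 by rw [hgde, hdd]), hgde, ← hzdef,
      add_mul, mul_neg, neg_mul, hzz, hzdz]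
    abel
  have hi : (i : M →ₗ[k] M) = 1 - z * d - z * d - d * z - d * z := by
    rw [hidef, Units.val_mul (ζ * gd⁻¹ * ζ), coe_eq_one_add, hw]
    have e : (z - d - z * d - d * z) * (z - d - z * d - d * z) = d - z + (d - z) := by
      have e1 : d * z * d = d := h.dzd
      calc (z - d - z * d - d * z) * (z - d - z * d - d * z)
          = z * z - z * d - (z * z) * d - z * d * z - d * z + d * d + d * z * d + (d * d) * z
            - z * d * z + z * (d * d) + z * d * z * d + z * (d * d) * z - d * (z * z) + d * z * d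
            + d * (z * z) * d + d * z * d * z := by noncomm_ring
        _ = d - z + (d - z) := by rw [hzz, hdd, hzdz, e1]; simp; abel
    rw [add_mul, one_mul, mul_add, mul_one, e]
    abel
  have hi2 : i * i = 1 := by
    apply Units.ext
    rw [Units.val_mul, hi, Units.val_one]
    have e1 : d * z * d = d := h.dzd
    calc (1 - z * d - z * d - d * z - d * z) * (1 - z * d - z * d - d * z - d * z)
        = 1 - 4 • (z * d) - 4 • (d * z) + 4 • (z * d * z * d) + 4 • (z * (d * d) * z)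
          + 4 • (d * (z * z) * d) + 4 • (d * z * d * z) := by noncomm_ring
      _ = 1 := by
        rw [hzdz, hzz, hdd, e1]; simp only [mul_zero, zero_mul, smul_zero, add_zero]; abel
  have hinv : i⁻¹ = i := inv_eq_of_mul_eq_one_right hi2
  set a' := (i : M →ₗ[k] M) * a * (i : M →ₗ[k] M) with ha'
  have hf' : HasFamily G a' := by
    have := ha.2.2.conj hiG; rwa [hinv] at this
  have hqa' : d * z * a = 0 := qa
  have e2 : a - a' = a0 + a0 := by
    have hs' : a - z * d * a - a * (d * z) + hh = 0 := by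
      have := sub_eq_zero.2 hs.symm
      rw [hhdef, ← this]; noncomm_ring
    rw [ha', hi]
    calc a - (1 - z * d - z * d - d * z - d * z) * a * (1 - z * d - z * d - d * z - d * z)
        = a - (a - (a * (z * d) + a * (z * d)) - (a * (d * z) + a * (d * z))
          - (z * d * a + z * d * a) + (4 • (z * d * (a * (z * d)))) + 4 • hh
          - (d * z * a + d * z * a) + 4 • ((d * z * a) * (z * d)) + 4 • ((d * z * a) * (d * z))) := by
          rw [hhdef]; noncomm_ring
      _ = a0 + a0 + 2 • (-(a - z * d * a - a * (d * z) + hh)) := by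
          rw [ap, hqa', ha0def]; simp only [mul_zero, zero_mul, smul_zero, sub_zero, add_zero]; abel
      _ = a0 + a0 := by rw [hs']; simp
  have haa' : a * (-a') = 0 := by
    rw [ha', hi, mul_neg, neg_eq_zero]
    calc a * ((1 - z * d - z * d - d * z - d * z) * a * (1 - z * d - z * d - d * z - d * z))
        = (a * a - (a * (z * d)) * a - (a * (z * d)) * a - a * (d * z * a) - a * (d * z * a))
          * (1 - z * d - z * d - d * z - d * z) := by noncomm_ring
      _ = 0 := by rw [ap, hqa', haa]; simp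
  have hf0 : HasFamily G a0 := by
    have h2 := ha.2.2.add hf'.neg haa'
    rw [← sub_eq_add_neg, e2, ← two_smul k] at h2
    have := h2.smul (2 : k)⁻¹
    simpa [smul_smul, Ring.two_ne_zero hk2] using this
  have hah : a * hh = 0 := by
    rw [hhdef, show a * (z * d * a * (d * z)) = a * (z * d) * a * (d * z) by noncomm_ring, ap]; simp
  have hha : hh * a = 0 := by rw [hhdef, mul_assoc, qa, mul_zero]
  have hhhh : hh * hh = 0 := by
    rw [hhdef, show z * d * a * (d * z) * (z * d * a * (d * z))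
      = z * d * a * d * (z * z) * (d * a * (d * z)) by noncomm_ring, hzz]
    simp
  have hh2 : HasFamily G hh := by
    have := ha.2.2.add hf0.neg (by rw [mul_neg, ha0def, mul_sub, haa, hah, sub_self, neg_zero])
    rwa [← sub_eq_add_neg, ha0def, sub_sub_cancel] at this
  have hhR : InRoot G ζ hh := ⟨fun m hm => by
      show hh m = 0
      rw [hhdef, show z * d * a * (d * z) = z * d * a * d * z by noncomm_ring, Module.End.mul_apply,
        show z m = 0 from hm, map_zero],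
    fun _ ⟨m, hm⟩ => ⟨(d * a * (d * z)) m, by
      rw [← hm, hhdef, ← Module.End.mul_apply]; simp only [mul_assoc]; rfl⟩, hh2⟩
  refine ⟨hf0, by rw [ha0def]; simp [sub_mul, mul_sub, haa, hah, hha, hhhh], hhR, ?_, ?_, ?_⟩
  · -- rank
    have ea : a0 = (1 - z * d) * a + a * (1 - d * z) := by
      have := sub_eq_zero.2 hs.symm
      calc a0 = a - hh + (a * (1 - d * z) - z * d * (a * (1 - d * z))) := by rw [this, add_zero]
        _ = (1 - z * d) * a + a * (1 - d * z) := by rw [hhdef]; noncomm_ring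
    have hle : LinearMap.range a0 ≤ (LinearMap.range a).map (1 - z * d) ⊔
        (LinearMap.range a ⊓ LinearMap.ker (1 - z * d)) := by
      rintro _ ⟨m, rfl⟩
      rw [ea, LinearMap.add_apply]
      refine Submodule.add_mem_sup ⟨a m, ⟨_, rfl⟩, rfl⟩ ⟨⟨_, rfl⟩, ?_⟩
      show ((1 - z * d) * (a * (1 - d * z))) m = 0
      rw [sub_mul, one_mul, hs, sub_self, LinearMap.zero_apply]
    have e1 := Submodule.finrank_mono hle
    have e3 := Submodule.finrank_sup_add_finrank_inf_eq ((LinearMap.range a).map (1 - z * d))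
      (LinearMap.range a ⊓ LinearMap.ker (1 - z * d))
    have e4 := finrank_map_add_inf (1 - z * d) (LinearMap.range a)
    have e5 : Module.finrank k (LinearMap.range a) ≤ Module.finrank k (cspace σ) :=
      Submodule.finrank_mono ha.2.1
    omega
  · refine ⟨?_, ?_, fun m hm => ?_⟩
    · rw [ha0def, mul_sub, hc.left, hhdef, show z * (z * d * a * (d * z)) = z * z * d * a * (d * z) by
        noncomm_ring, hzz]; simp
    · rw [ha0def, sub_mul, hc.right, hhdef, mul_assoc _ (d * z) z, mul_assoc d z z, hzz]; simp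
    · rw [ha0def, LinearMap.sub_apply, show hh m = 0 from hhR.1 hm, sub_zero]
      exact hc.step m hm
  · have hp : z * d * (z * d) = z * d := by rw [← mul_assoc, hzdz]
    have hq : d * z * (d * z) = d * z := by rw [← mul_assoc, show d * z * d = d from h.dzd]
    rw [ha0def, mul_sub, sub_mul, hhdef]
    rw [show z * d * (z * d * a * (d * z)) * (d * z) = (z * d * (z * d)) * a * (d * z * (d * z)) by
      noncomm_ring, hp, hq, sub_self]

include hk2 hk3

omit hk2 hk3 in
lemma Opp.aba_ne (hop : Opp σ τ) (hσ : σ ∈ minimalQuadraticElements G)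
    (hτ : τ ∈ minimalQuadraticElements G) (ha : InRoot G σ a) (hb : InRoot G τ b) (hb0 : b ≠ 0)
    (haba : a * b * a = 0) : a = 0 := by
  by_contra ha0
  obtain ⟨hka, hra⟩ := InRoot.ker_range hσ ha ha0
  obtain ⟨hkb, hrb⟩ := InRoot.ker_range hτ hb hb0
  apply ha0
  refine LinearMap.ext fun m => ?_
  have h1 : b (a m) = 0 := (Submodule.eq_bot_iff _).1 hop.2 _
    ⟨hrb ▸ ⟨_, rfl⟩, hka ▸ LinearMap.congr_fun haba m⟩
  exact (Submodule.eq_bot_iff _).1 hop.1 _ ⟨hra ▸ ⟨m, rfl⟩, hkb ▸ h1⟩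

/-- `c ↦ [nil σ, c]` is onto the class of the commutators. -/
theorem commutator_surjective (hirr : Reduced G) (hσ : σ ∈ minimalQuadraticElements G)
    (hτ : τ ∈ minimalQuadraticElements G) (hT : Triple G σ τ)
    (hζ : ζ ∈ minimalQuadraticElements G)
    (hz : nil ζ = nil σ * nil τ - nil τ * nil σ) (hca : ∀ a, InRoot G σ a → Core (nil ζ) a)
    (hcb : ∀ b, InRoot G τ b → Core (nil ζ) b) {c : Module.End k M} (hc : InRoot G ζ c) :
    ∃ b, InRoot G τ b ∧ nil σ * b - b * nil σ = c := by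
  obtain ⟨g, hg, hop⟩ := exists_opp hk2 hk3 hirr hζ
  obtain ⟨d, hd, hd0, hzdz, hdzd⟩ := exists_inverse hk2 hk3 hζ (conj_minimal hζ hg) hop
    (inRoot_self hζ.1) (quad_ne hζ.1.2.1)
  have hI : InvPair G ζ (g * ζ * g⁻¹) d := ⟨hζ, conj_minimal hζ hg, hop, hd, hd0, hzdz, hdzd⟩
  have hs := inRoot_self hσ.1
  have ht := inRoot_self hτ.1
  obtain ⟨fa, sa, hha, ra, ca, ga⟩ := grade hk2 hI hσ hs (hca _ hs)
  obtain ⟨fb, sb, hhb, rb, cb, gb⟩ := grade hk2 hI hτ ht (hcb _ ht)
  set a := nil σ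
  set b := nil τ
  set h₁ := nil ζ * d * a * (d * nil ζ)
  set h₂ := nil ζ * d * b * (d * nil ζ)
  set a₀ := a - h₁ with ha₀
  set b₀ := b - h₂ with hb₀
  obtain ⟨k1, k2⟩ := (hca a hs).kill hha
  obtain ⟨k3, k4⟩ := (hca a hs).kill hhb
  obtain ⟨k5, k6⟩ := (hcb b ht).kill hha
  obtain ⟨k7, k8⟩ := (hcb b ht).kill hhb
  have k9 : h₁ * h₂ = 0 := InRoot.mul_eq_zero hζ hha hhb
  have k10 : h₂ * h₁ = 0 := InRoot.mul_eq_zero hζ hhb hha
  have k11 : h₁ * h₁ = 0 := InRoot.mul_eq_zero hζ hha hha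
  have k12 : h₂ * h₂ = 0 := InRoot.mul_eq_zero hζ hhb hhb
  have hz₀ : nil ζ = a₀ * b₀ - b₀ * a₀ := by
    rw [hz, ha₀, hb₀]; simp [sub_mul, mul_sub, k3, k4, k5, k6, k9, k10]
  have ha00 : a₀ ≠ 0 := fun h => quad_ne hζ.1.2.1 (by rw [hz₀, h, zero_mul, mul_zero, sub_zero])
  have hb00 : b₀ ≠ 0 := fun h => quad_ne hζ.1.2.1 (by rw [hz₀, h, zero_mul, mul_zero, sub_zero])
  obtain ⟨σ₀, hσ₀, eσ⟩ := exists_minimal hσ fa sa ha00 ra
  obtain ⟨τ₀, hτ₀, eτ⟩ := exists_minimal hτ fb sb hb00 rb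
  have ha₀R : InRoot G σ₀ a₀ := eσ ▸ inRoot_self hσ₀.1
  have hb₀R : InRoot G τ₀ b₀ := eτ ▸ inRoot_self hτ₀.1
  have haba : a₀ * b₀ * a₀ = 0 := by
    have e : a₀ * b₀ = a * b := by
      rw [ha₀, hb₀]; simp [sub_mul, mul_sub, k4, k5, k9]
    rw [e, ha₀, mul_sub, hT.1 _ hs _ ht _ hs, mul_assoc, k6, mul_zero, sub_zero]
  have hT₀ : Triple G σ₀ τ₀ := (opp_or_triple hσ₀ hτ₀ hk2 hk3).resolve_left fun ho =>
    ha00 (Opp.aba_ne ho hσ₀ hτ₀ ha₀R hb₀R hb00 haba)
  have hne₀ : nil σ₀ * nil τ₀ ≠ nil τ₀ * nil σ₀ := by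
    rw [eσ, eτ, ← sub_ne_zero, ← hz₀]; exact quad_ne hζ.1.2.1
  obtain ⟨ζ', hζ', hz', hall, hca', hcb'⟩ := Triple.shape hσ₀ hτ₀ hT₀ hne₀
  have hζe : ζ' = ζ := nil_injective (by rw [hz', eσ, eτ, hz₀])
  rw [hζe] at hall hca' hcb'
  -- the conjugation carrying the graded class to the given one
  obtain ⟨a', ha', e'⟩ := graded_surjective hk2 hk3 hI hτ₀ hσ₀ hT₀.symm hb₀R hb00 ha₀R.neg
    (neg_ne_zero.2 ha00) (by rw [hz₀]; noncomm_ring) cb (hca' _ ha₀R.neg) gb
    (by rw [mul_neg, neg_mul, ga, neg_zero]) hhb.neg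
  obtain ⟨g', hg', eg⟩ := ha'.2.2.exists_elem
  have haa' : a' * a' = 0 := InRoot.mul_eq_zero hσ₀ ha' ha'
  have hconj : ∀ x, InRoot G τ₀ x → True ∧
      (g' : M →ₗ[k] M) * x * ((g'⁻¹ : LinearMap.GeneralLinearGroup k M) : M →ₗ[k] M) =
        x + (a' * x - x * a') := fun x hx => by
    refine ⟨trivial, ?_⟩
    rw [coe_eq_one_add g', coe_eq_one_add g'⁻¹, nil_inv (by rw [eg, haa']), eg]
    calc (1 + a') * x * (1 + -a') = x + (a' * x - x * a') - a' * x * a' := by noncomm_ring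
      _ = x + (a' * x - x * a') := by rw [hT₀.1 _ ha' _ hx _ ha', sub_zero]
  have hτe : g' * τ₀ * g'⁻¹ = τ := nil_injective (by
    rw [conj_val, (hconj _ (inRoot_self hτ₀.1)).2, eτ]
    have : a' * b₀ - b₀ * a' = h₂ := by rw [← neg_sub, e', neg_neg]
    rw [this, hb₀, sub_add_cancel])
  obtain ⟨b', hb', eb⟩ := graded_surjective hk2 hk3 hI hσ₀ hτ₀ hT₀ ha₀R ha00 hb₀R hb00 hz₀
    ca cb ga gb hc
  obtain ⟨y, -, ey⟩ := hb'.2.2.exists_elem
  refine ⟨b' + (a' * b' - b' * a'), ?_, ?_⟩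
  · have hy : y ∈ sameActionSubgroup G τ₀ := (mem_E hτ₀).2 (ey ▸ hb')
    have := conj_mem_conjBy hy g'
    rw [conjBy_E hτ₀ hg', hτe, mem_E hτ, conj_val, ey, (hconj b' hb').2] at this
    exact this
  · have hc' : InRoot G ζ (a' * b' - b' * a') := (hall a' ha' b' hb').1
    obtain ⟨j1, j2⟩ := (hcb' b' hb').kill hha
    obtain ⟨j3, j4⟩ := (hca _ hs).kill hc'
    rw [show a = a₀ + h₁ by rw [ha₀, sub_add_cancel]] at j3 j4 ⊢
    have j5 := InRoot.mul_eq_zero hζ hha hc'
    have j6 := InRoot.mul_eq_zero hζ hc' hha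
    calc (a₀ + h₁) * (b' + (a' * b' - b' * a')) - (b' + (a' * b' - b' * a')) * (a₀ + h₁)
        = (a₀ * b' - b' * a₀) + (h₁ * b' - b' * h₁) + ((a₀ + h₁) * (a' * b' - b' * a'))
          - ((a' * b' - b' * a') * (a₀ + h₁)) := by noncomm_ring
      _ = c := by rw [eb, j1, j2, j3, j4]; simp

end CfsgLib.RootSubgroups.QuadPair
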