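import Cfsg.Agent.RootSubgroups.QuadClass

/-! Two classes are opposite, or all their triple products vanish. -/

set_option autoImplicit false

namespace CfsgLib.RootSubgroups.QuadPair

open Cfsg Matrix Polynomial
open CfsgLib.RootSubgroups.Gen2 CfsgLib.RootSubgroups.QuadWord
open scoped MatrixGroups

universe u

variable {k : Type u} [Field k] {M : Type u} [AddCommGroup M] [Module k M]
  [FiniteDimensional k M]
variable {G : Subgroup (LinearMap.GeneralLinearGroup k M)} {σ τ : LinearMap.GeneralLinearGroup k M}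

/-- Two classes are opposite. -/
def Opp (σ τ : LinearMap.GeneralLinearGroup k M) : Prop :=
  cspace σ ⊓ LinearMap.ker (nil τ) = ⊥ ∧ cspace τ ⊓ LinearMap.ker (nil σ) = ⊥

omit [FiniteDimensional k M] in
lemma Opp.symm (h : Opp σ τ) : Opp τ σ := ⟨h.2, h.1⟩

omit [FiniteDimensional k M] in
lemma opp_congr {σ' τ' : LinearMap.GeneralLinearGroup k M}
    (h1 : LinearMap.ker (nil σ') = LinearMap.ker (nil σ)) (h2 : cspace σ' = cspace σ)
    (h3 : LinearMap.ker (nil τ') = LinearMap.ker (nil τ)) (h4 : cspace τ' = cspace τ) :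
    Opp σ' τ' ↔ Opp σ τ := by rw [Opp, Opp, h1, h2, h3, h4]

omit [FiniteDimensional k M] in
lemma Opp.injective (h : Opp σ τ) : Function.Injective (phi σ τ) := by
  rw [← LinearMap.ker_eq_bot, Submodule.eq_bot_iff]
  intro v hv
  have h1 : nil σ (nil τ (v : M)) = 0 := congrArg Subtype.val (LinearMap.mem_ker.1 hv)
  have h2 : nil τ (v : M) = 0 :=
    (Submodule.eq_bot_iff _).1 h.2 _ ⟨LinearMap.mem_range_self _ _, h1⟩
  exact Subtype.ext ((Submodule.eq_bot_iff _).1 h.1 _ ⟨v.2, h2⟩)

variable (hσ : σ ∈ minimalQuadraticElements G) (hτ : τ ∈ minimalQuadraticElements G)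

include hσ hτ

lemma opp_of_injective (hinj : Function.Injective (phi σ τ)) : Opp σ τ := by
  refine ⟨(Submodule.eq_bot_iff _).2 ?_, (Submodule.eq_bot_iff _).2 ?_⟩
  · rintro x ⟨hx, hxk⟩
    exact congrArg Subtype.val (nil_tau_inj hinj (v := ⟨x, hx⟩) hxk)
  · rintro _ ⟨⟨m, rfl⟩, hxk⟩
    obtain ⟨v, hv⟩ := exists_preimage_tau hσ hτ hinj m
    have : phi σ τ v = 0 := Subtype.ext (by
      show nil σ (nil τ (v : M)) = 0
      rw [hv]; exact hxk)
    rw [← hv, hinj (this.trans (map_zero _).symm)]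
    exact map_zero _

/-- A nilpotent `φ` vanishes. -/
lemma phi_eq_zero_of_nilpotent (hk2 : ringChar k ≠ 2) {e : ℕ} (he : (phi σ τ) ^ e = 0) :
    phi σ τ = 0 ∨ Function.Injective (phi σ τ) := by
  have h2 : (2 : k) ≠ 0 := two_ne_zero_of_char hk2
  have hQ : aeval (phi σ τ) (X ^ e : k[X]) = 0 := by simp [he]
  have hl : AdjoinRoot.root (X ^ 2 * X ^ e : k[X]) ^ (2 + e) = 0 := by
    have : AdjoinRoot.mk (X ^ 2 * X ^ e : k[X]) (X ^ 2 * X ^ e) = 0 := AdjoinRoot.mk_self
    rw [map_mul, map_pow, map_pow, AdjoinRoot.mk_X] at this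
    rw [pow_add]; exact this
  have hgen : ∀ x : AdjoinRoot (X ^ 2 * X ^ e : k[X]), ∃ f : k[X],
      aeval (AdjoinRoot.root (X ^ 2 * X ^ e : k[X])) f = x := fun x => by
    obtain ⟨f, rfl⟩ := AdjoinRoot.mk_surjective x; exact ⟨f, AdjoinRoot.aeval_eq f⟩
  have h := word_smul_mem hτ.1 hσ h2 hQ X (mem_upSet.2 (by
    have := up_mul_lam_mem h2 hl hgen 1
    rwa [mul_one, ← AdjoinRoot.mk_X] at this))
  simpa using h

omit hσ hτ in
lemma phi_nilpotent_of_unipotent
    (hnu : IsUnipotentOn (Subgroup.closure (scalarFamily σ ∪ scalarFamily τ))) :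
    IsNilpotent (phi σ τ) := by
  obtain ⟨n, hn⟩ := isUnipotentOn_iff.1 hnu
  refine ⟨n, LinearMap.ext fun v => Subtype.ext ?_⟩
  have hs : σ ∈ Subgroup.closure (scalarFamily σ ∪ scalarFamily τ) :=
    Subgroup.subset_closure (Or.inl ⟨1, by rw [one_smul]; abel⟩)
  have ht : τ ∈ Subgroup.closure (scalarFamily σ ∪ scalarFamily τ) :=
    Subgroup.subset_closure (Or.inr ⟨1, by rw [one_smul]; abel⟩)
  let l : ℕ → List (LinearMap.GeneralLinearGroup k M) := fun i =>
    (List.replicate i [σ, τ]).flatten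
  have hlen : ∀ i, (l i).length = 2 * i := fun i => by simp [l]; ring
  have hprod : ∀ i, ((l i).map fun g : LinearMap.GeneralLinearGroup k M =>
      (g : M →ₗ[k] M) - 1).prod = (nil σ * nil τ) ^ i := fun i => by
    induction i with
    | zero => simp [l]
    | succ i ih =>
      rw [pow_succ', ← ih]
      simp [l, List.replicate_succ, mul_assoc, nil]
  have hmem : ∀ i, ∀ g ∈ l i, g ∈ Subgroup.closure (scalarFamily σ ∪ scalarFamily τ) :=
    fun i g hg => by
      simp [l] at hg
      rcases hg with ⟨-, rfl | rfl⟩ <;> assumption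
  have hz : (nil σ * nil τ) ^ n = 0 := by
    have h1 := hn ((l n).take n) (fun g hg => hmem n g (List.mem_of_mem_take hg))
      (by rw [List.length_take, hlen]; omega)
    rw [← hprod, ← List.take_append_drop n (l n), List.map_append, List.prod_append, h1,
      zero_mul]
  have := coe_aeval_phi σ τ (X ^ n) v
  simp only [map_pow, aeval_X, hz] at this
  rw [this]; rfl

omit hσ hτ in
lemma not_unipotent_of_injective (hσ : σ ∈ quadraticElements G)
    (hinj : Function.Injective (phi σ τ)) :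
    ¬ IsUnipotentOn (Subgroup.closure (scalarFamily σ ∪ scalarFamily τ)) := fun hu => by
  obtain ⟨n, hn⟩ := phi_nilpotent_of_unipotent hu
  apply quad_ne hσ.2.1
  refine LinearMap.ext fun m => ?_
  have hi : Function.Injective ⇑((phi σ τ) ^ n) := by
    rw [Module.End.coe_pow]; exact hinj.iterate n
  have h := hi (a₁ := ⟨nil σ m, LinearMap.mem_range_self _ _⟩) (a₂ := 0) (by rw [hn]; rfl)
  exact congrArg Subtype.val h

/-- `φ` is zero or injective. -/
lemma phi_zero_or_injective (hk2 : ringChar k ≠ 2) (hk3 : Nat.card k ≠ 3) :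
    phi σ τ = 0 ∨ Function.Injective (phi σ τ) := by
  by_cases hnu : IsUnipotentOn (Subgroup.closure (scalarFamily σ ∪ scalarFamily τ))
  · obtain ⟨e, he⟩ := phi_nilpotent_of_unipotent hnu
    exact phi_eq_zero_of_nilpotent hσ hτ hk2 he
  · exact Or.inr (division hσ hτ hk2 hk3 hnu).1

omit hτ in
lemma sts_eq_zero (h : phi σ τ = 0) : nil σ * nil τ * nil σ = 0 := by
  refine LinearMap.ext fun m => ?_
  have e := aeval_word_apply σ τ (X : k[X]) m
  rw [aeval_X, aeval_X, h] at e
  exact e

/-- Two classes are opposite or all triple products vanish. -/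
theorem opp_or_triple (hk2 : ringChar k ≠ 2) (hk3 : Nat.card k ≠ 3) :
    Opp σ τ ∨ ((∀ a, InRoot G σ a → ∀ b, InRoot G τ b → ∀ a', InRoot G σ a' → a * b * a' = 0) ∧
      ∀ b, InRoot G τ b → ∀ a, InRoot G σ a → ∀ b', InRoot G τ b' → b * a * b' = 0) := by
  by_cases hop : Opp σ τ
  · exact Or.inl hop
  right
  have key : ∀ {σ' τ' : LinearMap.GeneralLinearGroup k M}, σ' ∈ minimalQuadraticElements G →
      τ' ∈ minimalQuadraticElements G → ¬ Opp σ' τ' →
      ∀ a, InRoot G σ' a → ∀ b, InRoot G τ' b → ∀ a', InRoot G σ' a' → a * b * a' = 0 := by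
    intro σ' τ' h1 h2 hno a ha b hb a' ha'
    rcases eq_or_ne a 0 with rfl | ha0
    · simp
    rcases eq_or_ne b 0 with rfl | hb0
    · simp
    obtain ⟨x, hx, rfl, hkx, hrx⟩ := InRoot.exists_minimal h1 ha ha0
    obtain ⟨y, hy, rfl, hky, hry⟩ := InRoot.exists_minimal h2 hb hb0
    have hphi : phi x y = 0 := (phi_zero_or_injective hx hy hk2 hk3).resolve_right fun hinj =>
      hno ((opp_congr hkx hrx hky hry).1 (opp_of_injective hx hy hinj))
    refine LinearMap.ext fun m => ?_
    obtain ⟨m', hm'⟩ : a' m ∈ cspace x := hrx ▸ ha'.2.1 ⟨m, rfl⟩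
    have e := LinearMap.congr_fun (sts_eq_zero hx hphi) m'
    simp only [Module.End.mul_apply, LinearMap.zero_apply] at e ⊢
    rw [← hm']; exact e
  exact ⟨key hσ hτ hop, key hτ hσ fun h => hop h.symm⟩

/-- The upper word with an arbitrary entry. -/
lemma upper_word (hk2 : ringChar k ≠ 2) (hk3 : Nat.card k ≠ 3)
    (hinj : Function.Injective (phi σ τ)) (f : k[X]) :
    InRoot G σ (aeval (nil σ * nil τ) f * nil σ) := by
  set φ := phi σ τ with hφ
  refine ⟨fun m hm => by simp [show nil σ m = 0 from hm], ?_, fun c => ?_⟩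
  · rintro _ ⟨m, rfl⟩
    rw [aeval_word_apply]; exact Submodule.coe_mem _
  have hnu' := not_unipotent_of_injective hσ.1 (τ := τ) hinj
  obtain ⟨-, hdiv⟩ := division hσ hτ hk2 hk3 hnu'
  have hne : φ ≠ 0 := fun h => quad_ne hσ.1.2.1 (LinearMap.ext fun m => by
    have := hinj (a₁ := ⟨nil σ m, LinearMap.mem_range_self _ _⟩) (a₂ := 0) (by rw [h]; rfl)
    exact congrArg Subtype.val this)
  -- the residue field
  have hint : IsIntegral k φ := IsIntegral.of_finite k φ
  have hm0 : minpoly k φ ≠ 0 := minpoly.ne_zero hint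
  have : Nontrivial (Module.End k (cspace σ)) := ⟨φ, 0, hne⟩
  have hirr : Irreducible (minpoly k φ) := by
    refine ⟨minpoly.not_isUnit k φ, fun a b hab => ?_⟩
    have h := minpoly.aeval k φ
    rw [hab, map_mul] at h
    have ha0 : a ≠ 0 := fun h => hm0 (by rw [hab, h, zero_mul])
    have hb0 : b ≠ 0 := fun h => hm0 (by rw [hab, h, mul_zero])
    rcases hdiv a with ha | ha
    · refine Or.inr (Polynomial.isUnit_iff_degree_eq_zero.2 ?_)
      have hle := minpoly.degree_le_of_ne_zero k φ ha0 ha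
      rw [hab, degree_mul, degree_eq_natDegree ha0, degree_eq_natDegree hb0] at hle
      rw [degree_eq_natDegree hb0]
      have : a.natDegree + b.natDegree ≤ a.natDegree := by exact_mod_cast hle
      exact_mod_cast (show b.natDegree = 0 by omega)
    · refine Or.inl (Polynomial.isUnit_iff_degree_eq_zero.2 ?_)
      have hbz : aeval φ b = 0 := LinearMap.ext fun v => ha (by
        rw [← Module.End.mul_apply, h]; simp)
      have hle := minpoly.degree_le_of_ne_zero k φ hb0 hbz
      rw [hab, degree_mul, degree_eq_natDegree ha0, degree_eq_natDegree hb0] at hle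
      rw [degree_eq_natDegree ha0]
      have : a.natDegree + b.natDegree ≤ b.natDegree := by exact_mod_cast hle
      exact_mod_cast (show a.natDegree = 0 by omega)
  have hX : ¬ X ∣ minpoly k φ := by
    intro hd
    obtain ⟨r, hr⟩ := ((hirr.dvd_iff.1 hd).resolve_left Polynomial.not_isUnit_X).dvd
    apply hne
    have := congrArg (aeval φ) hr
    rwa [aeval_X, map_mul, minpoly.aeval, zero_mul] at this
  have : Fact (Irreducible (minpoly k φ)) := ⟨hirr⟩
  have hlne : AdjoinRoot.root (minpoly k φ) ≠ 0 := fun h => hX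
    (hirr.associated_of_dvd Polynomial.irreducible_X
      (AdjoinRoot.mk_eq_zero.1 (AdjoinRoot.mk_X.trans h))).symm.dvd
  have htop := genGroup_eq_top hk2 hk3 hlne (AdjoinRoot.isIntegral_root hm0) (fun x => by
    obtain ⟨g, rfl⟩ := AdjoinRoot.mk_surjective x; exact ⟨g, AdjoinRoot.aeval_eq g⟩)
  have hroot : aeval (AdjoinRoot.root (minpoly k φ)) (X : k[X]) = AdjoinRoot.root (minpoly k φ) :=
    aeval_X _
  have hmem : up (AdjoinRoot.mk (minpoly k φ) (C c * f)) ∈
      genGroup k (aeval (AdjoinRoot.root (minpoly k φ)) (X : k[X])) := by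
    rw [hroot, htop]; exact Subgroup.mem_top _
  rw [← map_genGroup] at hmem
  obtain ⟨B, hB, hBe⟩ := hmem
  have hs := nil_sq hσ.1.2.1
  have ht := nil_sq hτ.1.2.1
  have hc1 := const1_of_mem hs ht hB
  refine ⟨wordHom hs ht ⟨B, hB⟩, (wordHom_mem hσ hτ.1 ⟨B, hB⟩).2, ?_⟩
  rw [wordHom_apply, smul_eq_C_mul_word]
  have hent : ∀ i j, aeval φ ((B : Matrix (Fin 2) (Fin 2) k[X]) i j) =
      aeval φ (!![(1 : k[X]), C c * f; 0, 1] i j) := fun i j => by
    have e := congrArg (fun z : SL(2, AdjoinRoot (minpoly k φ)) =>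
      (z : Matrix (Fin 2) (Fin 2) (AdjoinRoot (minpoly k φ))) i j) hBe
    have : AdjoinRoot.mk (minpoly k φ) ((B : Matrix (Fin 2) (Fin 2) k[X]) i j) =
        AdjoinRoot.mk (minpoly k φ) (!![(1 : k[X]), C c * f; 0, 1] i j) := by
      rw [← AdjoinRoot.aeval_eq]
      refine (show aeval _ _ = _ from e).trans ?_
      fin_cases i <;> fin_cases j <;> simp
    rw [AdjoinRoot.mk_eq_mk] at this
    obtain ⟨r, hr⟩ := this
    rw [sub_eq_iff_eq_add.1 hr, map_add, map_mul, minpoly.aeval, zero_mul, zero_add]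
  have h10 : aeval φ ((B : Matrix (Fin 2) (Fin 2) k[X]) 1 0).divX = 0 := by
    have h := hent 1 0
    rw [← X_mul_divX_add ((B : Matrix (Fin 2) (Fin 2) k[X]) 1 0), hc1.h10, map_zero, add_zero,
      map_mul, aeval_X] at h
    simp at h
    exact LinearMap.ext fun v => hinj (by rw [← Module.End.mul_apply, h]; simp)
  refine LinearMap.ext fun m => ?_
  obtain ⟨d, v, v', h1, h2, rfl⟩ := decompose hσ hτ hinj m
  have e00 := hent 0 0
  have e01 := hent 0 1
  have e11 := hent 1 1
  simp at e00 e01 e11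
  rw [map_add, map_add, map_add, map_add, theta_fixed hσ hτ hc1 h1 h2, theta_V hσ hc1,
    theta_tV hσ hτ hc1]
  have e4 : nil σ (nil τ (v' : M)) = ((φ v' : cspace σ) : M) := rfl
  simp only [LinearMap.add_apply, Module.End.one_apply, Module.End.mul_apply, h1, nil_coe hσ.1.2.1,
    map_zero, add_zero, e4, aeval_st_coe, map_mul, aeval_X, aeval_C, ← hφ, e00, e01, e11, h10,
    LinearMap.zero_apply, Submodule.coe_zero, Algebra.commutes, ← Module.End.mul_apply]
  have hcomm : φ (aeval φ f v') = aeval φ f (φ v') := by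
    have := congrArg (fun p => aeval φ p v') (mul_comm (X : k[X]) f)
    simpa [map_mul] using this
  simp only [Module.End.mul_apply, Module.algebraMap_end_apply, map_smul, h1, nil_coe hσ.1.2.1, e4,
    aeval_st_coe, Submodule.coe_smul, map_zero, smul_zero, add_zero, zero_add, hcomm,
    Module.End.one_apply]
  abel
where
  smul_eq_C_mul_word : ∀ {σ τ : LinearMap.GeneralLinearGroup k M} {c : k} {f : k[X]},
      c • (aeval (nil σ * nil τ) f * nil σ) = aeval (nil σ * nil τ) (C c * f) * nil σ := by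
    intro σ τ c f
    rw [map_mul, aeval_C, mul_assoc, ← Algebra.smul_def]

end CfsgLib.RootSubgroups.QuadPair
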