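import Cfsg.Agent.RootSubgroups.QuadShape

/-! Surjectivity of the commutator map for classes adapted to an opposite pair. -/

set_option autoImplicit false

namespace CfsgLib.RootSubgroups.QuadPair

open Cfsg Polynomial

universe u

variable {k : Type u} [Field k] {M : Type u} [AddCommGroup M] [Module k M]
  [FiniteDimensional k M]
variable {G : Subgroup (LinearMap.GeneralLinearGroup k M)}
  {σ τ ζ η : LinearMap.GeneralLinearGroup k M}

/-- The inverse pair `z, d` attached to opposite classes. -/
structure InvPair (G : Subgroup (LinearMap.GeneralLinearGroup k M))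
    (ζ η : LinearMap.GeneralLinearGroup k M) (d : Module.End k M) : Prop where
  minζ : ζ ∈ minimalQuadraticElements G
  minη : η ∈ minimalQuadraticElements G
  opp : Opp ζ η
  inRoot : InRoot G η d
  ne : d ≠ 0
  zdz : nil ζ * d * nil ζ = nil ζ
  dzd : d * nil ζ * d = d

variable {d a b : Module.End k M}

lemma InvPair.zz (h : InvPair G ζ η d) : nil ζ * nil ζ = 0 := nil_sq h.minζ.1.2.1

lemma InvPair.dd (h : InvPair G ζ η d) : d * d = 0 := InRoot.mul_eq_zero h.minη h.inRoot h.inRoot

omit [FiniteDimensional k M] in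
lemma Core.p_kill (hc : Core (nil ζ) a) : a * (nil ζ * d) = 0 ∧ d * nil ζ * a = 0 :=
  ⟨by rw [← mul_assoc, hc.right, zero_mul], by rw [mul_assoc, hc.left, mul_zero]⟩

omit [FiniteDimensional k M] in
/-- On the kernel of `z` the map `a` has values in the range of `z`. -/
lemma Core.step_eq (hc : Core (nil ζ) a) (h : InvPair G ζ η d) :
    nil ζ * d * (a * (1 - d * nil ζ)) = a * (1 - d * nil ζ) := by
  refine LinearMap.ext fun m => ?_
  have hz : nil ζ ((1 - d * nil ζ) m) = 0 := by
    rw [← Module.End.mul_apply, mul_sub, ← mul_assoc, h.zdz, mul_one, sub_self, LinearMap.zero_apply]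
  obtain ⟨x, hx⟩ := hc.step _ hz
  rw [Module.End.mul_apply, Module.End.mul_apply a, ← hx, ← Module.End.mul_apply _ (nil ζ), h.zdz]

variable (hk2 : ringChar k ≠ 2) (hk3 : Nat.card k ≠ 3)

include hk2 hk3

/-- A graded class and the opposite class of `ζ` have vanishing triple products. -/
lemma triple_opposite (h : InvPair G ζ η d) (hτ : τ ∈ minimalQuadraticElements G)
    (hb : InRoot G τ b) (hb0 : b ≠ 0)
    (hg : nil ζ * d * b * (d * nil ζ) = 0) : Triple G τ η := by
  refine (opp_or_triple hτ h.minη hk2 hk3).resolve_left fun hop => ?_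
  obtain ⟨hkd, hrd⟩ := InRoot.ker_range h.minη h.inRoot h.ne
  obtain ⟨hkb, hrb⟩ := InRoot.ker_range hτ hb hb0
  have h1 : b * d = 0 := by
    refine LinearMap.ext fun m => (Submodule.eq_bot_iff _).1 hop.1 _ ⟨hrb ▸ ⟨_, rfl⟩, hkd ▸ ?_⟩
    show d (b (d m)) = 0
    have e : d * b * d = 0 := by
      calc d * b * d = d * (nil ζ * d * b * (d * nil ζ)) * d := by
            simp only [← mul_assoc, h.dzd]
            rw [mul_assoc (d * b * d) (nil ζ) d, mul_assoc (d * b), ← mul_assoc d, h.dzd]
        _ = 0 := by rw [hg, mul_zero, zero_mul]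
    exact LinearMap.congr_fun e m
  apply h.ne
  refine LinearMap.ext fun m => (Submodule.eq_bot_iff _).1 hop.2 _ ⟨hrd ▸ ⟨m, rfl⟩, hkb ▸ ?_⟩
  exact LinearMap.congr_fun h1 m

/-- For graded classes `c ↦ [a, b']` reaches every element of the class of the commutators. -/
theorem graded_surjective (h : InvPair G ζ η d) (hσ : σ ∈ minimalQuadraticElements G)
    (hτ : τ ∈ minimalQuadraticElements G) (hT : Triple G σ τ)
    (ha : InRoot G σ a) (ha0 : a ≠ 0) (hb : InRoot G τ b) (hb0 : b ≠ 0)
    (hz : nil ζ = a * b - b * a) (hca : Core (nil ζ) a) (hcb : Core (nil ζ) b)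
    (hga : nil ζ * d * a * (d * nil ζ) = 0) (hgb : nil ζ * d * b * (d * nil ζ) = 0)
    {c : Module.End k M} (hc : InRoot G ζ c) :
    ∃ b', InRoot G τ b' ∧ a * b' - b' * a = c := by
  set z := nil ζ with hzdef
  have hζ := h.minζ
  have hdd := h.dd
  have hzz : z * z = 0 := h.zz
  have haa := InRoot.mul_eq_zero hσ ha ha
  have hbb := InRoot.mul_eq_zero hτ hb hb
  have haba := hT.1 _ ha _ hb _ ha
  have hbab := hT.2 _ hb _ ha _ hb
  have hTa := triple_opposite hk2 hk3 h hσ ha ha0 hga
  have hTb := triple_opposite hk2 hk3 h hτ hb hb0 hgb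
  have hada := hTa.1 _ ha _ h.inRoot _ ha
  have hbdb := hTb.1 _ hb _ h.inRoot _ hb
  have hdbd := hTb.2 _ h.inRoot _ hb _ h.inRoot
  obtain ⟨hca', hac⟩ := hca.kill hc
  obtain ⟨hcb', hbc⟩ := hcb.kill hc
  -- the products of `a`, `b` with the projections
  have q1 : b * a * (d * z) = b * a := by
    have e := hca.step_eq h
    have : b * (a * (1 - d * z)) = 0 := by rw [← e, ← mul_assoc, hcb.p_kill.1, zero_mul]
    rwa [mul_sub, mul_one, mul_sub, sub_eq_zero, ← mul_assoc, eq_comm] at this
  have q2 : a * b * (d * z) = a * b := by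
    have e := hcb.step_eq h
    have : a * (b * (1 - d * z)) = 0 := by rw [← e, ← mul_assoc, hca.p_kill.1, zero_mul]
    rwa [mul_sub, mul_one, mul_sub, sub_eq_zero, ← mul_assoc, eq_comm] at this
  have p1 : ∀ {x y : Module.End k M}, Core z x → Core z y → z * d * (x * y) = x * y := by
    intro x y hx hy
    have hq : (d * z) * y = 0 := hy.p_kill.2
    have e : x * y = x * (1 - d * z) * y := by rw [mul_sub, mul_one, sub_mul, mul_assoc x, hq,
      mul_zero, sub_zero]
    rw [e, ← mul_assoc, hx.step_eq h]
  have cq : c * (d * z) = c := LinearMap.ext fun m => by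
    have : c ((1 - d * z) m) = 0 := hc.1 (by
      show z ((1 - d * z) m) = 0
      rw [← Module.End.mul_apply, mul_sub, ← mul_assoc, h.zdz, mul_one, sub_self,
        LinearMap.zero_apply])
    rwa [LinearMap.sub_apply, map_sub, sub_eq_zero, Module.End.one_apply, eq_comm] at this
  have pc : z * d * c = c := LinearMap.ext fun m => by
    obtain ⟨x, hx⟩ := hc.2.1 ⟨m, rfl⟩
    rw [Module.End.mul_apply, ← hx, ← Module.End.mul_apply, h.zdz]
  -- the two idempotents
  set E1 := a * b * d with hE1
  set E2 := -(b * a * d) with hE2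
  have f1 : E1 * z = a * b := by rw [hE1, mul_assoc, q2]
  have f2 : E2 * z = -(b * a) := by rw [hE2, neg_mul, mul_assoc, q1]
  have f3 : E1 + E2 = z * d := by rw [hE1, hE2, hz, sub_mul, sub_eq_add_neg]
  have f4 : z * d * E1 = E1 := by rw [hE1, ← mul_assoc, p1 hca hcb]
  have f5 : E1 * E2 = 0 := by
    rw [hE1, hE2, mul_neg, show a * b * d * (b * a * d) = a * (b * d * b) * a * d by noncomm_ring,
      hbdb, mul_zero, zero_mul, zero_mul, neg_zero]
  have f6 : E1 * E1 = E1 := by
    have : E1 * (z * d) = E1 := by rw [← mul_assoc, f1, hE1]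
    rw [← f3, mul_add, f5, add_zero] at this
    exact this
  -- the map `ψ c = [a, b']`
  set b' := b * d * c + c * d * b with hb'
  have hψ : ∀ {x : Module.End k M}, x * a = 0 → a * x = 0 →
      a * (b * d * x + x * d * b) - (b * d * x + x * d * b) * a = a * b * d * x - x * d * (b * a) :=
    fun {x} h1 h2 => by
      simp only [mul_add, add_mul, ← mul_assoc, h2, zero_mul, add_zero]
      rw [mul_assoc (b * d) x a, h1, mul_zero, zero_add]
  have dxd : ∀ {x}, InRoot G ζ x → InRoot G η (d * x * d) := by
    intro x hx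
    rcases eq_or_ne x 0 with rfl | hx0
    · rw [mul_zero, zero_mul]; exact inRoot_zero
    obtain ⟨g, hg, e, hkg, hrg⟩ := InRoot.exists_minimal h.minη h.inRoot h.ne
    obtain ⟨g', hg', e', hkg', hrg'⟩ := InRoot.exists_minimal hζ hx hx0
    have := upper_word hg hg' hk2 hk3 ((opp_congr hkg hrg hkg' hrg').2 h.opp.symm).injective X
    rw [aeval_X, e, e'] at this
    exact this.congr hkg hrg
  have fam : ∀ {x}, InRoot G ζ x → HasFamily G (b * d * x + x * d * b) ∧
      (b * d * x + x * d * b) * (b * d * x + x * d * b) = 0 := by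
    intro x hx
    obtain ⟨hxb, hbx⟩ := hcb.kill hx
    have hxx : x * x = 0 := InRoot.mul_eq_zero hζ hx hx
    have hee := sq_comm_eq_zero hbb hdd hbdb hdbd
    have hef := HasFamily.comm hb.2.2 h.inRoot.2.2 hbb hdd hbdb hdbd
    have h1 : (b * d - d * b) * x * (b * d - d * b) = 0 := by
      calc (b * d - d * b) * x * (b * d - d * b)
          = b * d * (x * b) * d - b * (d * x * d) * b - d * (b * x) * b * d + d * (b * x) * d * b := by
            noncomm_ring
        _ = 0 := by
            rw [hxb, hbx, hTb.1 _ hb _ (dxd hx) _ hb]; simp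
    have h2 : x * (b * d - d * b) * x = 0 := by
      calc x * (b * d - d * b) * x = x * b * d * x - x * d * (b * x) := by noncomm_ring
        _ = 0 := by rw [hxb, hbx]; simp
    have e : b * d * x + x * d * b = (b * d - d * b) * x - x * (b * d - d * b) := by
      rw [sub_mul, mul_sub, ← mul_assoc x b d, hxb, mul_assoc d b x, hbx]; simp [mul_assoc]
    rw [e]
    exact ⟨HasFamily.comm hef hx.2.2 hee hxx h1 h2, sq_comm_eq_zero hee hxx h1 h2⟩
  have hψR : ∀ {x}, InRoot G ζ x → InRoot G ζ (a * b * d * x - x * d * (b * a)) := by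
    intro x hx
    obtain ⟨hxa, hax⟩ := hca.kill hx
    obtain ⟨hxb, hbx⟩ := hcb.kill hx
    obtain ⟨hf, hf2⟩ := fam hx
    refine ⟨fun m hm => ?_, ?_, ?_⟩
    · have hm1 : x m = 0 := hx.1 hm
      have hm2 : (b * a) m = 0 := by
        rw [← q1, Module.End.mul_apply, Module.End.mul_apply d,
          show z m = 0 from hm, map_zero, map_zero]
      show (a * b * d * x - x * d * (b * a)) m = 0
      rw [LinearMap.sub_apply, Module.End.mul_apply (a * b * d), hm1, map_zero,
        Module.End.mul_apply (x * d), hm2, map_zero, sub_zero]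
    · rintro _ ⟨m, rfl⟩
      refine sub_mem ?_ (hx.2.1 ⟨_, rfl⟩)
      exact ⟨d ((a * b * d * x) m), by
        rw [← Module.End.mul_apply, ← Module.End.mul_apply, ← mul_assoc (z * d),
          ← mul_assoc (z * d), p1 hca hcb]⟩
    · rw [← hψ hxa hax]
      refine HasFamily.comm ha.2.2 hf haa hf2 ?_ ?_
      · calc a * (b * d * x + x * d * b) * a
            = a * b * d * (x * a) + (a * x) * d * b * a := by noncomm_ring
          _ = 0 := by rw [hxa, hax]; simp
      · calc (b * d * x + x * d * b) * a * (b * d * x + x * d * b)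
            = b * d * (x * a) * (b * d * x + x * d * b) + x * d * (b * a * b) * d * x
              + x * d * b * (a * x) * d * b := by noncomm_ring
          _ = 0 := by rw [hxa, hax, hbab]; simp
  set φ : Module.End k M → Module.End k M := fun x => a * b * d * x - x * d * (a * b) with hφ
  have hφR : ∀ {x}, InRoot G ζ x → x * (d * z) = x → InRoot G ζ (φ x) := by
    intro x hx hxq
    have e : φ x = a * b * d * x - x * d * (b * a) - x := by
      conv_rhs => arg 2; rw [← hxq, hz]
      simp only [hφ]; noncomm_ring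
    rw [e]; exact InRoot.sub hζ (hψR hx) hx
  have hqR : ∀ {x}, InRoot G ζ x → x * (d * z) = x → φ x * (d * z) = φ x := fun {x} _ hxq => by
    simp only [hφ]
    rw [sub_mul, mul_assoc (a * b * d) x, hxq, mul_assoc (x * d) (a * b), q2]
  set F12 := E1 * c * (d * (E2 * z)) with hF12
  set F21 := E2 * c * (d * (E1 * z)) with hF21
  have g1 : φ c = F12 - F21 := by
    have : φ c = E1 * c * (d * z) - (E1 + E2) * c * (d * (E1 * z)) := by
      rw [f1, mul_assoc E1 c, cq, f3, pc]; simp only [hφ, hE1, mul_assoc]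
    rw [this, hF12, hF21]
    have h3 : z = (E1 + E2) * z := by rw [f3, h.zdz]
    conv_lhs => arg 1; rw [h3]
    noncomm_ring
  have g2 : φ (φ c) = F12 + F21 := by
    have hd : ∀ x, φ x = E1 * x - x * d * (E1 * z) := fun x => by
      rw [f1]
    have e2 : d * (E1 * z) * d * (E1 * z) = d * (E1 * z) := by
      have : E1 * (z * d) * E1 * z = E1 * z := by rw [mul_assoc E1 (z * d) E1, f4, f6]
      conv_rhs => rw [← this]
      noncomm_ring
    have : φ (φ c) = E1 * E1 * c - E1 * c * d * (E1 * z) - E1 * c * d * (E1 * z)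
        + c * (d * (E1 * z) * d * (E1 * z)) := by
      rw [hd, hd]; noncomm_ring
    rw [this, f6, e2, hF12, hF21]
    have h3 : E1 * c = E1 * c * (d * ((E1 + E2) * z)) := by rw [f3, h.zdz, mul_assoc E1 c, cq]
    have h4 : c * (d * (E1 * z)) = (E1 + E2) * c * (d * (E1 * z)) := by rw [f3, pc]
    rw [h4]
    conv_lhs => arg 1; arg 1; arg 1; rw [h3]
    noncomm_ring
  have hF : F12 = 0 ∧ F21 = 0 := by
    have hp : InRoot G ζ (φ c) := hφR hc cq
    have hpp : InRoot G ζ (φ (φ c)) := hφR hp (hqR hc cq)
    have two : (2 : k) ≠ 0 := Ring.two_ne_zero hk2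
    have key : ∀ {X : Module.End k M}, InRoot G ζ ((2 : k) • X) → InRoot G ζ X := fun {X} hX => by
      simpa [smul_smul, two] using hX.smul (2 : k)⁻¹
    have h12 : InRoot G ζ F12 := key (by
      have := InRoot.add hζ hpp hp
      rwa [g2, g1, show F12 + F21 + (F12 - F21) = (2 : k) • F12 by rw [two_smul]; abel] at this)
    have h21 : InRoot G ζ F21 := key (by
      have := InRoot.sub hζ hpp hp
      rwa [g2, g1, show F12 + F21 - (F12 - F21) = (2 : k) • F21 by rw [two_smul]; abel] at this)
    have f7 : E2 * E2 = E2 := by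
      have e : E2 * (z * d) = E2 := by rw [← mul_assoc, f2, hE2, neg_mul]
      have : E2 * E1 = 0 := by
        rw [hE1, hE2, neg_mul, show b * a * d * (a * b * d) = b * (a * d * a) * b * d by noncomm_ring,
          hada, mul_zero, zero_mul, zero_mul, neg_zero]
      rw [← f3, mul_add, this, zero_add] at e
      exact e
    have kill : ∀ {E E' : Module.End k M} {F : Module.End k M}, E * E = E → E + E' = z * d →
        InRoot G ζ F → E * F = F → F ≠ 0 → E' * z = 0 := by
      intro E E' F hEE hsum hF hEF hF0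
      have hEz : E * z = z := LinearMap.ext fun m => by
        obtain ⟨x, hx⟩ : z m ∈ LinearMap.range F :=
          (InRoot.ker_range hζ hF hF0).2 ▸ ⟨m, rfl⟩
        rw [Module.End.mul_apply, ← hx, ← Module.End.mul_apply, hEF]
      have := congrArg (· * z) hsum
      simp only [add_mul, hEz, show z * d * z = z from h.zdz] at this
      exact add_eq_left.1 this
    constructor <;> by_contra hne
    · apply hne
      rw [hF12, kill f6 f3 h12 (by rw [hF12]; simp only [← mul_assoc, f6]) hne, mul_zero, mul_zero]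
    · apply hne
      rw [hF21, kill f7 (by rw [add_comm, f3]) h21 (by rw [hF21]; simp only [← mul_assoc, f7]) hne,
        mul_zero, mul_zero]
  have hcomm : a * b * d * c = c * d * (a * b) := by
    rw [hF.1, hF.2, sub_zero] at g1
    exact sub_eq_zero.1 g1
  have hψc : a * b * d * c - c * d * (b * a) = c := by
    rw [hcomm, ← mul_sub, ← hz, mul_assoc, cq]
  refine ⟨b', ⟨fun m hm => ?_, ?_, (fam hc).1⟩, by rw [hb', hψ hca' hac, hψc]⟩
  · have e : b' = (b * d * c * d * a + c * d) * b := by
      have : b * d * c = b * d * c * d * (a * b) := by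
        calc b * d * c = b * d * (a * b * d * c - c * d * (b * a)) := by rw [hψc]
          _ = b * d * (c * d * (a * b)) - b * (d * c * d) * b * a := by rw [hcomm]; noncomm_ring
          _ = b * d * c * d * (a * b) := by rw [hTb.1 _ hb _ (dxd hc) _ hb]; noncomm_ring
      rw [hb']
      conv_lhs => arg 1; rw [this]
      noncomm_ring
    show b' m = 0
    rw [e, Module.End.mul_apply, show b m = 0 from hb.1 hm, map_zero]
  · have e : b' = b * (d * c - a * d * c * d * b) := by
      have : c * d * b = -(b * (a * d * c * d * b)) := by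
        calc c * d * b = (z * d * c) * d * b := by rw [pc]
          _ = (a * b - b * a) * d * c * d * b := by rw [hz]
          _ = a * (b * (d * c * d) * b) - b * (a * d * c * d * b) := by noncomm_ring
          _ = -(b * (a * d * c * d * b)) := by rw [hTb.1 _ hb _ (dxd hc) _ hb]; simp
      rw [hb', this]; noncomm_ring
    rw [e]
    rintro _ ⟨m, rfl⟩
    exact hb.2.1 ⟨_, rfl⟩

end CfsgLib.RootSubgroups.QuadPair
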