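import Cfsg.Agent.RootSubgroups.QuadPairTheorems
import Cfsg.Agent.RootSubgroups.SL2

/-! An opposite pair of classes contains an image of `SL₂` of a field. -/

set_option autoImplicit false

namespace CfsgLib.RootSubgroups.QuadPair

open Cfsg Matrix Polynomial
open CfsgLib.RootSubgroups.Gen2 CfsgLib.RootSubgroups.QuadWord
open scoped MatrixGroups

universe u

variable {k : Type u} [Field k] {M : Type u} [AddCommGroup M] [Module k M]
  [FiniteDimensional k M]
variable {G : Subgroup (LinearMap.GeneralLinearGroup k M)} {σ τ : LinearMap.GeneralLinearGroup k M}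
variable (hσ : σ ∈ minimalQuadraticElements G) (hτ : τ ∈ minimalQuadraticElements G)

include hσ hτ

/-- A word congruent to an upper matrix. -/
lemma theta_mod_upper (hinj : Function.Injective (phi σ τ)) {B : SL(2, k[X])} (hB : Const1 B)
    {f : k[X]} (e00 : aeval (phi σ τ) ((B : Matrix (Fin 2) (Fin 2) k[X]) 0 0) = 1)
    (e01 : aeval (phi σ τ) ((B : Matrix (Fin 2) (Fin 2) k[X]) 0 1) = aeval (phi σ τ) f)
    (e10 : aeval (phi σ τ) ((B : Matrix (Fin 2) (Fin 2) k[X]) 1 0).divX = 0)
    (e11 : aeval (phi σ τ) ((B : Matrix (Fin 2) (Fin 2) k[X]) 1 1) = 1) :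
    theta (nil σ) (nil τ) B = 1 + aeval (nil σ * nil τ) f * nil σ := by
  refine LinearMap.ext fun m => ?_
  obtain ⟨d, v, v', h1, h2, rfl⟩ := decompose hσ hτ hinj m
  have e4 : nil σ (nil τ (v' : M)) = ((phi σ τ v' : cspace σ) : M) := rfl
  rw [map_add, map_add, map_add, map_add, theta_fixed hσ hτ hB h1 h2, theta_V hσ hB,
    theta_tV hσ hτ hB, mul_comm X, map_mul, aeval_X, e00, e01, e10, e11]
  simp only [LinearMap.add_apply, Module.End.one_apply, Module.End.mul_apply, h1,
    nil_coe hσ.1.2.1, map_zero, add_zero, zero_add, e4, aeval_st_coe, LinearMap.zero_apply,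
    Submodule.coe_zero]
  abel

/-- A word congruent to a lower matrix. -/
lemma theta_mod_lower (hinj : Function.Injective (phi σ τ)) {B : SL(2, k[X])} (hB : Const1 B)
    {f : k[X]} (e00 : aeval (phi σ τ) ((B : Matrix (Fin 2) (Fin 2) k[X]) 0 0) = 1)
    (e01 : aeval (phi σ τ) ((B : Matrix (Fin 2) (Fin 2) k[X]) 0 1) = 0)
    (e10 : aeval (phi σ τ) ((B : Matrix (Fin 2) (Fin 2) k[X]) 1 0).divX = aeval (phi σ τ) f)
    (e11 : aeval (phi σ τ) ((B : Matrix (Fin 2) (Fin 2) k[X]) 1 1) = 1) :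
    theta (nil σ) (nil τ) B = 1 + nil τ * aeval (nil σ * nil τ) f := by
  refine LinearMap.ext fun m => ?_
  obtain ⟨d, v, v', h1, h2, rfl⟩ := decompose hσ hτ hinj m
  have z1 : (nil σ * nil τ) d = 0 := by rw [Module.End.mul_apply, h2, map_zero]
  have z2 : (nil σ * nil τ) (nil τ (v' : M)) = 0 := by
    rw [Module.End.mul_apply, nil_apply_nil hτ.1.2.1, map_zero]
  rw [map_add, map_add, map_add, map_add, theta_fixed hσ hτ hB h1 h2, theta_V hσ hB,
    theta_tV hσ hτ hB, mul_comm X, map_mul, aeval_X, e00, e01, e10, e11]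
  simp only [LinearMap.add_apply, Module.End.one_apply, Module.End.mul_apply, LinearMap.zero_apply,
    Submodule.coe_zero, aeval_apply_of_zero z1, aeval_apply_of_zero z2, map_smul, h2,
    nil_apply_nil hτ.1.2.1, smul_zero, add_zero, zero_add, aeval_st_coe]

variable (hk2 : ringChar k ≠ 2) (hk3 : Nat.card k ≠ 3)

include hk2 hk3

/-- An opposite pair contains an image of `SL₂` with central kernel. -/
theorem exists_psl2 (hop : Opp σ τ) :
    ∃ A₀ B₀ : Subgroup (LinearMap.GeneralLinearGroup k M),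
      A₀ ≤ sameActionSubgroup G σ ∧ B₀ ≤ sameActionSubgroup G τ ∧
      ∃ (k₁ : Type u) (_ : Field k₁), 3 < ENat.card k₁ ∧ IsPSL2PairOver k₁ A₀ B₀ := by
  classical
  have hinj := hop.injective
  set φ := phi σ τ with hφ
  obtain ⟨-, hdiv⟩ := division hσ hτ hk2 hk3 (not_unipotent_of_injective hσ.1 hinj)
  have hint : IsIntegral k φ := IsIntegral.of_finite k φ
  have hm0 : minpoly k φ ≠ 0 := minpoly.ne_zero hint
  have hne : φ ≠ 0 := fun h => quad_ne hσ.1.2.1 (LinearMap.ext fun m => by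
    have := hinj (a₁ := ⟨nil σ m, LinearMap.mem_range_self _ _⟩) (a₂ := 0) (by rw [h]; rfl)
    exact congrArg Subtype.val this)
  have : Nontrivial (Module.End k (cspace σ)) := ⟨φ, 0, hne⟩
  have hirr : Irreducible (minpoly k φ) := by
    refine ⟨minpoly.not_isUnit k φ, fun a b hab => ?_⟩
    have h := minpoly.aeval k φ
    rw [hab, map_mul] at h
    have ha0 : a ≠ 0 := fun h => hm0 (by rw [hab, h, zero_mul])
    have hb0 : b ≠ 0 := fun h => hm0 (by rw [hab, h, mul_zero])
    rcases hdiv a with ha | ha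
    · refine Or.inr (Polynomial.isUnit_iff_degree_eq_zero.2 ?_)
      have hle := minpoly.degree_le_of_ne_zero k φ ha0 ha
      rw [hab, degree_mul, degree_eq_natDegree ha0, degree_eq_natDegree hb0] at hle
      rw [degree_eq_natDegree hb0]
      have : a.natDegree + b.natDegree ≤ a.natDegree := by exact_mod_cast hle
      exact_mod_cast (show b.natDegree = 0 by omega)
    · refine Or.inl (Polynomial.isUnit_iff_degree_eq_zero.2 ?_)
      have hbz : aeval φ b = 0 := LinearMap.ext fun v => ha (by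
        rw [← Module.End.mul_apply, h]; simp)
      have hle := minpoly.degree_le_of_ne_zero k φ hb0 hbz
      rw [hab, degree_mul, degree_eq_natDegree ha0, degree_eq_natDegree hb0] at hle
      rw [degree_eq_natDegree ha0]
      have : a.natDegree + b.natDegree ≤ b.natDegree := by exact_mod_cast hle
      exact_mod_cast (show a.natDegree = 0 by omega)
  have hX : ¬ X ∣ minpoly k φ := by
    intro hd
    obtain ⟨r, hr⟩ := ((hirr.dvd_iff.1 hd).resolve_left Polynomial.not_isUnit_X).dvd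
    apply hne
    have := congrArg (aeval φ) hr
    rwa [aeval_X, map_mul, minpoly.aeval, zero_mul] at this
  have : Fact (Irreducible (minpoly k φ)) := ⟨hirr⟩
  set K := AdjoinRoot (minpoly k φ)
  set lam : K := AdjoinRoot.root (minpoly k φ)
  have hlne : lam ≠ 0 := fun h => hX (by
    have : AdjoinRoot.mk (minpoly k φ) (X : k[X]) = 0 := AdjoinRoot.mk_X.trans h
    exact (hirr.associated_of_dvd Polynomial.irreducible_X (AdjoinRoot.mk_eq_zero.1 this)).symm.dvd)
  have htop := genGroup_eq_top hk2 hk3 hlne (AdjoinRoot.isIntegral_root hm0) (fun x => by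
    obtain ⟨g, rfl⟩ := AdjoinRoot.mk_surjective x; exact ⟨g, AdjoinRoot.aeval_eq g⟩)
  have hs := nil_sq hσ.1.2.1
  have ht := nil_sq hτ.1.2.1
  set f₁ := wordHom (k := k) hs ht
  let f₂ : genGroup k (X : k[X]) →* SL(2, K) :=
    (Matrix.SpecialLinearGroup.map (aeval lam : k[X] →ₐ[k] K).toRingHom).comp
      (genGroup k (X : k[X])).subtype
  have hf₂ : Function.Surjective f₂ := fun x => by
    have hx : x ∈ genGroup k (aeval lam (X : k[X]) : K) := by
      rw [aeval_X, htop]; exact Subgroup.mem_top x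
    rw [← map_genGroup] at hx
    obtain ⟨g, hg, rfl⟩ := hx
    exact ⟨⟨g, hg⟩, rfl⟩
  have hker : ∀ g, f₁ g = 1 ↔ f₂ g = 1 := by
    rintro ⟨g, hg⟩
    rw [Units.ext_iff, wordHom_apply, Units.val_one,
      theta_eq_one_iff hσ hτ hinj (const1_of_mem hs ht hg) hX]
    constructor
    · intro h
      apply Subtype.ext; ext i j
      show aeval lam ((g : Matrix (Fin 2) (Fin 2) k[X]) i j) = (1 : Matrix (Fin 2) (Fin 2) K) i j
      have := AdjoinRoot.mk_eq_mk.2 (h i j)
      rw [AdjoinRoot.aeval_eq, this]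
      fin_cases i <;> fin_cases j <;> simp
    · intro h i j
      rw [← AdjoinRoot.mk_eq_mk]
      have := congrArg (fun z : SL(2, K) => (z : Matrix (Fin 2) (Fin 2) K) i j) h
      change aeval lam ((g : Matrix (Fin 2) (Fin 2) k[X]) i j) = (1 : Matrix (Fin 2) (Fin 2) K) i j at this
      rw [AdjoinRoot.aeval_eq] at this
      rw [this]
      fin_cases i <;> fin_cases j <;> simp
  have hle : f₂.ker ≤ f₁.ker := fun g hg => MonoidHom.mem_ker.2 ((hker g).2 (MonoidHom.mem_ker.1 hg))
  let ψ : SL(2, K) →* LinearMap.GeneralLinearGroup k M := f₂.liftOfSurjective hf₂ ⟨f₁, hle⟩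
  have hψ : ∀ g, ψ (f₂ g) = f₁ g := fun g =>
    MonoidHom.liftOfRightInverse_comp_apply f₂ _ _ ⟨f₁, hle⟩ g
  have hψi : ψ.ker = ⊥ := by
    rw [Subgroup.eq_bot_iff_forall]
    intro x hx
    obtain ⟨g, rfl⟩ := hf₂ x
    rw [MonoidHom.mem_ker, hψ] at hx
    exact (hker g).1 hx
  -- the entries of a preimage modulo the minimal polynomial
  have hent : ∀ (g : genGroup k (X : k[X])) (i j) (f : k[X]),
      ((f₂ g : SL(2, K)) : Matrix (Fin 2) (Fin 2) K) i j = AdjoinRoot.mk (minpoly k φ) f →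
      aeval φ (((g : SL(2, k[X])) : Matrix (Fin 2) (Fin 2) k[X]) i j) = aeval φ f := by
    intro g i j f h
    change aeval lam (((g : SL(2, k[X])) : Matrix (Fin 2) (Fin 2) k[X]) i j) = _ at h
    rw [AdjoinRoot.aeval_eq, AdjoinRoot.mk_eq_mk] at h
    obtain ⟨r, hr⟩ := h
    rw [sub_eq_iff_eq_add.1 hr, map_add, map_mul, minpoly.aeval, zero_mul, zero_add]
  have hcancel : ∀ (g : genGroup k (X : k[X])) (f : k[X]),
      aeval φ (((g : SL(2, k[X])) : Matrix (Fin 2) (Fin 2) k[X]) 1 0) = aeval φ (X * f) →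
      aeval φ (((g : SL(2, k[X])) : Matrix (Fin 2) (Fin 2) k[X]) 1 0).divX = aeval φ f := by
    intro g f h
    rw [← X_mul_divX_add (((g : SL(2, k[X])) : Matrix (Fin 2) (Fin 2) k[X]) 1 0),
      (const1_of_mem hs ht g.2).h10, map_zero, add_zero, map_mul, map_mul, aeval_X] at h
    exact LinearMap.ext fun v => hinj (LinearMap.congr_fun h v)
  refine ⟨(upperUnipotentSL2 K).map ψ, (lowerUnipotentSL2 K).map ψ, ?_, ?_, K, inferInstance, ?_,
    ψ, ?_, by rw [hψi]; exact bot_le, rfl, rfl⟩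
  · rintro _ ⟨x, hx, rfl⟩
    obtain ⟨s, rfl⟩ := SL2.mem_upper.1 hx
    obtain ⟨f, rfl⟩ := AdjoinRoot.mk_surjective s
    obtain ⟨g, hg⟩ := hf₂ (SL2.U (AdjoinRoot.mk (minpoly k φ) f))
    have he : nil (ψ (f₂ g)) = aeval (nil σ * nil τ) f * nil σ := by
      rw [hψ, nil, wordHom_apply, theta_mod_upper hσ hτ hinj (const1_of_mem hs ht g.2) (f := f)
        ((hent g 0 0 1 (by rw [hg]; simp [SL2.U])).trans (map_one _))
        (hent g 0 1 f (by rw [hg]; simp [SL2.U]))
        ((hcancel g 0 (hent g 1 0 (X * 0) (by rw [hg]; simp [SL2.U]))).trans (map_zero _))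
        ((hent g 1 1 1 (by rw [hg]; simp [SL2.U])).trans (map_one _))]
      abel
    rw [← hg, mem_E hσ, he]
    exact upper_word hσ hτ hk2 hk3 hinj f
  · rintro _ ⟨x, hx, rfl⟩
    obtain ⟨s, rfl⟩ := SL2.mem_lower.1 hx
    obtain ⟨f, hf⟩ := AdjoinRoot.mk_surjective (s / lam)
    have hs' : s = AdjoinRoot.mk (minpoly k φ) (X * f) := by
      rw [map_mul, hf, AdjoinRoot.mk_X, mul_div_cancel₀ _ hlne]
    obtain ⟨g, hg⟩ := hf₂ (SL2.L s)
    have he : nil (ψ (f₂ g)) = aeval (nil τ * nil σ) f * nil τ := by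
      rw [hψ, nil, wordHom_apply, theta_mod_lower hσ hτ hinj (const1_of_mem hs ht g.2) (f := f)
        ((hent g 0 0 1 (by rw [hg]; simp [SL2.L])).trans (map_one _))
        ((hent g 0 1 0 (by rw [hg]; simp [SL2.L])).trans (map_zero _))
        (hcancel g f (hent g 1 0 (X * f) (by rw [hg, ← hs']; simp [SL2.L])))
        ((hent g 1 1 1 (by rw [hg]; simp [SL2.L])).trans (map_one _)), mul_aeval_comm]
      abel
    rw [← hg, mem_E hτ, he]
    exact upper_word hτ hσ hk2 hk3 hop.symm.injective f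
  · refine lt_of_lt_of_le ?_ (ENat.card_le_card_of_injective (algebraMap k K).injective)
    rcases finite_or_infinite k with hf | hf
    · rw [ENat.card_eq_coe_natCard]
      exact_mod_cast (show 3 < Nat.card k by have := four_lt_card_of hk2 hk3; omega)
    · rw [ENat.card_eq_top_of_infinite]; exact ENat.natCast_lt_top 3
  · rw [← Subgroup.map_sup, sup_comm, SL2.lower_sup_upper, MonoidHom.range_eq_map]

end CfsgLib.RootSubgroups.QuadPair
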