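import Cfsg.Agent.RootSubgroups.Basic

/-! Groups of linear maps acting unipotently, described by flags, and families of subgroups any
two of which generate a unipotent group. -/

set_option autoImplicit false

namespace CfsgLib.RootSubgroups

open Cfsg

variable {k : Type*} [Field k] {M : Type*} [AddCommGroup M] [Module k M]

/-- The fixed flag: `F 0 = 0`, increasing, exhausting `M`. -/
structure Flag (k M : Type*) [Field k] [AddCommGroup M] [Module k M] where
  F : ℕ → Submodule k M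
  zero : F 0 = ⊥
  mono : ∀ t, F t ≤ F (t + 1)
  top : ∃ n, F n = ⊤

lemma Flag.le (fl : Flag k M) {s t : ℕ} (h : s ≤ t) : fl.F s ≤ fl.F t :=
  monotone_nat_of_le_succ fl.mono h

lemma isUnipotentOn_iff {H : Subgroup (LinearMap.GeneralLinearGroup k M)} :
    IsUnipotentOn H ↔ ∃ n : ℕ, ∀ l : List (LinearMap.GeneralLinearGroup k M), (∀ g ∈ l, g ∈ H) →
      l.length = n →
        (l.map fun g : LinearMap.GeneralLinearGroup k M => (g : M →ₗ[k] M) - 1).prod = 0 := by
  simp only [IsUnipotentOn, bind_pure_comp, List.map_eq_map, List.map_map, Function.comp_def]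

/-- An endomorphism lowers the flag by `j` steps. -/
def Lowers (fl : Flag k M) (j : ℕ) (f : M →ₗ[k] M) : Prop :=
  ∀ t, ∀ m ∈ fl.F (t + j), f m ∈ fl.F t

/-- The endomorphisms lowering the flag by `j` steps. -/
def lowerModule (fl : Flag k M) (j : ℕ) : Submodule k (M →ₗ[k] M) where
  carrier := {f | Lowers fl j f}
  zero_mem' := fun t m _ => by simp
  add_mem' := fun ha hb t m hm => by simpa using add_mem (ha t m hm) (hb t m hm)
  smul_mem' := fun c f hf t m hm => by simpa using Submodule.smul_mem _ c (hf t m hm)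

lemma lowers_mul {fl : Flag k M} {i j : ℕ} {f g : M →ₗ[k] M} (hf : Lowers fl i f)
    (hg : Lowers fl j g) : Lowers fl (i + j) (f * g) := fun t m hm =>
  hf t _ (hg (t + i) m (by rwa [add_assoc]))

lemma Lowers.weaken {fl : Flag k M} {i j : ℕ} (h : i ≤ j) {f : M →ₗ[k] M} (hf : Lowers fl j f) :
    Lowers fl i f := fun t m hm => hf t m (fl.le (by omega) hm)

lemma lowers_zero_of_one {fl : Flag k M} {f : M →ₗ[k] M} (hf : Lowers fl 1 f) :
    Lowers fl 0 (1 + f) := fun t m hm => by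
  rw [LinearMap.add_apply, Module.End.one_apply]
  exact add_mem hm (hf.weaken (by omega) t m hm)

lemma prod_lowers {fl : Flag k M} {H : Set (LinearMap.GeneralLinearGroup k M)}
    (h : ∀ g ∈ H, Lowers fl 1 ((g : M →ₗ[k] M) - 1)) (l : List (LinearMap.GeneralLinearGroup k M))
    (hl : ∀ g ∈ l, g ∈ H) :
    Lowers fl l.length (l.map fun g : LinearMap.GeneralLinearGroup k M => (g : M →ₗ[k] M) - 1).prod := by
  induction l with
  | nil => intro t m hm; simpa using hm
  | cons g l ih =>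
    rw [List.map_cons, List.prod_cons, List.length_cons, add_comm l.length 1]
    exact lowers_mul (h g (hl g (List.mem_cons_self ..)))
      (ih fun x hx => hl x (List.mem_cons_of_mem _ hx))

lemma unipotent_of_flag {fl : Flag k M} {H : Subgroup (LinearMap.GeneralLinearGroup k M)}
    (h : ∀ g ∈ H, Lowers fl 1 ((g : M →ₗ[k] M) - 1)) : IsUnipotentOn H := by
  obtain ⟨n, hn⟩ := fl.top
  refine isUnipotentOn_iff.mpr ⟨n, fun l hl hlen => LinearMap.ext fun m => ?_⟩
  have := prod_lowers (H := (H : Set _)) h l hl 0 m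
    (by rw [zero_add, hlen, hn]; exact Submodule.mem_top)
  rwa [fl.zero, Submodule.mem_bot] at this

/-- The vectors killed by all products of length `i`. -/
def unipFlagSpace (H : Subgroup (LinearMap.GeneralLinearGroup k M)) (i : ℕ) : Submodule k M :=
  ⨅ (l : List (LinearMap.GeneralLinearGroup k M)) (_ : ∀ g ∈ l, g ∈ H) (_ : l.length = i),
    LinearMap.ker (l.map fun g : LinearMap.GeneralLinearGroup k M => (g : M →ₗ[k] M) - 1).prod

lemma mem_unipFlagSpace {H : Subgroup (LinearMap.GeneralLinearGroup k M)} {i : ℕ} {m : M} :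
    m ∈ unipFlagSpace H i ↔ ∀ l : List (LinearMap.GeneralLinearGroup k M), (∀ g ∈ l, g ∈ H) →
      l.length = i → (l.map fun g : LinearMap.GeneralLinearGroup k M => (g : M →ₗ[k] M) - 1).prod m = 0 := by
  simp [unipFlagSpace, Submodule.mem_iInf]

/-- The flag of a unipotent group. -/
def unipFlag {H : Subgroup (LinearMap.GeneralLinearGroup k M)} (h : IsUnipotentOn H) : Flag k M where
  F := unipFlagSpace H
  zero := by
    rw [eq_bot_iff]
    intro m hm
    simpa using mem_unipFlagSpace.mp hm [] (by simp) rfl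
  mono := fun t m hm => mem_unipFlagSpace.mpr fun l hl hlen => by
    cases l with
    | nil => simp at hlen
    | cons g l =>
      rw [List.map_cons, List.prod_cons, Module.End.mul_apply,
        mem_unipFlagSpace.mp hm l (fun x hx => hl x (List.mem_cons_of_mem _ hx))
          (by simpa using hlen), map_zero]
  top := by
    obtain ⟨n, hn⟩ := isUnipotentOn_iff.mp h
    exact ⟨n, eq_top_iff.mpr fun m _ => mem_unipFlagSpace.mpr fun l hl hlen => by rw [hn l hl hlen]; rfl⟩

lemma unipFlag_lowers {H : Subgroup (LinearMap.GeneralLinearGroup k M)} (h : IsUnipotentOn H)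
    {g : LinearMap.GeneralLinearGroup k M} (hg : g ∈ H) :
    Lowers (unipFlag h) 1 ((g : M →ₗ[k] M) - 1) := fun t m hm =>
  mem_unipFlagSpace.mpr fun l hl hlen => by
    have := mem_unipFlagSpace.mp hm (l ++ [g]) (by simpa [or_imp, forall_and] using ⟨hl, hg⟩)
      (by simp [hlen])
    simpa [List.prod_append] using this

lemma conj_apply_comm (u : LinearMap.GeneralLinearGroup k M) (f : M →ₗ[k] M) (m : M) :
    ((u : M →ₗ[k] M) * f * ((u⁻¹ : LinearMap.GeneralLinearGroup k M) : M →ₗ[k] M))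
      ((u : M →ₗ[k] M) m) = (u : M →ₗ[k] M) (f m) := by
  rw [Module.End.mul_apply, Module.End.mul_apply]
  congr 2
  rw [← Module.End.mul_apply, Units.inv_mul, Module.End.one_apply]

/-- An element normalising `H` preserves its flag. -/
lemma unipFlag_invariant {H : Subgroup (LinearMap.GeneralLinearGroup k M)} (h : IsUnipotentOn H)
    {u : LinearMap.GeneralLinearGroup k M} (hu : conjBy H u = H) (t : ℕ) {m : M}
    (hm : m ∈ (unipFlag h).F t) : (u : M →ₗ[k] M) m ∈ (unipFlag h).F t := by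
  refine mem_unipFlagSpace.mpr fun l hl hlen => ?_
  have key : ∀ l : List (LinearMap.GeneralLinearGroup k M),
      (l.map fun g : LinearMap.GeneralLinearGroup k M => (g : M →ₗ[k] M) - 1).prod = (u : M →ₗ[k] M) *
        ((l.map fun g => u⁻¹ * g * u).map fun g : LinearMap.GeneralLinearGroup k M => (g : M →ₗ[k] M) - 1).prod *
        ((u⁻¹ : LinearMap.GeneralLinearGroup k M) : M →ₗ[k] M) := by
    intro l
    induction l with
    | nil => simp
    | cons g l ih =>
      simp only [List.map_cons, List.prod_cons]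
      rw [ih]
      have e : (u : M →ₗ[k] M) *
          (((u⁻¹ * g * u : LinearMap.GeneralLinearGroup k M) : M →ₗ[k] M) - 1) =
          ((g : M →ₗ[k] M) - 1) * (u : M →ₗ[k] M) := by
        rw [mul_sub, sub_mul, one_mul, mul_one, ← Units.val_mul, ← Units.val_mul]
        congr 2; group
      simp only [← mul_assoc]
      rw [e]
  rw [key l, conj_apply_comm]
  rw [mem_unipFlagSpace.mp hm _ ?_ (by simpa using hlen), map_zero]
  intro x hx
  obtain ⟨g, hg, rfl⟩ := List.mem_map.mp hx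
  have hm' := hl g hg
  rw [← hu, mem_conjBy] at hm'
  exact hm'

variable [FiniteDimensional k M]

/-- The subgroup of elements `g` with `g - 1` lowering the flag by `j` steps. -/
def lowerGroup (fl : Flag k M) (j : ℕ) : Subgroup (LinearMap.GeneralLinearGroup k M) where
  carrier := {g | Lowers fl j ((g : M →ₗ[k] M) - 1) ∧ Lowers fl 1 ((g : M →ₗ[k] M) - 1)}
  one_mem' := by
    constructor <;> intro t m _ <;> simp
  mul_mem' := fun {a b} ha hb => by
    have e : ((a * b : LinearMap.GeneralLinearGroup k M) : M →ₗ[k] M) - 1 =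
        ((a : M →ₗ[k] M) - 1) * ((b : M →ₗ[k] M) - 1) + ((a : M →ₗ[k] M) - 1) +
          ((b : M →ₗ[k] M) - 1) := by rw [Units.val_mul]; noncomm_ring
    constructor <;> rw [e]
    · exact (lowerModule fl j).add_mem ((lowerModule fl j).add_mem
        ((lowers_mul ha.1 hb.2).weaken (by omega)) ha.1) hb.1
    · exact (lowerModule fl 1).add_mem ((lowerModule fl 1).add_mem
        ((lowers_mul ha.2 hb.2).weaken (by omega)) ha.2) hb.2
  inv_mem' := fun {a} ha => by
    -- `a` maps each `F t` onto itself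
    have h0 : Lowers fl 0 (a : M →ₗ[k] M) := by
      have := lowers_zero_of_one ha.2
      rwa [add_sub_cancel] at this
    have hinv : Lowers fl 0 ((a⁻¹ : LinearMap.GeneralLinearGroup k M) : M →ₗ[k] M) := by
      intro t m hm
      have hmap : (fl.F t).map (a : M →ₗ[k] M) = fl.F t := by
        refine Submodule.eq_of_le_of_finrank_le ?_ ?_
        · rintro _ ⟨x, hx, rfl⟩; exact h0 t x hx
        · exact (LinearEquiv.finrank_map_eq
            (LinearMap.GeneralLinearGroup.toLinearEquiv a) (fl.F t)).ge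
      rw [add_zero] at hm
      rw [← hmap] at hm
      obtain ⟨x, hx, rfl⟩ := hm
      rw [← Module.End.mul_apply, Units.inv_mul]
      simpa using hx
    have e : ((a⁻¹ : LinearMap.GeneralLinearGroup k M) : M →ₗ[k] M) - 1 =
        -(((a⁻¹ : LinearMap.GeneralLinearGroup k M) : M →ₗ[k] M) * ((a : M →ₗ[k] M) - 1)) := by
      rw [mul_sub, Units.inv_mul, mul_one, neg_sub]
    constructor <;> rw [e]
    · exact (lowerModule fl j).neg_mem (show Lowers fl j _ by simpa using lowers_mul hinv ha.1)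
    · exact (lowerModule fl 1).neg_mem (show Lowers fl 1 _ by simpa using lowers_mul hinv ha.2)

lemma lowerGroup_commutator (fl : Flag k M) {i j : ℕ}
    {x y : LinearMap.GeneralLinearGroup k M} (hx : x ∈ lowerGroup fl i) (hy : y ∈ lowerGroup fl j) :
    Lowers fl (i + j) (((x * y * x⁻¹ * y⁻¹ : LinearMap.GeneralLinearGroup k M) : M →ₗ[k] M) - 1) := by
  have e : ((x * y * x⁻¹ * y⁻¹ : LinearMap.GeneralLinearGroup k M) : M →ₗ[k] M) - 1 =
      (((x : M →ₗ[k] M) - 1) * ((y : M →ₗ[k] M) - 1) -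
        ((y : M →ₗ[k] M) - 1) * ((x : M →ₗ[k] M) - 1)) *
      ((x⁻¹ * y⁻¹ : LinearMap.GeneralLinearGroup k M) : M →ₗ[k] M) := by
    have h1 : ((y : M →ₗ[k] M) * (x : M →ₗ[k] M)) *
        ((x⁻¹ * y⁻¹ : LinearMap.GeneralLinearGroup k M) : M →ₗ[k] M) = 1 := by
      rw [← Units.val_mul, ← Units.val_mul, ← Units.val_one]; congr 1; group
    have h2 : ((x : M →ₗ[k] M) - 1) * ((y : M →ₗ[k] M) - 1) -
        ((y : M →ₗ[k] M) - 1) * ((x : M →ₗ[k] M) - 1) =
        (x : M →ₗ[k] M) * (y : M →ₗ[k] M) - (y : M →ₗ[k] M) * (x : M →ₗ[k] M) := by noncomm_ring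
    rw [h2, sub_mul, h1, mul_assoc (x * y) x⁻¹ y⁻¹, Units.val_mul, Units.val_mul]
  rw [e]
  have hz := lowers_zero_of_one ((lowerGroup fl 1).mul_mem
    (show x⁻¹ ∈ lowerGroup fl 1 from ⟨((lowerGroup fl i).inv_mem hx).2, ((lowerGroup fl i).inv_mem hx).2⟩)
    (show y⁻¹ ∈ lowerGroup fl 1 from ⟨((lowerGroup fl j).inv_mem hy).2, ((lowerGroup fl j).inv_mem hy).2⟩)).2
  rw [add_sub_cancel] at hz
  have h1 : Lowers fl (i + j) (((x : M →ₗ[k] M) - 1) * ((y : M →ₗ[k] M) - 1) -
        ((y : M →ₗ[k] M) - 1) * ((x : M →ₗ[k] M) - 1)) := by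
    refine (lowerModule fl (i + j)).sub_mem (lowers_mul hx.1 hy.1) ?_
    show Lowers fl (i + j) _
    rw [add_comm]
    exact lowers_mul hy.1 hx.1
  simpa using lowers_mul h1 hz

lemma le_lowerGroup {fl : Flag k M} {H : Subgroup (LinearMap.GeneralLinearGroup k M)}
    (h : ∀ g ∈ H, Lowers fl 1 ((g : M →ₗ[k] M) - 1)) : H ≤ lowerGroup fl 1 :=
  fun g hg => ⟨h g hg, h g hg⟩

/-- A unipotent group normalised by another one generates with it a unipotent group. -/
theorem unipotent_sup_of_normalizes {H K : Subgroup (LinearMap.GeneralLinearGroup k M)}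
    (hH : IsUnipotentOn H) (hK : IsUnipotentOn K) (hn : ∀ u ∈ K, conjBy H u = H) :
    IsUnipotentOn (H ⊔ K) := by
  obtain ⟨n, hn', hKn⟩ : ∃ n, 0 < n ∧ ∀ l : List (LinearMap.GeneralLinearGroup k M),
      (∀ g ∈ l, g ∈ K) → l.length = n → (l.map fun g : LinearMap.GeneralLinearGroup k M => (g : M →ₗ[k] M) - 1).prod = 0 := by
    obtain ⟨n, hn⟩ := isUnipotentOn_iff.mp hK
    refine ⟨n + 1, Nat.succ_pos n, fun l hl hlen => ?_⟩
    cases l with
    | nil => simp at hlen
    | cons g l =>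
      rw [List.map_cons, List.prod_cons,
        hn l (fun x hx => hl x (List.mem_cons_of_mem _ hx)) (by simpa using hlen), mul_zero]
  let C := (unipFlag hH).F
  have hinv : ∀ u ∈ K, ∀ t, ∀ m ∈ C t, ((u : M →ₗ[k] M) - 1) m ∈ C t := fun u hu t m hm => by
    rw [LinearMap.sub_apply, Module.End.one_apply]
    exact sub_mem (unipFlag_invariant hH (hn u hu) t hm) hm
  let D : ℕ → ℕ → Submodule k M := fun i j => C (i + 1) ⊓
    ⨅ (l : List (LinearMap.GeneralLinearGroup k M)) (_ : ∀ g ∈ l, g ∈ K) (_ : l.length = j),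
      (C i).comap (l.map fun g : LinearMap.GeneralLinearGroup k M => (g : M →ₗ[k] M) - 1).prod
  have memD : ∀ i j m, m ∈ D i j ↔ m ∈ C (i + 1) ∧ ∀ l : List (LinearMap.GeneralLinearGroup k M),
      (∀ g ∈ l, g ∈ K) → l.length = j → (l.map fun g : LinearMap.GeneralLinearGroup k M => (g : M →ₗ[k] M) - 1).prod m ∈ C i := by
    intro i j m; simp [D, Submodule.mem_iInf]
  have hD0 : ∀ i, D i 0 = C i := fun i => by
    ext m
    rw [memD]
    constructor
    · rintro ⟨-, h⟩; simpa using h [] (by simp) rfl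
    · intro hm
      refine ⟨(unipFlag hH).mono i hm, fun l _ hlen => ?_⟩
      rw [List.length_eq_zero_iff.mp hlen]; simpa using hm
  have hDn : ∀ i, D i n = C (i + 1) := fun i => by
    ext m
    rw [memD]
    refine ⟨fun h => h.1, fun hm => ⟨hm, fun l hl hlen => ?_⟩⟩
    rw [hKn l hl hlen]; simp
  have hDmono : ∀ i j, D i j ≤ D i (j + 1) := by
    intro i j m hm
    rw [memD] at hm ⊢
    refine ⟨hm.1, fun l hl hlen => ?_⟩
    cases l with
    | nil => simp at hlen
    | cons g l =>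
      rw [List.map_cons, List.prod_cons, Module.End.mul_apply]
      exact hinv g (hl g (List.mem_cons_self ..)) i _
        (hm.2 l (fun x hx => hl x (List.mem_cons_of_mem _ hx)) (by simpa using hlen))
  let F : ℕ → Submodule k M := fun t => D (t / n) (t % n)
  have hnext : ∀ t, F (t + 1) = D (t / n) (t % n + 1) := by
    intro t
    by_cases ht : t % n + 1 < n
    · have h1 : (t + 1) / n = t / n ∧ (t + 1) % n = t % n + 1 := by
        rw [Nat.div_mod_unique hn']
        exact ⟨by have := Nat.mod_add_div t n; omega, ht⟩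
      simp only [F]; rw [h1.1, h1.2]
    · have ht' : t % n + 1 = n := by have := Nat.mod_lt t hn'; omega
      have h1 : (t + 1) / n = t / n + 1 ∧ (t + 1) % n = 0 := by
        rw [Nat.div_mod_unique hn']
        refine ⟨?_, hn'⟩
        have := Nat.mod_add_div t n
        rw [Nat.mul_add, Nat.mul_one]; omega
      simp only [F]; rw [h1.1, h1.2, ht', hD0, hDn]
  let fl : Flag k M :=
    { F := F
      zero := by show D (0 / n) (0 % n) = ⊥; rw [Nat.zero_div, Nat.zero_mod, hD0]; exact (unipFlag hH).zero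
      mono := fun t => by rw [hnext]; exact hDmono _ _
      top := by
        obtain ⟨N, hN⟩ := (unipFlag hH).top
        refine ⟨N * n, ?_⟩
        show D (N * n / n) (N * n % n) = ⊤
        rw [Nat.mul_div_cancel _ hn', Nat.mul_mod_left, hD0]
        exact hN }
  refine unipotent_of_flag (fl := fl) ?_
  suffices h : H ⊔ K ≤ lowerGroup fl 1 from fun g hg => (h hg).1
  refine sup_le (le_lowerGroup ?_) (le_lowerGroup ?_) <;> intro g hg t m hm
  · change m ∈ F (t + 1) at hm
    rw [hnext, memD] at hm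
    show _ ∈ F t
    refine (?_ : C (t / n) ≤ D (t / n) (t % n)) (unipFlag_lowers hH hg _ m hm.1)
    intro x hx
    rw [memD]
    refine ⟨(unipFlag hH).mono _ hx, fun l hl hlen => ?_⟩
    clear hm hlen
    induction l with
    | nil => simpa using hx
    | cons y l ih =>
      rw [List.map_cons, List.prod_cons, Module.End.mul_apply]
      exact hinv y (hl y (List.mem_cons_self ..)) _ _
        (ih fun z hz => hl z (List.mem_cons_of_mem _ hz))
  · change m ∈ F (t + 1) at hm
    rw [hnext, memD] at hm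
    show _ ∈ D (t / n) (t % n)
    rw [memD]
    refine ⟨hinv g hg _ m hm.1, fun l hl hlen => ?_⟩
    have := hm.2 (l ++ [g]) (by simpa [or_imp, forall_and] using ⟨hl, hg⟩) (by simp [hlen])
    simpa [List.prod_append] using this

section Family

variable {W : Set (Subgroup (LinearMap.GeneralLinearGroup k M))}

/-- The span of the maps `g - 1`. -/
def groupSpan (J : Set (Subgroup (LinearMap.GeneralLinearGroup k M))) : Submodule k (M →ₗ[k] M) :=
  Submodule.span k ((fun g : LinearMap.GeneralLinearGroup k M => (g : M →ₗ[k] M) - 1) ''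
    ((⨆ A ∈ J, A : Subgroup (LinearMap.GeneralLinearGroup k M)) : Set _))

omit [FiniteDimensional k M] in
lemma groupSpan_mono {J J' : Set (Subgroup (LinearMap.GeneralLinearGroup k M))} (h : J ⊆ J') :
    groupSpan J ≤ groupSpan J' :=
  Submodule.span_mono (Set.image_mono fun _ hx =>
    (biSup_mono fun _ hA => h hA : (⨆ A ∈ J, A) ≤ ⨆ A ∈ J', A) hx)

omit [FiniteDimensional k M] in
lemma sub_one_mem_groupSpan {J : Set (Subgroup (LinearMap.GeneralLinearGroup k M))}
    {A : Subgroup (LinearMap.GeneralLinearGroup k M)} (hA : A ∈ J)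
    {a : LinearMap.GeneralLinearGroup k M} (ha : a ∈ A) : (a : M →ₗ[k] M) - 1 ∈ groupSpan J :=
  Submodule.subset_span ⟨a, le_biSup (fun X : Subgroup _ => X) hA ha, rfl⟩

lemma groupSpan_le_lowerModule {J : Set (Subgroup (LinearMap.GeneralLinearGroup k M))}
    (h : IsUnipotentOn (⨆ A ∈ J, A)) : groupSpan J ≤ lowerModule (unipFlag h) 1 :=
  Submodule.span_le.mpr (by rintro _ ⟨g, hg, rfl⟩; exact unipFlag_lowers h hg)

/-- A family enlarged inside the same span stays unipotent and keeps the span. -/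
lemma unipotent_of_span {J J' : Set (Subgroup (LinearMap.GeneralLinearGroup k M))}
    (h : IsUnipotentOn (⨆ A ∈ J, A))
    (hJ' : ∀ A ∈ J', ∀ a ∈ A, (a : M →ₗ[k] M) - 1 ∈ groupSpan J) :
    IsUnipotentOn (⨆ A ∈ J', A) :=
  unipotent_of_flag (fl := unipFlag h) fun g hg =>
    ((iSup₂_le fun A hA => le_lowerGroup fun a ha => groupSpan_le_lowerModule h (hJ' A hA a ha) :
      (⨆ A ∈ J', A) ≤ lowerGroup (unipFlag h) 1) hg).1

/-- A maximal member family. -/
def IsMaxFamily (W J : Set (Subgroup (LinearMap.GeneralLinearGroup k M))) : Prop :=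
  J ⊆ W ∧ IsUnipotentOn (⨆ A ∈ J, A) ∧
    ∀ A ∈ W, IsUnipotentOn (⨆ B ∈ insert A J, B) → A ∈ J

lemma exists_maxFamily {J : Set (Subgroup (LinearMap.GeneralLinearGroup k M))} (hJW : J ⊆ W)
    (hJ : IsUnipotentOn (⨆ A ∈ J, A)) : ∃ J₁, J ⊆ J₁ ∧ IsMaxFamily W J₁ := by
  classical
  let P : ℕ → Prop := fun d => ∃ J₁, J ⊆ J₁ ∧ J₁ ⊆ W ∧ IsUnipotentOn (⨆ A ∈ J₁, A) ∧
    Module.finrank k (groupSpan J₁) = d
  set N := Module.finrank k (M →ₗ[k] M)
  have hP : P (Module.finrank k (groupSpan J)) := ⟨J, le_rfl, hJW, hJ, rfl⟩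
  obtain ⟨J₁, h1, h2, h3, h4⟩ := Nat.findGreatest_spec (P := P) (n := N) (Submodule.finrank_le _) hP
  refine ⟨{A | A ∈ W ∧ ∀ a ∈ A, (a : M →ₗ[k] M) - 1 ∈ groupSpan J₁},
    fun A hA => ⟨hJW hA, fun a ha => sub_one_mem_groupSpan (h1 hA) ha⟩,
    fun A hA => hA.1, unipotent_of_span h3 fun A hA a ha => hA.2 a ha, fun A hA hun => ⟨hA, ?_⟩⟩
  set J₂ := {A | A ∈ W ∧ ∀ a ∈ A, (a : M →ₗ[k] M) - 1 ∈ groupSpan J₁}
  have hsub : J₁ ⊆ insert A J₂ := fun B hB =>
    Or.inr ⟨h2 hB, fun a ha => sub_one_mem_groupSpan hB ha⟩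
  have hle := groupSpan_mono hsub
  have hP' : P (Module.finrank k (groupSpan (insert A J₂))) :=
    ⟨_, h1.trans hsub, Set.insert_subset hA fun B hB => hB.1, hun, rfl⟩
  have hd := Nat.le_findGreatest (n := N) (Submodule.finrank_le _) hP'
  rw [← h4] at hd
  have heq := Submodule.eq_of_le_of_finrank_le hle hd
  intro a ha
  rw [heq]
  exact sub_one_mem_groupSpan (Set.mem_insert A J₂) ha

/-- In a maximal family, a proper subfamily closed under the span is normalised by a member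
outside it. -/
lemma exists_normalizing {X J : Set (Subgroup (LinearMap.GeneralLinearGroup k M))}
    {G : Subgroup (LinearMap.GeneralLinearGroup k M)} (hWG : ∀ A ∈ W, A ≤ G)
    (hWconj : ∀ A ∈ W, ∀ g ∈ G, conjBy A g ∈ W) (hX : IsMaxFamily W X) (hJX : J ⊆ X) (hne : J ≠ X)
    (hclosed : ∀ A ∈ X, A ≤ (⨆ B ∈ J, B) → A ∈ J) :
    ∃ A ∈ X, A ∉ J ∧ ∀ a ∈ A, conjBy (⨆ B ∈ J, B) a = ⨆ B ∈ J, B := by
  classical
  set U := ⨆ B ∈ X, B with hU
  set I := ⨆ B ∈ J, B with hI
  have hIU : I ≤ U := biSup_mono fun _ hB => hJX hB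
  set fl := unipFlag hX.2.1 with hfl
  have hUl : U ≤ lowerGroup fl 1 := le_lowerGroup fun g hg => unipFlag_lowers hX.2.1 hg
  let Uj : ℕ → Subgroup (LinearMap.GeneralLinearGroup k M) := fun j => U ⊓ lowerGroup fl j
  obtain ⟨A₀, hA₀X, hA₀⟩ : ∃ A₀, A₀ ∈ X ∧ A₀ ∉ J :=
    Set.not_subset.mp fun h => hne (Set.Subset.antisymm hJX h)
  obtain ⟨n, hn⟩ := fl.top
  let P : ℕ → Prop := fun j => ∃ A, A ∈ X ∧ A ∉ J ∧ A ≤ I ⊔ Uj j
  have hP1 : P 1 := ⟨A₀, hA₀X, hA₀,
    le_trans (le_inf (le_biSup (fun Y : Subgroup _ => Y) hA₀X)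
      ((le_biSup (fun Y : Subgroup _ => Y) hA₀X).trans hUl)) le_sup_right⟩
  have hPn : ∀ j, n ≤ j → ¬ P j := by
    rintro j hj ⟨A, hAX, hAJ, hle⟩
    refine hAJ (hclosed A hAX (hle.trans (sup_le le_rfl fun g hg => ?_)))
    have : g = 1 := Units.ext (sub_eq_zero.mp (LinearMap.ext fun m => by
      have h2 := hg.2.1 0 m (fl.le (show n ≤ 0 + j by omega) (hn ▸ Submodule.mem_top))
      rw [fl.zero, Submodule.mem_bot] at h2
      rw [Units.val_one]
      simpa using h2))
    rw [this]; exact one_mem _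
  set j := Nat.findGreatest P (n + 1) with hjdef
  have hPj : P j := Nat.findGreatest_spec (m := 1) (by omega) hP1
  have hjn : j < n + 1 := by
    by_contra hge
    have hle : j ≤ n + 1 := Nat.findGreatest_le (n + 1)
    exact hPn j (by omega) hPj
  have hPj1 : ¬ P (j + 1) := fun hp => by
    have := Nat.le_findGreatest (P := P) (show j + 1 ≤ n + 1 by omega) hp
    omega
  obtain ⟨A, hAX, hAJ, hAle⟩ := hPj
  refine ⟨A, hAX, hAJ, ?_⟩
  set L := I ⊔ Uj (j + 1) with hL
  have hUjn : ∀ i, ∀ g ∈ U, ∀ v ∈ Uj i, g * v * g⁻¹ ∈ Uj i := by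
    intro i g hg v hv
    refine ⟨U.mul_mem (U.mul_mem hg hv.1) (U.inv_mem hg), ?_⟩
    have hc : g * v * g⁻¹ * v⁻¹ ∈ lowerGroup fl i :=
      ⟨(lowerGroup_commutator fl (hUl hg) hv.2).weaken (by omega),
        (lowerGroup_commutator fl (hUl hg) hv.2).weaken (by omega)⟩
    have := mul_mem hc hv.2
    rwa [inv_mul_cancel_right] at this
  have hnormL : I ⊔ Uj j ≤ Subgroup.normalizer (L : Set (LinearMap.GeneralLinearGroup k M)) := by
    have key : ∀ g, (g ∈ I ∨ g ∈ Uj j) → conjBy L g ≤ L := by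
      intro g hg
      have hgU : g ∈ U := hg.elim (fun h => hIU h) (fun h => h.1)
      rw [hL, conjBy_sup]
      refine sup_le ?_ ?_ <;> intro z hz <;> rw [mem_conjBy] at hz
      · rcases hg with hg | hg
        · refine (le_sup_left : I ≤ I ⊔ Uj (j + 1)) ?_
          have := mul_mem (mul_mem hg hz) (inv_mem hg)
          simpa [mul_assoc] using this
        · set v := g⁻¹ * z * g with hv
          have e : z = (g * v * g⁻¹ * v⁻¹) * v := by rw [hv]; group
          rw [e]
          refine mul_mem ((le_sup_right : Uj (j + 1) ≤ I ⊔ Uj (j + 1)) ⟨?_, ?_⟩)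
            ((le_sup_left : I ≤ I ⊔ Uj (j + 1)) hz)
          · exact U.mul_mem (U.mul_mem (U.mul_mem hgU (hIU hz)) (U.inv_mem hgU)) (U.inv_mem (hIU hz))
          · have hc := lowerGroup_commutator fl hg.2 (hUl (hIU hz))
            exact ⟨hc, hc.weaken (by omega)⟩
      · refine (le_sup_right : Uj (j + 1) ≤ I ⊔ Uj (j + 1)) ?_
        have := hUjn (j + 1) g hgU _ hz
        simpa [mul_assoc] using this
    refine sup_le (fun g hg => ?_) (fun g hg => ?_) <;> refine conjBy_eq_self_iff.mp ?_ <;>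
      refine le_antisymm (key g ?_) ?_
    · exact Or.inl hg
    · have := conjBy_mono (key g⁻¹ (Or.inl (inv_mem hg))) g
      rwa [conjBy_conjBy_inv] at this
    · exact Or.inr hg
    · have := conjBy_mono (key g⁻¹ (Or.inr (inv_mem hg))) g
      rwa [conjBy_conjBy_inv] at this
  have hLU : L ≤ U := sup_le hIU inf_le_left
  have hJconj : ∀ a ∈ A, ∀ B ∈ J, conjBy B a ∈ J := by
    intro a ha B hB
    have hBW := hWconj B (hX.1 (hJX hB)) a (hWG A (hX.1 hAX) ha)
    have hBL : conjBy B a ≤ L := by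
      have h1 := conjBy_mono ((le_biSup (fun Y : Subgroup _ => Y) hB).trans le_sup_left : B ≤ L) a
      rwa [conjBy_eq_self_iff.mpr (hnormL (hAle ha))] at h1
    have hBX : conjBy B a ∈ X := hX.2.2 _ hBW (unipotent_of_flag (fl := fl) fun g hg => (hUl
      ((iSup₂_le fun Y hY => by
        rcases hY with rfl | hY
        · exact hBL.trans hLU
        · exact le_biSup (fun Z : Subgroup _ => Z) hY : (⨆ Y ∈ insert (conjBy B a) X, Y) ≤ U) hg)).1)
    by_contra hnot
    exact hPj1 ⟨conjBy B a, hBX, hnot, hBL⟩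
  intro a ha
  have key : ∀ a ∈ A, conjBy I a ≤ I := fun a ha => by
    rw [hI, conjBy, Subgroup.map_iSup]
    simp only [Subgroup.map_iSup]
    exact iSup₂_le fun B hB => le_biSup (fun Z : Subgroup _ => Z) (hJconj a ha B hB)
  refine le_antisymm (key a ha) ?_
  have := conjBy_mono (key a⁻¹ (inv_mem ha)) a
  rwa [conjBy_conjBy_inv] at this

/-- Conjugation invariant families of pairwise unipotently generating subgroups generate a
unipotent group. -/
theorem unipotent_family {G : Subgroup (LinearMap.GeneralLinearGroup k M)}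
    (hWG : ∀ A ∈ W, A ≤ G) (hWW : ∀ A ∈ W, ∀ B ∈ W, IsUnipotentOn (A ⊔ B))
    (hWconj : ∀ A ∈ W, ∀ g ∈ G, conjBy A g ∈ W) : IsUnipotentOn (⨆ A ∈ W, A) := by
  classical
  have hempty : IsUnipotentOn (⨆ A ∈ (∅ : Set (Subgroup (LinearMap.GeneralLinearGroup k M))), A) := by
    refine isUnipotentOn_iff.mpr ⟨1, fun l hl hlen => ?_⟩
    match l, hlen with
    | [g], _ =>
      have := hl g (List.mem_singleton_self g)
      rw [iSup_emptyset, Subgroup.mem_bot] at this
      simp [this]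
  obtain ⟨X₀, -, hX₀⟩ := exists_maxFamily (W := W) (Set.empty_subset W) hempty
  by_cases hall : W ⊆ X₀
  · rw [show W = X₀ from Set.Subset.antisymm hall hX₀.1]; exact hX₀.2.1
  exfalso
  obtain ⟨C₀, hC₀, hC₀X⟩ := Set.not_subset.mp hall
  obtain ⟨Y₀, hY₀, hY₀max⟩ := exists_maxFamily (W := W) (J := {C₀}) (Set.singleton_subset_iff.mpr hC₀)
    (by rw [iSup_singleton]; simpa using hWW C₀ hC₀ C₀ hC₀)
  let P : ℕ → Prop := fun d => ∃ X Y, IsMaxFamily W X ∧ IsMaxFamily W Y ∧ X ≠ Y ∧
    Module.finrank k (groupSpan (X ∩ Y)) = d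
  set N := Module.finrank k (M →ₗ[k] M)
  have hP₀ : P (Module.finrank k (groupSpan (X₀ ∩ Y₀))) :=
    ⟨X₀, Y₀, hX₀, hY₀max, fun h => hC₀X (h ▸ hY₀ rfl), rfl⟩
  obtain ⟨X, Y, hX, hY, hXY, hd⟩ :=
    Nat.findGreatest_spec (P := P) (n := N) (Submodule.finrank_le _) hP₀
  have hbest : ∀ X' Y', IsMaxFamily W X' → IsMaxFamily W Y' → X' ≠ Y' →
      groupSpan (X ∩ Y) ≤ groupSpan (X' ∩ Y') → groupSpan (X' ∩ Y') = groupSpan (X ∩ Y) :=
    fun X' Y' h1 h2 h3 h4 => (Submodule.eq_of_le_of_finrank_le h4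
      (hd.symm ▸ Nat.le_findGreatest (n := N) (Submodule.finrank_le _) ⟨X', Y', h1, h2, h3, rfl⟩)).symm
  -- members whose maps lie in the span of the intersection lie in it
  have hclosed : ∀ {Z : Set (Subgroup (LinearMap.GeneralLinearGroup k M))}, IsMaxFamily W Z →
      ∀ {J : Set (Subgroup (LinearMap.GeneralLinearGroup k M))}, J ⊆ Z → ∀ A ∈ W,
      (∀ a ∈ A, (a : M →ₗ[k] M) - 1 ∈ groupSpan J) → A ∈ Z := by
    intro Z hZ J hJ A hA hAs
    refine hZ.2.2 A hA (unipotent_of_span hZ.2.1 ?_)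
    rintro B (rfl | hB) a ha
    · exact groupSpan_mono hJ (hAs a ha)
    · exact sub_one_mem_groupSpan hB ha
  have hclosedJ : ∀ {Z : Set (Subgroup (LinearMap.GeneralLinearGroup k M))}, IsMaxFamily W Z →
      ∀ A ∈ Z, A ≤ (⨆ B ∈ X ∩ Y, B) → A ∈ X ∩ Y := fun hZ A hA hle =>
    ⟨hclosed hX Set.inter_subset_left A (hZ.1 hA) fun a ha => Submodule.subset_span ⟨a, hle ha, rfl⟩,
      hclosed hY Set.inter_subset_right A (hZ.1 hA) fun a ha => Submodule.subset_span ⟨a, hle ha, rfl⟩⟩
  have hXne : X ∩ Y ≠ X := by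
    intro h
    refine hXY (Set.Subset.antisymm (fun A hA => (h.symm ▸ hA : A ∈ X ∩ Y).2) fun B hB => ?_)
    refine hX.2.2 B (hY.1 hB) (unipotent_of_span hY.2.1 ?_)
    rintro C (rfl | hC) a ha
    · exact sub_one_mem_groupSpan hB ha
    · exact sub_one_mem_groupSpan (h.symm ▸ hC : C ∈ X ∩ Y).2 ha
  have hYne : X ∩ Y ≠ Y := by
    intro h
    refine hXY (Set.Subset.antisymm (fun B hB => ?_) fun A hA => (h.symm ▸ hA : A ∈ X ∩ Y).1)
    refine hY.2.2 B (hX.1 hB) (unipotent_of_span hX.2.1 ?_)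
    rintro C (rfl | hC) a ha
    · exact sub_one_mem_groupSpan hB ha
    · exact sub_one_mem_groupSpan (h.symm ▸ hC : C ∈ X ∩ Y).1 ha
  obtain ⟨A, hAX, hAJ, hAn⟩ :=
    exists_normalizing hWG hWconj hX Set.inter_subset_left hXne (hclosedJ hX)
  obtain ⟨C, hCY, hCJ, hCn⟩ :=
    exists_normalizing hWG hWconj hY Set.inter_subset_right hYne (hclosedJ hY)
  have hJun : IsUnipotentOn (⨆ B ∈ X ∩ Y, B) :=
    unipotent_of_span hX.2.1 fun B hB a ha => sub_one_mem_groupSpan hB.1 ha
  have hnorm : ∀ u ∈ A ⊔ C, conjBy (⨆ B ∈ X ∩ Y, B) u = ⨆ B ∈ X ∩ Y, B := fun u hu =>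
    conjBy_eq_self_iff.mpr ((sup_le (fun a ha => conjBy_eq_self_iff.mp (hAn a ha))
      (fun c hc => conjBy_eq_self_iff.mp (hCn c hc)) : A ⊔ C ≤ Subgroup.normalizer _) hu)
  have hbig := unipotent_sup_of_normalizes hJun (hWW A (hX.1 hAX) C (hY.1 hCY)) hnorm
  obtain ⟨Z, hZsub, hZ⟩ := exists_maxFamily (W := W) (J := insert A (insert C (X ∩ Y)))
    (Set.insert_subset (hX.1 hAX) (Set.insert_subset (hY.1 hCY) fun B hB => hX.1 hB.1))
    (by rwa [iSup_insert, iSup_insert, ← sup_assoc, sup_comm])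
  have hZX : Z = X := by
    by_contra hne
    have heq := hbest X Z hX hZ (Ne.symm hne)
      (groupSpan_mono fun B hB => ⟨hB.1, hZsub (Or.inr (Or.inr hB))⟩)
    refine hAJ ⟨hAX, hclosed hY (J := X ∩ Y) Set.inter_subset_right A (hX.1 hAX) fun a ha => ?_⟩
    rw [← heq]
    exact sub_one_mem_groupSpan (J := X ∩ Z) ⟨hAX, hZsub (Or.inl rfl)⟩ ha
  have hCX : C ∈ X := hZX ▸ hZsub (Or.inr (Or.inl rfl))
  exact hCJ ⟨hCX, hCY⟩

end Family

end CfsgLib.RootSubgroups
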