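import Cfsg.Agent.RootSubgroups.QuadWord
import Cfsg.Agent.RootSubgroups.Unipotent

/-! Two quadratic elements of minimal commutator rank of a group of linear maps, not generating a
unipotent group, generate `SL₂` over a simple algebraic extension of the scalars. -/

set_option autoImplicit false

namespace CfsgLib.RootSubgroups.QuadPair

open Cfsg Matrix Polynomial
open CfsgLib.RootSubgroups.Gen2 CfsgLib.RootSubgroups.QuadWord
open scoped MatrixGroups

universe u

variable {k : Type u} [Field k] {M : Type u} [AddCommGroup M] [Module k M]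
  [FiniteDimensional k M]

/-- `σ - 1`. -/
noncomputable def nil (σ : (LinearMap.GeneralLinearGroup k M)) : Module.End k M := (σ : M →ₗ[k] M) - 1

lemma nil_sq {σ : (LinearMap.GeneralLinearGroup k M)} (h : IsQuadraticOn σ) : nil σ * nil σ = 0 := h.1

lemma nil_apply_nil {σ : (LinearMap.GeneralLinearGroup k M)} (h : IsQuadraticOn σ) (m : M) : nil σ (nil σ m) = 0 :=
  LinearMap.congr_fun (nil_sq h) m

/-- The two words of length `i` in `s`, `t`, starting on the right with `s`, resp. `t`. -/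
noncomputable def altWord (s t : Module.End k M) : ℕ → Module.End k M × Module.End k M
  | 0 => (1, 1)
  | i + 1 => ((altWord s t i).2 * s, (altWord s t i).1 * t)

lemma altWord_two (s t : Module.End k M) (i : ℕ) :
    altWord s t (2 * i) = ((t * s) ^ i, (s * t) ^ i) := by
  induction i with
  | zero => simp [altWord]
  | succ i ih =>
    rw [show 2 * (i + 1) = 2 * i + 1 + 1 by ring]
    simp only [altWord, ih, pow_succ, mul_assoc]

/-- Two elements of square zero with nilpotent product act unipotently. -/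
theorem unipotent_of_nilpotent {σ τ : (LinearMap.GeneralLinearGroup k M)} (hσ : IsQuadraticOn σ) (hτ : IsQuadraticOn τ)
    (hn : IsNilpotent (nil σ * nil τ)) :
    IsUnipotentOn (Subgroup.closure (scalarFamily σ ∪ scalarFamily τ)) := by
  set s := nil σ
  set t := nil τ
  let F : ℕ → Submodule k M := fun i =>
    LinearMap.ker (altWord s t i).1 ⊓ LinearMap.ker (altWord s t i).2
  have hFmem : ∀ i m, m ∈ F i ↔ ((altWord s t i).1 m = 0 ∧ (altWord s t i).2 m = 0) := by
    intro i m
    simp [F, Submodule.mem_inf]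
  have hss : ∀ i, (altWord s t (i + 1)).1 * s = 0 := fun i => by
    simp only [altWord, mul_assoc]
    rw [show s * s = 0 from nil_sq hσ, mul_zero]
  have htt : ∀ i, (altWord s t (i + 1)).2 * t = 0 := fun i => by
    simp only [altWord, mul_assoc]
    rw [show t * t = 0 from nil_sq hτ, mul_zero]
  have hs : ∀ i, ∀ m ∈ F (i + 1), s m ∈ F i := by
    intro i m hm
    have hm := (hFmem _ _).1 hm
    refine (hFmem i _).2 ⟨?_, hm.1⟩
    cases i with
    | zero => simpa [altWord] using hm.1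
    | succ i => rw [← Module.End.mul_apply, hss]; rfl
  have ht : ∀ i, ∀ m ∈ F (i + 1), t m ∈ F i := by
    intro i m hm
    have hm := (hFmem _ _).1 hm
    refine (hFmem i _).2 ⟨hm.2, ?_⟩
    cases i with
    | zero => simpa [altWord] using hm.2
    | succ i => rw [← Module.End.mul_apply, htt]; rfl
  have hmono : ∀ i, F i ≤ F (i + 1) := by
    intro i
    induction i with
    | zero => intro m hm; have := ((hFmem 0 m).1 hm).1; simp [altWord] at this; simp [this]
    | succ i ih =>
      intro m hm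
      exact (hFmem _ m).2 ⟨((hFmem _ _).1 (ih (hs i m hm))).2, ((hFmem _ _).1 (ih (ht i m hm))).1⟩
  obtain ⟨n, hn⟩ := hn
  have hts : (t * s) ^ (n + 1) = 0 := by
    have key : ∀ j, (t * s) ^ (j + 1) = t * (s * t) ^ j * s := fun j => by
      induction j with
      | zero => simp
      | succ j ih => rw [pow_succ, ih, pow_succ (s * t) j]; simp only [mul_assoc]
    rw [key, hn, mul_zero, zero_mul]
  let fl : Flag k M := ⟨F, by simp [F, altWord, Module.End.one_eq_id], hmono, 2 * (n + 1), by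
    refine eq_top_iff.mpr fun m _ => (hFmem (2 * (n + 1)) m).2 ?_
    simp [altWord_two, hts, pow_succ, hn]⟩
  have hle : Subgroup.closure (scalarFamily σ ∪ scalarFamily τ) ≤ lowerGroup fl 1 := by
    rw [Subgroup.closure_le]
    rintro g (⟨c, hc⟩ | ⟨c, hc⟩)
    · have : Lowers fl 1 ((g : M →ₗ[k] M) - 1) := fun i m hm => by
        rw [hc, add_sub_cancel_left]; exact Submodule.smul_mem _ _ (hs i m hm)
      exact ⟨this, this⟩
    · have : Lowers fl 1 ((g : M →ₗ[k] M) - 1) := fun i m hm => by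
        rw [hc, add_sub_cancel_left]; exact Submodule.smul_mem _ _ (ht i m hm)
      exact ⟨this, this⟩
  exact unipotent_of_flag fun g hg => (hle hg).2

section Pair

variable {G : Subgroup (LinearMap.GeneralLinearGroup k M)} {σ τ : (LinearMap.GeneralLinearGroup k M)} (hσ : σ ∈ minimalQuadraticElements G)
  (hτ : τ ∈ quadraticElements G)

/-- The commutator space of the first element. -/
noncomputable abbrev cspace (σ : (LinearMap.GeneralLinearGroup k M)) : Submodule k M := LinearMap.range (nil σ)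

/-- The action of `s t` on the commutator space of `σ`. -/
noncomputable def phi (σ τ : (LinearMap.GeneralLinearGroup k M)) : Module.End k (cspace σ) :=
  (nil σ * nil τ).restrict (fun v _ => LinearMap.mem_range_self _ _)

lemma coe_aeval_phi (σ τ : (LinearMap.GeneralLinearGroup k M)) (f : k[X]) (v : cspace σ) :
    ((aeval (phi σ τ) f v : cspace σ) : M) = aeval (nil σ * nil τ) f (v : M) := by
  induction f using Polynomial.induction_on' with
  | add f g hf hg => simp [map_add, hf, hg]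
  | monomial n a =>
    have h : ∀ n : ℕ, (((phi σ τ) ^ n) v : M) = ((nil σ * nil τ) ^ n) (v : M) := fun n => by
      induction n with
      | zero => simp
      | succ n ih =>
        rw [pow_succ', pow_succ', Module.End.mul_apply, Module.End.mul_apply (f := nil σ * nil τ),
          ← ih]
        rfl
    simp [aeval_monomial, h]

lemma aeval_word_apply (σ τ : (LinearMap.GeneralLinearGroup k M)) (f : k[X]) (m : M) :
    (aeval (nil σ * nil τ) f * nil σ) m =
      ((aeval (phi σ τ) f ⟨nil σ m, LinearMap.mem_range_self _ _⟩ : cspace σ) : M) := by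
  rw [coe_aeval_phi]; rfl

include hσ hτ

/-- A scalar family of words in the group either vanishes or is injective on the commutator
space. -/
lemma zero_or_injective {f : k[X]}
    (hf : ∀ a : k, ∃ g ∈ G, (g : M →ₗ[k] M) = 1 + a • (aeval (nil σ * nil τ) f * nil σ)) :
    aeval (phi σ τ) f = 0 ∨ Function.Injective (aeval (phi σ τ) f) := by
  by_cases h0 : aeval (phi σ τ) f = 0
  · exact Or.inl h0
  right
  set w := aeval (nil σ * nil τ) f * nil σ with hw
  obtain ⟨g, hgG, hg⟩ := hf 1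
  rw [one_smul] at hg
  have hw2 : w * w = 0 := by
    rw [hw, mul_assoc, ← mul_assoc (nil σ), mul_aeval_self (nil_sq hσ.1.2.1), mul_assoc,
      nil_sq hσ.1.2.1, mul_zero, mul_zero]
  have hwne : w ≠ 0 := by
    intro hz
    apply h0
    refine LinearMap.ext fun v => Subtype.ext ?_
    obtain ⟨m, hm⟩ := v.2
    have := LinearMap.congr_fun hz m
    rw [hw, aeval_word_apply] at this
    simpa [hm] using this
  have hgq : g ∈ quadraticElements G := by
    refine ⟨hgG, ⟨by rw [hg, add_sub_cancel_left]; exact hw2,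
      by rw [hg, add_sub_cancel_left]; exact hwne⟩, ?_⟩
    rintro x ⟨c, hc⟩
    obtain ⟨g', hg'G, hg'⟩ := hf c
    rw [show x = g' from Units.ext (by rw [hc, hg', hg, add_sub_cancel_left])]
    exact hg'G
  have hle := hσ.2 g hgq
  have hrange : LinearMap.range w =
      (LinearMap.range (aeval (phi σ τ) f)).map (cspace σ).subtype := by
    apply le_antisymm
    · rintro x ⟨m, rfl⟩
      exact ⟨_, ⟨⟨nil σ m, LinearMap.mem_range_self _ _⟩, rfl⟩, (aeval_word_apply σ τ f m).symm⟩
    · rintro x ⟨_, ⟨⟨v, m, rfl⟩, rfl⟩, rfl⟩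
      exact ⟨m, aeval_word_apply σ τ f m⟩
  unfold commutatorRank at hle
  rw [hg, add_sub_cancel_left, hrange, Submodule.finrank_map_subtype_eq] at hle
  rw [LinearMap.injective_iff_surjective, ← LinearMap.range_eq_top]
  exact Submodule.eq_top_of_finrank_eq (le_antisymm (Submodule.finrank_le _) hle)

/-- The two families lie in the group. -/
lemma wordHom_mem (g : genGroup k (X : k[X])) :
    (wordHom (nil_sq hσ.1.2.1) (nil_sq hτ.2.1) g : (LinearMap.GeneralLinearGroup k M)) ∈
      Subgroup.closure (scalarFamily σ ∪ scalarFamily τ) ∧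
    (wordHom (nil_sq hσ.1.2.1) (nil_sq hτ.2.1) g : (LinearMap.GeneralLinearGroup k M)) ∈ G := by
  set hs := nil_sq hσ.1.2.1
  set ht := nil_sq hτ.2.1
  have hsub : scalarFamily σ ∪ scalarFamily τ ⊆ (G : Set (LinearMap.GeneralLinearGroup k M)) :=
    Set.union_subset hσ.1.2.2 hτ.2.2
  have h : (⊤ : Subgroup (genGroup k (X : k[X]))) ≤
      (Subgroup.closure (scalarFamily σ ∪ scalarFamily τ)).comap (wordHom hs ht) := by
    have hgen := Subgroup.closure_closure_coe_preimage
      (k := ({g : SL(2, k[X]) | ∃ c : k, g = up (algebraMap k k[X] c)} ∪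
        {g | ∃ c : k, g = lo (algebraMap k k[X] c * X)}))
    refine hgen.ge.trans ((Subgroup.closure_le _).2 ?_)
    rintro ⟨g, hg'⟩ (⟨c, hc⟩ | ⟨c, hc⟩)
    · refine Subgroup.subset_closure (Or.inl ⟨c, ?_⟩)
      show theta (nil σ) (nil τ) g = _
      rw [show g = _ from hc]; exact theta_up_eq hs c
    · refine Subgroup.subset_closure (Or.inr ⟨c, ?_⟩)
      show theta (nil σ) (nil τ) g = _
      rw [show g = _ from hc]; exact theta_lo_eq ht c
  exact ⟨h (Subgroup.mem_top g), ((Subgroup.closure_le G).2 hsub) (h (Subgroup.mem_top g))⟩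

omit hσ hτ in
lemma aeval_mul_word_eq_zero {Q : k[X]} (hQ : aeval (phi σ τ) Q = 0) :
    aeval (nil σ * nil τ) Q * (nil σ * nil τ) = 0 := by
  refine LinearMap.ext fun m => ?_
  rw [← mul_assoc]
  rw [show (aeval (nil σ * nil τ) Q * nil σ * nil τ) m =
    (aeval (nil σ * nil τ) Q * nil σ) (nil τ m) from rfl, aeval_word_apply, hQ]
  simp

/-- An upper element with entry `f` of the group over `k[X]/(X²Q)` gives a word in `G`. -/
lemma word_mem {Q : k[X]} (hQ : aeval (phi σ τ) Q = 0) (f : k[X])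
    (hmem : up (AdjoinRoot.mk (X ^ 2 * Q) f) ∈ genGroup k (AdjoinRoot.root (X ^ 2 * Q))) :
    ∃ g ∈ G, (g : M →ₗ[k] M) = 1 + aeval (nil σ * nil τ) f * nil σ := by
  set s := nil σ
  set t := nil τ
  have hs : s * s = 0 := nil_sq hσ.1.2.1
  have ht : t * t = 0 := nil_sq hτ.2.1
  set P := X ^ 2 * Q with hP
  let π : k[X] →ₐ[k] AdjoinRoot P := aeval (AdjoinRoot.root P)
  have hπ : ∀ g, π g = AdjoinRoot.mk P g := fun g => AdjoinRoot.aeval_eq g
  have hroot : π X = AdjoinRoot.root P := by simp [π]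
  rw [← hroot, ← map_genGroup] at hmem
  obtain ⟨B, hB, hBe⟩ := hmem
  obtain ⟨h0, h1, h2⟩ := const1_of_mem hs ht hB
  refine ⟨wordHom hs ht ⟨B, hB⟩, (wordHom_mem hσ hτ ⟨B, hB⟩).2, ?_⟩
  rw [wordHom_apply]
  have hent : ∀ i j, P ∣ (B : Matrix (Fin 2) (Fin 2) k[X]) i j - !![(1 : k[X]), f; 0, 1] i j := by
    intro i j
    have e := congrArg (fun g : SL(2, AdjoinRoot P) => (g : Matrix (Fin 2) (Fin 2) (AdjoinRoot P)) i j) hBe
    rw [← AdjoinRoot.mk_eq_mk]
    simp [hπ] at e
    fin_cases i <;> fin_cases j <;> simp at e ⊢ <;> exact e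
  -- `X * Q` annihilates `s t`, `X² Q` also `t s`
  have hst : aeval (s * t) (X * Q) = 0 := by
    rw [mul_comm, map_mul, aeval_X]; exact aeval_mul_word_eq_zero hQ
  have kill1 : ∀ g, P ∣ g → aeval (s * t) g = 0 := by
    rintro g ⟨r, rfl⟩
    rw [hP, show X ^ 2 * Q * r = X * Q * (X * r) by ring, map_mul, hst, zero_mul]
  have kill2 : ∀ g, P ∣ g → aeval (t * s) g = 0 := by
    rintro g ⟨r, rfl⟩
    rw [hP, show X ^ 2 * Q * r = X * (X * Q) * r by ring, map_mul, map_mul, aeval_X, mul_assoc t,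
      mul_aeval_comm, hst, zero_mul, mul_zero, zero_mul]
  have h00 := hent 0 0
  have h01 := hent 0 1
  have h10 := hent 1 0
  have h11 := hent 1 1
  simp at h00 h01 h10 h11
  have hdiv : aeval (s * t) ((B : Matrix (Fin 2) (Fin 2) k[X]) 1 0).divX = 0 := by
    obtain ⟨r, hr⟩ := h10
    rw [hr, hP, show X ^ 2 * Q * r = X * (X * Q * r) by ring,
      show (X * (X * Q * r) : k[X]).divX = X * Q * r by ext n; rw [coeff_divX, coeff_X_mul],
      map_mul, hst, zero_mul]
  have e01 := kill1 _ h01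
  rw [map_sub, sub_eq_zero] at e01
  rw [theta, kill1 _ h00, kill2 _ h11, hdiv, e01, mul_zero, add_zero, add_zero, add_zero]

omit hσ in
lemma word_smul_mem (hσ : σ ∈ minimalQuadraticElements G) (hk2 : (2 : k) ≠ 0) {Q : k[X]}
    (hQ : aeval (phi σ τ) Q = 0) (f : k[X])
    (hmem : AdjoinRoot.mk (X ^ 2 * Q) f ∈ upSet (k := k) hk2 (AdjoinRoot.root (X ^ 2 * Q))) :
    aeval (phi σ τ) f = 0 ∨ Function.Injective (aeval (phi σ τ) f) := by
  refine zero_or_injective hσ hτ fun a => ?_
  have h : AdjoinRoot.mk (X ^ 2 * Q) (C a * f) ∈ upSet (k := k) hk2 (AdjoinRoot.root (X ^ 2 * Q)) := by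
    rw [map_mul, AdjoinRoot.mk_C]
    have := (upSet (k := k) hk2 (AdjoinRoot.root (X ^ 2 * Q))).smul_mem a hmem
    rwa [Algebra.smul_def, AdjoinRoot.algebraMap_eq] at this
  obtain ⟨g, hg, e⟩ := word_mem hσ hτ hQ (C a * f) h
  exact ⟨g, hg, by rw [e, map_mul, aeval_C, mul_assoc, ← Algebra.smul_def]⟩

omit hσ hτ in
lemma isNilpotent_of_phi {n : ℕ} (h : (phi σ τ) ^ n = 0) : IsNilpotent (nil σ * nil τ) := by
  refine ⟨n + 1, LinearMap.ext fun m => ?_⟩
  have e := aeval_word_apply σ τ (X ^ n) (nil τ m)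
  simp only [map_pow, aeval_X, h, LinearMap.zero_apply, ZeroMemClass.coe_zero] at e
  rw [pow_succ, ← mul_assoc]
  exact e

/-- Every polynomial in `φ` is zero or injective; `φ` is injective. -/
theorem division_of_not_nilpotent (hk2 : ringChar k ≠ 2) (hk3 : Nat.card k ≠ 3)
    (hnil : ∀ n, (phi σ τ) ^ n ≠ 0) :
    Function.Injective (phi σ τ) ∧
      ∀ f : k[X], aeval (phi σ τ) f = 0 ∨ Function.Injective (aeval (phi σ τ) f) := by
  classical
  have h2 : (2 : k) ≠ 0 := two_ne_zero_of_char hk2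
  set φ := phi σ τ with hφ
  have hint : IsIntegral k φ := IsIntegral.of_finite k φ
  have hm0 : minpoly k φ ≠ 0 := minpoly.ne_zero hint
  rcases finite_or_infinite k with hk | hk
  swap
  · have hall : ∀ f : k[X], aeval φ f = 0 ∨ Function.Injective (aeval φ f) := fun f => by
      refine word_smul_mem hτ hσ h2 (Q := minpoly k φ) (minpoly.aeval k φ) f ?_
      rw [← AdjoinRoot.aeval_eq]
      exact upSet_eq_of_infinite h2
        (AdjoinRoot.isIntegral_root (mul_ne_zero (pow_ne_zero 2 X_ne_zero) hm0)) f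
    refine ⟨?_, hall⟩
    rcases hall X with h | h
    · rw [aeval_X] at h; exact absurd (by rw [pow_one, h]) (hnil 1)
    · rwa [aeval_X] at h
  obtain ⟨e, m₁, hm1, hm⟩ : ∃ e m₁, ¬ X ∣ m₁ ∧ minpoly k φ = X ^ e * m₁ := by
    obtain ⟨q, hq⟩ := Polynomial.exists_eq_pow_rootMultiplicity_mul_and_not_dvd (minpoly k φ) hm0 0
    exact ⟨_, q, by simpa using hq.2, by simpa using hq.1⟩
  set P := X ^ 2 * minpoly k φ with hP
  set P₀ : k[X] := X ^ (e + 2) with hP₀
  have hPeq : P = P₀ * m₁ := by rw [hP, hm, hP₀]; ring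
  have hP0 : P ≠ 0 := mul_ne_zero (pow_ne_zero 2 X_ne_zero) hm0
  have hm10 : m₁ ≠ 0 := fun h => hm1 (h ▸ dvd_zero _)
  have hm1u : ¬ IsUnit m₁ := by
    intro hu
    obtain ⟨c, hc0, hc⟩ := Polynomial.isUnit_iff.1 hu
    have h := minpoly.aeval k φ
    rw [hm, map_mul, map_pow, aeval_X, ← hc, aeval_C, ← Algebra.commutes] at h
    exact hnil e ((smul_eq_zero.1 (by rwa [Algebra.smul_def])).resolve_left hc0.ne_zero)
  have := Fintype.ofFinite k
  obtain ⟨p, hp⟩ := CharP.exists k
  have : Fact p.Prime := ⟨CharP.char_is_prime k p⟩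
  set R := AdjoinRoot P
  set R₁ := AdjoinRoot m₁
  set R₀ := AdjoinRoot P₀
  have hfin : ∀ q : k[X], q ≠ 0 → Finite (AdjoinRoot q) := fun q hq => by
    have : Module.Finite k (AdjoinRoot q) := (AdjoinRoot.powerBasis hq).finite
    exact Module.finite_of_finite k
  have : Finite R₁ := hfin m₁ hm10
  have : Finite R₀ := hfin P₀ (pow_ne_zero _ X_ne_zero)
  have : Nontrivial R₁ := AdjoinRoot.nontrivial _ (fun h => hm1u (by
    rw [Polynomial.isUnit_iff_degree_eq_zero]; exact h))
  have hPm₁ : aeval (AdjoinRoot.root m₁) P = 0 := by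
    rw [AdjoinRoot.aeval_eq, AdjoinRoot.mk_eq_zero, hPeq]; exact dvd_mul_left _ _
  have hPP₀ : aeval (AdjoinRoot.root P₀) P = 0 := by
    rw [AdjoinRoot.aeval_eq, AdjoinRoot.mk_eq_zero, hPeq]; exact dvd_mul_right _ _
  let q₁ : R →ₐ[k] R₁ := AdjoinRoot.liftAlgHom P (Algebra.ofId k R₁) (AdjoinRoot.root m₁) hPm₁
  let q₀ : R →ₐ[k] R₀ := AdjoinRoot.liftAlgHom P (Algebra.ofId k R₀) (AdjoinRoot.root P₀) hPP₀
  have hq1 : ∀ g, q₁ (AdjoinRoot.mk P g) = AdjoinRoot.mk m₁ g := fun g => by
    rw [← AdjoinRoot.aeval_eq, ← Polynomial.aeval_algHom_apply, ← AdjoinRoot.aeval_eq,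
      show q₁ (AdjoinRoot.root P) = AdjoinRoot.root m₁ from AdjoinRoot.liftAlgHom_root ..]
  have hq0 : ∀ g, q₀ (AdjoinRoot.mk P g) = AdjoinRoot.mk P₀ g := fun g => by
    rw [← AdjoinRoot.aeval_eq, ← Polynomial.aeval_algHom_apply, ← AdjoinRoot.aeval_eq,
      show q₀ (AdjoinRoot.root P) = AdjoinRoot.root P₀ from AdjoinRoot.liftAlgHom_root ..]
  have hq1root : q₁ (AdjoinRoot.root P) = AdjoinRoot.root m₁ :=
    (hq1 X).trans AdjoinRoot.mk_X
  set H := genGroup k (AdjoinRoot.root P)
  set π₀ := Matrix.SpecialLinearGroup.map (n := Fin 2) q₀.toRingHom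
  set π₁ := Matrix.SpecialLinearGroup.map (n := Fin 2) q₁.toRingHom
  set N : Subgroup SL(2, R₁) := (H ⊓ π₀.ker).map π₁ with hN
  have : CharP R₁ p := charP_of_injective_algebraMap (algebraMap k R₁).injective p
  have : CharP R₀ p := by
    have : Nontrivial R₀ := AdjoinRoot.nontrivial _ (by
      rw [hP₀, degree_X_pow]; exact_mod_cast Nat.succ_ne_zero (e + 1))
    exact charP_of_injective_algebraMap (algebraMap k R₀).injective p
  have hHimg : H.map π₁ = genGroup k (AdjoinRoot.root m₁) := by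
    rw [← hq1root]; exact map_genGroup q₁ _
  have hNH : N ≤ genGroup k (AdjoinRoot.root m₁) := hHimg ▸ Subgroup.map_mono inf_le_left
  have hNn : ∀ g ∈ genGroup k (AdjoinRoot.root m₁), ∀ x ∈ N, g * x * g⁻¹ ∈ N := by
    rw [← hHimg]
    rintro _ ⟨g, hg, rfl⟩ _ ⟨x, hx, rfl⟩
    exact ⟨g * x * g⁻¹, ⟨H.mul_mem (H.mul_mem hg hx.1) (H.inv_mem hg),
      (MonoidHom.normal_ker π₀).conj_mem x hx.2 g⟩, by simp⟩
  have hNd : ∀ c : kˣ, ∀ x ∈ N, (dg c : SL(2, R₁)) * x * (dg c)⁻¹ ∈ N := by
    rintro c _ ⟨x, hx, rfl⟩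
    refine ⟨dg c * x * (dg c)⁻¹, ⟨dg_conj_mem c hx.1, (MonoidHom.normal_ker π₀).conj_mem x hx.2 _⟩, ?_⟩
    have : π₁ (dg c) = dg c := by apply Gen2.ext2 <;> simp [π₁]
    rw [map_mul, map_mul, map_inv, this]
  have hidx : ∀ g ∈ genGroup k (AdjoinRoot.root m₁), ∃ a : ℕ, g ^ p ^ a ∈ N := by
    rw [← hHimg]
    rintro _ ⟨g, hg, rfl⟩
    set J : Ideal R₀ := Ideal.span {AdjoinRoot.root P₀}
    have hJn : J ^ (e + 2) = ⊥ := by
      rw [Ideal.span_singleton_pow, Ideal.span_singleton_eq_bot]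
      have : AdjoinRoot.mk P₀ (X ^ (e + 2)) = 0 := AdjoinRoot.mk_self
      rwa [map_pow, AdjoinRoot.mk_X] at this
    let π' := Matrix.SpecialLinearGroup.map (n := Fin 2) (Ideal.Quotient.mk J)
    have : CharP (R₀ ⧸ J) p := by
      have : Nontrivial (R₀ ⧸ J) := Ideal.Quotient.nontrivial_iff.2 fun htop => by
        have h1 : (J ^ (e + 2)) = ⊤ := by rw [htop]; exact Ideal.top_pow _ _
        have : Nontrivial R₀ := AdjoinRoot.nontrivial _ (by
          rw [hP₀, degree_X_pow]; exact_mod_cast Nat.succ_ne_zero (e + 1))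
        exact bot_ne_top (hJn.symm.trans h1)
      exact charP_of_injective_algebraMap (algebraMap k (R₀ ⧸ J)).injective p
    have htri : ∀ x ∈ H, ∃ b, π' (π₀ x) = up b := by
      intro x hx
      induction hx using Subgroup.closure_induction with
      | mem x hx =>
        rcases hx with ⟨c, rfl⟩ | ⟨c, rfl⟩
        · refine ⟨algebraMap k (R₀ ⧸ J) c, ?_⟩
          apply Gen2.ext2 <;> simp [π', π₀]
          exact (congrArg (Ideal.Quotient.mk J) (q₀.commutes c)).trans rfl
        · refine ⟨0, ?_⟩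
          have hJr : Ideal.Quotient.mk J (AdjoinRoot.root P₀) = 0 :=
            Ideal.Quotient.eq_zero_iff_mem.2 (Ideal.mem_span_singleton_self _)
          have hr : q₀ (AdjoinRoot.root P) = AdjoinRoot.root P₀ := (hq0 X).trans AdjoinRoot.mk_X
          apply Gen2.ext2 <;> simp [π', π₀, hr, hJr]
      | one => exact ⟨0, by simp [up_zero]⟩
      | mul x y _ _ hx hy =>
        obtain ⟨a, ha⟩ := hx; obtain ⟨b, hb⟩ := hy
        exact ⟨a + b, by rw [map_mul, map_mul, ha, hb, up_mul]⟩
      | inv x _ hx =>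
        obtain ⟨a, ha⟩ := hx
        exact ⟨-a, by rw [map_inv, map_inv, ha, up_inv]⟩
    obtain ⟨b, hb⟩ := htri g hg
    have hb' : π' (π₀ g ^ p) = 1 := by
      have hpow : ∀ n : ℕ, (up b : SL(2, R₀ ⧸ J)) ^ n = up ((n : R₀ ⧸ J) * b) := fun n => by
        induction n with
        | zero => simp [up_zero]
        | succ n ih => rw [pow_succ, ih, up_mul, Nat.cast_succ, add_mul, one_mul]
      rw [map_pow, hb, hpow, CharP.cast_eq_zero, zero_mul, up_zero]
    have h1 := pow_eq_one_of_congr p (g := π₀ g ^ p) hJn fun i j => by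
      rw [← Ideal.Quotient.eq_zero_iff_mem]
      have e1 := congrArg (fun z : SL(2, R₀ ⧸ J) => (z : Matrix (Fin 2) (Fin 2) (R₀ ⧸ J)) i j) hb'
      generalize π₀ g ^ p = x at e1 ⊢
      fin_cases i <;> fin_cases j <;> simp [π'] at e1 ⊢ <;> simp [e1]
    refine ⟨e + 2 + 1, g ^ p ^ (e + 2 + 1), ⟨H.pow_mem hg _, ?_⟩, map_pow _ _ _⟩
    show π₀ _ = 1
    rw [map_pow, pow_succ', pow_mul]
    exact h1
  have hlam : IsUnit (AdjoinRoot.root m₁) := by
    obtain ⟨a, b, hab⟩ := (Prime.coprime_iff_not_dvd Polynomial.prime_X).2 hm1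
    refine IsUnit.of_mul_eq_one (AdjoinRoot.mk m₁ a) ?_
    have := congrArg (AdjoinRoot.mk m₁) hab
    rw [map_add, map_mul, map_mul, AdjoinRoot.mk_self, mul_zero, add_zero, map_one,
      AdjoinRoot.mk_X] at this
    rw [mul_comm]; exact this
  have hgen : ∀ x : R₁, ∃ f : k[X], aeval (AdjoinRoot.root m₁) f = x := fun x => by
    obtain ⟨f, rfl⟩ := AdjoinRoot.mk_surjective x; exact ⟨f, AdjoinRoot.aeval_eq f⟩
  -- a lifted entry
  have hlift : ∀ b, up b ∈ N → ∃ f : k[X], AdjoinRoot.mk m₁ f = b ∧ X ^ e ∣ f ∧ (X ^ (e + 1) ∣ f) ∧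
      (aeval φ f = 0 ∨ Function.Injective (aeval φ f)) := by
    rintro b ⟨x, ⟨hxH, hx0⟩, hxb⟩
    have hker : π₀ x = 1 := hx0
    obtain ⟨f, hf⟩ := AdjoinRoot.mk_surjective ((x : Matrix (Fin 2) (Fin 2) R) 0 1)
    have hxup : x = up (AdjoinRoot.mk P f) := by
      -- an element is determined by its two images
      have hinj : ∀ y : R, q₀ y = 0 → q₁ y = 0 → y = 0 := by
        intro y
        obtain ⟨g, rfl⟩ := AdjoinRoot.mk_surjective y
        rw [hq0, hq1, AdjoinRoot.mk_eq_zero, AdjoinRoot.mk_eq_zero, AdjoinRoot.mk_eq_zero]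
        intro h0 h1
        rw [hPeq]
        exact ((Prime.coprime_iff_not_dvd Polynomial.prime_X).2 hm1).pow_left.mul_dvd h0 h1
      rw [hf]
      apply Subtype.ext
      ext i j
      refine sub_eq_zero.1 (hinj _ ?_ ?_)
      · have e0 := congrArg (fun z : SL(2, R₀) => (z : Matrix (Fin 2) (Fin 2) R₀) i j) hker
        fin_cases i <;> fin_cases j <;> simp [π₀] at e0 ⊢ <;> simp [e0]
      · have e1 := congrArg (fun z : SL(2, R₁) => (z : Matrix (Fin 2) (Fin 2) R₁) i j) hxb
        fin_cases i <;> fin_cases j <;> simp [π₁] at e1 ⊢ <;> simp [e1]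
    have hb : AdjoinRoot.mk m₁ f = b := by
      have e1 := congrArg (fun z : SL(2, R₁) => (z : Matrix (Fin 2) (Fin 2) R₁) 0 1) hxb
      simpa [π₁, hxup, hq1] using e1
    have h0 : P₀ ∣ f := by
      have e0 := congrArg (fun z : SL(2, R₀) => (z : Matrix (Fin 2) (Fin 2) R₀) 0 1) hker
      rw [← AdjoinRoot.mk_eq_zero, ← hq0, hf]
      simpa [π₀] using e0
    refine ⟨f, hb, (pow_dvd_pow X (by omega)).trans h0, (pow_dvd_pow X (by omega)).trans h0,
      word_smul_mem hτ hσ h2 (Q := minpoly k φ) (minpoly.aeval k φ) f ?_⟩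
    exact mem_upSet.2 (hxup ▸ hxH)
  have hres := field_or_nonunit (p := p) hk2 hk3 hlam hgen N hNH hNn hNd hidx
  have hinjX : ∀ f : k[X], X ∣ f → Function.Injective (aeval φ f) → Function.Injective φ := by
    rintro f ⟨g, rfl⟩ h
    rw [mul_comm, map_mul, aeval_X, Module.End.coe_mul] at h
    exact h.of_comp
  have hne0 : ∀ b f, AdjoinRoot.mk m₁ f = b → b ≠ 0 → aeval φ f ≠ 0 := fun b f hb hb0 h => by
    have hd := minpoly.dvd k φ h
    rw [hm] at hd
    exact hb0 (hb ▸ AdjoinRoot.mk_eq_zero.2 ((dvd_mul_left m₁ _).trans hd))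
  obtain ⟨hfield, b, hb0, hbN⟩ | ⟨b, hb0, hbu, hbN⟩ := hres
  · obtain ⟨f, hfb, -, hXf, hzi⟩ := hlift b hbN
    have hinj : Function.Injective φ := hinjX f ((dvd_pow_self X (Nat.succ_ne_zero e)).trans hXf)
      (hzi.resolve_left (hne0 b f hfb hb0))
    have he : e = 0 := by
      by_contra he
      have h := minpoly.aeval k φ
      rw [hm, map_mul, map_pow, aeval_X] at h
      have hm1z : aeval φ m₁ = 0 := by
        refine LinearMap.ext fun v => ?_
        have hv := LinearMap.congr_fun h v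
        rw [Module.End.mul_apply, LinearMap.zero_apply, Module.End.coe_pow] at hv
        exact (hinj.iterate e) (by rw [hv, LinearMap.zero_apply, iterate_map_zero])
      have hle := minpoly.degree_le_of_ne_zero k φ hm10 hm1z
      rw [hm, degree_mul, degree_X_pow, degree_eq_natDegree hm10] at hle
      have : e + m₁.natDegree ≤ m₁.natDegree := by exact_mod_cast hle
      omega
    refine ⟨hinj, fun g => ?_⟩
    rw [he, pow_zero, one_mul] at hm
    rcases eq_or_ne (AdjoinRoot.mk m₁ g) 0 with hg | hg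
    · obtain ⟨r, rfl⟩ := AdjoinRoot.mk_eq_zero.1 hg
      exact Or.inl (by rw [map_mul, ← hm, minpoly.aeval, zero_mul])
    · obtain ⟨y, hy⟩ := hfield.mul_inv_cancel hg
      obtain ⟨g', rfl⟩ := AdjoinRoot.mk_surjective y
      rw [← map_mul, ← map_one (AdjoinRoot.mk m₁), AdjoinRoot.mk_eq_mk] at hy
      obtain ⟨r, hr⟩ := hy
      have h1 : aeval φ g' * aeval φ g = 1 := by
        rw [← map_mul, mul_comm g', sub_eq_iff_eq_add.1 hr, map_add, map_mul, ← hm, minpoly.aeval,
          zero_mul, zero_add, map_one]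
      refine Or.inr fun a b hab => ?_
      simpa [hab] using (LinearMap.congr_fun h1 a).symm.trans
        ((congrArg (aeval φ g') hab).trans (LinearMap.congr_fun h1 b))
  · exfalso
    obtain ⟨f, hfb, -, hXf, hzi⟩ := hlift b hbN
    have hinjf := hzi.resolve_left (hne0 b f hfb hb0)
    -- a non-unit of a finite ring is a zero divisor
    obtain ⟨y, hy0, hy⟩ : ∃ y : R₁, y ≠ 0 ∧ b * y = 0 := by
      by_contra hall
      push Not at hall
      have hinjb : Function.Injective (fun y : R₁ => b * y) := fun y z hyz => by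
        by_contra hne
        exact hall (y - z) (sub_ne_zero.2 hne) (by simp only at hyz; rw [mul_sub, hyz, sub_self])
      obtain ⟨y, hy⟩ := (Finite.injective_iff_surjective.1 hinjb) 1
      exact hbu (IsUnit.of_mul_eq_one y hy)
    obtain ⟨g, rfl⟩ := AdjoinRoot.mk_surjective y
    have hfg : aeval φ (f * g) = 0 := by
      have hd : m₁ ∣ f * g := by
        rw [← AdjoinRoot.mk_eq_zero, map_mul, hfb, hy]
      obtain ⟨r, hr⟩ := hd
      obtain ⟨f', hf'⟩ := (pow_dvd_pow X (Nat.le_succ e)).trans hXf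
      have hdvd : minpoly k φ ∣ f * g := by
        rw [hm]
        exact ((Prime.coprime_iff_not_dvd Polynomial.prime_X).2 hm1).pow_left.mul_dvd
          ⟨f' * g, by rw [hf']; ring⟩ ⟨r, hr⟩
      obtain ⟨r', hr'⟩ := hdvd
      rw [hr', map_mul, minpoly.aeval, zero_mul]
    refine hne0 _ g rfl hy0 (LinearMap.ext fun v => hinjf ?_)
    rw [← Module.End.mul_apply, ← map_mul, hfg]
    simp

omit hτ in
/-- Every polynomial in `φ` is zero or injective; `φ` is injective. -/
theorem division (hτ : τ ∈ minimalQuadraticElements G) (hk2 : ringChar k ≠ 2) (hk3 : Nat.card k ≠ 3)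
    (hnu : ¬ IsUnipotentOn (Subgroup.closure (scalarFamily σ ∪ scalarFamily τ))) :
    Function.Injective (phi σ τ) ∧
      ∀ f : k[X], aeval (phi σ τ) f = 0 ∨ Function.Injective (aeval (phi σ τ) f) :=
  division_of_not_nilpotent hσ hτ.1 hk2 hk3 fun _ h =>
    hnu (unipotent_of_nilpotent hσ.1.2.1 hτ.1.2.1 (isNilpotent_of_phi h))

end Pair

end CfsgLib.RootSubgroups.QuadPair
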