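import Cfsg.Agent.RootSubgroups.QuadPair

/-! The group generated by two scalar families, not unipotent, is `SL₂` of the field of `φ`; the
decomposition `M = C ⊕ V ⊕ τV`. -/

set_option autoImplicit false

namespace CfsgLib.RootSubgroups.QuadPair

open Cfsg Matrix Polynomial
open CfsgLib.RootSubgroups.Gen2 CfsgLib.RootSubgroups.QuadWord
open scoped MatrixGroups

universe u

variable {k : Type u} [Field k] {M : Type u} [AddCommGroup M] [Module k M]
  [FiniteDimensional k M]
variable {G : Subgroup (LinearMap.GeneralLinearGroup k M)} {σ τ : LinearMap.GeneralLinearGroup k M}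

lemma aeval_apply_of_zero {f : Module.End k M} {m : M} (h : f m = 0) (q : k[X]) :
    aeval f q m = q.coeff 0 • m := by
  conv_lhs => rw [← divX_mul_X_add q]
  simp [h, Algebra.smul_def]

lemma aeval_st_coe (q : k[X]) (v : cspace σ) :
    aeval (nil σ * nil τ) q (v : M) = ((aeval (phi σ τ) q v : cspace σ) : M) :=
  (coe_aeval_phi σ τ q v).symm

lemma nil_coe {σ : LinearMap.GeneralLinearGroup k M} (h : IsQuadraticOn σ) (v : cspace σ) :
    nil σ (v : M) = 0 := by
  obtain ⟨m, hm⟩ := v.2
  rw [← hm]; exact nil_apply_nil h m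

section Decomposition

variable (hσ : σ ∈ minimalQuadraticElements G) (hτ : τ ∈ minimalQuadraticElements G)
  (hinj : Function.Injective (phi σ τ))

include hinj

lemma nil_tau_inj {v : cspace σ} (h : nil τ (v : M) = 0) : v = 0 := by
  apply hinj
  rw [map_zero]
  apply Subtype.ext
  show nil σ (nil τ (v : M)) = 0
  rw [h, map_zero]

lemma phi_surjective : Function.Surjective (phi σ τ) :=
  LinearMap.injective_iff_surjective.1 hinj

include hσ hτ

lemma exists_preimage_tau (m : M) : ∃ v : cspace σ, nil τ (v : M) = nil τ m := by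
  let f : cspace σ →ₗ[k] cspace τ :=
    (nil τ).restrict (q := cspace τ) (fun v _ => LinearMap.mem_range_self _ _)
  have hfi : Function.Injective f := by
    rw [← LinearMap.ker_eq_bot, Submodule.eq_bot_iff]
    intro v hv
    exact nil_tau_inj hinj (congrArg Subtype.val (LinearMap.mem_ker.1 hv))
  have hrank : Module.finrank k (cspace σ) = Module.finrank k (cspace τ) :=
    le_antisymm (hσ.2 τ hτ.1) (hτ.2 σ hσ.1)
  obtain ⟨v, hv⟩ := (LinearMap.injective_iff_surjective_of_finrank_eq_finrank hrank).1 hfi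
    ⟨nil τ m, LinearMap.mem_range_self _ _⟩
  exact ⟨v, congrArg Subtype.val hv⟩

/-- `M = C + V + τ V`. -/
lemma decompose (m : M) : ∃ (c : M) (v v' : cspace σ), nil σ c = 0 ∧ nil τ c = 0 ∧
    m = c + (v : M) + nil τ (v' : M) := by
  obtain ⟨v', hv'⟩ := phi_surjective hinj ⟨nil σ m, LinearMap.mem_range_self _ _⟩
  obtain ⟨v, hv⟩ := exists_preimage_tau hσ hτ hinj m
  refine ⟨m - v - nil τ (v' : M), v, v', ?_, ?_, by abel⟩
  · have e : nil σ (nil τ (v' : M)) = nil σ m := congrArg Subtype.val hv'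
    rw [map_sub, map_sub, nil_coe hσ.1.2.1, e, sub_zero, sub_self]
  · rw [map_sub, map_sub, nil_apply_nil hτ.1.2.1, hv, sub_self, sub_zero]

omit hτ in
/-- `V + τ V` is direct. -/
lemma sum_inj {v v' : cspace σ} (h : (v : M) + nil τ (v' : M) = 0) : v = 0 ∧ v' = 0 := by
  have h2 : phi σ τ v' = 0 := by
    apply Subtype.ext
    show nil σ (nil τ (v' : M)) = 0
    have := congrArg (nil σ) h
    rwa [map_add, nil_coe hσ.1.2.1, zero_add, map_zero] at this
  have hv' : v' = 0 := hinj (h2.trans (map_zero _).symm)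
  subst hv'
  simp at h
  exact ⟨h, rfl⟩

omit hinj in
lemma theta_fixed {B : SL(2, k[X])} (hB : Const1 B) {c : M} (h1 : nil σ c = 0) (h2 : nil τ c = 0) :
    theta (nil σ) (nil τ) B c = c := by
  have e1 : (nil σ * nil τ) c = 0 := by rw [Module.End.mul_apply, h2, map_zero]
  have e2 : (nil τ * nil σ) c = 0 := by rw [Module.End.mul_apply, h1, map_zero]
  simp [theta, aeval_apply_of_zero e1, aeval_apply_of_zero e2, hB.h00, hB.h11, h1, h2,
    LinearMap.map_smul]

omit hinj hτ in
lemma theta_V {B : SL(2, k[X])} (hB : Const1 B) (v : cspace σ) :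
    theta (nil σ) (nil τ) B (v : M) =
      ((aeval (phi σ τ) ((B : Matrix (Fin 2) (Fin 2) k[X]) 0 0) v : cspace σ) : M) +
        nil τ ((aeval (phi σ τ) ((B : Matrix (Fin 2) (Fin 2) k[X]) 1 0).divX v : cspace σ) : M) := by
  have e2 : (nil τ * nil σ) (v : M) = 0 := by rw [Module.End.mul_apply, nil_coe hσ.1.2.1, map_zero]
  simp only [theta, LinearMap.add_apply, Module.End.one_apply, Module.End.mul_apply, map_sub,
    map_one, LinearMap.sub_apply, aeval_apply_of_zero e2, nil_coe hσ.1.2.1, hB.h11, one_smul,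
    map_zero, sub_self, add_zero, aeval_st_coe]
  abel

omit hinj in
lemma theta_tV {B : SL(2, k[X])} (hB : Const1 B) (v : cspace σ) :
    theta (nil σ) (nil τ) B (nil τ (v : M)) =
      ((aeval (phi σ τ) (X * (B : Matrix (Fin 2) (Fin 2) k[X]) 0 1) v : cspace σ) : M) +
        nil τ ((aeval (phi σ τ) ((B : Matrix (Fin 2) (Fin 2) k[X]) 1 1) v : cspace σ) : M) := by
  have e1 : (nil σ * nil τ) (nil τ (v : M)) = 0 := by
    rw [Module.End.mul_apply, nil_apply_nil hτ.1.2.1, map_zero]
  have e3 : ∀ q : k[X], aeval (nil τ * nil σ) q (nil τ (v : M)) =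
      nil τ ((aeval (phi σ τ) q v : cspace σ) : M) := fun q => by
    rw [← aeval_st_coe, ← Module.End.mul_apply, ← mul_aeval_comm (nil τ) (nil σ),
      Module.End.mul_apply]
  have e4 : nil σ (nil τ (v : M)) = ((phi σ τ v : cspace σ) : M) := rfl
  simp only [theta, LinearMap.add_apply, Module.End.one_apply, Module.End.mul_apply, map_sub,
    map_one, LinearMap.sub_apply, aeval_apply_of_zero e1, nil_apply_nil hτ.1.2.1, hB.h00, one_smul,
    LinearMap.map_smul, smul_zero, map_zero, sub_self, add_zero, e3, e4, aeval_st_coe]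
  rw [mul_comm X, map_mul, aeval_X, Module.End.mul_apply]
  try simp only [map_sub, LinearMap.sub_apply, map_one, Module.End.one_apply, Submodule.coe_sub]
  abel

/-- A word is the identity iff its matrix is the identity modulo the minimal polynomial. -/
lemma theta_eq_one_iff {B : SL(2, k[X])} (hB : Const1 B)
    (hX : ¬ X ∣ minpoly k (phi σ τ)) :
    theta (nil σ) (nil τ) B = 1 ↔ ∀ i j, minpoly k (phi σ τ) ∣
      (B : Matrix (Fin 2) (Fin 2) k[X]) i j - (1 : Matrix (Fin 2) (Fin 2) k[X]) i j := by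
  set φ := phi σ τ
  have hzero : ∀ f : k[X], minpoly k φ ∣ f ↔ ∀ v, aeval φ f v = 0 := fun f => by
    rw [minpoly.dvd_iff, LinearMap.ext_iff]; rfl
  have hdiv : minpoly k φ ∣ ((B : Matrix (Fin 2) (Fin 2) k[X]) 1 0) ↔
      minpoly k φ ∣ ((B : Matrix (Fin 2) (Fin 2) k[X]) 1 0).divX := by
    have e : ((B : Matrix (Fin 2) (Fin 2) k[X]) 1 0) =
        X * ((B : Matrix (Fin 2) (Fin 2) k[X]) 1 0).divX := by
      conv_lhs => rw [← X_mul_divX_add ((B : Matrix (Fin 2) (Fin 2) k[X]) 1 0)]
      rw [hB.h10, map_zero, add_zero]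
    constructor
    · intro h
      rw [e] at h
      exact (((Prime.coprime_iff_not_dvd Polynomial.prime_X).2 hX).symm).dvd_of_dvd_mul_left h
    · intro h
      rw [e]; exact h.mul_left X
  have hmulX : minpoly k φ ∣ (B : Matrix (Fin 2) (Fin 2) k[X]) 0 1 ↔
      minpoly k φ ∣ X * (B : Matrix (Fin 2) (Fin 2) k[X]) 0 1 :=
    ⟨fun h => h.mul_left X,
      fun h => (((Prime.coprime_iff_not_dvd Polynomial.prime_X).2 hX).symm).dvd_of_dvd_mul_left h⟩
  constructor
  · intro h i j
    have hV : ∀ v, aeval φ ((B : Matrix (Fin 2) (Fin 2) k[X]) 0 0 - 1) v = 0 ∧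
        aeval φ ((B : Matrix (Fin 2) (Fin 2) k[X]) 1 0).divX v = 0 := fun v => by
      refine sum_inj hσ hinj ?_
      have e := (theta_V hσ hB v).symm.trans (LinearMap.congr_fun h (v : M))
      rw [Module.End.one_apply] at e
      simp only [map_sub, map_one, LinearMap.sub_apply, Module.End.one_apply, Submodule.coe_sub]
      rw [sub_add_eq_add_sub, sub_eq_zero]
      exact e
    have hT : ∀ v, aeval φ (X * (B : Matrix (Fin 2) (Fin 2) k[X]) 0 1) v = 0 ∧
        aeval φ ((B : Matrix (Fin 2) (Fin 2) k[X]) 1 1 - 1) v = 0 := fun v => by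
      refine sum_inj hσ hinj ?_
      have e := (theta_tV hσ hτ hB v).symm.trans (LinearMap.congr_fun h (nil τ (v : M)))
      rw [Module.End.one_apply] at e
      simp only [map_sub, map_one, LinearMap.sub_apply, Module.End.one_apply, Submodule.coe_sub]
      rw [← add_sub_assoc, sub_eq_zero]
      exact e
    have a00 := (hzero _).2 fun v => (hV v).1
    have a10 := hdiv.2 ((hzero _).2 fun v => (hV v).2)
    have a01 := hmulX.2 ((hzero _).2 fun v => (hT v).1)
    have a11 := (hzero _).2 fun v => (hT v).2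
    fin_cases i <;> fin_cases j <;> simp <;> assumption
  · intro h
    have a00 := (hzero _).1 (h 0 0)
    have a01 := h 0 1
    have a10 := h 1 0
    have a11 := (hzero _).1 (h 1 1)
    simp at a01 a10
    have b01 := (hzero _).1 (hmulX.1 a01)
    have b10 := (hzero _).1 (hdiv.1 a10)
    refine LinearMap.ext fun m => ?_
    obtain ⟨c, v, v', h1, h2, rfl⟩ := decompose hσ hτ hinj m
    rw [map_add, map_add, theta_fixed hσ hτ hB h1 h2, theta_V hσ hB, theta_tV hσ hτ hB,
      Module.End.one_apply]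
    have c00 := a00 v
    have c11 := a11 v'
    simp [sub_eq_zero] at c00 c11
    have d10 := b10 v
    have d01 := b01 v'
    simp [φ] at c00 c11 d10 d01
    simp [c00, c11, d10, d01]

end Decomposition

variable (hσ : σ ∈ minimalQuadraticElements G) (hτ : τ ∈ minimalQuadraticElements G)

include hσ hτ

/-- The pair group is `SL₂` over a simple algebraic extension. -/
theorem pair_iso (hk2 : ringChar k ≠ 2) (hk3 : Nat.card k ≠ 3)
    (hnu : ¬ IsUnipotentOn (Subgroup.closure (scalarFamily σ ∪ scalarFamily τ))) :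
    ∃ (K : Type u) (_ : Field K) (_ : Algebra k K) (lam : K), IsAlgebraic k lam ∧
      IntermediateField.adjoin k ({lam} : Set K) = ⊤ ∧
      Nonempty (↥(Subgroup.closure (scalarFamily σ ∪ scalarFamily τ)) ≃*
        Matrix.SpecialLinearGroup (Fin 2) K) := by
  classical
  obtain ⟨hinj, hdiv⟩ := division hσ hτ hk2 hk3 hnu
  set φ := phi σ τ with hφ
  have hint : IsIntegral k φ := IsIntegral.of_finite k φ
  have hm0 : minpoly k φ ≠ 0 := minpoly.ne_zero hint
  have : Nontrivial (Module.End k (cspace σ)) := by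
    refine ⟨0, 1, fun h => hσ.1.2.1.2 (LinearMap.ext fun m => ?_)⟩
    have := LinearMap.congr_fun h ⟨nil σ m, LinearMap.mem_range_self _ _⟩
    exact (congrArg Subtype.val this).symm
  have hirr : Irreducible (minpoly k φ) := by
    refine ⟨minpoly.not_isUnit k φ, fun a b hab => ?_⟩
    have h := minpoly.aeval k φ
    rw [hab, map_mul] at h
    have ha0 : a ≠ 0 := fun h => hm0 (by rw [hab, h, zero_mul])
    have hb0 : b ≠ 0 := fun h => hm0 (by rw [hab, h, mul_zero])
    rcases hdiv a with ha | ha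
    · refine Or.inr (Polynomial.isUnit_iff_degree_eq_zero.2 ?_)
      have hle := minpoly.degree_le_of_ne_zero k φ ha0 ha
      rw [hab, degree_mul, degree_eq_natDegree ha0, degree_eq_natDegree hb0] at hle
      rw [degree_eq_natDegree hb0]
      have : a.natDegree + b.natDegree ≤ a.natDegree := by exact_mod_cast hle
      exact_mod_cast (show b.natDegree = 0 by omega)
    · refine Or.inl (Polynomial.isUnit_iff_degree_eq_zero.2 ?_)
      have hbz : aeval φ b = 0 := LinearMap.ext fun v => ha (by
        rw [← Module.End.mul_apply, h]; simp)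
      have hle := minpoly.degree_le_of_ne_zero k φ hb0 hbz
      rw [hab, degree_mul, degree_eq_natDegree ha0, degree_eq_natDegree hb0] at hle
      rw [degree_eq_natDegree ha0]
      have : a.natDegree + b.natDegree ≤ b.natDegree := by exact_mod_cast hle
      exact_mod_cast (show a.natDegree = 0 by omega)
  have hX : ¬ X ∣ minpoly k φ := by
    intro hd
    have hassoc := (hirr.dvd_iff.1 hd).resolve_left Polynomial.not_isUnit_X
    have hXz : aeval φ (X : k[X]) = 0 := by
      obtain ⟨r, hr⟩ := hassoc.dvd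
      rw [hr, map_mul, minpoly.aeval, zero_mul]
    rw [aeval_X] at hXz
    obtain ⟨v, hv⟩ : ∃ v : cspace σ, v ≠ 0 := by
      by_contra hall
      push Not at hall
      exact hσ.1.2.1.2 (LinearMap.ext fun m =>
        congrArg Subtype.val (hall ⟨nil σ m, LinearMap.mem_range_self _ _⟩))
    exact hv (hinj (by rw [hXz]; rfl))
  have : Fact (Irreducible (minpoly k φ)) := ⟨hirr⟩
  set K := AdjoinRoot (minpoly k φ)
  set lam : K := AdjoinRoot.root (minpoly k φ)
  have hlint : IsIntegral k lam := AdjoinRoot.isIntegral_root hm0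
  refine ⟨K, inferInstance, inferInstance, lam, hlint.isAlgebraic, ?_, ?_⟩
  · rw [eq_top_iff]
    intro x _
    obtain ⟨f, rfl⟩ := AdjoinRoot.mk_surjective x
    rw [← AdjoinRoot.aeval_eq]
    exact IntermediateField.algebra_adjoin_le_adjoin k _ (Polynomial.aeval_mem_adjoin_singleton k lam)
  have hgen : ∀ x : K, ∃ f : k[X], aeval lam f = x := fun x => by
    obtain ⟨f, rfl⟩ := AdjoinRoot.mk_surjective x; exact ⟨f, AdjoinRoot.aeval_eq f⟩
  have hlne : lam ≠ 0 := fun h => hX (by
    have : AdjoinRoot.mk (minpoly k φ) (X : k[X]) = 0 := AdjoinRoot.mk_X.trans h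
    exact (hirr.associated_of_dvd Polynomial.irreducible_X (AdjoinRoot.mk_eq_zero.1 this)).symm.dvd)
  have htop := genGroup_eq_top hk2 hk3 hlne hlint hgen
  set hs := nil_sq hσ.1.2.1
  set ht := nil_sq hτ.1.2.1
  set f₁ := wordHom (k := k) hs ht
  let f₂ : genGroup k (X : k[X]) →* SL(2, K) :=
    (Matrix.SpecialLinearGroup.map (aeval lam : k[X] →ₐ[k] K).toRingHom).comp
      (genGroup k (X : k[X])).subtype
  have hf₂ : Function.Surjective f₂ := fun x => by
    have hx : x ∈ genGroup k (aeval lam (X : k[X]) : K) := by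
      rw [aeval_X, htop]; exact Subgroup.mem_top x
    rw [← map_genGroup] at hx
    obtain ⟨g, hg, rfl⟩ := hx
    exact ⟨⟨g, hg⟩, rfl⟩
  have hrange : f₁.range = Subgroup.closure (scalarFamily σ ∪ scalarFamily τ) := by
    refine le_antisymm ?_ ((Subgroup.closure_le _).2 ?_)
    · rintro _ ⟨g, rfl⟩; exact (wordHom_mem hσ hτ.1 g).1
    · rintro x (⟨c, hc⟩ | ⟨c, hc⟩)
      · exact ⟨⟨_, up_const_mem X c⟩, Units.ext ((theta_up_eq hs c).trans hc.symm)⟩
      · exact ⟨⟨_, lo_lam_mem X c⟩, Units.ext ((theta_lo_eq ht c).trans hc.symm)⟩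
  have hker : f₁.ker = f₂.ker := by
    ext ⟨g, hg⟩
    rw [MonoidHom.mem_ker, MonoidHom.mem_ker, Units.ext_iff, wordHom_apply, Units.val_one,
      theta_eq_one_iff hσ hτ hinj (const1_of_mem hs ht hg) hX]
    constructor
    · intro h
      apply Subtype.ext; ext i j
      show aeval lam ((g : Matrix (Fin 2) (Fin 2) k[X]) i j) = (1 : Matrix (Fin 2) (Fin 2) K) i j
      have := AdjoinRoot.mk_eq_mk.2 (h i j)
      rw [AdjoinRoot.aeval_eq, this]
      fin_cases i <;> fin_cases j <;> simp
    · intro h i j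
      rw [← AdjoinRoot.mk_eq_mk]
      have := congrArg (fun z : SL(2, K) => (z : Matrix (Fin 2) (Fin 2) K) i j) h
      change aeval lam ((g : Matrix (Fin 2) (Fin 2) k[X]) i j) = (1 : Matrix (Fin 2) (Fin 2) K) i j at this
      rw [AdjoinRoot.aeval_eq] at this
      rw [this]
      fin_cases i <;> fin_cases j <;> simp
  exact ⟨((MulEquiv.subgroupCongr hrange.symm).trans (QuotientGroup.quotientKerEquivRange f₁).symm).trans
    ((QuotientGroup.quotientMulEquivOfEq hker).trans
      (QuotientGroup.quotientKerEquivOfSurjective f₂ hf₂))⟩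

end CfsgLib.RootSubgroups.QuadPair
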