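import Cfsg.Agent.RootSubgroups.QuadPairTheorems

/-! Every class has an opposite conjugate. -/

set_option autoImplicit false

namespace CfsgLib.RootSubgroups.QuadPair

open Cfsg

universe u

variable {k : Type u} [Field k] {M : Type u} [AddCommGroup M] [Module k M]
  [FiniteDimensional k M]
variable {G : Subgroup (LinearMap.GeneralLinearGroup k M)} {σ τ : LinearMap.GeneralLinearGroup k M}

omit [FiniteDimensional k M] in
lemma coe_inv_apply (g : LinearMap.GeneralLinearGroup k M) (m : M) :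
    ((g⁻¹ : LinearMap.GeneralLinearGroup k M) : M →ₗ[k] M) ((g : M →ₗ[k] M) m) = m := by
  rw [← Module.End.mul_apply, Units.inv_mul, Module.End.one_apply]

omit [FiniteDimensional k M] in
lemma coe_apply_inv (g : LinearMap.GeneralLinearGroup k M) (m : M) :
    (g : M →ₗ[k] M) (((g⁻¹ : LinearMap.GeneralLinearGroup k M) : M →ₗ[k] M) m) = m := by
  rw [← Module.End.mul_apply, Units.mul_inv, Module.End.one_apply]

omit [FiniteDimensional k M] in
lemma Opp.conj (h : Opp σ τ) (g : LinearMap.GeneralLinearGroup k M) :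
    Opp (g * σ * g⁻¹) (g * τ * g⁻¹) := by
  have key : ∀ {x y : LinearMap.GeneralLinearGroup k M}, cspace x ⊓ LinearMap.ker (nil y) = ⊥ →
      cspace (g * x * g⁻¹) ⊓ LinearMap.ker (nil (g * y * g⁻¹)) = ⊥ := fun {x y} hxy => by
    refine (Submodule.eq_bot_iff _).2 ?_
    rintro m ⟨hm, hk⟩
    rw [conj_range] at hm
    obtain ⟨v, hv, rfl⟩ := hm
    rw [conj_ker] at hk
    have hk' : v ∈ LinearMap.ker (nil y) := coe_inv_apply g v ▸ hk
    rw [(Submodule.eq_bot_iff _).1 hxy v ⟨hv, hk'⟩, map_zero]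
  exact ⟨key h.1, key h.2⟩

omit [FiniteDimensional k M] in
/-- A normalised unipotent subgroup of an irreducible group is trivial. -/
lemma unipotent_normal_trivial (hirr : IsIrreducibleFor G)
    {N : Subgroup (LinearMap.GeneralLinearGroup k M)} (hu : IsUnipotentOn N)
    (hn : ∀ g ∈ G, conjBy N g = N) : N = ⊥ := by
  classical
  obtain ⟨⟨m₀, hm₀⟩, hinv⟩ := hirr
  set fl := unipFlag hu
  have hfix : fixedSubmodule N ≠ ⊥ := by
    obtain ⟨n, hn'⟩ := fl.top
    by_contra hbot
    have : ∀ t, fl.F t = ⊥ := fun t => by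
      induction t with
      | zero => exact fl.zero
      | succ t ih =>
        rw [eq_bot_iff, ← hbot]
        intro m hm
        simp only [fixedSubmodule, Submodule.mem_iInf, LinearMap.mem_ker]
        exact fun g hg => (Submodule.mem_bot k).1 (ih ▸ unipFlag_lowers hu hg t m hm)
    exact hm₀ ((Submodule.mem_bot k).1 (this n ▸ hn' ▸ Submodule.mem_top))
  have htop : fixedSubmodule N = ⊤ := by
    refine (hinv _ fun g hg m hm => ?_).resolve_left hfix
    simp only [fixedSubmodule, Submodule.mem_iInf, LinearMap.mem_ker] at hm ⊢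
    intro x hx
    have hx' : g⁻¹ * x * g ∈ N := by
      have := hn g hg
      rw [← this] at hx
      exact mem_conjBy.1 hx
    have hp := hm _ hx'
    rw [LinearMap.sub_apply, Module.End.one_apply, sub_eq_zero, Units.val_mul, Units.val_mul,
      Module.End.mul_apply, Module.End.mul_apply] at hp
    rw [LinearMap.sub_apply, Module.End.one_apply, sub_eq_zero]
    conv_rhs => rw [← hp, coe_apply_inv]
  rw [Subgroup.eq_bot_iff_forall]
  intro x hx
  refine Units.ext (LinearMap.ext fun m => ?_)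
  have hm : m ∈ fixedSubmodule N := htop ▸ Submodule.mem_top
  simp only [fixedSubmodule, Submodule.mem_iInf, LinearMap.mem_ker] at hm
  simpa [sub_eq_zero] using hm x hx

/-- No non-trivial normalised subgroup acts unipotently. -/
def Reduced (G : Subgroup (LinearMap.GeneralLinearGroup k M)) : Prop :=
  ∀ U : Subgroup (LinearMap.GeneralLinearGroup k M), U ≤ G → IsUnipotentOn U →
    (∀ g ∈ G, conjBy U g = U) → U = ⊥

omit [FiniteDimensional k M] in
lemma reduced_of_irreducible (hirr : IsIrreducibleFor G) : Reduced G :=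
  fun _ _ hu hn => unipotent_normal_trivial hirr hu hn

omit [FiniteDimensional k M] in
lemma unipotent_conj {V : Subgroup (LinearMap.GeneralLinearGroup k M)} (hV : IsUnipotentOn V)
    (g : LinearMap.GeneralLinearGroup k M) : IsUnipotentOn (conjBy V g) := by
  refine unipotent_of_flag (fl :=
    { F := fun t => ((unipFlag hV).F t).map (g : M →ₗ[k] M)
      zero := by rw [(unipFlag hV).zero, Submodule.map_bot]
      mono := fun t => Submodule.map_mono ((unipFlag hV).mono t)
      top := by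
        obtain ⟨n, hn⟩ := (unipFlag hV).top
        exact ⟨n, eq_top_iff.2 fun m _ => ⟨((g⁻¹ : LinearMap.GeneralLinearGroup k M) : M →ₗ[k] M) m,
          hn ▸ Submodule.mem_top, coe_apply_inv g m⟩⟩ }) ?_
  rintro _ ⟨v, hv, rfl⟩ t _ ⟨m, hm, rfl⟩
  refine ⟨nil v m, unipFlag_lowers hV hv t m hm, ?_⟩
  show _ = nil (g * v * g⁻¹) ((g : M →ₗ[k] M) m)
  rw [conj_val, conj_apply_comm]

/-- A normalised subgroup of a reduced group is reduced. -/
theorem reduced_of_normal (hG : Reduced G) {X : Subgroup (LinearMap.GeneralLinearGroup k M)}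
    (hX : X ≤ G) (hXn : ∀ g ∈ G, conjBy X g = X) : Reduced X := by
  intro U hU hu hn
  let W : Set (Subgroup (LinearMap.GeneralLinearGroup k M)) :=
    {V | V ≤ X ∧ IsUnipotentOn V ∧ ∀ x ∈ X, conjBy V x = V}
  have hWconj : ∀ V ∈ W, ∀ g ∈ G, conjBy V g ∈ W := fun V hV g hg =>
    ⟨(conjBy_mono hV.1 g).trans (hXn g hg).le, unipotent_conj hV.2.1 g, fun x hx => by
      have hx' : g⁻¹ * x * g ∈ X := by rw [← mem_conjBy, hXn g hg]; exact hx
      have := hV.2.2 _ hx'
      conv_rhs => rw [← this, conjBy_conjBy]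
      rw [conjBy_conjBy]
      congr 1; group⟩
  have huW : IsUnipotentOn (⨆ V ∈ W, V) :=
    unipotent_family (G := G) (fun V hV => hV.1.trans hX) (fun V hV V' hV' =>
      unipotent_sup_of_normalizes hV.2.1 hV'.2.1 fun v hv => hV.2.2 v (hV'.1 hv)) hWconj
  have hbot : (⨆ V ∈ W, V) = ⊥ := by
    refine hG _ (iSup₂_le fun V hV => hV.1.trans hX) huW fun g hg => ?_
    have key : ∀ g ∈ G, conjBy (⨆ V ∈ W, V) g ≤ ⨆ V ∈ W, V := fun g hg => by
      rw [conjBy, Subgroup.map_iSup]
      simp only [Subgroup.map_iSup]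
      exact iSup₂_le fun V hV => le_biSup (fun Z : Subgroup (LinearMap.GeneralLinearGroup k M) => Z)
        (i := conjBy V g) (hWconj V hV g hg)
    refine le_antisymm (key g hg) ?_
    have := conjBy_mono (key g⁻¹ (inv_mem hg)) g
    rwa [conjBy_conjBy_inv] at this
  exact eq_bot_iff.2 ((le_biSup (fun Z : Subgroup (LinearMap.GeneralLinearGroup k M) => Z)
    (show U ∈ W from ⟨hU, hu, hn⟩)).trans hbot.le)

variable (hk2 : ringChar k ≠ 2) (hk3 : Nat.card k ≠ 3)
  (hirr : Reduced G) (hσ : σ ∈ minimalQuadraticElements G)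

include hk2 hk3 hirr hσ

/-- Every class has an opposite conjugate. -/
theorem exists_opp : ∃ g ∈ G, Opp σ (g * σ * g⁻¹) := by
  by_contra hno
  push Not at hno
  set W : Set (Subgroup (LinearMap.GeneralLinearGroup k M)) :=
    {A | ∃ g ∈ G, A = sameActionSubgroup G (g * σ * g⁻¹)} with hW
  have hu : IsUnipotentOn (⨆ A ∈ W, A) := by
    refine unipotent_family (G := G) (fun A ⟨g, hg, e⟩ => e ▸ E_le (conj_minimal hσ hg)) ?_ ?_
    · rintro _ ⟨g, hg, rfl⟩ _ ⟨g', hg', rfl⟩
      refine (unipotent_or_rankOne hk2 hk3 (conj_minimal hσ hg) (conj_minimal hσ hg')).resolve_right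
        fun hop => ?_
      have := hop.conj g⁻¹
      rw [show g⁻¹ * (g * σ * g⁻¹) * g⁻¹⁻¹ = σ by group,
        show g⁻¹ * (g' * σ * g'⁻¹) * g⁻¹⁻¹ = (g⁻¹ * g') * σ * (g⁻¹ * g')⁻¹ by group] at this
      exact hno _ (mul_mem (inv_mem hg) hg') this
    · rintro _ ⟨g, hg, rfl⟩ g' hg'
      refine ⟨g' * g, mul_mem hg' hg, ?_⟩
      rw [conjBy_E (conj_minimal hσ hg) hg']
      simp only [mul_inv_rev, mul_assoc]
  have hbot : (⨆ A ∈ W, A) = ⊥ := by
    refine hirr _ (iSup₂_le fun A ⟨g, hg, e⟩ => e ▸ E_le (conj_minimal hσ hg)) hu fun g hg => ?_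
    have key : ∀ g ∈ G, conjBy (⨆ A ∈ W, A) g ≤ ⨆ A ∈ W, A := fun g hg => by
      rw [conjBy, Subgroup.map_iSup]
      simp only [Subgroup.map_iSup]
      refine iSup₂_le fun A hA => ?_
      obtain ⟨g', hg', rfl⟩ := hA
      refine le_biSup (fun Z : Subgroup _ => Z) ⟨g * g', mul_mem hg hg', ?_⟩
      rw [show (Subgroup.map (MulAut.conj g).toMonoidHom _) = conjBy _ g from rfl,
        conjBy_E (conj_minimal hσ hg') hg]
      simp only [mul_inv_rev, mul_assoc]
    refine le_antisymm (key g hg) ?_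
    have := conjBy_mono (key g⁻¹ (inv_mem hg)) g
    rwa [conjBy_conjBy_inv] at this
  have hmem : σ ∈ (⨆ A ∈ W, A) :=
    le_biSup (fun Z : Subgroup _ => Z) (show sameActionSubgroup G σ ∈ W from ⟨1, one_mem _, by simp⟩)
      ((mem_E hσ).2 (inRoot_self hσ.1))
  rw [hbot, Subgroup.mem_bot] at hmem
  exact quad_ne hσ.1.2.1 (by rw [hmem, nil_one])

end CfsgLib.RootSubgroups.QuadPair
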