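import Cfsg.Agent.RootSubgroups.QuadRootSet

/-! The components of the rank one graph on the classes of minimal elements. -/

set_option autoImplicit false

namespace CfsgLib.RootSubgroups.QuadPair

open Cfsg

universe u

variable {k : Type u} [Field k] {M : Type u} [AddCommGroup M] [Module k M]
  [FiniteDimensional k M]
variable {G : Subgroup (LinearMap.GeneralLinearGroup k M)}
  {A B C : Subgroup (LinearMap.GeneralLinearGroup k M)}

local notation "𝒬" => quadraticRootSubgroups G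

/-- The component of a class. -/
def comp (G : Subgroup (LinearMap.GeneralLinearGroup k M))
    (A : Subgroup (LinearMap.GeneralLinearGroup k M)) : Set (Subgroup (LinearMap.GeneralLinearGroup k M)) :=
  componentOf (FAdj (quadraticRootSubgroups G)) (quadraticRootSubgroups G) A

/-- The group generated by a component. -/
def compGroup (G : Subgroup (LinearMap.GeneralLinearGroup k M))
    (A : Subgroup (LinearMap.GeneralLinearGroup k M)) : Subgroup (LinearMap.GeneralLinearGroup k M) :=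
  ⨆ B ∈ comp G A, B

omit [FiniteDimensional k M] in
lemma comp_self (hA : A ∈ 𝒬) : A ∈ comp G A := ⟨hA, .refl⟩

omit [FiniteDimensional k M] in
lemma le_compGroup (hB : B ∈ comp G A) : B ≤ compGroup G A :=
  le_biSup (fun Z : Subgroup _ => Z) hB

omit [FiniteDimensional k M] in
lemma compGroup_le_sup : compGroup G A ≤ ⨆ B ∈ 𝒬, B :=
  biSup_mono fun _ hB => hB.1

lemma sup_root_le : (⨆ B ∈ 𝒬, B) ≤ G := iSup₂_le fun _ hB => root_le hB

variable (hk2 : ringChar k ≠ 2) (hk3 : Nat.card k ≠ 3) (hirr : Reduced G)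

include hk2 hk3 hirr

theorem commute_of_not_reach' (hA : A ∈ 𝒬) (hB : B ∈ 𝒬)
    (h : ¬ Relation.ReflTransGen (FAdj 𝒬) A B) : ∀ a ∈ A, ∀ b ∈ B, a * b = b * a := by
  set X := ⨆ B ∈ quadraticRootSubgroups G, B
  have hle : ∀ C ∈ quadraticRootSubgroups G, C ≤ X := fun C hC =>
    le_biSup (fun Z : Subgroup (LinearMap.GeneralLinearGroup k M) => Z) hC
  have hS := root_set hk2 hk3 hirr
  have hall : ∀ P ∈ ((fun C : Subgroup (LinearMap.GeneralLinearGroup k M) => C.subgroupOf X) ''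
      quadraticRootSubgroups G),
      ∃ D, D ∈ ((fun C : Subgroup (LinearMap.GeneralLinearGroup k M) => C.subgroupOf X) ''
        quadraticRootSubgroups G) ∧ IsRankOnePair P D := by
    rintro _ ⟨C, hC, rfl⟩
    obtain ⟨D, hD, hr⟩ := root_partner hk2 hk3 hirr hC
    exact ⟨_, ⟨D, hD, rfl⟩, rankOnePair_subgroupOf hr (hle C hC) (hle D hD)⟩
  intro a ha b hb
  exact congrArg Subtype.val (RootSubgroups.commute_of_not_reach hS hall ⟨A, hA, rfl⟩ ⟨B, hB, rfl⟩
    (fun hr => h (Transport.reach_of_subgroupOf hle hA hB hr)) ⟨a, hle A hA ha⟩ ha ⟨b, hle B hB hb⟩ hb)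

theorem commCase_reach (hA : A ∈ 𝒬) (hB : B ∈ 𝒬) (hc : RootCommutatorCase 𝒬 A B) :
    Relation.ReflTransGen (FAdj 𝒬) A ⁅A, B⁆ := by
  by_contra hnr
  have hne : ⁅A, B⁆ ≠ ⊥ := root_ne_bot hc.1
  have hAB : Relation.ReflTransGen (FAdj 𝒬) A B := by
    by_contra h
    exact hne (commutator_eq_bot_iff_comm.2 (commute_of_not_reach' hk2 hk3 hirr hA hB h))
  obtain ⟨D, hD, hr⟩ := root_partner hk2 hk3 hirr hc.1
  have hAD : ¬ Relation.ReflTransGen (FAdj 𝒬) A D := fun h =>
    hnr (h.tail ⟨hD, hc.1, RankOnePair_symm hr⟩)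
  have h1 := commute_of_not_reach' hk2 hk3 hirr hA hD hAD
  have h2 := commute_of_not_reach' hk2 hk3 hirr hB hD fun h => hAD (hAB.trans h)
  refine rankOnePair_not_commute hr (commutator_eq_bot_iff_comm.2 fun c hcc d hd => ?_)
  have hle : ⁅A, B⁆ ≤ Subgroup.centralizer (D : Set (LinearMap.GeneralLinearGroup k M)) :=
    Subgroup.commutator_le.2 fun a ha b hb => by
      rw [commutatorElement_def]
      have ha' : a ∈ Subgroup.centralizer (D : Set (LinearMap.GeneralLinearGroup k M)) :=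
        Subgroup.mem_centralizer_iff.2 fun d hd => (h1 a ha d hd).symm
      have hb' : b ∈ Subgroup.centralizer (D : Set (LinearMap.GeneralLinearGroup k M)) :=
        Subgroup.mem_centralizer_iff.2 fun d hd => (h2 b hb d hd).symm
      exact mul_mem (mul_mem (mul_mem ha' hb') (inv_mem ha')) (inv_mem hb')
  exact (Subgroup.mem_centralizer_iff.1 (hle hcc) d hd).symm

omit hk2 hk3 hirr in
lemma reach_conj {g : LinearMap.GeneralLinearGroup k M} (hg : g ∈ G)
    (h : Relation.ReflTransGen (FAdj 𝒬) A B) :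
    Relation.ReflTransGen (FAdj 𝒬) (conjBy A g) (conjBy B g) := by
  induction h with
  | refl => exact .refl
  | tail _ hbc ih =>
    exact ih.tail ⟨root_conj hbc.1 hg, root_conj hbc.2.1 hg, rankOnePair_conj hbc.2.2 g⟩

/-- Conjugation by `G₀` keeps every component. -/
theorem reach_conj_self (hA : A ∈ 𝒬) {x : LinearMap.GeneralLinearGroup k M}
    (hx : x ∈ ⨆ B ∈ 𝒬, B) : Relation.ReflTransGen (FAdj 𝒬) A (conjBy A x) := by
  let P : Subgroup (LinearMap.GeneralLinearGroup k M) :=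
    { carrier := {g | g ∈ G ∧ ∀ X ∈ quadraticRootSubgroups G,
        Relation.ReflTransGen (FAdj (quadraticRootSubgroups G)) X (conjBy X g)}
      one_mem' := ⟨one_mem G, fun X _ => by rw [conjBy_one]⟩
      mul_mem' := fun {g h} hg hh => ⟨mul_mem hg.1 hh.1, fun X hX => by
        rw [← conjBy_conjBy]; exact (hh.2 X hX).trans (hg.2 _ (root_conj hX hh.1))⟩
      inv_mem' := fun {g} hg => ⟨inv_mem hg.1, fun X hX => by
        have := hg.2 _ (root_conj hX (inv_mem hg.1))
        rw [conjBy_conjBy_inv] at this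
        exact fReach_symm this⟩ }
  suffices h : (⨆ B ∈ quadraticRootSubgroups G, B) ≤ P from (h hx).2 A hA
  refine iSup₂_le fun E hE e he => ⟨root_le hE he, fun X hX => ?_⟩
  by_cases hr : Relation.ReflTransGen (FAdj (quadraticRootSubgroups G)) X E
  · have h1 := reach_conj (root_le hE he) hr
    rw [conjBy_of_mem he] at h1
    exact hr.trans (fReach_symm h1)
  · rw [conjBy_eq_of_commute fun x hx =>
      (commute_of_not_reach' hk2 hk3 hirr hX hE hr x hx e he).symm]

theorem comp_conj (hB : B ∈ comp G A) {x : LinearMap.GeneralLinearGroup k M}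
    (hx : x ∈ ⨆ B ∈ 𝒬, B) : conjBy B x ∈ comp G A :=
  ⟨root_conj hB.1 (sup_root_le hx), hB.2.trans (reach_conj_self hk2 hk3 hirr hB.1 hx)⟩

/-- A class lies in the derived group of its rank one groups. -/
theorem le_derived (hA : A ∈ 𝒬) (hB : B ∈ 𝒬) (hr : IsRankOnePair A B) :
    A ≤ ⁅A ⊔ B, A ⊔ B⁆ := by
  obtain ⟨σ, hσ, rfl⟩ := hA
  obtain ⟨τ, hτ, rfl⟩ := hB
  have hop := opp_of_rankOne hk2 hk3 hirr hσ hτ hr
  obtain ⟨c, hc0, hc1⟩ : ∃ c : k, c ≠ 0 ∧ c ^ 2 ≠ 1 := by
    by_contra hall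
    push Not at hall
    have hsub : (Set.univ : Set k) ⊆ {0, 1, -1} := fun c _ => by
      by_cases h : c = 0
      · simp [h]
      · rcases sq_eq_one_iff.1 (hall c h) with h' | h' <;> simp [h']
    have : Finite k := Set.finite_univ_iff.1 ((by simp : ({0, 1, -1} : Set k).Finite).subset hsub)
    have h4 := Gen2.four_lt_card_of hk2 hk3
    have := Set.ncard_le_ncard hsub (by simp)
    rw [Set.ncard_univ] at this
    have h5 := Set.ncard_insert_le (0 : k) {1, -1}
    have h6 := Set.ncard_insert_le (1 : k) {-1}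
    rw [Set.ncard_singleton] at h6
    omega
  intro x hx
  set X := sameActionSubgroup G σ ⊔ sameActionSubgroup G τ with hXdef
  have hx2 : c ^ 2 - 1 ≠ 0 := sub_ne_zero.2 hc1
  rcases eq_or_ne x 1 with rfl | hx1
  · exact one_mem _
  set a := (c ^ 2 - 1)⁻¹ • nil x with ha
  have haR : InRoot G σ a := ((mem_E hσ).1 hx).smul _
  have ha0 : a ≠ 0 := smul_ne_zero (inv_ne_zero hx2) fun h => hx1 (nil_eq_zero_iff.1 h)
  obtain ⟨b, hbR, hb0, haba, hbab⟩ := exists_inverse hk2 hk3 hσ hτ hop haR ha0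
  have haa : a * a = 0 := InRoot.mul_eq_zero hσ haR haR
  have hbb : b * b = 0 := InRoot.mul_eq_zero hτ hbR hbR
  -- the Weyl elements of `(s • a, s⁻¹ • b)`
  have hw : ∀ s : k, s ≠ 0 → ∃ w ∈ X, (w : M →ₗ[k] M) * a = ((-(s⁻¹ * s⁻¹)) • b) * (w : M →ₗ[k] M) ∧
      (w : M →ₗ[k] M) * b = (-(s * s)) • a * (w : M →ₗ[k] M) := by
    intro s hs
    obtain ⟨g, -, eg⟩ := (haR.smul s).2.2.exists_elem
    obtain ⟨h, -, eh⟩ := (hbR.smul s⁻¹).2.2.exists_elem
    have hg : g ∈ X := Subgroup.mem_sup_left ((mem_E hσ).2 (eg ▸ haR.smul s))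
    have hh : h ∈ X := Subgroup.mem_sup_right ((mem_E hτ).2 (eh ▸ hbR.smul s⁻¹))
    refine ⟨g * h⁻¹ * g, mul_mem (mul_mem hg (inv_mem hh)) hg, ?_⟩
    have e : ((g * h⁻¹ * g : LinearMap.GeneralLinearGroup k M) : M →ₗ[k] M) =
        1 + s • a - s⁻¹ • b - a * b - b * a := by
      have hgg : nil h * nil h = 0 := by rw [eh, smul_mul_smul_comm, hbb, smul_zero]
      rw [coe_eq_one_add, nil_mul, nil_mul, nil_inv hgg, eg, eh]
      simp only [mul_neg, neg_mul, add_mul, smul_add, smul_neg, smul_mul_assoc, mul_smul_comm, smul_smul, haa, haba,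
        smul_zero, mul_inv_cancel₀ hs, inv_mul_cancel₀ hs, one_smul]
      abel
    rw [e]
    have k1 : s * s * (s⁻¹ * s⁻¹) = 1 := by field_simp
    constructor
    · simp only [add_mul, sub_mul, mul_add, mul_sub, one_mul, mul_one, smul_mul_assoc,
        mul_smul_comm, haa, haba, mul_assoc b a a, hbb, ← mul_assoc, hbab, smul_zero, zero_mul,
        mul_zero, smul_smul]
      rw [show s * -(s⁻¹ * s⁻¹) = -s⁻¹ by field_simp]
      module
    · simp only [add_mul, sub_mul, mul_add, mul_sub, one_mul, mul_one, smul_mul_assoc,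
        mul_smul_comm, haa, haba, mul_assoc a b b, hbb, ← mul_assoc, hbab, smul_zero, zero_mul,
        mul_zero, smul_smul]
      rw [show s⁻¹ * -(s * s) = -s by field_simp]
      module
  obtain ⟨w, hwX, -, hwb⟩ := hw 1 one_ne_zero
  obtain ⟨w', hw'X, -, hwb'⟩ := hw c hc0
  set t := w' * w⁻¹ with ht
  have htX : t ∈ X := mul_mem hw'X (inv_mem hwX)
  obtain ⟨y, -, ey⟩ := haR.2.2.exists_elem
  have hy : y ∈ sameActionSubgroup G σ := (mem_E hσ).2 (ey ▸ haR)
  have hconj : nil (t * y * t⁻¹) = (c ^ 2) • a := by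
    have e1 : ((w⁻¹ : LinearMap.GeneralLinearGroup k M) : M →ₗ[k] M) * a * (w : M →ₗ[k] M) = -b := by
      rw [one_mul, neg_smul, one_smul] at hwb
      have : a * (w : M →ₗ[k] M) = -((w : M →ₗ[k] M) * b) := by rw [hwb, neg_mul, neg_neg]
      rw [mul_assoc, this, mul_neg, ← mul_assoc, Units.inv_mul, one_mul]
    rw [conj_val, ey, ht, Units.val_mul, mul_inv_rev, inv_inv, Units.val_mul,
      show (w' : M →ₗ[k] M) * ((w⁻¹ : LinearMap.GeneralLinearGroup k M) : M →ₗ[k] M) * a *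
        ((w : M →ₗ[k] M) * ((w'⁻¹ : LinearMap.GeneralLinearGroup k M) : M →ₗ[k] M)) =
        (w' : M →ₗ[k] M) * (((w⁻¹ : LinearMap.GeneralLinearGroup k M) : M →ₗ[k] M) * a * (w : M →ₗ[k] M)) *
          ((w'⁻¹ : LinearMap.GeneralLinearGroup k M) : M →ₗ[k] M) by simp only [mul_assoc],
      e1, mul_neg, hwb', neg_smul, neg_mul, neg_mul, neg_mul, neg_neg, mul_assoc, Units.mul_inv, mul_one, sq]
  have hmem : t * y * t⁻¹ * y⁻¹ ∈ ⁅X, X⁆ :=
    Subgroup.commutator_mem_commutator htX (Subgroup.mem_sup_left hy)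
  have hxe : t * y * t⁻¹ * y⁻¹ = x := nil_injective (by
    have hyy : nil y * nil y = 0 := by rw [ey, haa]
    rw [nil_mul, hconj, nil_inv hyy, ey, mul_neg, smul_mul_assoc, haa, smul_zero, neg_zero,
      add_zero, ← sub_eq_add_neg, ← one_smul k a, smul_smul, ← sub_smul, mul_one, ha, smul_smul,
      mul_inv_cancel₀ hx2, one_smul])
  rwa [hxe] at hmem

omit hk2 hk3 in
/-- A unipotent subgroup normalised by `G₀` is trivial. -/
theorem radical_trivial {U : Subgroup (LinearMap.GeneralLinearGroup k M)} (hU : U ≤ ⨆ B ∈ 𝒬, B)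
    (hu : IsUnipotentOn U) (hn : ∀ x ∈ (⨆ B ∈ 𝒬, B), conjBy U x = U) : U = ⊥ := by
  set X := ⨆ B ∈ quadraticRootSubgroups G, B with hXdef
  refine reduced_of_normal hirr sup_root_le (fun g hg => ?_) U hU hu hn
  have key : ∀ g ∈ G, conjBy X g ≤ X := fun g hg => by
    rw [hXdef, conjBy, Subgroup.map_iSup]
    simp only [Subgroup.map_iSup]
    exact iSup₂_le fun E hE =>
      le_biSup (fun Z : Subgroup (LinearMap.GeneralLinearGroup k M) => Z) (root_conj hE hg)
  refine le_antisymm (key g hg) ?_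
  have := conjBy_mono (key g⁻¹ (inv_mem hg)) g
  rwa [conjBy_conjBy_inv] at this

end CfsgLib.RootSubgroups.QuadPair
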