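import Cfsg.Agent.RootSubgroups.Basic

/-! Rank one pairs: the action on the conjugates, partners, the normal subgroup dichotomy. -/

set_option autoImplicit false

namespace CfsgLib.RootSubgroups

open Cfsg

variable {G : Type*} [Group G] {A B : Subgroup G}

lemma unip_left_mem (A B : Subgroup G) : A ∈ unipotentSubgroups A B :=
  ⟨1, one_mem _, (conjBy_one A).symm⟩

lemma unip_conj_mem {C : Subgroup G} (hC : C ∈ unipotentSubgroups A B) {x : G} (hx : x ∈ A ⊔ B) :
    conjBy C x ∈ unipotentSubgroups A B := by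
  obtain ⟨y, hy, rfl⟩ := hC
  exact ⟨x * y, mul_mem hx hy, by rw [conjBy_conjBy]⟩

lemma unip_le {C : Subgroup G} (hC : C ∈ unipotentSubgroups A B) : C ≤ A ⊔ B := by
  obtain ⟨x, hx, rfl⟩ := hC
  intro z hz
  rw [mem_conjBy] at hz
  have h2 : x⁻¹ * z * x ∈ A ⊔ B := (le_sup_left : A ≤ A ⊔ B) hz
  have h3 := mul_mem (mul_mem hx h2) (inv_mem hx)
  simpa [mul_assoc] using h3

section Pair

variable (h : IsRankOnePair A B)
include h

lemma right_ne_bot : B ≠ ⊥ := by
  intro hB
  apply h.ne
  rw [hB, Subgroup.eq_bot_iff_forall]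
  intro a ha
  by_contra ha1
  obtain ⟨b, hb, hb1, -⟩ := h.cond_left a ha ha1
  rw [hB, Subgroup.mem_bot] at hb
  exact hb1 hb

lemma left_ne_bot : A ≠ ⊥ := right_ne_bot (RankOnePair_symm h)

lemma exists_ne_one_left : ∃ a ∈ A, a ≠ 1 := by
  by_contra hc
  push Not at hc
  exact left_ne_bot h ((Subgroup.eq_bot_iff_forall A).mpr hc)

lemma exists_ne_one_right : ∃ b ∈ B, b ≠ 1 := exists_ne_one_left (RankOnePair_symm h)

/-- No non-identity element of `A` fixes `B`. -/
lemma eq_one_of_fix {a : G} (ha : a ∈ A) (hfix : conjBy B a = B) : a = 1 := by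
  by_contra ha1
  obtain ⟨b, hb, -, heq⟩ := h.cond_left a ha ha1
  rw [conjBy_inv_eq_self hfix] at heq
  apply h.ne
  have := congrArg (fun C => conjBy C b) heq
  simp only [conjBy_conjBy_inv] at this
  rw [this, conjBy_of_mem hb]

lemma eq_one_of_fix' {b : G} (hb : b ∈ B) (hfix : conjBy A b = A) : b = 1 :=
  eq_one_of_fix (RankOnePair_symm h) hb hfix

lemma inf_normalizer : A ⊓ Subgroup.normalizer (B : Set G) = ⊥ := by
  rw [Subgroup.eq_bot_iff_forall]
  intro a ⟨ha, hn⟩
  exact eq_one_of_fix h ha (conjBy_eq_self_iff.mpr hn)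

lemma inf_eq_bot : A ⊓ B = ⊥ := by
  rw [Subgroup.eq_bot_iff_forall]
  intro a ⟨ha, hb⟩
  exact eq_one_of_fix h ha (conjBy_of_mem hb)

lemma right_mem : B ∈ unipotentSubgroups A B := by
  obtain ⟨a, ha, ha1⟩ := exists_ne_one_left h
  obtain ⟨b, hb, -, heq⟩ := h.cond_left a ha ha1
  refine ⟨a * b⁻¹, mul_mem ((le_sup_left : A ≤ A ⊔ B) ha)
    ((le_sup_right : B ≤ A ⊔ B) (inv_mem hb)), ?_⟩
  rw [← conjBy_conjBy, heq, conjBy_conjBy_inv]

lemma unique_partner {a b b' : G} (hb : b ∈ B) (hb' : b' ∈ B)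
    (e : conjBy A b⁻¹ = conjBy B a⁻¹) (e' : conjBy A b'⁻¹ = conjBy B a⁻¹) : b = b' := by
  have h1 : conjBy A (b' * b⁻¹) = A := by
    rw [← conjBy_conjBy, e, ← e', conjBy_conjBy_inv]
  have := eq_one_of_fix' h (mul_mem hb' (inv_mem hb)) h1
  exact (mul_inv_eq_one.mp this).symm

lemma unique_partner' {a a' b : G} (ha : a ∈ A) (ha' : a' ∈ A)
    (e : conjBy A b⁻¹ = conjBy B a⁻¹) (e' : conjBy A b⁻¹ = conjBy B a'⁻¹) : a = a' :=
  unique_partner (RankOnePair_symm h) ha ha' e.symm e'.symm

lemma conjBy_right_ne_left (g : G) (hg : g ∈ A) : conjBy B g ≠ A := by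
  intro he
  apply h.ne
  have := congrArg (fun C => conjBy C g⁻¹) he
  simp only [conjBy_inv_conjBy] at this
  rw [this, conjBy_of_mem (inv_mem hg)]

/-- The description `Ω = {A} ∪ {B^a | a ∈ A}`. -/
lemma unip_iff {C : Subgroup G} :
    C ∈ unipotentSubgroups A B ↔ C = A ∨ ∃ a ∈ A, C = conjBy B a := by
  constructor
  · rintro ⟨x, hx, rfl⟩
    have key : ∀ g : G, g ∈ (A : Set G) ∪ (B : Set G) → ∀ C : Subgroup G,
        (C = A ∨ ∃ a ∈ A, C = conjBy B a) →
        (conjBy C g = A ∨ ∃ a ∈ A, conjBy C g = conjBy B a) := by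
      intro g hg C hC
      rcases hg with hg | hg
      · rcases hC with rfl | ⟨a, ha, rfl⟩
        · exact Or.inl (conjBy_of_mem hg)
        · exact Or.inr ⟨g * a, mul_mem hg ha, conjBy_conjBy _ _ _⟩
      · -- conjugates of `A` under `B`
        have hAB : ∀ b ∈ B, conjBy A b = A ∨ ∃ a ∈ A, conjBy A b = conjBy B a := by
          intro b hb
          by_cases hb1 : b = 1
          · left; rw [hb1, conjBy_one]
          · obtain ⟨a, ha, -, he⟩ := h.cond_right b⁻¹ (inv_mem hb) (inv_ne_one.mpr hb1)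
            rw [inv_inv] at he
            exact Or.inr ⟨a⁻¹, inv_mem ha, he.symm⟩
        rcases hC with rfl | ⟨a, ha, rfl⟩
        · exact hAB g hg
        · by_cases ha1 : a = 1
          · rw [ha1, conjBy_one]
            exact Or.inr ⟨1, one_mem _, by rw [conjBy_of_mem hg, conjBy_one]⟩
          · obtain ⟨b, hb, -, he⟩ := h.cond_left a⁻¹ (inv_mem ha) (inv_ne_one.mpr ha1)
            rw [inv_inv] at he
            rw [← he, conjBy_conjBy]
            exact hAB _ (mul_mem hg (inv_mem hb))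
    have hx' : x ∈ Subgroup.closure ((A : Set G) ∪ (B : Set G)) := by
      rwa [Subgroup.closure_union, Subgroup.closure_eq, Subgroup.closure_eq]
    suffices ∀ C : Subgroup G, (C = A ∨ ∃ a ∈ A, C = conjBy B a) →
        (conjBy C x = A ∨ ∃ a ∈ A, conjBy C x = conjBy B a) from this A (Or.inl rfl)
    refine Subgroup.closure_induction_left (p := fun y _ => ∀ C : Subgroup G,
      (C = A ∨ ∃ a ∈ A, C = conjBy B a) →
      (conjBy C y = A ∨ ∃ a ∈ A, conjBy C y = conjBy B a)) ?_ ?_ ?_ hx'
    · intro C hC; rwa [conjBy_one]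
    · intro g hg y _ ih C hC
      rw [← conjBy_conjBy]
      exact key g hg _ (ih C hC)
    · intro g hg y _ ih C hC
      rw [← conjBy_conjBy]
      refine key g⁻¹ ?_ _ (ih C hC)
      rcases hg with hg | hg
      · exact Or.inl (inv_mem hg)
      · exact Or.inr (inv_mem hg)
  · rintro (rfl | ⟨a, ha, rfl⟩)
    · exact unip_left_mem _ _
    · exact unip_conj_mem (right_mem h) ((le_sup_left : A ≤ A ⊔ B) ha)

lemma unip_symm : unipotentSubgroups B A = unipotentSubgroups A B := by
  obtain ⟨z, hz, hBz⟩ := right_mem h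
  ext C
  constructor
  · rintro ⟨x, hx, rfl⟩
    exact unip_conj_mem (right_mem h) (sup_comm B A ▸ hx)
  · rintro ⟨x, hx, rfl⟩
    refine ⟨x * z⁻¹, sup_comm A B ▸ mul_mem hx (inv_mem hz), ?_⟩
    rw [← conjBy_conjBy B, hBz, conjBy_inv_conjBy]

lemma regular {C D : Subgroup G} (hC : C ∈ unipotentSubgroups A B) (hD : D ∈ unipotentSubgroups A B)
    (hCA : C ≠ A) (hDA : D ≠ A) : ∃! a : G, a ∈ A ∧ conjBy C a = D := by
  rcases (unip_iff h).mp hC with rfl | ⟨c, hc, rfl⟩
  · exact absurd rfl hCA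
  rcases (unip_iff h).mp hD with rfl | ⟨d, hd, rfl⟩
  · exact absurd rfl hDA
  refine ⟨d * c⁻¹, ⟨mul_mem hd (inv_mem hc), by rw [conjBy_conjBy, inv_mul_cancel_right]⟩, ?_⟩
  rintro y ⟨hy, he⟩
  rw [conjBy_conjBy] at he
  have h1 : conjBy B (d⁻¹ * (y * c)) = B := by rw [← conjBy_conjBy, he, conjBy_inv_conjBy]
  have := eq_one_of_fix h (mul_mem (inv_mem hd) (mul_mem hy hc)) h1
  rw [← inv_mul_eq_one.mp this |>.symm] at *
  simp

/-- Any two different points are the images of `(A, B)`. -/
lemma exists_conj_pair {C D : Subgroup G} (hC : C ∈ unipotentSubgroups A B)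
    (hD : D ∈ unipotentSubgroups A B) (hne : C ≠ D) :
    ∃ x ∈ A ⊔ B, conjBy A x = C ∧ conjBy B x = D := by
  obtain ⟨y, hy, rfl⟩ := hC
  have hD' := unip_conj_mem hD (inv_mem hy)
  have hne' : conjBy D y⁻¹ ≠ A := fun he => hne (by rw [← he, conjBy_conjBy_inv])
  obtain ⟨a, ⟨ha, hae⟩, -⟩ := regular h (right_mem h) hD' h.ne.symm hne'
  refine ⟨y * a, mul_mem hy ((le_sup_left : A ≤ A ⊔ B) ha), ?_, ?_⟩
  · rw [← conjBy_conjBy, conjBy_of_mem ha]
  · rw [← conjBy_conjBy, hae, conjBy_conjBy_inv]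

lemma two_transitive {C₁ C₂ D₁ D₂ : Subgroup G} (hC₁ : C₁ ∈ unipotentSubgroups A B)
    (hC₂ : C₂ ∈ unipotentSubgroups A B) (hD₁ : D₁ ∈ unipotentSubgroups A B)
    (hD₂ : D₂ ∈ unipotentSubgroups A B) (hC : C₁ ≠ C₂) (hD : D₁ ≠ D₂) :
    ∃ x ∈ A ⊔ B, conjBy C₁ x = D₁ ∧ conjBy C₂ x = D₂ := by
  obtain ⟨x, hx, rfl, rfl⟩ := exists_conj_pair h hC₁ hC₂ hC
  obtain ⟨y, hy, rfl, rfl⟩ := exists_conj_pair h hD₁ hD₂ hD
  exact ⟨y * x⁻¹, mul_mem hy (inv_mem hx), by rw [conjBy_conjBy, inv_mul_cancel_right],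
    by rw [conjBy_conjBy, inv_mul_cancel_right]⟩

end Pair

/-! Conjugation invariance -/

lemma rankOneCondition_conj (h : RankOneCondition A B) (g : G) :
    RankOneCondition (conjBy A g) (conjBy B g) := by
  intro a ha ha1
  rw [mem_conjBy] at ha
  have ha1' : g⁻¹ * a * g ≠ 1 := by
    intro he
    apply ha1
    simpa [mul_assoc] using congrArg (fun z => g * z * g⁻¹) he
  obtain ⟨b, hb, hb1, he⟩ := h _ ha ha1'
  refine ⟨g * b * g⁻¹, conj_mem_conjBy hb g, fun hc => hb1 ?_, ?_⟩
  · simpa [mul_assoc] using congrArg (fun z => g⁻¹ * z * g) hc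
  · have := congrArg (fun C => conjBy C g) he
    simpa [conjBy_conjBy, mul_assoc] using this

lemma rankOnePair_conj (h : IsRankOnePair A B) (g : G) :
    IsRankOnePair (conjBy A g) (conjBy B g) where
  ne := fun he => h.ne (conjBy_injective g he)
  nilpotent_left := by
    have := h.nilpotent_left
    exact Group.nilpotent_of_mulEquiv
      (A.equivMapOfInjective _ (MulAut.conj g).injective)
  nilpotent_right := by
    have := h.nilpotent_right
    exact Group.nilpotent_of_mulEquiv
      (B.equivMapOfInjective _ (MulAut.conj g).injective)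
  cond_left := rankOneCondition_conj h.cond_left g
  cond_right := rankOneCondition_conj h.cond_right g

lemma sup_conj_eq {x : G} (hx : x ∈ A ⊔ B) : conjBy A x ⊔ conjBy B x = A ⊔ B := by
  rw [← conjBy_sup, conjBy_of_mem hx]

section Pair

variable (h : IsRankOnePair A B)
include h

/-- Two different unipotent subgroups form a rank one pair generating the same group. -/
lemma pair_of_unip {C D : Subgroup G} (hC : C ∈ unipotentSubgroups A B)
    (hD : D ∈ unipotentSubgroups A B) (hne : C ≠ D) :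
    IsRankOnePair C D ∧ C ⊔ D = A ⊔ B ∧ unipotentSubgroups C D = unipotentSubgroups A B := by
  obtain ⟨x, hx, rfl, rfl⟩ := exists_conj_pair h hC hD hne
  have hs := sup_conj_eq hx
  refine ⟨rankOnePair_conj h x, hs, ?_⟩
  ext E
  simp only [unipotentSubgroups, Set.mem_ofPred_eq, hs]
  constructor
  · rintro ⟨y, hy, rfl⟩
    exact ⟨y * x, mul_mem hy hx, by rw [conjBy_conjBy]⟩
  · rintro ⟨y, hy, rfl⟩
    exact ⟨y * x⁻¹, mul_mem hy (inv_mem hx), by rw [conjBy_conjBy, inv_mul_cancel_right]⟩

lemma eq_one_of_fix_unip {C D : Subgroup G} (hC : C ∈ unipotentSubgroups A B)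
    (hD : D ∈ unipotentSubgroups A B) (hne : C ≠ D) {c : G} (hc : c ∈ C)
    (hfix : conjBy D c = D) : c = 1 :=
  eq_one_of_fix (pair_of_unip h hC hD hne).1 hc hfix

/-- An element of `A` commuting with a non-identity element of `B` is trivial. -/
lemma eq_one_of_commute {a b : G} (ha : a ∈ A) (hb : b ∈ B) (hb1 : b ≠ 1)
    (hab : a * b = b * a) : a = 1 := by
  by_contra ha1
  have hne : conjBy B a ≠ B := fun he => ha1 (eq_one_of_fix h ha he)
  refine hb1 (eq_one_of_fix_unip h (right_mem h)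
    (unip_conj_mem (right_mem h) ((le_sup_left : A ≤ A ⊔ B) ha)) hne.symm hb ?_)
  rw [conjBy_conjBy, ← hab, ← conjBy_conjBy, conjBy_of_mem hb]

/-- A subgroup of `⟨A, B⟩` normalised by it is central or covers it modulo `A`. -/
lemma normal_dichotomy {K : Subgroup G} (hK : K ≤ A ⊔ B)
    (hnorm : ∀ x ∈ A ⊔ B, conjBy K x = K) :
    K ⊔ A = A ⊔ B ∨ ∀ k ∈ K, ∀ x ∈ A ⊔ B, k * x = x * k := by
  by_cases hmove : ∃ k ∈ K, conjBy A k ≠ A
  · left
    obtain ⟨k, hk, hkA⟩ := hmove
    obtain ⟨x, hx, hxA, hxB⟩ := exists_conj_pair h (unip_left_mem A B)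
      (unip_conj_mem (unip_left_mem A B) (hK hk)) hkA.symm
    refine le_antisymm (sup_le hK le_sup_left) (sup_le le_sup_right ?_)
    have hk' : x⁻¹ * k * x ∈ K := by
      have := hnorm x hx
      rw [← mem_conjBy, this]; exact hk
    have hB : B = conjBy A (x⁻¹ * k * x) := by
      rw [mul_assoc, ← conjBy_conjBy, ← conjBy_conjBy A x, hxA, ← hxB, conjBy_inv_conjBy]
    rw [hB]
    intro z hz
    rw [mem_conjBy] at hz
    have h1 : x⁻¹ * k * x ∈ K ⊔ A := (le_sup_left : K ≤ K ⊔ A) hk'
    have h2 := mul_mem (mul_mem h1 ((le_sup_right : A ≤ K ⊔ A) hz)) (inv_mem h1)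
    simpa [mul_assoc] using h2
  · right
    push Not at hmove
    have hfix : ∀ k ∈ K, conjBy B k = B := by
      intro k hk
      obtain ⟨x, hx, hBx⟩ := right_mem h
      have hk' : x⁻¹ * k * x ∈ K := by
        rw [← mem_conjBy, hnorm x hx]; exact hk
      have := congrArg (fun C => conjBy C x) (hmove _ hk')
      simp only [conjBy_conjBy] at this
      rw [hBx, conjBy_conjBy]
      simpa [mul_assoc] using this
    intro k hk
    have hcomm : ∀ (C D : Subgroup G), IsRankOnePair C D → C ≤ A ⊔ B →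
        (∀ l ∈ K, conjBy C l = C) → (∀ l ∈ K, conjBy D l = D) → ∀ a ∈ C, k * a = a * k := by
      intro C D hCD hCle hC hD a ha
      have h1 : k * a * k⁻¹ * a⁻¹ ∈ C :=
        mul_mem (by simpa [hC k hk] using conj_mem_conjBy ha k) (inv_mem ha)
      have h2 : k * a * k⁻¹ * a⁻¹ ∈ K := by
        have := conj_mem_conjBy (inv_mem hk) a
        rw [hnorm a (hCle ha)] at this
        simpa [mul_assoc] using mul_mem hk this
      have h3 := eq_one_of_fix hCD h1 (hD _ h2)
      rw [mul_inv_eq_one, mul_inv_eq_iff_eq_mul] at h3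
      exact h3
    intro x hx
    have hle : A ⊔ B ≤ Subgroup.centralizer ({k} : Set G) := by
      refine sup_le (fun a ha => ?_) (fun b hb => ?_) <;> rw [Subgroup.mem_centralizer_singleton_iff]
      · exact (hcomm A B h le_sup_left hmove hfix a ha).symm
      · exact (hcomm B A (RankOnePair_symm h) le_sup_right hfix hmove b hb).symm
    exact (Subgroup.mem_centralizer_singleton_iff.mp (hle hx)).symm

/-- If `k` moves `A`, then `k` does not centralise `A` modulo elements centralising `A`. -/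
lemma fix_of_commutator_commute {k : G} (hk : k ∈ A ⊔ B)
    (hc : ∀ a ∈ A, ∀ a' ∈ A, (k * a * k⁻¹ * a⁻¹) * a' = a' * (k * a * k⁻¹ * a⁻¹)) :
    conjBy A k = A := by
  by_contra hne
  obtain ⟨a, ha, ha1⟩ := exists_ne_one_left h
  have hCmem := unip_conj_mem (unip_left_mem A B) hk
  have h2 : conjBy A (k * a * k⁻¹) = A := by
    have : k * a * k⁻¹ = (k * a * k⁻¹ * a⁻¹) * a := by group
    rw [this, ← conjBy_conjBy, conjBy_of_mem ha]
    exact conjBy_eq_of_commute (hc a ha)
  have := eq_one_of_fix_unip h hCmem (unip_left_mem A B) hne (conj_mem_conjBy ha k) h2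
  apply ha1
  simpa [mul_assoc] using congrArg (fun z => k⁻¹ * z * k) this

/-- An element fixing every point centralises the rank one group modulo nothing: it commutes with
`B` as soon as it commutes with `A`. -/
lemma commute_right_of_fix {z : G} (hzA : ∀ x ∈ A, z * x = x * z) (hzB : conjBy B z = B) :
    ∀ d ∈ B, z * d = d * z := by
  intro d hd
  have hfixA : conjBy A z = A := conjBy_eq_of_commute hzA
  have hk : z * d * z⁻¹ * d⁻¹ ∈ B :=
    mul_mem (by simpa [hzB] using conj_mem_conjBy hd z) (inv_mem hd)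
  have hfe : conjBy (conjBy A d⁻¹) z⁻¹ = conjBy A d⁻¹ := by
    apply conjBy_inv_eq_self
    rcases (unip_iff h).mp (unip_conj_mem (unip_left_mem A B)
      ((le_sup_right : B ≤ A ⊔ B) (inv_mem hd))) with hq | ⟨c, hc, hq⟩
    · rw [hq, hfixA]
    · rw [hq, conjBy_conjBy, hzA c hc, ← conjBy_conjBy, hzB]
  have := eq_one_of_fix' h hk (by
    rw [← conjBy_conjBy, ← conjBy_conjBy, hfe, conjBy_conjBy,
      mul_inv_cancel_right, hfixA])
  rwa [mul_inv_eq_one, mul_inv_eq_iff_eq_mul] at this

/-- The centraliser of an abelian `A` in `⟨A, B⟩` is `A` times the centre. -/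
lemma exists_central_factor (hA : IsMulCommutative A) {x : G} (hx : x ∈ A ⊔ B)
    (hcomm : ∀ a ∈ A, x * a = a * x) :
    ∃ a ∈ A, ∀ y ∈ A ⊔ B, x * a⁻¹ * y = y * (x * a⁻¹) := by
  have hfix : conjBy A x = A := conjBy_eq_of_commute hcomm
  have hne : conjBy B x ≠ A := fun he => h.ne (conjBy_injective x (hfix.trans he.symm))
  obtain ⟨a, ⟨ha, hae⟩, -⟩ :=
    regular h (right_mem h) (unip_conj_mem (right_mem h) hx) h.ne.symm hne
  refine ⟨a, ha, ?_⟩
  have hzA : ∀ c ∈ A, x * a⁻¹ * c = c * (x * a⁻¹) := fun c hc => by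
    rw [mul_assoc, mul_comm_of_mem hA (inv_mem ha) hc, ← mul_assoc, hcomm c hc, mul_assoc]
  have hzB : conjBy B (x * a⁻¹) = B := by
    rw [hcomm _ (inv_mem ha), ← conjBy_conjBy, ← hae, conjBy_inv_conjBy]
  intro y hy
  have hle : A ⊔ B ≤ Subgroup.centralizer ({x * a⁻¹} : Set G) := by
    refine sup_le (fun c hc => ?_) (fun c hc => ?_) <;> rw [Subgroup.mem_centralizer_singleton_iff]
    · exact (hzA c hc).symm
    · exact (commute_right_of_fix h hzA hzB c hc).symm
  exact (Subgroup.mem_centralizer_singleton_iff.mp (hle hy)).symm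

end Pair

/-! Rank one groups -/

section Group

variable {X : Type*} [Group X] {A B : Subgroup X} (h : IsRankOneGroup X A B)
include h

lemma mem_sup_rankOne (x : X) : x ∈ A ⊔ B := by rw [h.1]; exact Subgroup.mem_top x

lemma normal_dichotomy_top (N : Subgroup X) [N.Normal] :
    N ⊔ A = ⊤ ∨ N ≤ Subgroup.center X := by
  rcases normal_dichotomy h.2 (K := N) (by rw [h.1]; exact le_top)
    (fun x _ => conjBy_eq_self_iff.mpr (by rw [Subgroup.normalizer_eq_top]; trivial)) with h' | h'
  · exact Or.inl (h'.trans h.1)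
  · refine Or.inr fun n hn => Subgroup.mem_center_iff.mpr fun x => ?_
    exact (h' n hn x (mem_sup_rankOne h x)).symm

lemma not_le_center : ¬ A ≤ Subgroup.center X := by
  intro hle
  obtain ⟨a, ha, ha1⟩ := exists_ne_one_left h.2
  refine ha1 (eq_one_of_fix h.2 ha (conjBy_eq_of_commute fun b _ => ?_))
  exact (Subgroup.mem_center_iff.mp (hle ha) b).symm

lemma not_top_of_le_center {K : Subgroup X} (hK : K ≤ Subgroup.center X) : K ⊔ A ≠ ⊤ := by
  intro he
  apply h.2.ne
  obtain ⟨x, -, hx⟩ := right_mem h.2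
  have hx' : x ∈ K ⊔ A := by rw [he]; trivial
  have hle : K ⊔ A ≤ Subgroup.normalizer (A : Set X) := by
    refine sup_le (fun k hk => conjBy_eq_self_iff.mp (conjBy_eq_of_commute fun a _ =>
      (Subgroup.mem_center_iff.mp (hK hk) a).symm)) (fun a ha => conjBy_eq_self_iff.mp
      (conjBy_of_mem ha))
  rw [hx]
  exact (conjBy_eq_self_iff.mpr (hle hx')).symm

lemma upperCentralSeries_two_eq_center :
    Subgroup.upperCentralSeries X 2 = Subgroup.center X := by
  refine le_antisymm ?_ ?_
  · rcases normal_dichotomy_top h (Subgroup.upperCentralSeries X 2) with h' | h'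
    · exfalso
      apply h.2.ne
      obtain ⟨x, -, hx⟩ := right_mem h.2
      have hx' : x ∈ Subgroup.upperCentralSeries X 2 ⊔ A := by rw [h']; trivial
      have hle : Subgroup.upperCentralSeries X 2 ⊔ A ≤ Subgroup.normalizer (A : Set X) := by
        refine sup_le (fun k hk => conjBy_eq_self_iff.mp
          (fix_of_commutator_commute h.2 (mem_sup_rankOne h k) fun a _ a' _ => ?_))
          (fun a ha => conjBy_eq_self_iff.mp (conjBy_of_mem ha))
        have hc : k * a * k⁻¹ * a⁻¹ ∈ Subgroup.center X := by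
          rw [← Subgroup.upperCentralSeries_one]
          exact Subgroup.mem_upperCentralSeries_succ_iff.mp hk a
        exact (Subgroup.mem_center_iff.mp hc a').symm
      rw [hx]
      exact (conjBy_eq_self_iff.mpr (hle hx')).symm
    · exact h'
  · rw [← Subgroup.upperCentralSeries_one]
    exact Subgroup.upperCentralSeries_mono X (by norm_num)

lemma upperCentralSeries_le_center (n : ℕ) :
    Subgroup.upperCentralSeries X n ≤ Subgroup.center X := by
  induction n with
  | zero => simp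
  | succ n ih =>
    intro x hx
    rw [← upperCentralSeries_two_eq_center h, Subgroup.mem_upperCentralSeries_succ_iff]
    intro y
    rw [Subgroup.upperCentralSeries_one]
    exact ih (Subgroup.mem_upperCentralSeries_succ_iff.mp hx y)

lemma not_isNilpotent : ¬ Group.IsNilpotent X := by
  intro hnil
  obtain ⟨n, hn⟩ := hnil.nilpotent'
  apply not_le_center h
  exact le_trans (le_top.trans hn.ge) (upperCentralSeries_le_center h n)

lemma center_ne_top : Subgroup.center X ≠ ⊤ := fun he => not_le_center h (he ▸ le_top)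

lemma isQuasisimple_of_perfect (hp : Group.IsPerfect X) : Cfsg.IsQuasisimple X := by
  refine ⟨hp, ?_⟩
  have : Nontrivial (X ⧸ Subgroup.center X) :=
    QuotientGroup.nontrivial_iff.mpr (center_ne_top h)
  constructor
  intro N hN
  let M := N.comap (QuotientGroup.mk' (Subgroup.center X))
  rcases normal_dichotomy_top h M with h' | h'
  · right
    have hM : M = ⊤ := by
      have hc : commutator X ≤ M := by
        rw [← Subgroup.Normal.quotient_commutative_iff_commutator_le]
        refine ⟨⟨fun p q => ?_⟩⟩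
        have hsurj : ∀ p : X ⧸ M, ∃ a ∈ A, (a : X ⧸ M) = p := by
          intro p
          induction p using QuotientGroup.induction_on with
          | H x =>
            have hx : x ∈ (M ⊔ A : Subgroup X) := by rw [h']; trivial
            rw [sup_comm, Subgroup.mem_sup_of_normal_right] at hx
            obtain ⟨a, ha, m, hm, rfl⟩ := hx
            exact ⟨a, ha, by simp [hm]⟩
        obtain ⟨a, ha, rfl⟩ := hsurj p
        obtain ⟨a', ha', rfl⟩ := hsurj q
        -- the image of `A` is nilpotent and perfect, hence trivial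
        have hnil : Group.IsNilpotent (X ⧸ M) := by
          have := h.2.nilpotent_left
          refine Group.nilpotent_of_surjective ((QuotientGroup.mk' M).comp A.subtype) fun r => ?_
          obtain ⟨c, hc, rfl⟩ := hsurj r
          exact ⟨⟨c, hc⟩, rfl⟩
        have hperf : Group.IsPerfect (X ⧸ M) :=
          Group.IsPerfect.ofSurjective (f := QuotientGroup.mk' M)
            (QuotientGroup.mk'_surjective M)
        have : Subsingleton (X ⧸ M) := by
          by_contra hns
          rw [not_subsingleton_iff_nontrivial] at hns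
          exact Group.IsPerfect.not_isNilpotent (X ⧸ M) hnil
        exact Subsingleton.elim _ _
      rw [eq_top_iff, ← hp.commutator_eq_top]
      exact hc
    exact Subgroup.comap_injective (QuotientGroup.mk'_surjective _)
      (hM.trans (Subgroup.comap_top _).symm)
  · left
    refine (Subgroup.eq_bot_iff_forall N).mpr fun q hq => ?_
    obtain ⟨x, rfl⟩ := QuotientGroup.mk'_surjective _ q
    exact (QuotientGroup.eq_one_iff x).mpr (h' hq)

end Group

end CfsgLib.RootSubgroups
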