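import Cfsg.Agent.RootSubgroups.QuadDichotomy
import Cfsg.Agent.RootSubgroups.RankOne
import Cfsg.Agent.RootSubgroups.SL2

/-! Opposite classes generate a special rank one group with a central involution. -/

set_option autoImplicit false

namespace CfsgLib.RootSubgroups.QuadPair

open Cfsg Polynomial

universe u

variable {k : Type u} [Field k] {M : Type u} [AddCommGroup M] [Module k M]
  [FiniteDimensional k M]
variable {G : Subgroup (LinearMap.GeneralLinearGroup k M)} {σ τ : LinearMap.GeneralLinearGroup k M}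

variable (hk2 : ringChar k ≠ 2) (hk3 : Nat.card k ≠ 3)
  (hσ : σ ∈ minimalQuadraticElements G) (hτ : τ ∈ minimalQuadraticElements G)

lemma opp_disjoint (h : Opp σ τ) (hσ : σ ∈ minimalQuadraticElements G)
    (hτ : τ ∈ minimalQuadraticElements G) :
    sameActionSubgroup G σ ≠ sameActionSubgroup G τ := by
  intro he
  have h1 : InRoot G τ (nil σ) := (mem_E hτ).1 (he ▸ (mem_E hσ).2 (inRoot_self hσ.1))
  obtain ⟨hk, -⟩ := InRoot.ker_range hτ h1 (quad_ne hσ.1.2.1)
  apply quad_ne hσ.1.2.1
  rw [← LinearMap.range_eq_bot, eq_bot_iff, ← h.1]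
  exact le_inf le_rfl (hk ▸ range_le_ker hσ)

include hk2 hk3 hσ hτ

/-- Every non-zero element of one class has an inverse in the opposite one. -/
theorem exists_inverse (hop : Opp σ τ) {a : Module.End k M} (ha : InRoot G σ a) (ha0 : a ≠ 0) :
    ∃ b, InRoot G τ b ∧ b ≠ 0 ∧ a * b * a = a ∧ b * a * b = b := by
  obtain ⟨x, hx, rfl, hkx, hrx⟩ := InRoot.exists_minimal hσ ha ha0
  have hinj : Function.Injective (phi τ x) :=
    ((opp_congr (σ := τ) rfl rfl hkx hrx).2 hop.symm).injective
  set φ := phi τ x with hφ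
  obtain ⟨f, hf⟩ : ∃ f : k[X], aeval φ f * φ = 1 := by
    have hint : IsIntegral k φ := IsIntegral.of_finite k φ
    set m := minpoly k φ
    have hm0 : m ≠ 0 := minpoly.ne_zero hint
    have hz : φ * aeval φ m.divX + algebraMap k _ (m.coeff 0) = 0 := by
      have h := minpoly.aeval k φ
      change aeval φ m = 0 at h
      rw [← X_mul_divX_add m, map_add, map_mul, aeval_X, aeval_C] at h
      exact h
    have hc : m.coeff 0 ≠ 0 := by
      intro h0
      rw [h0, map_zero, add_zero] at hz
      have hd : m = X * m.divX := by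
        conv_lhs => rw [← X_mul_divX_add m, h0, map_zero, add_zero]
      have hdz : aeval φ m.divX = 0 := LinearMap.ext fun v => hinj (by
        rw [← Module.End.mul_apply, hz]; simp)
      have hd0 : m.divX ≠ 0 := fun h => hm0 (by rw [hd, h, mul_zero])
      have hle := minpoly.degree_le_of_ne_zero k φ hd0 hdz
      change m.degree ≤ _ at hle
      generalize m.divX = q at hd hd0 hle
      rw [hd, degree_mul, degree_X, degree_eq_natDegree hd0] at hle
      have hq : (1 + q.natDegree : ℕ) ≤ q.natDegree := by exact_mod_cast hle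
      omega
    refine ⟨-C (m.coeff 0)⁻¹ * m.divX, ?_⟩
    have hcomm : aeval φ m.divX * φ = φ * aeval φ m.divX := by
      have := congrArg (aeval φ) (mul_comm m.divX (X : k[X]))
      simpa [map_mul] using this
    rw [map_mul, map_neg, aeval_C, mul_assoc, hcomm, eq_neg_of_add_eq_zero_left hz, ← map_neg, ← map_neg, ← map_mul,
      neg_mul_neg, inv_mul_cancel₀ hc, map_one]
  obtain hb := upper_word hτ hx hk2 hk3 hinj f
  set b := aeval (nil τ * nil x) f * nil τ with hb'
  have hbval : ∀ m, b m = ((aeval φ f ⟨nil τ m, LinearMap.mem_range_self _ _⟩ : cspace τ) : M) :=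
    fun m => aeval_word_apply τ x f m
  have hb0 : b ≠ 0 := by
    intro h
    apply quad_ne hτ.1.2.1
    refine LinearMap.ext fun m => ?_
    have h1 : aeval φ f ⟨nil τ m, LinearMap.mem_range_self _ _⟩ = 0 :=
      Subtype.ext (by rw [← hbval, h]; rfl)
    have hcomm : φ * aeval φ f = aeval φ f * φ := by
      have := congrArg (aeval φ) (mul_comm (X : k[X]) f)
      simpa [map_mul] using this
    have h2 := congrArg φ h1
    rw [← Module.End.mul_apply, hcomm, hf, map_zero, Module.End.one_apply] at h2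
    exact congrArg Subtype.val h2
  have hbab : b * nil x * b = b := by
    refine LinearMap.ext fun m => ?_
    rw [Module.End.mul_apply, Module.End.mul_apply, hbval (nil x (b m))]
    set y := aeval φ f ⟨nil τ m, LinearMap.mem_range_self _ _⟩
    have hy : b m = (y : M) := hbval m
    have e : (⟨nil τ (nil x (b m)), LinearMap.mem_range_self _ _⟩ : cspace τ) = φ y :=
      Subtype.ext (by rw [hy]; rfl)
    rw [e, ← Module.End.mul_apply, hf, Module.End.one_apply]
    exact hy.symm
  refine ⟨b, hb, hb0, LinearMap.ext fun m => ?_, hbab⟩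
  have hker : LinearMap.ker b = LinearMap.ker (nil τ) := (InRoot.ker_range hτ hb hb0).1
  have hmem : (nil x * b * nil x) m - nil x m ∈ cspace σ :=
    hrx ▸ sub_mem ⟨_, rfl⟩ ⟨_, rfl⟩
  refine sub_eq_zero.1 ((Submodule.eq_bot_iff _).1 hop.1 _ ⟨hmem, ?_⟩)
  show _ ∈ LinearMap.ker (nil τ)
  rw [← hker, LinearMap.mem_ker, map_sub, sub_eq_zero]
  exact LinearMap.congr_fun hbab (nil x m) 

/-- The element exchanging the two classes. -/
theorem exists_swap (hop : Opp σ τ) {g : LinearMap.GeneralLinearGroup k M}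
    (hg : g ∈ sameActionSubgroup G σ) (hg1 : g ≠ 1) :
    ∃ h ∈ sameActionSubgroup G τ, h ≠ 1 ∧
      conjBy (sameActionSubgroup G σ) h⁻¹ = conjBy (sameActionSubgroup G τ) g⁻¹ ∧
      h⁻¹ * g * h = g⁻¹ * h⁻¹ * g ∧ nil g * nil h * nil g = nil g ∧
      nil h * nil g * nil h = nil h ∧
      nil (g * h⁻¹ * g) = nil g - nil h - nil g * nil h - nil h * nil g := by
  have ha := (mem_E hσ).1 hg
  obtain ⟨b, hb, hb0, haba, hbab⟩ := exists_inverse hk2 hk3 hσ hτ hop ha
    (fun h => hg1 (nil_eq_zero_iff.1 h))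
  obtain ⟨h, hhG, rfl⟩ := hb.2.2.exists_elem
  have hhE : h ∈ sameActionSubgroup G τ := (mem_E hτ).2 hb
  have haa : nil g * nil g = 0 := InRoot.mul_eq_zero hσ ha ha
  have hbb : nil h * nil h = 0 := InRoot.mul_eq_zero hτ hb hb
  have hinv : ∀ {z : LinearMap.GeneralLinearGroup k M}, nil z * nil z = 0 → nil z⁻¹ = -nil z := by
    intro z hz
    have e : ((z⁻¹ : LinearMap.GeneralLinearGroup k M) : M →ₗ[k] M) = 1 - nil z :=
      Units.inv_eq_of_mul_eq_one_right (by
        rw [coe_eq_one_add z, add_mul, one_mul, mul_sub, mul_one, hz]; abel)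
    rw [nil, e]; abel
  have hw : nil (g * h⁻¹ * g) = nil g - nil h - nil g * nil h - nil h * nil g := by
    rw [nil_mul, nil_mul, hinv hbb]
    simp only [add_mul, neg_mul, mul_neg, haa, mul_assoc] at *
    rw [haba]
    abel
  refine ⟨h, hhE, fun e => hb0 (by rw [e, nil_one]), ?_, ?_, haba, hbab, hw⟩
  · -- `w = g h⁻¹ g` maps the class of `σ` to that of `τ`
    set w := g * h⁻¹ * g with hwdef
    have hwG : w ∈ G := mul_mem (mul_mem (E_le hσ hg) (inv_mem hhG)) (E_le hσ hg)
    obtain ⟨hka, hra⟩ := InRoot.ker_range hσ ha (fun h => hg1 (nil_eq_zero_iff.1 h))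
    obtain ⟨hkb, hrb⟩ := InRoot.ker_range hτ hb hb0
    have hK : ∀ m ∈ LinearMap.ker (nil σ), (w : M →ₗ[k] M) m ∈ LinearMap.ker (nil τ) := by
      intro m hm
      have hm' : nil g m = 0 := by rw [← LinearMap.mem_ker, hka]; exact hm
      rw [← hkb, LinearMap.mem_ker, coe_eq_one_add w, hw]
      have e1 := LinearMap.congr_fun hbab m
      have e2 := LinearMap.congr_fun hbb m
      simp only [Module.End.mul_apply, LinearMap.zero_apply] at e1 e2
      simp [hm', e1, e2]
    have hwinv : ∀ x : M, ((w⁻¹ : LinearMap.GeneralLinearGroup k M) : M →ₗ[k] M)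
        ((w : M →ₗ[k] M) x) = x := fun x => by
      rw [← Module.End.mul_apply, Units.inv_mul, Module.End.one_apply]
    have hrange : (cspace σ).map (w : M →ₗ[k] M) = cspace τ := by
      apply le_antisymm
      · rintro _ ⟨v, hv, rfl⟩
        obtain ⟨m, rfl⟩ : v ∈ LinearMap.range (nil g) := by rw [hra]; exact hv
        have e1 := LinearMap.congr_fun haba m
        have e2 := LinearMap.congr_fun haa m
        simp only [Module.End.mul_apply, LinearMap.zero_apply] at e1 e2
        rw [coe_eq_one_add w, hw]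
        simp [e1, e2]
        show _ ∈ cspace τ
        rw [← hrb]
        exact ⟨_, rfl⟩
      · rw [← hrb]
        rintro _ ⟨m, rfl⟩
        refine ⟨-(nil g (nil h m)), neg_mem (hra ▸ ⟨_, rfl⟩), ?_⟩
        have e1 := LinearMap.congr_fun hbab m
        have e2 := LinearMap.congr_fun haa (nil h m)
        simp only [Module.End.mul_apply, LinearMap.zero_apply] at e1 e2
        rw [map_neg, coe_eq_one_add w, hw]
        simp [e1, e2]
    have hfin : Module.finrank k (LinearMap.ker (nil σ)) = Module.finrank k (LinearMap.ker (nil τ)) := by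
      have h1 := LinearMap.finrank_range_add_finrank_ker (nil σ)
      have h2 := LinearMap.finrank_range_add_finrank_ker (nil τ)
      have h3 : Module.finrank k (LinearMap.range (nil σ)) = Module.finrank k (LinearMap.range (nil τ)) :=
        le_antisymm (hσ.2 τ hτ.1) (hτ.2 σ hσ.1)
      omega
    have hker : (LinearMap.ker (nil σ)).map (w : M →ₗ[k] M) = LinearMap.ker (nil τ) := by
      refine Submodule.eq_of_le_of_finrank_le (Submodule.map_le_iff_le_comap.2 fun m hm => hK m hm) ?_
      rw [← hfin]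
      exact le_of_eq (Submodule.equivMapOfInjective _
        (Function.LeftInverse.injective (g := ((w⁻¹ : LinearMap.GeneralLinearGroup k M) : M →ₗ[k] M))
          hwinv) _).finrank_eq
    have hconj : conjBy (sameActionSubgroup G σ) w = sameActionSubgroup G τ := by
      rw [conjBy_E hσ hwG]
      refine E_eq_of ?_ (by rw [conj_range, hrange])
      rw [conj_ker, ← hker]
      ext m
      constructor
      · intro hm
        exact ⟨_, hm, by rw [← Module.End.mul_apply, Units.mul_inv, Module.End.one_apply]⟩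
      · rintro ⟨x, hx, rfl⟩
        rw [Submodule.mem_comap, hwinv]; exact hx
    have hA : conjBy (sameActionSubgroup G σ) g = sameActionSubgroup G σ :=
      conjBy_eq_self_iff.2 (Subgroup.le_normalizer hg)
    rw [← hconj, hwdef, ← conjBy_conjBy, hA, conjBy_conjBy, inv_mul_cancel_left]
  · apply nil_injective
    simp only [nil_mul, hinv hbb, hinv haa, add_mul, neg_mul, mul_neg, neg_neg, haa, hbb,
      haba, hbab, neg_zero]
    abel

/-- Opposite classes form a rank one pair. -/
theorem rankOnePair (hop : Opp σ τ) :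
    IsRankOnePair (sameActionSubgroup G σ) (sameActionSubgroup G τ) := by
  have hcomm : ∀ {σ : LinearMap.GeneralLinearGroup k M}, σ ∈ minimalQuadraticElements G →
      Group.IsNilpotent (sameActionSubgroup G σ) := fun {σ} hσ =>
    SL2.nilpotent_of_comm _ ⟨⟨fun ⟨x, hx⟩ ⟨y, hy⟩ => Subtype.ext (nil_injective (by
      rw [Subgroup.coe_mul, Subgroup.coe_mul, nil_mul, nil_mul,
        InRoot.mul_eq_zero hσ ((mem_E hσ).1 hx) ((mem_E hσ).1 hy),
        InRoot.mul_eq_zero hσ ((mem_E hσ).1 hy) ((mem_E hσ).1 hx), add_comm (nil x)]))⟩⟩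
  exact
    { ne := opp_disjoint hop hσ hτ
      nilpotent_left := hcomm hσ
      nilpotent_right := hcomm hτ
      cond_left := fun g hg hg1 => by
        obtain ⟨h, hh, h1, h2, -⟩ := exists_swap hk2 hk3 hσ hτ hop hg hg1
        exact ⟨h, hh, h1, h2⟩
      cond_right := fun g hg hg1 => by
        obtain ⟨h, hh, h1, h2, -⟩ := exists_swap hk2 hk3 hτ hσ hop.symm hg hg1
        exact ⟨h, hh, h1, h2⟩ }

theorem special (hop : Opp σ τ) :
    IsSpecialRankOnePair (sameActionSubgroup G σ) (sameActionSubgroup G τ) := by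
  refine ⟨rankOnePair hk2 hk3 hσ hτ hop, fun g hg hg1 x hx _ he => ?_⟩
  obtain ⟨h, hh, -, h2, h3, -⟩ := exists_swap hk2 hk3 hσ hτ hop hg hg1
  rw [unique_partner (rankOnePair hk2 hk3 hσ hτ hop) hx hh he h2]
  exact h3

/-- The central involution and the splitting. -/
theorem involution (hop : Opp σ τ) :
    (∃! i : LinearMap.GeneralLinearGroup k M,
      i ∈ sameActionSubgroup G σ ⊔ sameActionSubgroup G τ ∧ i ≠ 1 ∧ i * i = 1 ∧
        (∀ x ∈ sameActionSubgroup G σ ⊔ sameActionSubgroup G τ, i * x = x * i) ∧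
        (∀ m ∈ commutatorSubmodule (sameActionSubgroup G σ ⊔ sameActionSubgroup G τ),
          (i : M →ₗ[k] M) m = -m) ∧
        (∀ m ∈ fixedSubmodule (sameActionSubgroup G σ ⊔ sameActionSubgroup G τ),
          (i : M →ₗ[k] M) m = m)) ∧
      IsCompl (fixedSubmodule (sameActionSubgroup G σ ⊔ sameActionSubgroup G τ))
        (commutatorSubmodule (sameActionSubgroup G σ ⊔ sameActionSubgroup G τ)) := by
  set X := sameActionSubgroup G σ ⊔ sameActionSubgroup G τ with hX
  set U := cspace σ ⊔ cspace τ with hU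
  set C := LinearMap.ker (nil σ) ⊓ LinearMap.ker (nil τ) with hC
  have hgen : ∀ x ∈ X, (∀ c ∈ C, nil x c = 0) ∧ ∀ m, nil x m ∈ U := by
    intro x hx
    rw [hX, sameActionSubgroup, sameActionSubgroup, ← Subgroup.closure_union] at hx
    induction hx using Subgroup.closure_induction with
    | mem x hx =>
      rcases hx with hx | hx
      · exact ⟨fun c hc => (inRoot_of_class hσ hx).1 hc.1,
          fun m => Submodule.mem_sup_left ((inRoot_of_class hσ hx).2.1 ⟨m, rfl⟩)⟩
      · exact ⟨fun c hc => (inRoot_of_class hτ hx).1 hc.2,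
          fun m => Submodule.mem_sup_right ((inRoot_of_class hτ hx).2.1 ⟨m, rfl⟩)⟩
    | one => simp [nil_one]
    | mul x y _ _ hx hy =>
      refine ⟨fun c hc => ?_, fun m => ?_⟩ <;>
        simp only [nil_mul, LinearMap.add_apply, Module.End.mul_apply]
      · simp [hx.1 c hc, hy.1 c hc]
      · exact add_mem (add_mem (hx.2 m) (hy.2 m)) (hx.2 _)
    | inv x _ hx =>
      have e : nil x⁻¹ = -(((x⁻¹ : LinearMap.GeneralLinearGroup k M) : M →ₗ[k] M) * nil x) := by
        rw [nil, nil, mul_sub, Units.inv_mul, mul_one, neg_sub]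
      have e' : nil x⁻¹ = -(nil x * ((x⁻¹ : LinearMap.GeneralLinearGroup k M) : M →ₗ[k] M)) := by
        rw [nil, nil, sub_mul, Units.mul_inv, one_mul, neg_sub]
      exact ⟨fun c hc => by rw [e]; simp [hx.1 c hc],
        fun m => by rw [e']; exact neg_mem (hx.2 _)⟩
  have hfix : fixedSubmodule X = C := by
    apply le_antisymm
    · intro m hm
      simp only [fixedSubmodule, Submodule.mem_iInf, LinearMap.mem_ker] at hm
      exact ⟨hm σ (Subgroup.mem_sup_left ((mem_E hσ).2 (inRoot_self hσ.1))),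
        hm τ (Subgroup.mem_sup_right ((mem_E hτ).2 (inRoot_self hτ.1)))⟩
    · intro m hm
      simp only [fixedSubmodule, Submodule.mem_iInf, LinearMap.mem_ker]
      exact fun g hg => (hgen g hg).1 m hm
  have hcomm : commutatorSubmodule X = U := by
    apply le_antisymm
    · exact iSup₂_le fun g hg => by rintro _ ⟨m, rfl⟩; exact (hgen g hg).2 m
    · refine sup_le ?_ ?_
      · exact le_iSup₂_of_le (f := fun g (_ : g ∈ X) => LinearMap.range ((g : M →ₗ[k] M) - 1)) σ
          (Subgroup.mem_sup_left ((mem_E hσ).2 (inRoot_self hσ.1))) le_rfl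
      · exact le_iSup₂_of_le (f := fun g (_ : g ∈ X) => LinearMap.range ((g : M →ₗ[k] M) - 1)) τ
          (Subgroup.mem_sup_right ((mem_E hτ).2 (inRoot_self hτ.1))) le_rfl
  have hdec : ∀ m, ∃ c ∈ C, ∃ u ∈ U, m = c + u := fun m => by
    obtain ⟨c, v, v', h1, h2, rfl⟩ := decompose hσ hτ hop.injective m
    exact ⟨c, ⟨h1, h2⟩, (v : M) + nil τ (v' : M),
      Submodule.add_mem_sup v.2 ⟨_, rfl⟩, by abel⟩
  have hσ1 : σ ≠ 1 := fun h => quad_ne hσ.1.2.1 (by rw [h, nil_one])
  obtain ⟨h, hh, -, -, -, haba, hbab, hw⟩ := exists_swap hk2 hk3 hσ hτ hop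
    ((mem_E hσ).2 (inRoot_self hσ.1)) hσ1
  set w := σ * h⁻¹ * σ with hwdef
  have hwX : w ∈ X := mul_mem (mul_mem (Subgroup.mem_sup_left ((mem_E hσ).2 (inRoot_self hσ.1)))
    (inv_mem (Subgroup.mem_sup_right hh))) (Subgroup.mem_sup_left ((mem_E hσ).2 (inRoot_self hσ.1)))
  have hb0 : nil h ≠ 0 := fun h0 => quad_ne hσ.1.2.1 (by rw [← haba, h0, mul_zero, zero_mul])
  obtain ⟨hkb, hrb⟩ := InRoot.ker_range hτ ((mem_E hτ).1 hh) hb0
  set i := w * w with hi
  have hiC : ∀ c ∈ C, (i : M →ₗ[k] M) c = c := fun c hc => by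
    rw [coe_eq_one_add i, LinearMap.add_apply, (hgen i (mul_mem hwX hwX)).1 c hc, add_zero,
      Module.End.one_apply]
  have haa : nil σ * nil σ = 0 := nil_sq hσ.1.2.1
  have hbb : nil h * nil h = 0 :=
    InRoot.mul_eq_zero hτ ((mem_E hτ).1 hh) ((mem_E hτ).1 hh)
  have hw1 : ∀ m, (w : M →ₗ[k] M) (nil σ m) = -(nil h (nil σ m)) := fun m => by
    have e1 := LinearMap.congr_fun haba m
    have e2 := LinearMap.congr_fun haa m
    simp only [Module.End.mul_apply, LinearMap.zero_apply] at e1 e2
    rw [coe_eq_one_add w, hw]; simp [e1, e2]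
  have hw2 : ∀ m, (w : M →ₗ[k] M) (nil h m) = nil σ (nil h m) := fun m => by
    have e1 := LinearMap.congr_fun hbab m
    have e2 := LinearMap.congr_fun hbb m
    simp only [Module.End.mul_apply, LinearMap.zero_apply] at e1 e2
    rw [coe_eq_one_add w, hw]; simp [e1, e2]
  have hiU : ∀ u ∈ U, (i : M →ₗ[k] M) u = -u := by
    intro u hu
    rw [hU, ← hrb, Submodule.mem_sup] at hu
    obtain ⟨_, ⟨m, rfl⟩, _, ⟨m', rfl⟩, rfl⟩ := hu
    have e1 := LinearMap.congr_fun haba m
    have e2 := LinearMap.congr_fun hbab m'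
    simp only [Module.End.mul_apply] at e1 e2
    rw [hi, Units.val_mul, Module.End.mul_apply, map_add, map_add, hw1, hw2, map_neg, hw2, e1, hw1,
      e2, neg_add]
  have hcompl : IsCompl C U := by
    refine ⟨Submodule.disjoint_def.2 fun x hx hx' => ?_, codisjoint_iff.2 (eq_top_iff.2 fun m _ => ?_)⟩
    · have h1 := hiC x hx
      rw [hiU x hx', neg_eq_iff_add_eq_zero, ← two_smul k x] at h1
      exact (smul_eq_zero.1 h1).resolve_left (Ring.two_ne_zero hk2)
    · obtain ⟨c, hc, u, hu, rfl⟩ := hdec m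
      exact Submodule.add_mem_sup hc hu
  refine ⟨?_, by rw [hfix, hcomm]; exact hcompl⟩
  refine ⟨i, ⟨mul_mem hwX hwX, ?_, ?_, ?_, ?_, ?_⟩, ?_⟩
  · intro h1
    apply quad_ne hσ.1.2.1
    refine LinearMap.ext fun m => ?_
    have := hiU (nil σ m) (Submodule.mem_sup_left ⟨m, rfl⟩)
    rw [h1, Units.val_one, Module.End.one_apply, eq_neg_iff_add_eq_zero, ← two_smul k] at this
    exact (smul_eq_zero.1 this).resolve_left (Ring.two_ne_zero hk2)
  · refine Units.ext (LinearMap.ext fun m => ?_)
    obtain ⟨c, hc, u, hu, rfl⟩ := hdec m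
    rw [Units.val_mul, Units.val_one, Module.End.mul_apply, Module.End.one_apply, map_add, map_add,
      hiC c hc, hiC c hc, hiU u hu, map_neg, hiU u hu, neg_neg]
  · intro x hx
    refine Units.ext (LinearMap.ext fun m => ?_)
    obtain ⟨c, hc, u, hu, rfl⟩ := hdec m
    have hxc : (x : M →ₗ[k] M) c = c := by
      rw [coe_eq_one_add x, LinearMap.add_apply, (hgen x hx).1 c hc, add_zero, Module.End.one_apply]
    have hxu : (x : M →ₗ[k] M) u ∈ U := by
      rw [coe_eq_one_add x, LinearMap.add_apply]; exact add_mem hu ((hgen x hx).2 u)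
    rw [Units.val_mul i x, Units.val_mul x i, Module.End.mul_apply, Module.End.mul_apply, map_add,
      map_add, map_add, hiC c hc, hiU u hu, map_add, map_neg, hxc, hiC c hc, hiU _ hxu]
  · intro m hm; exact hiU m (hcomm ▸ hm)
  · intro m hm; exact hiC m (hfix ▸ hm)
  · rintro j ⟨-, -, -, -, hjU, hjC⟩
    refine Units.ext (LinearMap.ext fun m => ?_)
    obtain ⟨c, hc, u, hu, rfl⟩ := hdec m
    rw [map_add, map_add, hjC c (hfix.symm ▸ hc), hjU u (hcomm.symm ▸ hu), hiC c hc, hiU u hu]

end CfsgLib.RootSubgroups.QuadPair
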