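import Cfsg.Agent.RootSubgroups.RootSpecial
import Cfsg.Agent.RootSubgroups.RootGraph

/-! A family of subgroups seen inside a subgroup containing all of them. -/

set_option autoImplicit false

namespace CfsgLib.RootSubgroups.Transport

open Cfsg

variable {G : Type*} [Group G] {X : Subgroup G} {S : Set (Subgroup G)} {A B : Subgroup G}

lemma map_conjBy (C : Subgroup X) (g : X) :
    (conjBy C g).map X.subtype = conjBy (C.map X.subtype) (g : G) := by
  rw [conjBy, conjBy, Subgroup.map_map, Subgroup.map_map]; rfl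

lemma conjBy_subgroupOf (hA : A ≤ X) (g : X) :
    conjBy (A.subgroupOf X) g = (conjBy A (g : G)).subgroupOf X := by
  apply Subgroup.map_injective X.subtype_injective
  rw [map_conjBy, Subgroup.map_subgroupOf_eq_of_le hA, Subgroup.map_subgroupOf_eq_of_le]
  rintro _ ⟨a, ha, rfl⟩
  exact mul_mem (mul_mem g.2 (hA ha)) (inv_mem g.2)

lemma commutator_subgroupOf (hA : A ≤ X) (hB : B ≤ X) :
    ⁅A.subgroupOf X, B.subgroupOf X⁆ = ⁅A, B⁆.subgroupOf X := by
  apply Subgroup.map_injective X.subtype_injective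
  rw [Subgroup.map_commutator, Subgroup.map_subgroupOf_eq_of_le hA,
    Subgroup.map_subgroupOf_eq_of_le hB, Subgroup.map_subgroupOf_eq_of_le]
  exact (Subgroup.commutator_mono hA hB).trans (Subgroup.commutator_le_self X)

lemma subgroupOf_inj (hA : A ≤ X) (hB : B ≤ X) (h : A.subgroupOf X = B.subgroupOf X) : A = B := by
  rw [← Subgroup.map_subgroupOf_eq_of_le hA, ← Subgroup.map_subgroupOf_eq_of_le hB, h]

lemma rankOnePair_iff (hA : A ≤ X) (hB : B ≤ X) :
    IsRankOnePair (A.subgroupOf X) (B.subgroupOf X) ↔ IsRankOnePair A B := by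
  refine ⟨fun h => ?_, fun h => rankOnePair_subgroupOf h hA hB⟩
  have hmA := Subgroup.map_subgroupOf_eq_of_le hA
  have hmB := Subgroup.map_subgroupOf_eq_of_le hB
  have hcond : ∀ {P Q : Subgroup G}, P ≤ X → Q ≤ X →
      RankOneCondition (P.subgroupOf X) (Q.subgroupOf X) → RankOneCondition P Q := by
    intro P Q hP hQ hc a ha ha1
    obtain ⟨b, hb, hb1, he⟩ := hc ⟨a, hP ha⟩ ha (fun h0 => ha1 (congrArg Subtype.val h0))
    refine ⟨b, hb, fun h0 => hb1 (Subtype.ext h0), ?_⟩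
    have := congrArg (Subgroup.map X.subtype) he
    rwa [map_conjBy, map_conjBy, Subgroup.map_subgroupOf_eq_of_le hP,
      Subgroup.map_subgroupOf_eq_of_le hQ] at this
  refine ⟨fun he => h.ne (by rw [he]), ?_, ?_, hcond hA hB h.cond_left, hcond hB hA h.cond_right⟩
  · have := h.nilpotent_left
    exact Group.nilpotent_of_mulEquiv (Subgroup.subgroupOfEquivOfLe hA)
  · have := h.nilpotent_right
    exact Group.nilpotent_of_mulEquiv (Subgroup.subgroupOfEquivOfLe hB)

lemma commCase_subgroupOf (hA : A ≤ X) (hB : B ≤ X)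
    (h : RootCommutatorCase S A B) :
    RootCommutatorCase ((fun C => C.subgroupOf X) '' S) (A.subgroupOf X) (B.subgroupOf X) := by
  obtain ⟨h1, h2, h3, h4⟩ := h
  have hcl : ∀ {T : Set G} (T' : Set X), (fun x : X => (x : G)) '' T' = T →
      (Subgroup.closure T').map X.subtype = Subgroup.closure T := fun T' e => by
    rw [MonoidHom.map_closure, ← e]; rfl
  refine ⟨⟨_, h1, (commutator_subgroupOf hA hB).symm⟩, fun c hc x hx => Subtype.ext ?_, ?_, ?_⟩
  · rw [commutator_subgroupOf hA hB] at hc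
    refine h2 _ hc _ ?_
    have : ((A.subgroupOf X) ⊔ (B.subgroupOf X)).map X.subtype = A ⊔ B := by
      rw [Subgroup.map_sup, Subgroup.map_subgroupOf_eq_of_le hA, Subgroup.map_subgroupOf_eq_of_le hB]
    rw [← this]; exact ⟨x, hx, rfl⟩
  · intro a ha ha1
    apply Subgroup.map_injective X.subtype_injective
    rw [Subgroup.map_commutator, Subgroup.map_subgroupOf_eq_of_le hA,
      Subgroup.map_subgroupOf_eq_of_le hB, ← h3 a ha fun h0 => ha1 (Subtype.ext h0)]
    refine hcl _ ?_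
    ext y
    constructor
    · rintro ⟨_, ⟨b, hb, rfl⟩, rfl⟩; exact ⟨b, hb, rfl⟩
    · rintro ⟨b, hb, rfl⟩; exact ⟨_, ⟨⟨b, hB hb⟩, hb, rfl⟩, rfl⟩
  · intro b hb hb1
    apply Subgroup.map_injective X.subtype_injective
    rw [Subgroup.map_commutator, Subgroup.map_subgroupOf_eq_of_le hA,
      Subgroup.map_subgroupOf_eq_of_le hB, ← h4 b hb fun h0 => hb1 (Subtype.ext h0)]
    refine hcl _ ?_
    ext y
    constructor
    · rintro ⟨_, ⟨a, ha, rfl⟩, rfl⟩; exact ⟨a, ha, rfl⟩
    · rintro ⟨a, ha, rfl⟩; exact ⟨_, ⟨⟨a, hA ha⟩, ha, rfl⟩, rfl⟩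

/-- The axioms pass to a subgroup generated by the members. -/
theorem isRootSubgroupSet_subgroupOf (hgen : (⨆ C ∈ S, C) = X)
    (hcomm : ∀ C ∈ S, IsMulCommutative C) (hne : ∀ C ∈ S, C ≠ ⊥)
    (hconj : ∀ C ∈ S, ∀ g ∈ X, conjBy C g ∈ S)
    (hpair : ∀ C ∈ S, ∀ D ∈ S, ⁅C, D⁆ = ⊥ ∨ IsRankOnePair C D ∨ RootCommutatorCase S C D) :
    IsRootSubgroupSet ((fun C => C.subgroupOf X) '' S) := by
  have hS : ∀ C ∈ S, C ≤ X := fun C hC => hgen ▸ le_biSup (fun Z : Subgroup G => Z) hC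
  constructor
  · rintro _ ⟨C, hC, rfl⟩
    have := hcomm C hC
    exact ⟨⟨fun x y => Subtype.ext (Subtype.ext (mul_comm_of_mem this x.2 y.2))⟩⟩
  · rintro _ ⟨C, hC, rfl⟩ h0
    refine hne C hC ?_
    rw [← Subgroup.map_subgroupOf_eq_of_le (hS C hC), show C.subgroupOf X = ⊥ from h0, Subgroup.map_bot]
  · apply Subgroup.map_injective X.subtype_injective
    rw [iSup_image, ← MonoidHom.range_eq_map, Subgroup.range_subtype, Subgroup.map_iSup]
    simp only [Subgroup.map_iSup]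
    refine le_antisymm (iSup₂_le fun C hC => ?_) (hgen.ge.trans (iSup₂_le fun C hC => ?_))
    · rw [Subgroup.map_subgroupOf_eq_of_le (hS C hC)]; exact hS C hC
    · exact le_iSup₂_of_le C hC (Subgroup.map_subgroupOf_eq_of_le (hS C hC)).ge
  · rintro _ ⟨C, hC, rfl⟩ g
    exact ⟨_, hconj C hC g g.2, (conjBy_subgroupOf (hS C hC) g).symm⟩
  · rintro _ ⟨C, hC, rfl⟩ _ ⟨D, hD, rfl⟩
    rcases hpair C hC D hD with h | h | h
    · left; rw [commutator_subgroupOf (hS C hC) (hS D hD), h]; exact Subgroup.bot_subgroupOf _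
    · exact Or.inr (Or.inl (rankOnePair_subgroupOf h (hS C hC) (hS D hD)))
    · exact Or.inr (Or.inr (commCase_subgroupOf (hS C hC) (hS D hD) h))

lemma reach_subgroupOf (hS : ∀ C ∈ S, C ≤ X) (h : Relation.ReflTransGen (FAdj S) A B) :
    Relation.ReflTransGen (FAdj ((fun C => C.subgroupOf X) '' S)) (A.subgroupOf X)
      (B.subgroupOf X) := by
  induction h with
  | refl => exact .refl
  | tail _ hbc ih =>
    exact ih.tail ⟨⟨_, hbc.1, rfl⟩, ⟨_, hbc.2.1, rfl⟩,
      rankOnePair_subgroupOf hbc.2.2 (hS _ hbc.1) (hS _ hbc.2.1)⟩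

lemma reach_of_subgroupOf (hS : ∀ C ∈ S, C ≤ X) (hA : A ∈ S) (hB : B ∈ S)
    (h : Relation.ReflTransGen (FAdj ((fun C => C.subgroupOf X) '' S)) (A.subgroupOf X)
      (B.subgroupOf X)) : Relation.ReflTransGen (FAdj S) A B := by
  suffices key : ∀ P, Relation.ReflTransGen (FAdj ((fun C => C.subgroupOf X) '' S))
      (A.subgroupOf X) P → ∀ C ∈ S, C.subgroupOf X = P → Relation.ReflTransGen (FAdj S) A C from
    key _ h B hB rfl
  intro P hP
  induction hP with
  | refl => intro C hC e; rw [subgroupOf_inj (hS C hC) (hS A hA) e]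
  | tail _ hbc ih =>
    intro C hC e
    obtain ⟨D, hD, rfl⟩ := hbc.1
    subst e
    exact (ih D hD rfl).tail ⟨hD, hC, (rankOnePair_iff (hS D hD) (hS C hC)).1 hbc.2.2⟩

end CfsgLib.RootSubgroups.Transport
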