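import Cfsg.Agent.RootSubgroups.QuadCase
import Cfsg.Agent.RootSubgroups.QuadPSL2
import Cfsg.Agent.RootSubgroups.RootTransport

/-! The classes of minimal elements form a set of abstract root subgroups. -/

set_option autoImplicit false

namespace CfsgLib.RootSubgroups.QuadPair

open Cfsg

universe u

variable {k : Type u} [Field k] {M : Type u} [AddCommGroup M] [Module k M]
  [FiniteDimensional k M]
variable {G : Subgroup (LinearMap.GeneralLinearGroup k M)}
  {A B : Subgroup (LinearMap.GeneralLinearGroup k M)}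

lemma root_commutative (hA : A ∈ quadraticRootSubgroups G) : IsMulCommutative A := by
  obtain ⟨σ, hσ, rfl⟩ := hA
  exact ⟨⟨fun x y => Subtype.ext (E_comm hσ x.2 y.2)⟩⟩

lemma root_ne_bot (hA : A ∈ quadraticRootSubgroups G) : A ≠ ⊥ := by
  obtain ⟨σ, hσ, rfl⟩ := hA
  intro h
  have := (mem_E hσ).2 (inRoot_self hσ.1)
  rw [h, Subgroup.mem_bot] at this
  exact quad_ne hσ.1.2.1 (by rw [this, nil_one])

lemma root_le (hA : A ∈ quadraticRootSubgroups G) : A ≤ G := by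
  obtain ⟨σ, hσ, rfl⟩ := hA
  exact E_le hσ

lemma root_conj (hA : A ∈ quadraticRootSubgroups G) {g : LinearMap.GeneralLinearGroup k M}
    (hg : g ∈ G) : conjBy A g ∈ quadraticRootSubgroups G := by
  obtain ⟨σ, hσ, rfl⟩ := hA
  exact ⟨_, conj_minimal hσ hg, conjBy_E hσ hg⟩

variable (hk2 : ringChar k ≠ 2) (hk3 : Nat.card k ≠ 3) (hirr : Reduced G)

include hk2 hk3 hirr

/-- The trichotomy. -/
theorem root_pair (hA : A ∈ quadraticRootSubgroups G) (hB : B ∈ quadraticRootSubgroups G) :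
    ⁅A, B⁆ = ⊥ ∨ IsRankOnePair A B ∨ RootCommutatorCase (quadraticRootSubgroups G) A B := by
  obtain ⟨σ, hσ, rfl⟩ := hA
  obtain ⟨τ, hτ, rfl⟩ := hB
  rcases opp_or_triple hσ hτ hk2 hk3 with hop | hT
  · exact Or.inr (Or.inl (rankOnePair hk2 hk3 hσ hτ hop))
  · by_cases h0 : ⁅sameActionSubgroup G σ, sameActionSubgroup G τ⁆ = ⊥
    · exact Or.inl h0
    obtain ⟨ζ, hζ, heq, h1, h2, hcent, -⟩ := commutator_case hk2 hk3 hirr hσ hτ hT h0
    exact Or.inr (Or.inr ⟨⟨ζ, hζ, heq⟩, fun c hc x hx => hcent c (heq ▸ hc) x hx, h1, h2⟩)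

theorem root_partner (hA : A ∈ quadraticRootSubgroups G) :
    ∃ B ∈ quadraticRootSubgroups G, IsRankOnePair A B := by
  obtain ⟨σ, hσ, rfl⟩ := hA
  obtain ⟨g, hg, hop⟩ := exists_opp hk2 hk3 hirr hσ
  exact ⟨_, ⟨_, conj_minimal hσ hg, rfl⟩, rankOnePair hk2 hk3 hσ (conj_minimal hσ hg) hop⟩

theorem root_not_isolated (hA : A ∈ quadraticRootSubgroups G) :
    ¬ IsIsolatedIn (FAdj (quadraticRootSubgroups G)) (quadraticRootSubgroups G) A := fun h => by
  obtain ⟨B, hB, hr⟩ := root_partner hk2 hk3 hirr hA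
  exact (h.2 B).1 ⟨hA, hB, hr⟩

/-- Rank one pairs come from opposite classes. -/
theorem opp_of_rankOne {σ τ : LinearMap.GeneralLinearGroup k M}
    (hσ : σ ∈ minimalQuadraticElements G) (hτ : τ ∈ minimalQuadraticElements G)
    (hr : IsRankOnePair (sameActionSubgroup G σ) (sameActionSubgroup G τ)) : Opp σ τ := by
  refine (opp_or_triple hσ hτ hk2 hk3).resolve_right fun hT => ?_
  by_cases h0 : ⁅sameActionSubgroup G σ, sameActionSubgroup G τ⁆ = ⊥
  · exact rankOnePair_not_commute hr h0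
  obtain ⟨ζ, hζ, heq, h1, h2, hcent, -⟩ := commutator_case hk2 hk3 hirr hσ hτ hT h0
  exact commCase_not_rankOne (S := quadraticRootSubgroups G)
    ⟨⟨ζ, hζ, heq⟩, fun c hc x hx => hcent c (heq ▸ hc) x hx, h1, h2⟩ hr

theorem root_psl2 (hA : A ∈ quadraticRootSubgroups G) (hB : B ∈ quadraticRootSubgroups G)
    (hr : IsRankOnePair A B) :
    ∃ A₀ B₀ : Subgroup (LinearMap.GeneralLinearGroup k M), A₀ ≤ A ∧ B₀ ≤ B ∧
      ∃ (k₁ : Type u) (_ : Field k₁), 3 < ENat.card k₁ ∧ IsPSL2PairOver k₁ A₀ B₀ := by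
  obtain ⟨σ, hσ, rfl⟩ := hA
  obtain ⟨τ, hτ, rfl⟩ := hB
  exact exists_psl2 hσ hτ hk2 hk3 (opp_of_rankOne hk2 hk3 hirr hσ hτ hr)

theorem root_special (hA : A ∈ quadraticRootSubgroups G) (hB : B ∈ quadraticRootSubgroups G)
    (hr : IsRankOnePair A B) : IsSpecialRankOnePair A B := by
  obtain ⟨σ, hσ, rfl⟩ := hA
  obtain ⟨τ, hτ, rfl⟩ := hB
  exact special hk2 hk3 hσ hτ (opp_of_rankOne hk2 hk3 hirr hσ hτ hr)

/-- The set of abstract root subgroups of `G₀`. -/
theorem root_set : IsRootSubgroupSet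
    ((fun A : Subgroup (LinearMap.GeneralLinearGroup k M) =>
      A.subgroupOf (⨆ B ∈ quadraticRootSubgroups G, B)) '' quadraticRootSubgroups G) :=
  Transport.isRootSubgroupSet_subgroupOf (X := ⨆ B ∈ quadraticRootSubgroups G, B)
    (S := quadraticRootSubgroups G) rfl (fun _ hC => root_commutative hC)
    (fun _ hC => root_ne_bot hC)
    (fun _ hC _ hg => root_conj hC
      ((show (⨆ B ∈ quadraticRootSubgroups G, B) ≤ G from iSup₂_le fun B hB => root_le hB) hg))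
    (fun _ hC _ hD => root_pair hk2 hk3 hirr hC hD)

end CfsgLib.RootSubgroups.QuadPair
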