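import Cfsg.Agent.RootSubgroups.QuadPartner

/-! The class of the commutators of two non-commuting classes without opposite triple products. -/

set_option autoImplicit false

namespace CfsgLib.RootSubgroups.QuadPair

open Cfsg

universe u

variable {k : Type u} [Field k] {M : Type u} [AddCommGroup M] [Module k M]
  [FiniteDimensional k M]
variable {G : Subgroup (LinearMap.GeneralLinearGroup k M)}
  {σ τ ζ : LinearMap.GeneralLinearGroup k M}

omit [FiniteDimensional k M] in
lemma InRoot.congr {σ' : LinearMap.GeneralLinearGroup k M} {a : Module.End k M}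
    (hk : LinearMap.ker (nil σ) = LinearMap.ker (nil σ')) (hr : cspace σ = cspace σ')
    (ha : InRoot G σ a) : InRoot G σ' a :=
  ⟨hk ▸ ha.1, (show LinearMap.range a ≤ cspace σ' from hr ▸ ha.2.1), ha.2.2⟩

lemma same_of_common {σ' : LinearMap.GeneralLinearGroup k M}
    (hσ : σ ∈ minimalQuadraticElements G) (hσ' : σ' ∈ minimalQuadraticElements G)
    {a : Module.End k M} (ha : InRoot G σ a) (ha' : InRoot G σ' a) (h0 : a ≠ 0) :
    LinearMap.ker (nil σ) = LinearMap.ker (nil σ') ∧ cspace σ = cspace σ' := by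
  obtain ⟨h1, h2⟩ := InRoot.ker_range hσ ha h0
  obtain ⟨h3, h4⟩ := InRoot.ker_range hσ' ha' h0
  exact ⟨h1 ▸ h3, h2 ▸ h4⟩

/-- `a` moves the flag of `z` one step down. -/
structure Core (z a : Module.End k M) : Prop where
  left : z * a = 0
  right : a * z = 0
  step : ∀ m, z m = 0 → a m ∈ LinearMap.range z

omit [FiniteDimensional k M] in
lemma Core.kill {a : Module.End k M} (h : Core (nil ζ) a) {c : Module.End k M}
    (hc : InRoot G ζ c) : c * a = 0 ∧ a * c = 0 := by
  refine ⟨LinearMap.ext fun m => hc.1 (LinearMap.congr_fun h.left m), LinearMap.ext fun m => ?_⟩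
  obtain ⟨x, hx⟩ := hc.2.1 ⟨m, rfl⟩
  show a (c m) = 0
  rw [← hx]
  exact LinearMap.congr_fun h.right x

variable (hσ : σ ∈ minimalQuadraticElements G) (hτ : τ ∈ minimalQuadraticElements G)

include hσ hτ

/-- Non-commuting classes with vanishing triple products have their commutators in one class. -/
theorem Triple.shape (hT : Triple G σ τ)
    (hne : nil σ * nil τ ≠ nil τ * nil σ) :
    ∃ ζ ∈ minimalQuadraticElements G, nil ζ = nil σ * nil τ - nil τ * nil σ ∧
      (∀ a, InRoot G σ a → ∀ b, InRoot G τ b → InRoot G ζ (a * b - b * a) ∧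
        (a ≠ 0 → b ≠ 0 → a * b ≠ b * a)) ∧
      (∀ a, InRoot G σ a → Core (nil ζ) a) ∧ ∀ b, InRoot G τ b → Core (nil ζ) b := by
  set V := cspace σ with hV
  set W := cspace τ with hW
  set V0 := V ⊓ LinearMap.ker (nil τ) with hV0
  set W0 := W ⊓ LinearMap.ker (nil σ) with hW0
  set R := V0 ⊔ W0 with hR
  set K := (LinearMap.ker (nil τ) ⊔ V) ⊓ (LinearMap.ker (nil σ) ⊔ W) with hK
  have hnc : ∀ a, InRoot G σ a → ∀ b, InRoot G τ b → a ≠ 0 → b ≠ 0 → a * b ≠ b * a :=
    fun a ha b hb ha0 hb0 h =>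
      hne (Triple.comm_all hσ hτ hT ha ha0 hb hb0 h (inRoot_self hσ.1) (inRoot_self hτ.1))
  have main : ∀ a, InRoot G σ a → ∀ b, InRoot G τ b → a ≠ 0 → b ≠ 0 →
      LinearMap.range (a * b - b * a) = R ∧ LinearMap.ker (a * b - b * a) = K ∧
      W.map a = V0 ∧ V.map b = W0 ∧ Module.finrank k R = Module.finrank k (cspace σ) := by
    intro a ha b hb ha0 hb0
    obtain ⟨hka, hra⟩ := InRoot.ker_range hσ ha ha0
    obtain ⟨hkb, hrb⟩ := InRoot.ker_range hτ hb hb0
    rw [← hV] at hra
    rw [← hW] at hrb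
    have hab : LinearMap.range (a * b) = W.map a := by
      rw [Module.End.mul_eq_comp, LinearMap.range_comp, hrb]
    have hba : LinearMap.range (b * a) = V.map b := by
      rw [Module.End.mul_eq_comp, LinearMap.range_comp, hra]
    have l1 : LinearMap.range (a * b) ≤ V0 := by
      rintro _ ⟨m, rfl⟩
      exact ⟨ha.2.1 ⟨_, rfl⟩, LinearMap.congr_fun (hT.2 _ (inRoot_self hτ.1) _ ha _ hb) m⟩
    have l2 : LinearMap.range (b * a) ≤ W0 := by
      rintro _ ⟨m, rfl⟩
      exact ⟨hb.2.1 ⟨_, rfl⟩, LinearMap.congr_fun (hT.1 _ (inRoot_self hσ.1) _ hb _ ha) m⟩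
    have e1 : Module.finrank k (W.map a) + Module.finrank k W0 = Module.finrank k W := by
      rw [hW0, ← hka]; exact finrank_map_add_inf a W
    have e2 : Module.finrank k (V.map b) + Module.finrank k V0 = Module.finrank k V := by
      rw [hV0, ← hkb]; exact finrank_map_add_inf b V
    have e3 : Module.finrank k V = Module.finrank k W := finrank_cspace_eq hσ hτ
    obtain ⟨hf, h2⟩ := Triple.hasFamily hσ hτ hT ha hb
    have e4 := (eq_zero_or_rank_le hσ hf h2).resolve_left
      (sub_ne_zero.2 (hnc a ha b hb ha0 hb0))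
    rw [← hV] at e4
    have hle : LinearMap.range (a * b - b * a) ≤ W.map a ⊔ V.map b := by
      rintro _ ⟨m, rfl⟩
      refine sub_mem (Submodule.mem_sup_left ?_) (Submodule.mem_sup_right ?_)
      · exact hab ▸ ⟨m, rfl⟩
      · exact hba ▸ ⟨m, rfl⟩
    have e5 := Submodule.finrank_sup_add_finrank_inf_eq (W.map a) (V.map b)
    have e6 := Submodule.finrank_mono hle
    rw [hab] at l1
    rw [hba] at l2
    have e7 := Submodule.finrank_mono l1
    have e8 := Submodule.finrank_mono l2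
    have h1 : W.map a = V0 := Submodule.eq_of_le_of_finrank_le l1 (by omega)
    have h3 : V.map b = W0 := Submodule.eq_of_le_of_finrank_le l2 (by omega)
    rw [h1] at hle e5 e6 e1
    rw [h3] at hle e5 e6
    have hr : LinearMap.range (a * b - b * a) = R :=
      Submodule.eq_of_le_of_finrank_le hle (by rw [hR]; omega)
    have hd : V0 ⊓ W0 = ⊥ := Submodule.finrank_eq_zero.1 (by omega)
    have kab : LinearMap.ker (a * b) = LinearMap.ker (nil τ) ⊔ V := by
      refine (Submodule.eq_of_le_of_finrank_le (sup_le (fun m hm => ?_) ?_) ?_).symm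
      · show a (b m) = 0
        rw [hb.1 hm, map_zero]
      · rw [← hra]; rintro _ ⟨m, rfl⟩; exact LinearMap.congr_fun (hT.1 _ ha _ hb _ ha) m
      · have i1 := LinearMap.finrank_range_add_finrank_ker (a * b)
        have i2 := LinearMap.finrank_range_add_finrank_ker (nil τ)
        have i3 := Submodule.finrank_sup_add_finrank_inf_eq (LinearMap.ker (nil τ)) V
        rw [inf_comm, ← hV0] at i3
        rw [hab, h1] at i1
        rw [show LinearMap.range (nil τ) = W from rfl] at i2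
        omega
    have kba : LinearMap.ker (b * a) = LinearMap.ker (nil σ) ⊔ W := by
      refine (Submodule.eq_of_le_of_finrank_le (sup_le (fun m hm => ?_) ?_) ?_).symm
      · show b (a m) = 0
        rw [ha.1 hm, map_zero]
      · rw [← hrb]; rintro _ ⟨m, rfl⟩; exact LinearMap.congr_fun (hT.2 _ hb _ ha _ hb) m
      · have i1 := LinearMap.finrank_range_add_finrank_ker (b * a)
        have i2 := LinearMap.finrank_range_add_finrank_ker (nil σ)
        have i3 := Submodule.finrank_sup_add_finrank_inf_eq (LinearMap.ker (nil σ)) W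
        rw [inf_comm, ← hW0] at i3
        rw [hba, h3] at i1
        rw [show LinearMap.range (nil σ) = V from rfl] at i2
        omega
    refine ⟨hr, ?_, h1, h3, ?_⟩
    · rw [hK, ← kab, ← kba]
      refine le_antisymm (fun m hm => ?_) fun m ⟨hm, hm'⟩ => ?_
      · have e : a (b m) = b (a m) := sub_eq_zero.1 hm
        have : a (b m) ∈ V0 ⊓ W0 := ⟨h1 ▸ hab ▸ ⟨m, rfl⟩, e ▸ h3 ▸ hba ▸ ⟨m, rfl⟩⟩
        rw [hd, Submodule.mem_bot] at this
        exact ⟨this, by show b (a m) = 0; rw [← e, this]⟩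
      · show a (b m) - b (a m) = 0
        rw [show a (b m) = 0 from hm, show b (a m) = 0 from hm', sub_zero]
    · rw [← hV, hR]; omega
  have hs := inRoot_self hσ.1
  have ht := inRoot_self hτ.1
  obtain ⟨m1, m2, -, -, m5⟩ := main _ hs _ ht (quad_ne hσ.1.2.1) (quad_ne hτ.1.2.1)
  obtain ⟨hf, h2⟩ := Triple.hasFamily hσ hτ hT hs ht
  obtain ⟨ζ, hζ, hz⟩ := exists_minimal hσ hf h2 (sub_ne_zero.2 hne) (by rw [m1, m5])
  refine ⟨ζ, hζ, hz, fun a ha b hb => ⟨?_, hnc a ha b hb⟩, fun a ha => ⟨?_, ?_, fun m hm => ?_⟩,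
    fun b hb => ⟨?_, ?_, fun m hm => ?_⟩⟩
  · refine ⟨?_, ?_, (Triple.hasFamily hσ hτ hT ha hb).1⟩ <;>
      rcases eq_or_ne a 0 with rfl | ha0
    · simp
    · rcases eq_or_ne b 0 with rfl | hb0
      · simp
      · rw [hz, m2, (main a ha b hb ha0 hb0).2.1]
    · simp
    · rcases eq_or_ne b 0 with rfl | hb0
      · simp
      · rw [(main a ha b hb ha0 hb0).1, ← m1, ← hz]
  · rw [hz, sub_mul, hT.1 _ hs _ ht _ ha, mul_assoc, InRoot.mul_eq_zero hσ hs ha, mul_zero, sub_zero]
  · rw [hz, mul_sub, ← mul_assoc, ← mul_assoc, InRoot.mul_eq_zero hσ ha hs, hT.1 _ ha _ ht _ hs,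
      zero_mul, sub_zero]
  · rw [hz] at hm ⊢
    rw [m1]
    rcases eq_or_ne a 0 with rfl | ha0
    · simp
    have hm' : m ∈ K := m2 ▸ hm
    obtain ⟨x, hx, w, hw, rfl⟩ := Submodule.mem_sup.1 hm'.2
    rw [map_add, ha.1 hx, zero_add]
    exact Submodule.mem_sup_left
      ((main a ha _ ht ha0 (quad_ne hτ.1.2.1)).2.2.1 ▸ ⟨w, hw, rfl⟩)
  · rw [hz, sub_mul, mul_assoc, InRoot.mul_eq_zero hτ ht hb, mul_zero, hT.2 _ ht _ hs _ hb, sub_zero]
  · rw [hz, mul_sub, ← mul_assoc, ← mul_assoc, InRoot.mul_eq_zero hτ hb ht, hT.2 _ hb _ hs _ ht,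
      zero_mul, sub_zero]
  · rw [hz] at hm ⊢
    rw [m1]
    rcases eq_or_ne b 0 with rfl | hb0
    · simp
    have hm' : m ∈ K := m2 ▸ hm
    obtain ⟨x, hx, w, hw, rfl⟩ := Submodule.mem_sup.1 hm'.1
    rw [map_add, hb.1 hx, zero_add]
    exact Submodule.mem_sup_right
      ((main _ hs b hb (quad_ne hσ.1.2.1) hb0).2.2.2.1 ▸ ⟨w, hw, rfl⟩)

end CfsgLib.RootSubgroups.QuadPair
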