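import Cfsg.Agent.RootSubgroups.QuadRankOne
import Cfsg.Agent.RootSubgroups.Unipotent

/-! Two classes all of whose triple products vanish: commutation and the shape of the commutators. -/

set_option autoImplicit false

namespace CfsgLib.RootSubgroups.QuadPair

open Cfsg Polynomial

universe u

variable {k : Type u} [Field k] {M : Type u} [AddCommGroup M] [Module k M]
  [FiniteDimensional k M]
variable {G : Subgroup (LinearMap.GeneralLinearGroup k M)} {σ τ : LinearMap.GeneralLinearGroup k M}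

/-- All triple products of the two classes vanish. -/
def Triple (G : Subgroup (LinearMap.GeneralLinearGroup k M))
    (σ τ : LinearMap.GeneralLinearGroup k M) : Prop :=
  (∀ a, InRoot G σ a → ∀ b, InRoot G τ b → ∀ a', InRoot G σ a' → a * b * a' = 0) ∧
    ∀ b, InRoot G τ b → ∀ a, InRoot G σ a → ∀ b', InRoot G τ b' → b * a * b' = 0

omit [FiniteDimensional k M] in
lemma Triple.symm (h : Triple G σ τ) : Triple G τ σ := ⟨h.2, h.1⟩

omit [FiniteDimensional k M] in
lemma nil_inv {z : LinearMap.GeneralLinearGroup k M} (hz : nil z * nil z = 0) :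
    nil z⁻¹ = -nil z := by
  have e : ((z⁻¹ : LinearMap.GeneralLinearGroup k M) : M →ₗ[k] M) = 1 - nil z :=
    Units.inv_eq_of_mul_eq_one_right (by
      rw [coe_eq_one_add z, add_mul, one_mul, mul_sub, mul_one, hz]; abel)
  rw [nil, e]; abel

omit [FiniteDimensional k M] in
/-- The commutator of two square-zero transvection-like elements. -/
lemma nil_commutator {x y : LinearMap.GeneralLinearGroup k M} (hx : nil x * nil x = 0)
    (hy : nil y * nil y = 0) (hxyx : nil x * nil y * nil x = 0) (hyxy : nil y * nil x * nil y = 0) :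
    nil (x * y * x⁻¹ * y⁻¹) = nil x * nil y - nil y * nil x := by
  have h4 : nil x * nil y * nil y = 0 := by rw [mul_assoc, hy, mul_zero]
  simp only [nil_mul, nil_inv hx, nil_inv hy, add_mul, neg_mul, mul_neg, hx, hy, hxyx,
    hyxy, h4, neg_zero, add_zero, zero_add]
  abel

omit [FiniteDimensional k M] in
lemma commute_iff_nil {x y : LinearMap.GeneralLinearGroup k M} :
    x * y = y * x ↔ nil x * nil y = nil y * nil x := by
  constructor
  · intro h
    have := congrArg nil h
    rwa [nil_mul, nil_mul, add_comm (nil y), add_right_inj] at this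
  · intro h
    apply nil_injective
    rw [nil_mul, nil_mul, h, add_comm (nil x)]

omit [FiniteDimensional k M] in
lemma sq_comm_eq_zero {f g : Module.End k M} (hf : f * f = 0) (hg : g * g = 0)
    (h : f * g * f = 0) (h' : g * f * g = 0) : (f * g - g * f) * (f * g - g * f) = 0 := by
  simp only [sub_mul, mul_sub, ← mul_assoc, h, h', zero_mul]
  rw [mul_assoc f g g, hg, mul_assoc g f f, hf]
  simp

omit [FiniteDimensional k M] in
lemma HasFamily.comm {f g : Module.End k M} (hf : HasFamily G f) (hg : HasFamily G g)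
    (hf2 : f * f = 0) (hg2 : g * g = 0) (h : f * g * f = 0) (h' : g * f * g = 0) :
    HasFamily G (f * g - g * f) := by
  intro c
  obtain ⟨x, hx, e⟩ := hf c
  obtain ⟨y, hy, rfl⟩ := hg.exists_elem
  have ex : nil x = c • f := by rw [nil, e, add_sub_cancel_left]
  refine ⟨x * y * x⁻¹ * y⁻¹, mul_mem (mul_mem (mul_mem hx hy) (inv_mem hx)) (inv_mem hy), ?_⟩
  rw [coe_eq_one_add, nil_commutator (x := x) (y := y) (by rw [ex, smul_mul_smul_comm, hf2, smul_zero])
    hg2 (by simp [ex, h]) (by simp [ex, h']), ex, smul_sub, smul_mul_assoc, mul_smul_comm]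

omit [FiniteDimensional k M] in
lemma isUnipotentOn_mono {H K : Subgroup (LinearMap.GeneralLinearGroup k M)} (h : K ≤ H)
    (hH : IsUnipotentOn H) : IsUnipotentOn K := by
  obtain ⟨n, hn⟩ := hH
  exact ⟨n, fun l hl => hn l fun g hg => h (hl g hg)⟩

lemma finrank_map_add_inf (f : Module.End k M) (W : Submodule k M) :
    Module.finrank k (W.map f) + Module.finrank k (W ⊓ LinearMap.ker f : Submodule k M) =
      Module.finrank k W := by
  have h := LinearMap.finrank_range_add_finrank_ker (f.domRestrict W)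
  rw [LinearMap.range_domRestrict] at h
  have e : (LinearMap.ker (f.domRestrict W)).map W.subtype = W ⊓ LinearMap.ker f := by
    ext m
    constructor
    · rintro ⟨x, hx, rfl⟩; exact ⟨x.2, hx⟩
    · rintro ⟨h1, h2⟩; exact ⟨⟨m, h1⟩, h2, rfl⟩
  rw [← e, Submodule.finrank_map_subtype_eq]
  exact h

omit [FiniteDimensional k M] in
lemma finrank_cspace_eq (hσ : σ ∈ minimalQuadraticElements G) (hτ : τ ∈ minimalQuadraticElements G) :
    Module.finrank k (cspace σ) = Module.finrank k (cspace τ) :=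
  le_antisymm (hσ.2 τ hτ.1) (hτ.2 σ hσ.1)

lemma finrank_ker_eq (hσ : σ ∈ minimalQuadraticElements G) (hτ : τ ∈ minimalQuadraticElements G) :
    Module.finrank k (LinearMap.ker (nil σ)) = Module.finrank k (LinearMap.ker (nil τ)) := by
  have h := finrank_cspace_eq hσ hτ
  have h1 := LinearMap.finrank_range_add_finrank_ker (nil σ)
  have h2 := LinearMap.finrank_range_add_finrank_ker (nil τ)
  rw [cspace, cspace] at h
  omega

omit [FiniteDimensional k M] in
lemma E_mem_quadraticRootSubgroups (hσ : σ ∈ minimalQuadraticElements G) :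
    sameActionSubgroup G σ ∈ quadraticRootSubgroups G := ⟨σ, hσ, rfl⟩

lemma E_comm (hσ : σ ∈ minimalQuadraticElements G) {x y : LinearMap.GeneralLinearGroup k M}
    (hx : x ∈ sameActionSubgroup G σ) (hy : y ∈ sameActionSubgroup G σ) : x * y = y * x := by
  rw [commute_iff_nil, InRoot.mul_eq_zero hσ ((mem_E hσ).1 hx) ((mem_E hσ).1 hy),
    InRoot.mul_eq_zero hσ ((mem_E hσ).1 hy) ((mem_E hσ).1 hx)]

lemma fixed_E (hσ : σ ∈ minimalQuadraticElements G) :
    fixedSubmodule (sameActionSubgroup G σ) = LinearMap.ker (nil σ) := by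
  apply le_antisymm
  · intro m hm
    simp only [fixedSubmodule, Submodule.mem_iInf, LinearMap.mem_ker] at hm
    exact hm σ ((mem_E hσ).2 (inRoot_self hσ.1))
  · intro m hm
    simp only [fixedSubmodule, Submodule.mem_iInf, LinearMap.mem_ker]
    exact fun g hg => ((mem_E hσ).1 hg).1 hm

lemma comm_E (hσ : σ ∈ minimalQuadraticElements G) :
    commutatorSubmodule (sameActionSubgroup G σ) = cspace σ := by
  apply le_antisymm
  · exact iSup₂_le fun g hg => ((mem_E hσ).1 hg).2.1
  · exact le_iSup₂_of_le (f := fun g (_ : g ∈ sameActionSubgroup G σ) =>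
      LinearMap.range ((g : M →ₗ[k] M) - 1)) σ ((mem_E hσ).2 (inRoot_self hσ.1)) le_rfl

variable (hσ : σ ∈ minimalQuadraticElements G) (hτ : τ ∈ minimalQuadraticElements G)

include hσ hτ

/-- Opposite classes have no non-trivial commuting elements. -/
lemma Opp.not_comm (h : Opp σ τ) {a b : Module.End k M} (ha : InRoot G σ a) (hb : InRoot G τ b)
    (hab : a * b = b * a) : a = 0 ∨ b = 0 := by
  by_contra hne
  rw [not_or] at hne
  obtain ⟨hka, hra⟩ := InRoot.ker_range hσ ha hne.1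
  obtain ⟨hkb, hrb⟩ := InRoot.ker_range hτ hb hne.2
  apply hne.1
  refine LinearMap.ext fun m => ?_
  have hm : a m ∈ cspace σ := hra ▸ ⟨m, rfl⟩
  have h0 : a (b (a m)) = 0 := by
    rw [← Module.End.mul_apply a b, hab, Module.End.mul_apply,
      show a (a m) = 0 from LinearMap.congr_fun (InRoot.mul_eq_zero hσ ha ha) m, map_zero]
  have h1 : b (a m) = 0 := (Submodule.eq_bot_iff _).1 h.2 _
    ⟨hrb ▸ ⟨_, rfl⟩, hka ▸ h0⟩
  exact (Submodule.eq_bot_iff _).1 h.1 _ ⟨hm, hkb ▸ h1⟩

omit hσ hτ in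
lemma Triple.commutator (hσ : σ ∈ minimalQuadraticElements G) (hτ : τ ∈ minimalQuadraticElements G)
    (hT : Triple G σ τ) {x y : LinearMap.GeneralLinearGroup k M}
    (hx : x ∈ sameActionSubgroup G σ) (hy : y ∈ sameActionSubgroup G τ) :
    nil (x * y * x⁻¹ * y⁻¹) = nil x * nil y - nil y * nil x :=
  have ha := (mem_E hσ).1 hx
  have hb := (mem_E hτ).1 hy
  nil_commutator (InRoot.mul_eq_zero hσ ha ha) (InRoot.mul_eq_zero hτ hb hb) (hT.1 _ ha _ hb _ ha)
    (hT.2 _ hb _ ha _ hb)

lemma Triple.hasFamily (hT : Triple G σ τ) {a b : Module.End k M} (ha : InRoot G σ a)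
    (hb : InRoot G τ b) :
    HasFamily G (a * b - b * a) ∧ (a * b - b * a) * (a * b - b * a) = 0 :=
  ⟨HasFamily.comm ha.2.2 hb.2.2 (InRoot.mul_eq_zero hσ ha ha) (InRoot.mul_eq_zero hτ hb hb)
      (hT.1 _ ha _ hb _ ha) (hT.2 _ hb _ ha _ hb),
    sq_comm_eq_zero (InRoot.mul_eq_zero hσ ha ha) (InRoot.mul_eq_zero hτ hb hb)
      (hT.1 _ ha _ hb _ ha) (hT.2 _ hb _ ha _ hb)⟩

/-- Vanishing triple products: the join is unipotent. -/
theorem Triple.unipotent (hT : Triple G σ τ) :
    IsUnipotentOn (sameActionSubgroup G σ ⊔ sameActionSubgroup G τ) := by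
  let F1 : Submodule k M := LinearMap.ker (nil σ) ⊓ LinearMap.ker (nil τ)
  let F2 : Submodule k M :=
    (⨅ (a : Module.End k M) (_ : InRoot G σ a), F1.comap a) ⊓
      ⨅ (b : Module.End k M) (_ : InRoot G τ b), F1.comap b
  have hF1 : ∀ m ∈ F1, (∀ a, InRoot G σ a → a m = 0) ∧ ∀ b, InRoot G τ b → b m = 0 :=
    fun m hm => ⟨fun a ha => ha.1 hm.1, fun b hb => hb.1 hm.2⟩
  have hF2 : ∀ {m : M}, m ∈ F2 ↔
      (∀ a, InRoot G σ a → a m ∈ F1) ∧ ∀ b, InRoot G τ b → b m ∈ F1 := fun {m} => by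
    simp [F2, Submodule.mem_iInf]
  have h12 : F1 ≤ F2 := fun m hm => hF2.2 ⟨fun a ha => by rw [(hF1 m hm).1 a ha]; exact zero_mem _,
    fun b hb => by rw [(hF1 m hm).2 b hb]; exact zero_mem _⟩
  let fl : Flag k M :=
    { F := fun t => if t = 0 then ⊥ else if t = 1 then F1 else if t = 2 then F2 else ⊤
      zero := rfl
      mono := fun t => by
        match t with
        | 0 => exact bot_le
        | 1 => exact h12
        | 2 => exact le_top
        | t + 3 => exact le_top
      top := ⟨3, rfl⟩ }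
  have key : ∀ {σ' τ' : LinearMap.GeneralLinearGroup k M}, σ' ∈ minimalQuadraticElements G →
      τ' ∈ minimalQuadraticElements G → Triple G σ' τ' →
      ∀ a, InRoot G σ' a → ∀ m, (∀ a', InRoot G σ' a' → a' (a m) = 0) ∧
        ∀ b, InRoot G τ' b → b (a m) ∈ LinearMap.ker (nil σ') ⊓ LinearMap.ker (nil τ') := by
    intro σ' τ' h1 h2 hT' a ha m
    exact ⟨fun a' ha' => LinearMap.congr_fun (InRoot.mul_eq_zero h1 ha' ha) m,
      fun b hb => ⟨LinearMap.congr_fun (hT'.1 _ (inRoot_self h1.1) _ hb _ ha) m,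
        range_le_ker h2 (hb.2.1 ⟨_, rfl⟩)⟩⟩
  refine unipotent_of_flag (fl := fl) fun g hg => ?_
  suffices h : sameActionSubgroup G σ ⊔ sameActionSubgroup G τ ≤ lowerGroup fl 1 from (h hg).1
  refine sup_le (le_lowerGroup fun x hx => ?_) (le_lowerGroup fun x hx => ?_) <;>
    intro t m hm <;> show nil x m ∈ _
  · have ha := (mem_E hσ).1 hx
    rcases t with _ | _ | _ | t
    · exact (Submodule.mem_bot k).2 ((hF1 m hm).1 _ ha)
    · exact (hF2.1 hm).1 _ ha
    · refine hF2.2 ⟨fun a' ha' => ?_, fun b hb => (key hσ hτ hT _ ha m).2 b hb⟩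
      rw [(key hσ hτ hT _ ha m).1 a' ha']; exact zero_mem _
    · exact Submodule.mem_top
  · have hb := (mem_E hτ).1 hx
    rcases t with _ | _ | _ | t
    · exact (Submodule.mem_bot k).2 ((hF1 m hm).2 _ hb)
    · exact (hF2.1 hm).2 _ hb
    · refine hF2.2 ⟨fun a ha => And.symm ((key hτ hσ hT.symm _ hb m).2 a ha), fun b hb' => ?_⟩
      rw [(key hτ hσ hT.symm _ hb m).1 b hb']; exact zero_mem _
    · exact Submodule.mem_top

lemma Triple.comm_right (hT : Triple G σ τ) {a b b' : Module.End k M} (ha : InRoot G σ a)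
    (hb : InRoot G τ b) (hb0 : b ≠ 0) (hb' : InRoot G τ b') (hab : a * b = b * a) :
    a * b' = b' * a := by
  rcases eq_or_ne a 0 with rfl | ha0
  · simp
  obtain ⟨hka, hra⟩ := InRoot.ker_range hσ ha ha0
  obtain ⟨-, hrb⟩ := InRoot.ker_range hτ hb hb0
  set W0 := cspace τ ⊓ LinearMap.ker (nil σ) with hW0
  have h1 : ∀ {c}, InRoot G τ c → ∀ m, c (a m) ∈ W0 := fun {c} hc m =>
    ⟨hc.2.1 ⟨_, rfl⟩, LinearMap.congr_fun (hT.1 _ (inRoot_self hσ.1) _ hc _ ha) m⟩
  have hle : LinearMap.range (a * b' - b' * a) ≤ W0 := by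
    rintro _ ⟨m, rfl⟩
    refine sub_mem ?_ (h1 hb' m)
    obtain ⟨m', hm'⟩ : b' m ∈ LinearMap.range b := hrb ▸ hb'.2.1 ⟨m, rfl⟩
    rw [Module.End.mul_apply, ← hm', ← Module.End.mul_apply, hab]
    exact h1 hb m'
  obtain ⟨hf, h2⟩ := Triple.hasFamily hσ hτ hT ha hb'
  refine sub_eq_zero.1 ((eq_zero_or_rank_le hσ hf h2).resolve_right fun hd => ?_) |>.trans rfl
  have hW : W0 = cspace τ := Submodule.eq_of_le_of_finrank_le inf_le_left
    (le_of_eq_of_le (finrank_cspace_eq hσ hτ).symm (hd.trans (Submodule.finrank_mono hle)))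
  have hWK : ∀ {c}, InRoot G τ c → a * c = 0 := fun {c} hc => LinearMap.ext fun m =>
    ha.1 (hW ▸ hc.2.1 ⟨m, rfl⟩ : c m ∈ W0).2
  have hba : b * a = 0 := hab ▸ hWK hb
  have hV : b' * a = 0 := LinearMap.ext fun m => by
    have := (InRoot.ker_range hτ hb hb0).1
    exact hb'.1 (this ▸ LinearMap.congr_fun hba m)
  rw [hWK hb', hV, sub_zero, LinearMap.range_zero, finrank_bot] at hd
  exact quad_ne hσ.1.2.1 (LinearMap.range_eq_bot.1
    (Submodule.finrank_eq_zero.1 (Nat.le_zero.1 hd)))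

lemma Triple.comm_all (hT : Triple G σ τ) {a b : Module.End k M} (ha : InRoot G σ a) (ha0 : a ≠ 0)
    (hb : InRoot G τ b) (hb0 : b ≠ 0) (hab : a * b = b * a)
    {a' b' : Module.End k M} (ha' : InRoot G σ a') (hb' : InRoot G τ b') : a' * b' = b' * a' := by
  have h := Triple.comm_right hσ hτ hT ha hb hb0 hb' hab
  exact (Triple.comm_right hτ hσ hT.symm hb' ha ha0 ha' h.symm).symm

/-- An element normalising the other class commutes with it. -/
lemma Triple.comm_of_normalize (hT : Triple G σ τ) {a b : Module.End k M} (ha : InRoot G σ a)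
    (hb : InRoot G τ b) (hz : InRoot G τ (a * b - b * a)) : a * b = b * a := by
  refine sub_eq_zero.1 (by_contra fun h0 => ?_)
  obtain ⟨hkz, hrz⟩ := InRoot.ker_range hτ hz h0
  have ha0 : a ≠ 0 := fun h => h0 (by simp [h])
  have hb0 : b ≠ 0 := fun h => h0 (by simp [h])
  obtain ⟨hka, hra⟩ := InRoot.ker_range hσ ha ha0
  obtain ⟨hkb, hrb⟩ := InRoot.ker_range hτ hb hb0
  have hW : cspace τ ≤ LinearMap.ker a := by
    rw [← hrz]
    rintro _ ⟨m, rfl⟩
    show a ((a * b - b * a) m) = 0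
    rw [← Module.End.mul_apply, mul_sub, ← mul_assoc, InRoot.mul_eq_zero hσ ha ha, ← mul_assoc,
      hT.1 _ ha _ hb _ ha, zero_mul, sub_zero, LinearMap.zero_apply]
  have hab : a * b = 0 := LinearMap.ext fun m => hW (hrb ▸ ⟨m, rfl⟩)
  have hKK : LinearMap.ker (nil σ) = LinearMap.ker (nil τ) :=
    Submodule.eq_of_le_of_finrank_le (fun m hm => hkz ▸ (by
      show (a * b - b * a) m = 0
      simp [hab, show a m = 0 by rw [← LinearMap.mem_ker, hka]; exact hm])) (finrank_ker_eq hσ hτ).ge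
  apply h0
  rw [hab, zero_sub, neg_eq_zero]
  exact LinearMap.ext fun m => hb.1 (hKK ▸ range_le_ker hσ (ha.2.1 ⟨m, rfl⟩))

end CfsgLib.RootSubgroups.QuadPair
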