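import Cfsg.Agent.RootSubgroups.SL2GenAlgebra

/-! The words in two elements `s`, `t` of square zero of an algebra, read off polynomial matrices:
`up c ↦ 1 + c s`, `lo (c X) ↦ 1 + c t`. -/

set_option autoImplicit false

namespace CfsgLib.RootSubgroups.QuadWord

open Cfsg Matrix Polynomial
open CfsgLib.RootSubgroups.Gen2
open scoped MatrixGroups

variable {k : Type*} [Field k] {A : Type*} [Ring A] [Algebra k A] {s t : A}

lemma mul_aeval_comm (s t : A) (f : k[X]) :
    s * aeval (t * s) f = aeval (s * t) f * s := by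
  induction f using Polynomial.induction_on' with
  | add f g hf hg => rw [map_add, map_add, mul_add, add_mul, hf, hg]
  | monomial n a =>
    have h : ∀ n : ℕ, s * (t * s) ^ n = (s * t) ^ n * s := fun n => by
      induction n with
      | zero => simp
      | succ n ih => rw [pow_succ, ← mul_assoc, ih, pow_succ]; simp only [mul_assoc]
    rw [aeval_monomial, aeval_monomial, ← mul_assoc, ← Algebra.commutes, mul_assoc, h, mul_assoc]

lemma mul_aeval_self (hs : s * s = 0) (t : A) (f : k[X]) :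
    s * aeval (s * t) f = algebraMap k A (f.coeff 0) * s := by
  conv_lhs => rw [← X_mul_divX_add f]
  rw [map_add, map_mul, aeval_X, aeval_C, mul_add, ← mul_assoc, ← mul_assoc, hs, zero_mul,
    zero_mul, zero_add, Algebra.commutes]

/-- The element of the algebra read off a polynomial matrix. -/
noncomputable def theta (s t : A) (B : SL(2, k[X])) : A :=
  1 + aeval (s * t) ((B : Matrix (Fin 2) (Fin 2) k[X]) 0 0 - 1) +
    aeval (t * s) ((B : Matrix (Fin 2) (Fin 2) k[X]) 1 1 - 1) +
    aeval (s * t) ((B : Matrix (Fin 2) (Fin 2) k[X]) 0 1) * s +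
    t * aeval (s * t) ((B : Matrix (Fin 2) (Fin 2) k[X]) 1 0).divX

/-- Constant term upper unitriangular. -/
structure Const1 (B : SL(2, k[X])) : Prop where
  h00 : ((B : Matrix (Fin 2) (Fin 2) k[X]) 0 0).coeff 0 = 1
  h11 : ((B : Matrix (Fin 2) (Fin 2) k[X]) 1 1).coeff 0 = 1
  h10 : ((B : Matrix (Fin 2) (Fin 2) k[X]) 1 0).coeff 0 = 0

lemma theta_one (s t : A) : theta (k := k) s t 1 = 1 := by simp [theta]

lemma const1_one : Const1 (1 : SL(2, k[X])) := ⟨by simp, by simp, by simp⟩

lemma const1_up {B : SL(2, k[X])} (c : k) (h : Const1 B) :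
    Const1 (up (algebraMap k k[X] c) * B) := by
  obtain ⟨h0, h1, h2⟩ := h
  refine ⟨?_, ?_, ?_⟩ <;> simp [Matrix.mul_apply, Fin.sum_univ_two, mul_coeff_zero, h0, h1, h2]

lemma const1_lo {B : SL(2, k[X])} (c : k) (h : Const1 B) :
    Const1 (lo (algebraMap k k[X] c * X) * B) := by
  obtain ⟨h0, h1, h2⟩ := h
  refine ⟨?_, ?_, ?_⟩ <;> simp [Matrix.mul_apply, Fin.sum_univ_two, mul_coeff_zero, h0, h1, h2]

lemma theta_up (hs : s * s = 0) {B : SL(2, k[X])} (c : k) (h : Const1 B) :
    theta s t (up (algebraMap k k[X] c) * B) = (1 + c • s) * theta s t B := by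
  obtain ⟨h0, h1, h2⟩ := h
  simp only [theta]
  set b00 := (B : Matrix (Fin 2) (Fin 2) k[X]) 0 0
  set b01 := (B : Matrix (Fin 2) (Fin 2) k[X]) 0 1
  set b10 := (B : Matrix (Fin 2) (Fin 2) k[X]) 1 0
  set b11 := (B : Matrix (Fin 2) (Fin 2) k[X]) 1 1
  have e00 : ((up (algebraMap k k[X] c) * B : SL(2, k[X])) : Matrix (Fin 2) (Fin 2) k[X]) 0 0 =
      b00 + C c * b10 := by simp [Matrix.mul_apply, Fin.sum_univ_two, b00, b10]
  have e01 : ((up (algebraMap k k[X] c) * B : SL(2, k[X])) : Matrix (Fin 2) (Fin 2) k[X]) 0 1 =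
      b01 + C c * b11 := by simp [Matrix.mul_apply, Fin.sum_univ_two, b01, b11]
  have e10 : ((up (algebraMap k k[X] c) * B : SL(2, k[X])) : Matrix (Fin 2) (Fin 2) k[X]) 1 0 =
      b10 := by simp [Matrix.mul_apply, Fin.sum_univ_two, b10]
  have e11 : ((up (algebraMap k k[X] c) * B : SL(2, k[X])) : Matrix (Fin 2) (Fin 2) k[X]) 1 1 =
      b11 := by simp [Matrix.mul_apply, Fin.sum_univ_two, b11]
  rw [e00, e01, e10, e11]
  have s1 : s * aeval (s * t) (b00 - 1) = 0 := by rw [mul_aeval_self hs]; simp [h0]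
  have s2 : s * aeval (t * s) (b11 - 1) = aeval (s * t) b11 * s - s := by
    rw [mul_aeval_comm, map_sub, map_one, sub_mul, one_mul]
  have s3 : s * (aeval (s * t) b01 * s) = 0 := by
    rw [← mul_assoc, mul_aeval_self hs, mul_assoc, hs, mul_zero]
  have s4 : s * (t * aeval (s * t) b10.divX) = aeval (s * t) b10 := by
    conv_rhs => rw [← X_mul_divX_add b10, h2, map_zero, add_zero, map_mul, aeval_X]
    rw [mul_assoc]
  rw [add_mul, one_mul, smul_mul_assoc, mul_add, mul_add, mul_add, mul_add, mul_one, s1, s2, s3, s4]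
  simp only [map_add, map_sub, map_one, map_mul, aeval_C, Algebra.smul_def, add_mul, mul_add,
    mul_sub, mul_assoc, mul_zero]
  abel

lemma theta_lo (ht : t * t = 0) {B : SL(2, k[X])} (c : k) (h : Const1 B) :
    theta s t (lo (algebraMap k k[X] c * X) * B) = (1 + c • t) * theta s t B := by
  obtain ⟨h0, h1, h2⟩ := h
  simp only [theta]
  set b00 := (B : Matrix (Fin 2) (Fin 2) k[X]) 0 0
  set b01 := (B : Matrix (Fin 2) (Fin 2) k[X]) 0 1
  set b10 := (B : Matrix (Fin 2) (Fin 2) k[X]) 1 0
  set b11 := (B : Matrix (Fin 2) (Fin 2) k[X]) 1 1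
  have e00 : ((lo (algebraMap k k[X] c * X) * B : SL(2, k[X])) : Matrix (Fin 2) (Fin 2) k[X]) 0 0 =
      b00 := by simp [Matrix.mul_apply, Fin.sum_univ_two, b00]
  have e01 : ((lo (algebraMap k k[X] c * X) * B : SL(2, k[X])) : Matrix (Fin 2) (Fin 2) k[X]) 0 1 =
      b01 := by simp [Matrix.mul_apply, Fin.sum_univ_two, b01]
  have e10 : ((lo (algebraMap k k[X] c * X) * B : SL(2, k[X])) : Matrix (Fin 2) (Fin 2) k[X]) 1 0 =
      b10 + C c * X * b00 := by
    simp [Matrix.mul_apply, Fin.sum_univ_two, b00, b10, add_comm]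
  have e11 : ((lo (algebraMap k k[X] c * X) * B : SL(2, k[X])) : Matrix (Fin 2) (Fin 2) k[X]) 1 1 =
      b11 + C c * X * b01 := by
    simp [Matrix.mul_apply, Fin.sum_univ_two, b01, b11, add_comm]
  rw [e00, e01, e10, e11]
  have hdiv : (b10 + C c * X * b00).divX = b10.divX + C c * b00 := by
    ext n
    simp [coeff_divX, mul_assoc]
  have t1 : t * aeval (t * s) (b11 - 1) = 0 := by rw [mul_aeval_self ht]; simp [h1]
  have t3 : t * (aeval (s * t) b01 * s) = aeval (t * s) (X * b01) := by
    rw [← mul_assoc, mul_aeval_comm, mul_assoc, mul_comm X b01, map_mul, aeval_X]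
  have t4 : t * (t * aeval (s * t) b10.divX) = 0 := by rw [← mul_assoc, ht, zero_mul]
  rw [add_mul, one_mul, smul_mul_assoc, mul_add, mul_add, mul_add, mul_add, mul_one, t1, t3, t4, hdiv]
  simp only [map_add, map_sub, map_one, map_mul, aeval_C, aeval_X, Algebra.smul_def, add_mul,
    mul_add, mul_sub, mul_zero, add_zero, mul_one]
  rw [← mul_assoc (algebraMap k A c) t (aeval (s * t) b00), Algebra.commutes c t,
    mul_assoc t (algebraMap k A c)]
  simp only [mul_assoc]
  abel

/-- Every element of the polynomial group is an invertible element of the algebra, multiplicatively. -/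
lemma exists_unit (hs : s * s = 0) (ht : t * t = 0) {g : SL(2, k[X])}
    (hg : g ∈ genGroup k (X : k[X])) :
    ∀ B, Const1 B → Const1 (g * B) ∧ theta s t (g * B) = theta s t g * theta s t B := by
  refine Subgroup.closure_induction_left (p := fun g _ => ∀ B, Const1 B →
    Const1 (g * B) ∧ theta s t (g * B) = theta s t g * theta s t B) ?_ ?_ ?_ hg
  · intro B hB; rw [one_mul]; exact ⟨hB, by rw [theta_one, one_mul]⟩
  · intro x hx y hy ihy B hB
    have hy1 : Const1 y := by simpa using (ihy 1 const1_one).1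
    obtain ⟨hc, he⟩ := ihy B hB
    rcases hx with ⟨c, rfl⟩ | ⟨c, rfl⟩ <;> rw [mul_assoc]
    · exact ⟨const1_up c hc, by rw [theta_up hs c hc, theta_up hs c hy1, he, mul_assoc]⟩
    · exact ⟨const1_lo c hc, by rw [theta_lo ht c hc, theta_lo ht c hy1, he, mul_assoc]⟩
  · intro x hx y hy ihy B hB
    have hy1 : Const1 y := by simpa using (ihy 1 const1_one).1
    obtain ⟨hc, he⟩ := ihy B hB
    rcases hx with ⟨c, rfl⟩ | ⟨c, rfl⟩ <;> rw [mul_assoc]
    · rw [up_inv, ← map_neg]
      exact ⟨const1_up _ hc, by rw [theta_up hs _ hc, theta_up hs _ hy1, he, mul_assoc]⟩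
    · rw [lo_inv, ← neg_mul, ← map_neg]
      exact ⟨const1_lo _ hc, by rw [theta_lo ht _ hc, theta_lo ht _ hy1, he, mul_assoc]⟩

lemma const1_of_mem (hs : s * s = 0) (ht : t * t = 0) {g : SL(2, k[X])}
    (hg : g ∈ genGroup k (X : k[X])) : Const1 g := by
  simpa using (exists_unit hs ht hg 1 const1_one).1

/-- The homomorphism to the units of the algebra. -/
noncomputable def wordHom (hs : s * s = 0) (ht : t * t = 0) : genGroup k (X : k[X]) →* Aˣ :=
  MonoidHom.toHomUnits
    { toFun := fun g : genGroup k (X : k[X]) => theta s t (g : SL(2, k[X]))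
      map_one' := theta_one s t
      map_mul' := fun g h => (exists_unit hs ht g.2 _ (const1_of_mem hs ht h.2)).2 }

@[simp] lemma wordHom_apply (hs : s * s = 0) (ht : t * t = 0) (g : genGroup k (X : k[X])) :
    ((wordHom hs ht g : Aˣ) : A) = theta s t (g : SL(2, k[X])) := rfl

lemma theta_up_eq (hs : s * s = 0) (c : k) :
    theta s t (up (algebraMap k k[X] c)) = 1 + c • s := by
  simpa [theta_one] using theta_up (t := t) hs c (B := 1) const1_one

lemma theta_lo_eq (ht : t * t = 0) (c : k) :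
    theta s t (lo (algebraMap k k[X] c * X)) = 1 + c • t := by
  simpa [theta_one] using theta_lo (s := s) ht c (B := 1) const1_one

end CfsgLib.RootSubgroups.QuadWord
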