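import Cfsg.Agent.RootSubgroups.RootDisconnected
import Cfsg.Agent.BenderUse.Split
import Mathlib.Algebra.CharP.Lemmas

/-!
The dichotomy for root involutions: if the commuting graph is disconnected, the simple quotient
has a strongly embedded subgroup, so it is `L₂(q)`, `Sz(q)` or `U₃(q)`.  The criterion for
strongly embedded subgroups and `SplitHyp` are hypotheses.
-/

set_option autoImplicit false
set_option linter.style.haveILetI false

namespace CfsgLib.RootDisconnected

open Cfsg CfsgLib.RootInvolution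

universe u

/-- The criterion for strongly embedded subgroups (the shape of S1175). -/
def EmbedCriterion : Prop :=
  ∀ (G : Type u) [Group G] [Finite G] [IsSimpleGroup G] (M : Subgroup G), M ≠ ⊤ → ∀ z : G,
    orderOf z = 2 → z ∈ M → (∃ S : Sylow 2 G, z ∈ S ∧ ∀ s ∈ S, Commute s z) →
    (∀ g : G, g * z * g⁻¹ ∈ M → g ∈ M) →
    (∀ g : G, Commute z (g * z * g⁻¹) → g * z * g⁻¹ ≠ z →
      Subgroup.centralizer ({z * (g * z * g⁻¹)} : Set G) ≤ M) →
    ∃ H : Subgroup G, Cfsg.IsStronglyEmbedded H

variable {G : Type u} [Group G] [Finite G] {D : Set G}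

omit [Finite G] in
lemma exists_not_same (hdis : ¬ IsConnectedSet (CommAdj D) D) :
    ∃ a ∈ D, ∃ b ∈ D, ¬ Same D a b := by
  simpa [IsConnectedSet, Same] using hdis

/-- The odd graph of a disconnected set of root involutions is connected. -/
lemma odd_connected (hD : IsRootInvolutionSet D) (hdis : ¬ IsConnectedSet (CommAdj D) D) :
    IsConnectedSet (OddAdj D) D := by
  intro a ha b hb
  by_cases h : Same D a b
  · obtain ⟨u, hu, v, hv, huv⟩ := exists_not_same hdis
    obtain ⟨c, hc, hac⟩ : ∃ c ∈ D, ¬ Same D a c := by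
      by_cases hau : Same D a u
      · exact ⟨v, hv, fun hav => huv (hau.symm.trans' hav)⟩
      · exact ⟨u, hu, hau⟩
    exact (Relation.ReflTransGen.single (odd_of_not_same hD ha hc hac)).tail
      (odd_of_not_same hD hc hb fun hcb => hac (h.trans' hcb.symm))
  · exact Relation.ReflTransGen.single (odd_of_not_same hD ha hb h)

/-- A simple group generated by root involutions with disconnected commuting graph has a strongly
embedded subgroup. -/
theorem exists_stronglyEmbedded (hE : EmbedCriterion.{u}) [IsSimpleGroup G]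
    (hD : IsRootInvolutionSet D) (hdis : ¬ IsConnectedSet (CommAdj D) D) :
    ∃ H : Subgroup G, Cfsg.IsStronglyEmbedded H := by
  have hodd := odd_connected hD hdis
  obtain ⟨a, ha, b, hb, hab⟩ := exists_not_same hdis
  let K : Subgroup G := ⨅ d ∈ D, stab hD d
  have hK : ∀ g, g ∈ K ↔ ∀ d ∈ D, Fixes D g d := fun g => by
    simp only [K, Subgroup.mem_iInf]
    rfl
  have hKn : K.Normal := by
    refine ⟨fun k hk g => (hK _).2 fun d hd => ?_⟩
    have := same_conj hD ((hK k).1 hk _ (hD.conj_mem d hd g⁻¹)) g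
    show Same D d (g * k * g⁻¹ * d * (g * k * g⁻¹)⁻¹)
    rwa [show g * (g⁻¹ * d * g⁻¹⁻¹) * g⁻¹ = d by group,
      show g * (k * (g⁻¹ * d * g⁻¹⁻¹) * k⁻¹) * g⁻¹ = g * k * g⁻¹ * d * (g * k * g⁻¹)⁻¹ by group]
      at this
  have hfaith : ∀ g : G, (∀ d ∈ D, Fixes D g d) → g = 1 := by
    intro g hg
    rcases hKn.eq_bot_or_eq_top with h | h
    · exact Subgroup.mem_bot.1 (h ▸ (hK g).2 hg)
    · exact absurd ((hK a).1 (h ▸ Subgroup.mem_top a) b hb)
        fun h' => hab (same_of_fixes hD ha hb h').symm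
  obtain ⟨z, hz, hcen⟩ := exists_central hD hfaith hdis
  refine hE G (stab hD z) ?_ z (hD.orderOf_eq z hz) (fixes_of_commute hD (Commute.refl z)) hcen
    ?_ ?_
  · intro htop
    refine hab ?_
    have key : ∀ d ∈ D, Same D z d := fun d hd => by
      obtain ⟨g, rfl⟩ := exists_conj hD hodd hz hd
      exact (htop ▸ Subgroup.mem_top g : g ∈ stab hD z)
    exact (key a ha).symm.trans' (key b hb)
  · intro g hg
    exact same_of_fixes hD (hD.conj_mem z hz g) hz hg
  · intro g hc hne c hcc
    have hg := hD.conj_mem z hz g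
    have hcc' : Commute (z * (g * z * g⁻¹)) c :=
      Subgroup.mem_centralizer_singleton_iff.1 hcc |>.symm
    show Same D z (c * z * c⁻¹)
    refine same_of_commute_prod hD hz hg hc hne.symm (hD.conj_mem z hz c) ?_
    have h : Commute (z * (g * z * g⁻¹)) z :=
      (Commute.refl z).mul_left hc.symm
    exact (hcc'.mul_right h).mul_right hcc'.inv_right

/-- The simple quotient of a disconnected set has a strongly embedded subgroup. -/
theorem dichotomy_embedded (hE : EmbedCriterion.{u}) (hD : IsRootInvolutionSet D)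
    (hDD : (D ∩ commutingProducts D).Nonempty) (hdis : ¬ IsConnectedSet (CommAdj D) D) :
    ∃ H : Subgroup (G ⧸ twoZCore G), Cfsg.IsStronglyEmbedded H := by
  have hodd := odd_connected hD hdis
  haveI := isSimpleGroup_quotient hD hodd hDD
  set π := QuotientGroup.mk' (twoZCore G)
  have hker : ∀ {g : G}, π g = 1 → g ∈ twoZCore G := fun h => (QuotientGroup.eq_one_iff _).1 h
  -- `twoZCore` fixes every component
  have hfix : ∀ q ∈ twoZCore G, ∀ d ∈ D, Fixes D q d := by
    intro q hq d hd
    by_contra hne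
    have hadj := odd_of_not_same hD hd (hD.conj_mem d hd q) hne
    have hmem : d * (q * d * q⁻¹) ∈ pCore 2 G := by
      rw [← QuotientGroup.eq_one_iff]
      have hc := Subgroup.mem_center_iff.1 hq (QuotientGroup.mk' (pCore 2 G) d)
      show QuotientGroup.mk' (pCore 2 G) (d * (q * d * q⁻¹)) = 1
      rw [map_mul, map_mul, map_mul, ← hc, map_inv, mul_inv_cancel_right, ← map_mul, sq_eq hD hd,
        map_one]
    obtain ⟨j, hj⟩ := CfsgLib.PLocal.isPGroup_pCore 2 G ⟨_, hmem⟩
    have h1 : orderOf (d * (q * d * q⁻¹)) = 1 :=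
      Nat.Coprime.eq_one_of_dvd ((Nat.coprime_two_right.2 hadj.2.2.2).pow_right j)
        (orderOf_dvd_of_pow_eq_one (congrArg Subtype.val hj))
    rw [orderOf_eq_one_iff, mul_eq_one_iff_eq_inv, inv_eq hD hadj.2.1] at h1
    exact hadj.2.2.1 h1
  -- commuting images lie in one component
  have hcomm : ∀ a ∈ D, ∀ b ∈ D, Commute (π a) (π b) → Same D a b := by
    intro a ha b hb hc
    by_contra hne
    have hadj := odd_of_not_same hD ha hb hne
    have h2 : π (a * b) ^ 2 = 1 := by
      rw [map_mul, hc.mul_pow, ← map_pow, ← map_pow, pow_two, pow_two, sq_eq hD ha, sq_eq hD hb,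
        map_one, one_mul]
    have h1 : π (a * b) = 1 := by
      rw [← orderOf_eq_one_iff]
      refine Nat.Coprime.eq_one_of_dvd
        ((Nat.coprime_two_right.2 hadj.2.2.2).coprime_dvd_left (orderOf_map_dvd π _)) ?_
      exact orderOf_dvd_of_pow_eq_one h2
    have h := same_conj hD (hfix _ (hker h1) a ha) a
    rw [mul_inv_cancel_right,
      show a * (a * b * a * (a * b)⁻¹) * a⁻¹ = (a * a) * b * a * b⁻¹ * (a * a)⁻¹ by group,
      sq_eq hD ha, one_mul, inv_one, mul_one] at h
    exact hne (same_of_fixes hD hb ha h)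
  have hDne : ∀ d ∈ D, π d ≠ 1 := by
    intro d hd h1
    refine twoZCore_ne_top hD hodd hDD (top_unique (hD.generates ▸
      (Subgroup.closure_le _).2 fun e he => ?_))
    obtain ⟨g, rfl⟩ := exists_conj hD hodd hd he
    exact (twoZCore_normal G).conj_mem d (hker h1) g
  have hD' : IsRootInvolutionSet (π '' D) := by
    refine ⟨?_, ?_, ?_, ?_⟩
    · rintro _ ⟨d, hd, rfl⟩
      exact orderOf_eq_prime (by rw [← map_pow, pow_two, sq_eq hD hd, map_one]) (hDne d hd)
    · rw [← MonoidHom.map_closure, hD.generates,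
        Subgroup.map_top_of_surjective _ (QuotientGroup.mk'_surjective _)]
    · rintro _ ⟨d, hd, rfl⟩ x
      obtain ⟨g, rfl⟩ := QuotientGroup.mk'_surjective (twoZCore G) x
      exact ⟨g * d * g⁻¹, hD.conj_mem d hd g, by simp [π]⟩
    · rintro _ ⟨a, ha, rfl⟩ _ ⟨b, hb, rfl⟩
      rcases hD.pair a ha b hb with h | h | ⟨h, h'⟩
      · exact Or.inl (by rw [← map_mul, ← map_mul, h])
      · rw [← map_mul π a b]
        exact Or.inr (Or.inl (h.of_dvd_nat (orderOf_map_dvd π _)))
      · have hdvd : orderOf (π (a * b)) ∣ 2 ^ 2 := by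
          have := orderOf_map_dvd π (a * b)
          rwa [h] at this
        obtain ⟨i, hi, hi'⟩ := (Nat.dvd_prime_pow Nat.prime_two).1 hdvd
        by_cases h2 : i = 2
        · subst h2
          exact Or.inr (Or.inr ⟨by rw [← map_mul, hi']; rfl, (a * b) ^ 2, h', by simp⟩)
        · left
          have hpow : π (a * b) ^ 2 = 1 :=
            orderOf_dvd_iff_pow_eq_one.1 (hi' ▸ (pow_dvd_pow 2 (show i ≤ 1 by omega)).trans (by norm_num))
          have hinv : π (a * b) = π (b * a) := by
            rw [← inv_mul_eq hD ha hb, map_inv, eq_inv_iff_mul_eq_one, ← pow_two, hpow]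
          rwa [map_mul, map_mul] at hinv
  have hdis' : ¬ IsConnectedSet (CommAdj (π '' D)) (π '' D) := by
    obtain ⟨a, ha, b, hb, hab⟩ := exists_not_same hdis
    intro hcon
    have key : ∀ y, Relation.ReflTransGen (CommAdj (π '' D)) (π a) y →
        ∀ c ∈ D, π c = y → Same D a c := by
      intro y hy
      induction hy with
      | refl => exact fun c hc e => hcomm a ha c hc (by rw [e])
      | @tail x y _ hxy ih =>
        obtain ⟨c0, hc0, rfl⟩ := hxy.1
        intro c hc e
        exact (ih c0 hc0 rfl).trans' (hcomm c0 hc0 c hc (by rw [e]; exact hxy.2.2.2))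
    exact hab (key _ (hcon _ ⟨a, ha, rfl⟩ _ ⟨b, hb, rfl⟩) b hb rfl)
  exact exists_stronglyEmbedded hE hD' hdis'

/-- S5044 from the criterion and `SplitHyp`. -/
theorem dichotomy (hE : EmbedCriterion.{u}) (hS : CfsgLib.BenderUse.SplitHyp.{u})
    (hD : IsRootInvolutionSet D) (hDD : (D ∩ commutingProducts D).Nonempty) :
    IsConnectedSet (CommAdj D) D ∨
    (∃ (F : Type) (_ : Field F) (_ : Fintype F), CharP F 2 ∧ 4 ≤ Fintype.card F ∧
      Nonempty (G ⧸ twoZCore G ≃* Matrix.ProjectiveSpecialLinearGroup (Fin 2) F)) ∨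
    Cfsg.Lie.IsoSuzuki (G ⧸ twoZCore G) ∨
    (∃ (F : Type) (_ : Field F) (_ : Fintype F) (q : ℕ), CharP F 2 ∧ Fintype.card F = q ^ 2 ∧
      4 ≤ q ∧ Nonempty (G ⧸ twoZCore G ≃* Cfsg.PSU 3 F q)) := by
  by_cases hdis : IsConnectedSet (CommAdj D) D
  · exact Or.inl hdis
  right
  have hodd := odd_connected hD hdis
  haveI := isSimpleGroup_quotient hD hodd hDD
  obtain ⟨H, hH⟩ := dichotomy_embedded hE hD hDD hdis
  have hna : ∃ x y : G ⧸ twoZCore G, x * y ≠ y * x := by
    by_contra h
    push Not at h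
    refine twoZCore_ne_top hD hodd hDD (top_unique fun g _ => ?_)
    have := hom_trivial hD hodd hDD (fun p q => h p q) (QuotientGroup.mk' (twoZCore G))
    exact (QuotientGroup.eq_one_iff g).1 (DFunLike.congr_fun this g)
  haveI : Fact (Nat.Prime 2) := ⟨Nat.prime_two⟩
  rcases CfsgLib.BenderUse.families_of_split hS hna hH with
    ⟨F, iF, iT, ⟨n, hn, hF⟩, he⟩ | h | ⟨F, iF, iT, n, hn, hF, he⟩
  · refine Or.inl ⟨F, iF, iT, charP_of_card_eq_prime_pow hF, ?_, he⟩
    rw [hF]
    exact le_trans (by norm_num) (Nat.pow_le_pow_right (by norm_num : 0 < 2) hn)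
  · exact Or.inr (Or.inl h)
  · refine Or.inr (Or.inr ⟨F, iF, iT, 2 ^ n, ?_, hF, ?_, he⟩)
    · exact charP_of_card_eq_prime_pow (f := n * 2) (by rw [hF, pow_mul])
    · exact le_trans (by norm_num) (Nat.pow_le_pow_right (by norm_num : 0 < 2) hn)

end CfsgLib.RootDisconnected
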