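import Cfsg.Agent.RootSubgroups.RootInvolutionsSimple
import Mathlib.GroupTheory.Perm.Cycle.Type

/-!
Root involutions with disconnected commuting graph.  A member fixes only its own component, an
involution whose centralised members lie in one component fixes only that component, so products
of commuting members do, components have odd size and some member is central in a Sylow
2-subgroup.
-/

set_option autoImplicit false
set_option linter.style.haveILetI false

namespace CfsgLib.RootDisconnected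

open Cfsg CfsgLib.RootInvolution

variable {G : Type*} [Group G] [Finite G] {D : Set G}

/-- The same component of the commuting graph. -/
def Same (D : Set G) (a b : G) : Prop := Relation.ReflTransGen (CommAdj D) a b

/-- `g` fixes the component of `d`. -/
def Fixes (D : Set G) (g d : G) : Prop := Same D d (g * d * g⁻¹)

omit [Finite G] in
lemma Same.symm {a b : G} (h : Same D a b) : Same D b a := by
  induction h with
  | refl => exact Relation.ReflTransGen.refl
  | tail _ hbc ih =>
    exact Relation.ReflTransGen.head ⟨hbc.2.1, hbc.1, hbc.2.2.1.symm, hbc.2.2.2.symm⟩ ih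

omit [Finite G] in
lemma Same.trans' {a b c : G} (h : Same D a b) (h' : Same D b c) : Same D a c :=
  Relation.ReflTransGen.trans h h'

omit [Finite G] in
lemma same_refl (a : G) : Same D a a := Relation.ReflTransGen.refl

omit [Finite G] in
lemma same_of_commute {a b : G} (ha : a ∈ D) (hb : b ∈ D) (h : Commute a b) : Same D a b := by
  by_cases hne : a = b
  · exact hne ▸ same_refl a
  · exact Relation.ReflTransGen.single ⟨ha, hb, hne, h.eq⟩

variable (hD : IsRootInvolutionSet D)
include hD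

omit [Finite G] in
lemma same_conj {a b : G} (h : Same D a b) (g : G) : Same D (g * a * g⁻¹) (g * b * g⁻¹) := by
  induction h with
  | refl => exact same_refl _
  | @tail x y _ hxy ih =>
    exact ih.tail ⟨hD.conj_mem x hxy.1 g, hD.conj_mem y hxy.2.1 g,
      fun e => hxy.2.2.1 (by simpa using e), ((show Commute x y from hxy.2.2.2).conj g).eq⟩

omit [Finite G] in
lemma fixes_of_same {g d d' : G} (h : Same D d d') (hg : Fixes D g d) : Fixes D g d' :=
  h.symm.trans' (hg.trans' (same_conj hD h g))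

omit [Finite G] in
lemma fixes_one (d : G) : Fixes D 1 d := by
  show Same D d (1 * d * 1⁻¹)
  simpa using same_refl d

omit [Finite G] in
lemma fixes_mul {g h d : G} (hg : Fixes D g d) (hh : Fixes D h d) : Fixes D (g * h) d := by
  have := hg.trans' (same_conj hD hh g)
  show Same D d (g * h * d * (g * h)⁻¹)
  rwa [show g * h * d * (g * h)⁻¹ = g * (h * d * h⁻¹) * g⁻¹ by group]

omit [Finite G] in
lemma fixes_inv {g d : G} (hg : Fixes D g d) : Fixes D g⁻¹ d := by
  have := (same_conj hD hg g⁻¹).symm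
  show Same D d (g⁻¹ * d * g⁻¹⁻¹)
  rwa [show g⁻¹ * (g * d * g⁻¹) * g⁻¹⁻¹ = d by group] at this

/-- The stabiliser of the component of `d`. -/
def stab (d : G) : Subgroup G where
  carrier := {g | Fixes D g d}
  one_mem' := fixes_one hD d
  mul_mem' := fixes_mul hD
  inv_mem' := fixes_inv hD

omit [Finite G] in
lemma fixes_of_commute {g d : G} (h : Commute g d) : Fixes D g d := by
  show Same D d (g * d * g⁻¹)
  rw [h.eq, mul_inv_cancel_right]
  exact same_refl d

lemma odd_of_not_same {a b : G} (ha : a ∈ D) (hb : b ∈ D) (h : ¬ Same D a b) : OddAdj D a b := by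
  by_contra hno
  by_cases hc : Commute a b
  · exact h (same_of_commute ha hb hc)
  obtain ⟨p, q, -⟩ := four_spec hD ha hb ((four_iff_not hD ha hb).2 ⟨hc, hno⟩)
  exact h ((same_of_commute ha p.right p.comm).trans' (same_of_commute hb q.right q.comm).symm)

lemma exists_conj_commute {a b z : G} (ha : a ∈ D) (hb : b ∈ D) (h : ¬ Same D a b)
    (hza : Commute z a) (hzb : Commute z b) : ∃ g : G, Commute z g ∧ g * a * g⁻¹ = b := by
  have hadj := odd_of_not_same hD ha hb h
  obtain ⟨k, hk⟩ := CfsgLib.Small.conj_pow_eq_of_odd (hD.orderOf_eq a ha) (hD.orderOf_eq b hb)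
    hadj.2.2.2
  exact ⟨_, (hza.mul_right hzb).pow_right k, hk⟩

/-- A member fixes only its own component. -/
lemma same_of_fixes {a d : G} (ha : a ∈ D) (hd : d ∈ D) (h : Fixes D a d) : Same D d a := by
  by_contra hne
  have hadj := odd_of_not_same hD hd ha hne
  obtain ⟨k, hk⟩ := CfsgLib.Small.conj_pow_eq_of_odd (hD.orderOf_eq d hd) (hD.orderOf_eq a ha)
    hadj.2.2.2
  have hmem : (d * a) ^ k ∈ stab hD d :=
    pow_mem (mul_mem (fixes_of_commute hD (Commute.refl d)) h) k
  exact hne (hk ▸ (hmem : Fixes D ((d * a) ^ k) d))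

/-- The midpoint of two members at different components. -/
lemma exists_mid {a b : G} (ha : a ∈ D) (hb : b ∈ D) (h : ¬ Same D a b) :
    ∃ m ∈ D, m * a * m⁻¹ = b ∧ m * b * m⁻¹ = a ∧ ¬ Same D m a ∧
      (∀ g : G, g * a * g⁻¹ = a → g * b * g⁻¹ = b → Commute g m) ∧
      ∀ g : G, g * a * g⁻¹ = b → g * b * g⁻¹ = a → Commute g m := by
  obtain ⟨k, hk⟩ := (odd_of_not_same hD ha hb h).2.2.2
  have hpow : (a * b) ^ (2 * k + 1) = 1 := hk ▸ pow_orderOf_eq_one (a * b)
  have haa := sq_eq hD ha
  have hbb := sq_eq hD hb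
  have hrev : ∀ n : ℕ, a * (a * b) ^ n * a⁻¹ = ((a * b) ^ n)⁻¹ := fun n => by
    rw [← conj_pow, ← inv_pow]
    congr 1
    rw [inv_mul_eq hD ha hb, inv_eq hD ha, ← mul_assoc, haa, one_mul]
  set r := (a * b) ^ k with hr
  have hrr : r * r * (a * b) = 1 := by
    rw [hr, ← pow_add, ← pow_succ, ← two_mul, hpow]
  have hr1 : r * (a * b) = r⁻¹ := by
    rw [eq_inv_iff_mul_eq_one]
    rw [hr, ← pow_succ, ← pow_add]
    rw [show k + 1 + k = 2 * k + 1 by omega, hpow]
  set m := r * a with hm
  have hmm : m * m = 1 := by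
    have := hrev k
    rw [inv_eq hD ha] at this
    rw [hm, mul_assoc, ← mul_assoc a, this, mul_inv_cancel]
  have hminv : m⁻¹ = m := inv_eq_of_mul_eq_one_right hmm
  have hma : m * a * m⁻¹ = b := by
    have h2 : m * a * m⁻¹ = r * a * r⁻¹ := by
      rw [hm, mul_inv_rev]; group
    have h3 : a * r⁻¹ = r * a := by
      have := hrev k
      rw [← this, inv_eq hD ha, ← mul_assoc, ← mul_assoc, haa, one_mul]
    rw [h2, mul_assoc, h3, ← mul_assoc, eq_mul_inv_of_mul_eq hrr, mul_inv_rev, inv_eq hD ha,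
      inv_eq hD hb, one_mul, mul_assoc, haa, mul_one]
  have hmb : m * b * m⁻¹ = a := by
    rw [← hma, hminv, show m * (m * a * m) * m = m * m * a * (m * m) by simp only [mul_assoc], hmm,
      one_mul, mul_one]
  have hmD : m ∈ D := by
    have hv := hrev (k * (k + 1))
    have : m = (a * b) ^ (k * (k + 1)) * a * ((a * b) ^ (k * (k + 1)))⁻¹ := by
      rw [← hv, inv_eq hD ha, mul_assoc _ a, ← mul_assoc a, ← mul_assoc a, haa, one_mul,
        ← mul_assoc, ← pow_add, hm, hr,
        show k * (k + 1) + k * (k + 1) = (2 * k + 1) * k + k by ring, pow_add, pow_mul, hpow,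
        one_pow, one_mul]
    rw [this]
    exact hD.conj_mem a ha _
  refine ⟨m, hmD, hma, hmb, fun hs => h ?_, fun g hga hgb => ?_, fun g hga hgb => ?_⟩
  · have := same_conj hD hs m
    rw [hma, show m * m * m⁻¹ = m by group] at this
    exact hs.symm.trans' this
  · have e : g * (a * b) * g⁻¹ = a * b := by
      calc g * (a * b) * g⁻¹ = (g * a * g⁻¹) * (g * b * g⁻¹) := by group
        _ = a * b := by rw [hga, hgb]
    have c1 : Commute g (a * b) := mul_inv_eq_iff_eq_mul.1 e
    exact (c1.pow_right k).mul_right (mul_inv_eq_iff_eq_mul.1 hga)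
  · have e : g * (a * b) * g⁻¹ = (a * b)⁻¹ := by
      rw [inv_mul_eq hD ha hb]
      calc g * (a * b) * g⁻¹ = (g * a * g⁻¹) * (g * b * g⁻¹) := by group
        _ = b * a := by rw [hga, hgb]
    show g * m = m * g
    rw [← mul_inv_eq_iff_eq_mul, hm, show g * (r * a) * g⁻¹ = g * r * g⁻¹ * (g * a * g⁻¹) by group,
      hga, hr, ← conj_pow, e, inv_pow, ← hr, ← hr1]
    rw [mul_assoc r, mul_assoc a, hbb, mul_one]

/-- An involution moving some component centralises a member outside it. -/
lemma exists_commute_of_moves {t p : G} (htt : t * t = 1) (hp : p ∈ D) (h : ¬ Fixes D t p) :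
    ∃ m ∈ D, Commute t m ∧ ¬ Same D m p ∧ m * p * m⁻¹ = t * p * t⁻¹ := by
  obtain ⟨m, hm, hm1, -, hmp, -, hswap⟩ := exists_mid hD hp (hD.conj_mem p hp t) h
  refine ⟨m, hm, hswap t rfl ?_, hmp, hm1⟩
  rw [inv_eq_of_mul_eq_one_right htt,
    show t * (t * p * t) * t = t * t * p * (t * t) by simp only [mul_assoc], htt, one_mul, mul_one]

/-- An involution centralising members of one component only, and moving something, fixes no
other component. -/
lemma same_of_lone {t r f p : G} (htt : t * t = 1) (hlone : ∀ v ∈ D, Commute t v → Same D r v)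
    (hf : f ∈ D) (hfix : Fixes D t f) (hp : p ∈ D) (hmove : ¬ Fixes D t p) : Same D r f := by
  by_contra hrf
  have htinv : t⁻¹ = t := inv_eq_of_mul_eq_one_right htt
  obtain ⟨m, hm, htm, hmp, hmt⟩ := exists_commute_of_moves hD htt hp hmove
  have hrm := hlone m hm htm
  have hmm := sq_eq hD hm
  set z := t * m with hz
  have hzz : z * z = 1 := by
    rw [hz, htm.symm.mul_mul_mul_comm, htt, hmm, one_mul]
  have hzm : Commute z m := htm.mul_left (Commute.refl m)
  have hzp : Commute z p := by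
    refine mul_inv_eq_iff_eq_mul.1 ?_
    rw [hz, mul_inv_rev, show t * m * p * (m⁻¹ * t⁻¹) = t * (m * p * m⁻¹) * t⁻¹ by group, hmt,
      htinv, show t * (t * p * t) * t = t * t * p * (t * t) by simp only [mul_assoc], htt, one_mul,
      mul_one]
  have hzf : ¬ Fixes D z f := by
    intro h
    have hmf : Fixes D m f := by
      have := fixes_mul hD (fixes_inv hD hfix) h
      rwa [hz, inv_mul_cancel_left] at this
    exact hrf (hrm.trans' (same_of_fixes hD hm hf hmf).symm)
  obtain ⟨w, hw, hzw, hwf, hwt⟩ := exists_commute_of_moves hD hzz hf hzf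
  obtain ⟨g, hzg, hg⟩ : ∃ g : G, Commute z g ∧ g * w * g⁻¹ = m := by
    by_cases hwm : Same D w m
    · have hwp : ¬ Same D w p := fun h => hmp (hwm.symm.trans' h)
      obtain ⟨g1, h1, e1⟩ := exists_conj_commute hD hw hp hwp hzw hzp
      obtain ⟨g2, h2, e2⟩ := exists_conj_commute hD hp hm (fun h => hmp h.symm) hzp hzm
      refine ⟨g2 * g1, h2.mul_right h1, ?_⟩
      rw [← e2, ← e1]; group
    · exact exists_conj_commute hD hw hm hwm hzw hzm
  have ht : g * (z * w) * g⁻¹ = t := by
    rw [show g * (z * w) * g⁻¹ = g * z * g⁻¹ * (g * w * g⁻¹) by group, hg, hzg.symm.eq,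
      mul_inv_cancel_right, hz, mul_assoc, hmm, mul_one]
  have hzwf : Commute (z * w) f := by
    refine mul_inv_eq_iff_eq_mul.1 ?_
    rw [mul_inv_rev, show z * w * f * (w⁻¹ * z⁻¹) = z * (w * f * w⁻¹) * z⁻¹ by group, hwt,
      inv_eq_of_mul_eq_one_right hzz,
      show z * (z * f * z) * z = z * z * f * (z * z) by simp only [mul_assoc], hzz, one_mul, mul_one]
  have hzww : Commute (z * w) w := hzw.mul_left (Commute.refl w)
  have h1 := hlone _ (hD.conj_mem w hw g) (ht ▸ hzww.conj g)
  have h2 := hlone _ (hD.conj_mem f hf g) (ht ▸ hzwf.conj g)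
  have h3 := same_conj hD (h1.symm.trans' h2) g⁻¹
  rw [show g⁻¹ * (g * w * g⁻¹) * g⁻¹⁻¹ = w by group,
    show g⁻¹ * (g * f * g⁻¹) * g⁻¹⁻¹ = f by group] at h3
  exact hwf h3

/-- Members centralised by a product of two commuting members lie in their component. -/
lemma same_of_commute_prod {a b v : G} (ha : a ∈ D) (hb : b ∈ D) (hab : Commute a b) (hne : a ≠ b)
    (hv : v ∈ D) (hc : Commute (a * b) v) : Same D a v := by
  by_contra h
  have hsab := same_of_commute ha hb hab
  have hadj := odd_of_not_same hD hb hv fun h' => h (hsab.trans' h')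
  refine not_twist hD hadj (hab.mul_left (Commute.refl b)) hc ?_ ?_ ?_
  · rw [hab.symm.mul_mul_mul_comm, sq_eq hD ha, sq_eq hD hb, one_mul]
  · rw [Ne, mul_eq_one_iff_eq_inv, inv_eq hD hb]; exact hne
  · rwa [mul_assoc, sq_eq hD hb, mul_one]

section Faithful

variable (hfaith : ∀ g : G, (∀ d ∈ D, Fixes D g d) → g = 1)
include hfaith

/-- A product of two commuting members fixes only their component. -/
lemma same_of_fixes_prod {a b f : G} (ha : a ∈ D) (hb : b ∈ D) (hab : Commute a b) (hne : a ≠ b)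
    (hf : f ∈ D) (h : Fixes D (a * b) f) : Same D a f := by
  have hne1 : a * b ≠ 1 := by rw [Ne, mul_eq_one_iff_eq_inv, inv_eq hD hb]; exact hne
  obtain ⟨p, hp, hmove⟩ : ∃ p ∈ D, ¬ Fixes D (a * b) p := by
    by_contra! hall
    exact hne1 (hfaith _ hall)
  exact same_of_lone hD (by rw [hab.symm.mul_mul_mul_comm, sq_eq hD ha, sq_eq hD hb, one_mul])
    (fun v hv hc => same_of_commute_prod hD ha hb hab hne hv hc) hf h hp hmove

/-- A member interchanging the components of `x` and `y x y` is the midpoint of these two. -/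
lemma commute_swappers {x y m : G} (hm : m ∈ D) (hy : y ∈ D) (hxm : ¬ Same D m x)
    (hx : x ∈ D) (hfix : Fixes D (m * y) x) (hc : Commute m y) : m = y := by
  by_contra hne
  exact hxm (same_of_fixes_prod hD hfaith hm hy hc hne hx hfix)

/-- Components have odd size. -/
lemma odd_card_component {x x2 : G} (hx : x ∈ D) (hx2 : x2 ∈ D) (h : ¬ Same D x x2) :
    Odd (Nat.card {d : G // d ∈ D ∧ Same D x2 d}) := by
  classical
  haveI := Fintype.ofFinite G
  let W := {y : G // y ∈ D ∧ Same D x2 (y * x * y⁻¹)}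
  have hWne : ∀ y : W, ¬ Same D y.1 x := fun y hs => h (by
    have h1 := fixes_of_same hD hs (fixes_of_commute hD (Commute.refl y.1))
    exact h1.trans' y.2.2.symm)
  have hback : ∀ y : W, Same D x (y.1 * x2 * y.1⁻¹) := fun y => by
    have h1 := (same_conj hD y.2.2 y.1).symm
    rwa [show y.1 * (y.1 * x * y.1⁻¹) * y.1⁻¹ = (y.1 * y.1) * x * (y.1 * y.1)⁻¹ by group,
      sq_eq hD y.2.1, one_mul, inv_one, mul_one] at h1
  let f : W → {d : G // d ∈ D ∧ Same D x2 d} := fun y =>
    ⟨y.1 * x * y.1⁻¹, hD.conj_mem x hx _, y.2.2⟩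
  have hf : Function.Bijective f := by
    constructor
    · intro y y' he
      have he' : y.1 * x * y.1⁻¹ = y'.1 * x * y'.1⁻¹ := congrArg Subtype.val he
      set x' := y.1 * x * y.1⁻¹ with hx'
      have hxx' : ¬ Same D x x' := fun hs => h (hs.trans' y.2.2.symm)
      obtain ⟨m, hm, hma, hmb, hmx, hfix, -⟩ := exists_mid hD hx (hD.conj_mem x hx _) hxx'
      have key : ∀ s : W, s.1 * x * s.1⁻¹ = x' → m = s.1 := by
        intro s hs
        have hsb : s.1 * x' * s.1⁻¹ = x := by
          rw [← hs, show s.1 * (s.1 * x * s.1⁻¹) * s.1⁻¹ = (s.1 * s.1) * x * (s.1 * s.1)⁻¹ by group,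
            sq_eq hD s.2.1, one_mul, inv_one, mul_one]
        have e1 : m * s.1 * x * (m * s.1)⁻¹ = x := by
          rw [show m * s.1 * x * (m * s.1)⁻¹ = m * (s.1 * x * s.1⁻¹) * m⁻¹ by group, hs, hmb]
        have e2 : m * s.1 * x' * (m * s.1)⁻¹ = x' := by
          rw [show m * s.1 * x' * (m * s.1)⁻¹ = m * (s.1 * x' * s.1⁻¹) * m⁻¹ by group, hsb, hma]
        have hc : Commute m s.1 := by
          have := (Commute.refl m).inv_left.mul_left (hfix _ e1 e2)
          rw [inv_mul_cancel_left] at this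
          exact this.symm
        exact commute_swappers hD hfaith hm s.2.1 hmx hx
          (fixes_of_commute hD (mul_inv_eq_iff_eq_mul.1 e1)) hc
      exact Subtype.ext ((key y rfl).symm.trans (key y' he'.symm))
    · rintro ⟨d, hd, hs⟩
      obtain ⟨m, hm, hma, -⟩ := exists_mid hD hx hd fun h' => h (h'.trans' hs.symm)
      exact ⟨⟨m, hm, hma ▸ hs⟩, Subtype.ext hma⟩
  rw [← Nat.card_eq_of_bijective f hf]
  obtain ⟨y0, hy0, hy0x, -⟩ := exists_mid hD hx hx2 h
  let y₀ : W := ⟨y0, hy0, by rw [hy0x]; exact same_refl x2⟩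
  have hy00 := sq_eq hD hy0
  have hy0inv := inv_eq hD hy0
  let c : W → W := fun y => ⟨y0 * y.1 * y0⁻¹, hD.conj_mem _ y.2.1 _, by
    have h1 := same_conj hD y₀.2.2 y.1
    have h2 := (hback y).trans' h1
    have h3 := y₀.2.2.trans' (same_conj hD h2 y0)
    rw [show y0 * y.1 * y0⁻¹ * x * (y0 * y.1 * y0⁻¹)⁻¹
      = y0 * (y.1 * (y0⁻¹ * x * y0) * y.1⁻¹) * y0⁻¹ by group]
    simpa only [y₀, hy0inv] using h3⟩
  have hc : Function.Involutive c := fun y => Subtype.ext (by
    show y0 * (y0 * y.1 * y0⁻¹) * y0⁻¹ = y.1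
    rw [hy0inv, show y0 * (y0 * y.1 * y0) * y0 = y0 * y0 * y.1 * (y0 * y0) by
      simp only [mul_assoc], hy00, one_mul, mul_one])
  have huniq : ∀ y : W, c y = y → y = y₀ := by
    intro y hy
    have hcm : Commute y0 y.1 := mul_inv_eq_iff_eq_mul.1 (congrArg Subtype.val hy)
    refine Subtype.ext (commute_swappers hD hfaith y.2.1 hy0 (hWne y) hx ?_ hcm.symm)
    show Same D x (y.1 * y0 * x * (y.1 * y0)⁻¹)
    rw [show y.1 * y0 * x * (y.1 * y0)⁻¹ = y.1 * (y0 * x * y0⁻¹) * y.1⁻¹ by group, hy0x]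
    exact hback y
  haveI : Fact (Nat.Prime 2) := ⟨Nat.prime_two⟩
  have hmod := Equiv.Perm.card_fixedPoints_modEq (f := hc.toPerm.toFun) (p := 2) (n := 1)
    (by funext y; exact hc y)
  rw [← Nat.card_eq_fintype_card, ← Nat.card_eq_fintype_card] at hmod
  have hone : Nat.card (Function.fixedPoints hc.toPerm.toFun) = 1 := by
    rw [Nat.card_eq_one_iff_unique]
    refine ⟨⟨fun a b => Subtype.ext ((huniq _ a.2).trans (huniq _ b.2).symm)⟩, ⟨⟨y₀, ?_⟩⟩⟩
    exact Subtype.ext (show y0 * y0 * y0⁻¹ = y0 by rw [mul_inv_cancel_right])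
  rw [hone] at hmod
  exact Nat.odd_iff.2 hmod

variable (hdis : ¬ IsConnectedSet (CommAdj D) D)
include hdis

/-- Some member is central in a Sylow 2-subgroup. -/
theorem exists_central : ∃ z ∈ D, ∃ S : Sylow 2 G, z ∈ S ∧ ∀ s ∈ S, Commute s z := by
  classical
  haveI := Fintype.ofFinite G
  haveI : Fact (Nat.Prime 2) := ⟨Nat.prime_two⟩
  simp only [IsConnectedSet, not_forall] at hdis
  obtain ⟨a, ha, b, hb, hab⟩ := hdis
  have hodd := odd_card_component hD hfaith hb ha fun h => hab h.symm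
  -- conjugation by `a` pairs off the members outside its component
  let R := {d : G // d ∈ D ∧ ¬ Same D a d}
  let c : R → R := fun d => ⟨a * d.1 * a⁻¹, hD.conj_mem _ d.2.1 _, fun h => d.2.2 (by
    have := same_conj hD h a
    rwa [mul_inv_cancel_right, show a * (a * d.1 * a⁻¹) * a⁻¹ = a * a * d.1 * (a * a)⁻¹ by group,
      sq_eq hD ha, one_mul, inv_one, mul_one] at this)⟩
  have hc : Function.Involutive c := fun d => Subtype.ext (by
    show a * (a * d.1 * a⁻¹) * a⁻¹ = d.1
    rw [show a * (a * d.1 * a⁻¹) * a⁻¹ = a * a * d.1 * (a * a)⁻¹ by group,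
      sq_eq hD ha, one_mul, inv_one, mul_one])
  have hmod := Equiv.Perm.card_fixedPoints_modEq (f := hc.toPerm.toFun) (p := 2) (n := 1)
    (by funext y; exact hc y)
  rw [← Nat.card_eq_fintype_card, ← Nat.card_eq_fintype_card] at hmod
  haveI : IsEmpty (Function.fixedPoints hc.toPerm.toFun) := ⟨fun d => d.1.2.2
    (same_of_commute ha d.1.2.1 (mul_inv_eq_iff_eq_mul.1 (congrArg Subtype.val d.2)))⟩
  rw [Nat.card_of_isEmpty (α := Function.fixedPoints hc.toPerm.toFun)] at hmod
  have hsplit : Nat.card D = Nat.card {d : G // d ∈ D ∧ Same D a d} + Nat.card R := by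
    rw [← Nat.card_sum]
    exact Nat.card_congr (((Equiv.sumCompl fun d : D => Same D a d.1).symm).trans
      (Equiv.sumCongr (Equiv.subtypeSubtypeEquivSubtypeInter _ _)
        (Equiv.subtypeSubtypeEquivSubtypeInter (fun d => d ∈ D) (fun d => ¬ Same D a d))))
  have hD2 : ¬ 2 ∣ Nat.card D := by
    rw [hsplit]
    have := Nat.odd_iff.1 hodd
    unfold Nat.ModEq at hmod
    omega
  obtain ⟨S⟩ : Nonempty (Sylow 2 G) := Sylow.nonempty
  letI : MulAction (S : Subgroup G) D :=
    { smul := fun s d => ⟨s.1 * d.1 * s.1⁻¹, hD.conj_mem _ d.2 _⟩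
      one_smul := fun d => Subtype.ext (show (1 : G) * d.1 * 1⁻¹ = d.1 by group)
      mul_smul := fun s t d => Subtype.ext (show (s.1 * t.1) * d.1 * (s.1 * t.1)⁻¹
        = s.1 * (t.1 * d.1 * t.1⁻¹) * s.1⁻¹ by group) }
  obtain ⟨⟨z, hz⟩, hzfix⟩ := S.isPGroup'.nonempty_fixed_point_of_prime_not_dvd_card D hD2
  have hcz : ∀ s ∈ S, Commute s z := fun s hs =>
    mul_inv_eq_iff_eq_mul.1 (congrArg Subtype.val (hzfix ⟨s, hs⟩))
  refine ⟨z, hz, S, ?_, hcz⟩
  have hp : IsPGroup 2 (Subgroup.zpowers z) := by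
    refine IsPGroup.of_card (n := 1) ?_
    rw [Nat.card_zpowers, hD.orderOf_eq z hz, pow_one]
  have hn : Subgroup.zpowers z ≤ Subgroup.normalizer ((S : Subgroup G) : Set G) := by
    rw [Subgroup.zpowers_le]
    refine Subgroup.le_normalizer_iff.2 (fun m hm y hy => ?_) (Subgroup.mem_zpowers z)
    obtain ⟨n, rfl⟩ := hm
    rwa [(((hcz y hy).zpow_right n).symm).eq, mul_inv_cancel_right]
  have hle := S.3 (IsPGroup.to_sup_of_normal_left' S.isPGroup' hp hn) le_sup_left
  exact hle.le (Subgroup.mem_sup_right (Subgroup.mem_zpowers z))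

end Faithful

end CfsgLib.RootDisconnected
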