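import Cfsg.Prelude.Def_RootSubgroups
import Cfsg.Agent.Small.BaerSuzuki
import Cfsg.Agent.Small.DihedralConj

/-! Elementary theory of finite sets of root involutions. -/

set_option autoImplicit false

namespace CfsgLib.RootInvolution

open Cfsg

variable {G : Type*} [Group G]

/-- A set closed under conjugation by itself, of involutions with pairwise products of order
dividing four, generates a 2-group. -/
theorem isPGroup_closure_of_small [Finite G] (T : Set G) (hT2 : ∀ t ∈ T, orderOf t = 2)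
    (hT : ∀ s ∈ T, ∀ t ∈ T, s * t * s⁻¹ ∈ T) (h4 : ∀ s ∈ T, ∀ t ∈ T, (s * t) ^ 4 = 1) :
    IsPGroup 2 ↥(Subgroup.closure T) := by
  have : Fact (Nat.Prime 2) := ⟨Nat.prime_two⟩
  set Q := Subgroup.closure T
  have hconj : ∀ g ∈ Q, ∀ t ∈ T, g * t * g⁻¹ ∈ T := by
    intro g hg
    induction hg using Subgroup.closure_induction'' with
    | mem s hs => exact hT s hs
    | inv_mem s hs =>
      intro t ht
      rw [inv_inv, CfsgLib.Small.inv_eq_self_of_orderOf_two (hT2 s hs)]
      have := hT s hs t ht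
      rwa [CfsgLib.Small.inv_eq_self_of_orderOf_two (hT2 s hs)] at this
    | one => intro t ht; simpa using ht
    | mul g h _ _ ihg ihh =>
      intro t ht
      have := ihg _ (ihh t ht)
      simpa [mul_assoc] using this
  have hN : ∀ t : Q, (t : G) ∈ T → t ∈ (sSup {N : Subgroup Q | N.Normal ∧ IsPGroup 2 N}) := by
    intro t ht
    obtain ⟨N, hN, hN2, htN⟩ := CfsgLib.Small.baerSuzuki_elem (p := 2) t (fun g => by
      have ht2 : orderOf t = 2 := by rw [← Subgroup.orderOf_coe]; exact hT2 _ ht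
      have hg2 : orderOf (g * t * g⁻¹) = 2 := by rw [CfsgLib.Small.orderOf_conj_eq, ht2]
      have hpow : (t * (g * t * g⁻¹)) ^ 4 = 1 := by
        apply Subtype.ext
        simpa using h4 _ ht _ (hconj _ g.2 _ ht)
      obtain ⟨i, -, hi⟩ := (Nat.dvd_prime_pow Nat.prime_two).1
        (show orderOf (t * (g * t * g⁻¹)) ∣ 2 ^ 2 from orderOf_dvd_of_pow_eq_one hpow)
      by_cases heq : t = g * t * g⁻¹
      · refine IsPGroup.of_card (n := 1) ?_
        rw [← heq, Set.insert_eq_of_mem (Set.mem_singleton t), ← Subgroup.zpowers_eq_closure,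
          Nat.card_zpowers, ht2, pow_one]
      · refine IsPGroup.of_card (n := i + 1) ?_
        rw [CfsgLib.Small.card_closure_pair_invol ht2 hg2 heq, hi, pow_succ, mul_comm])
    exact le_sSup (show N ∈ {N : Subgroup Q | N.Normal ∧ IsPGroup 2 N} from ⟨hN, hN2⟩) htN
  -- the join of finitely many normal 2-subgroups is a 2-group
  have hclosed : ∀ S : Finset (Subgroup Q), (∀ N ∈ S, N.Normal ∧ IsPGroup 2 N) →
      (S.sup id).Normal ∧ IsPGroup 2 ↥(S.sup id) := by
    classical
    intro S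
    induction S using Finset.induction_on with
    | empty => intro _; rw [Finset.sup_empty]; exact ⟨inferInstance, IsPGroup.of_bot⟩
    | @insert N S hNS ih =>
      intro h
      obtain ⟨h1, h2⟩ := ih fun M hM => h M (Finset.mem_insert_of_mem hM)
      obtain ⟨h3, h4'⟩ := h N (Finset.mem_insert_self N S)
      rw [Finset.sup_insert, id_eq]
      exact ⟨Subgroup.sup_normal N (S.sup id), h4'.to_sup_of_normal_right h2⟩
  classical
  cases nonempty_fintype (Subgroup Q)
  set S := Finset.univ.filter fun N : Subgroup Q => N.Normal ∧ IsPGroup 2 N with hS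
  have htop : (⊤ : Subgroup Q) ≤ S.sup id := by
    rw [← Subgroup.closure_closure_coe_preimage (k := T)]
    rw [Subgroup.closure_le]
    intro t ht
    refine (sSup_le fun N hN => ?_ : sSup {N : Subgroup Q | N.Normal ∧ IsPGroup 2 N} ≤ S.sup id)
      (hN t ht)
    exact Finset.le_sup (f := id) (by rw [hS]; simpa using hN)
  have := ((hclosed S (by rw [hS]; simp)).2).to_le htop
  exact this.of_equiv Subgroup.topEquiv

variable {D : Set G}

/-- `c` commutes with `a` and their product is again in `D`. -/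
structure Partner (D : Set G) (a c : G) : Prop where
  left : a ∈ D
  right : c ∈ D
  comm : Commute a c
  mul : a * c ∈ D

variable (hD : IsRootInvolutionSet D)
include hD

lemma sq_eq {a : G} (ha : a ∈ D) : a * a = 1 :=
  CfsgLib.Small.mul_self_of_orderOf_two (hD.orderOf_eq a ha)

lemma inv_eq {a : G} (ha : a ∈ D) : a⁻¹ = a :=
  CfsgLib.Small.inv_eq_self_of_orderOf_two (hD.orderOf_eq a ha)

lemma ne_one {a : G} (ha : a ∈ D) : a ≠ 1 :=
  CfsgLib.Small.ne_one_of_orderOf_two (hD.orderOf_eq a ha)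

lemma conj_self {a b : G} (ha : a ∈ D) (hb : b ∈ D) : a * b * a ∈ D := by
  have := hD.conj_mem b hb a
  rwa [inv_eq hD ha] at this

lemma inv_mul_eq {a b : G} (ha : a ∈ D) (hb : b ∈ D) : (a * b)⁻¹ = b * a := by
  rw [mul_inv_rev, inv_eq hD ha, inv_eq hD hb]

lemma orderOf_mul_comm' {a b : G} (ha : a ∈ D) (hb : b ∈ D) :
    orderOf (b * a) = orderOf (a * b) := by rw [← inv_mul_eq hD ha hb, orderOf_inv]

lemma adj_symm {a b : G} (h : OddAdj D a b) : OddAdj D b a :=
  ⟨h.2.1, h.1, h.2.2.1.symm, by rw [orderOf_mul_comm' hD h.1 h.2.1]; exact h.2.2.2⟩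

lemma adj_not_comm {a b : G} (h : OddAdj D a b) : ¬ Commute a b := fun hc => by
  have h2 : (a * b) ^ 2 = 1 := by rw [hc.mul_pow, pow_two, pow_two, sq_eq hD h.1, sq_eq hD h.2.1, one_mul]
  have hdvd := orderOf_dvd_of_pow_eq_one h2
  rcases (Nat.dvd_prime Nat.prime_two).1 hdvd with h1 | h1
  · rw [orderOf_eq_one_iff, mul_eq_one_iff_eq_inv, inv_eq hD h.2.1] at h1
    exact h.2.2.1 h1
  · have := h.2.2.2; rw [h1] at this; exact absurd this (by decide)

lemma four_iff_not {a b : G} (ha : a ∈ D) (hb : b ∈ D) :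
    orderOf (a * b) = 4 ↔ ¬ Commute a b ∧ ¬ OddAdj D a b := by
  constructor
  · intro h4
    refine ⟨fun hc => ?_, fun h => ?_⟩
    · have h2 : (a * b) ^ 2 = 1 := by rw [hc.mul_pow, pow_two, pow_two, sq_eq hD ha, sq_eq hD hb, one_mul]
      have := orderOf_dvd_of_pow_eq_one h2
      rw [h4] at this; exact absurd this (by decide)
    · have := h.2.2.2; rw [h4] at this; exact absurd this (by decide)
  · rintro ⟨hc, hodd⟩
    rcases hD.pair a ha b hb with h | h | h
    · exact absurd h hc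
    · exact absurd ⟨ha, hb, fun e => hc (e ▸ Commute.refl a), h⟩ hodd
    · exact h.1

lemma pow_four_of_not_adj {a b : G} (ha : a ∈ D) (hb : b ∈ D) (h : ¬ OddAdj D a b) :
    (a * b) ^ 4 = 1 := by
  by_cases hc : Commute a b
  · rw [hc.mul_pow, pow_succ, pow_succ, pow_two, pow_succ, pow_succ, pow_two, sq_eq hD ha,
      sq_eq hD hb]
    simp [sq_eq hD ha, sq_eq hD hb]
  · rw [← (four_iff_not hD ha hb).2 ⟨hc, h⟩, pow_orderOf_eq_one]

/-- The involution `(ab)²` for a product of order four. -/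
lemma four_spec {a b : G} (ha : a ∈ D) (hb : b ∈ D) (h : orderOf (a * b) = 4) :
    Partner D a ((a * b) ^ 2) ∧ Partner D b ((a * b) ^ 2) ∧ (b * a) ^ 2 = (a * b) ^ 2 ∧
      a * (a * b) ^ 2 = b * a * b ∧ b * (a * b) ^ 2 = a * b * a := by
  have hmem : (a * b) ^ 2 ∈ D := by
    rcases hD.pair a ha b hb with h' | h' | h'
    · exact absurd h' ((four_iff_not hD ha hb).1 h).1
    · rw [h] at h'; exact absurd h' (by decide)
    · exact h'.2
  have hba : (b * a) ^ 2 = (a * b) ^ 2 := by
    rw [← inv_mul_eq hD ha hb, inv_pow, inv_eq hD hmem]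
  have e1 : a * (a * b) ^ 2 = b * a * b := by
    rw [pow_two, ← mul_assoc, ← mul_assoc a a b, sq_eq hD ha, one_mul, mul_assoc]
  have e2 : b * (a * b) ^ 2 = a * b * a := by
    rw [← hba, pow_two, ← mul_assoc, ← mul_assoc b b a, sq_eq hD hb, one_mul, mul_assoc]
  have c1 : Commute a ((a * b) ^ 2) := by
    show a * (a * b) ^ 2 = (a * b) ^ 2 * a
    conv_lhs => rw [← hba]
    rw [pow_two, pow_two]
    simp only [mul_assoc]
  have c2 : Commute b ((a * b) ^ 2) := by
    show b * (a * b) ^ 2 = (a * b) ^ 2 * b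
    conv_rhs => rw [← hba]
    rw [pow_two, pow_two]
    simp only [mul_assoc]
  exact ⟨⟨ha, hmem, c1, e1 ▸ conj_self hD hb ha⟩, ⟨hb, hmem, c2, e2 ▸ conj_self hD ha hb⟩,
    hba, e1, e2⟩

omit hD in
lemma Partner.swap {a c : G} (h : Partner D a c) : Partner D c a :=
  ⟨h.right, h.left, h.comm.symm, h.comm.eq ▸ h.mul⟩

lemma Partner.third {a c : G} (h : Partner D a c) : Partner D a (a * c) :=
  ⟨h.left, h.mul, (Commute.refl a).mul_right h.comm,
    by rw [← mul_assoc, sq_eq hD h.left, one_mul]; exact h.right⟩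

/-- Twisting an odd pair by a central involution never stays inside `D`. -/
lemma not_twist {a v u : G} (h : OddAdj D a v) (hua : Commute u a) (huv : Commute u v)
    (hu2 : u * u = 1) (hu : u ≠ 1) (hmem : u * a ∈ D) : False := by
  have ho2 : orderOf u = 2 := CfsgLib.Small.orderOf_eq_two_iff_sq.2 ⟨hu, hu2⟩
  have ho : orderOf (u * a * v) = 2 * orderOf (a * v) := by
    rw [mul_assoc, (hua.mul_right huv).orderOf_mul_eq_mul_orderOf_of_coprime
      (by rw [ho2]; exact h.2.2.2.coprime_two_left), ho2]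
  have hn : orderOf (a * v) ≠ 1 := by
    rw [Ne, orderOf_eq_one_iff, mul_eq_one_iff_eq_inv, inv_eq hD h.2.1]
    exact h.2.2.1
  by_cases hc : Commute (u * a) v
  · have h2 : (u * a * v) ^ 2 = 1 := by
      rw [hc.mul_pow, pow_two, pow_two, sq_eq hD hmem, sq_eq hD h.2.1, one_mul]
    have := orderOf_dvd_of_pow_eq_one h2
    rw [ho] at this
    rcases (Nat.dvd_prime Nat.prime_two).1 this with h1 | h1 <;> omega
  rcases hD.pair _ hmem v h.2.1 with h' | h' | h'
  · exact hc h'
  · rw [ho] at h'; exact absurd h' (Nat.not_odd_iff_even.2 (even_two_mul _))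
  · rw [ho] at h'
    obtain ⟨m, hm⟩ := h.2.2.2
    omega

/-- No element odd-adjacent to `a` commutes with a partner of `a`. -/
lemma triple_comm {a c v : G} (h : Partner D a c) (hv : OddAdj D a v) : ¬ Commute c v := fun hc =>
  not_twist hD hv h.comm.symm hc (sq_eq hD h.right) (ne_one hD h.right) (h.comm.eq ▸ h.mul)

/-- If `a`, `c`, `ac` are members and `x` is odd-adjacent to `a`, it is odd-adjacent to `c` or
`ac`. -/
lemma triple {a c x : G} (h : Partner D a c) (hx : OddAdj D a x) :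
    OddAdj D c x ∨ OddAdj D (a * c) x := by
  by_contra hne
  rw [not_or] at hne
  have hxD := hx.2.1
  have h1 : orderOf (x * c) = 4 := by
    rw [orderOf_mul_comm' hD h.right hxD]
    exact (four_iff_not hD h.right hxD).2 ⟨triple_comm hD h hx, hne.1⟩
  have h2 : orderOf (x * (a * c)) = 4 := by
    rw [orderOf_mul_comm' hD h.mul hxD]
    exact (four_iff_not hD h.mul hxD).2 ⟨triple_comm hD (h.third hD) hx, hne.2⟩
  obtain ⟨p1, -, -, e1, -⟩ := four_spec hD hxD h.right h1
  obtain ⟨p2, -, -, e2, -⟩ := four_spec hD hxD h.mul h2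
  -- `x' = c x c` commutes with `x` and with `y = a x a`
  have hxx' : Commute x (c * x * c) := e1 ▸ (Commute.refl x).mul_right p1.comm
  have hx'' : Commute x (a * c * x * (a * c)) := e2 ▸ (Commute.refl x).mul_right p2.comm
  have haa := sq_eq hD h.left
  have hy : Commute (a * x * a) (c * x * c) := by
    have := hx''.map (MulAut.conj a)
    simp only [MulAut.conj_apply, inv_eq hD h.left] at this
    have e : a * (a * c * x * (a * c)) * a = c * x * c := by
      rw [← mul_assoc a (a * c * x), ← mul_assoc a (a * c), ← mul_assoc a a c, haa, one_mul,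
        mul_assoc, mul_assoc a c a, ← h.comm.eq, ← mul_assoc a a c, haa, one_mul]
    rwa [e] at this
  have hodd : OddAdj D x (a * x * a) := by
    have e : x * (a * x * a) = (x * a) ^ 2 := by rw [pow_two]; simp only [mul_assoc]
    refine ⟨hxD, conj_self hD h.left hxD, fun heq => ?_, ?_⟩
    · refine adj_not_comm hD hx ?_
      show a * x = x * a
      conv_rhs => rw [heq]
      rw [mul_assoc (a * x), haa, mul_one]
    · rw [e, orderOf_pow' _ two_ne_zero, orderOf_mul_comm' hD h.left hxD,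
        Nat.Coprime.gcd_eq_one hx.2.2.2.coprime_two_right, Nat.div_one]
      exact hx.2.2.2
  refine not_twist hD hodd hxx'.symm hy.symm (sq_eq hD (conj_self hD h.right hxD))
    (ne_one hD (conj_self hD h.right hxD)) ?_
  rw [← hxx'.eq, ← e1, ← mul_assoc, sq_eq hD hxD, one_mul]
  exact p1.right

lemma adj_conj {a b : G} (h : OddAdj D a b) (g : G) :
    OddAdj D (g * a * g⁻¹) (g * b * g⁻¹) := by
  refine ⟨hD.conj_mem a h.1 g, hD.conj_mem b h.2.1 g, fun e => h.2.2.1 (by simpa using e), ?_⟩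
  rw [show g * a * g⁻¹ * (g * b * g⁻¹) = g * (a * b) * g⁻¹ by group,
    CfsgLib.Small.orderOf_conj_eq]
  exact h.2.2.2

lemma isolated_iff {a : G} : IsIsolatedElem (OddAdj D) D a ↔ a ∈ D ∧ ∀ b, ¬ OddAdj D a b :=
  ⟨fun h => ⟨h.1, fun b => (h.2 b).1⟩, fun h => ⟨h.1, fun b => ⟨h.2 b, fun e => h.2 b (adj_symm hD e)⟩⟩⟩

lemma conj_of_reach {a b : G} (h : Relation.ReflTransGen (OddAdj D) a b) :
    ∃ g : G, g * a * g⁻¹ = b := by
  induction h with
  | refl => exact ⟨1, by simp⟩
  | @tail b c _ hbc ih =>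
    obtain ⟨g, rfl⟩ := ih
    obtain ⟨k, hk⟩ := CfsgLib.Small.conj_pow_eq_of_odd (hD.orderOf_eq _ hbc.1)
      (hD.orderOf_eq c hbc.2.1) hbc.2.2.2
    refine ⟨(g * a * g⁻¹ * c) ^ k * g, Eq.trans ?_ hk⟩
    simp only [mul_inv_rev, mul_assoc]

end CfsgLib.RootInvolution
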