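import Cfsg.Agent.RootSubgroups.RootInvolutions

/-! Connected sets of root involutions: odd neighbourhoods determine the centralised members, and
the chain argument producing `S₄` configurations. -/

set_option autoImplicit false

namespace CfsgLib.RootInvolution

open Cfsg

variable {G : Type*} [Group G] [Finite G] {D : Set G}

/-- The odd neighbours. -/
def oddNbr (D : Set G) (a : G) : Set G := {x | OddAdj D a x}

variable (hD : IsRootInvolutionSet D) (hc : IsConnectedSet (OddAdj D) D)
include hD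

lemma oddNbr_conj (g a : G) :
    oddNbr D (g * a * g⁻¹) = (fun x => g * x * g⁻¹) '' oddNbr D a := by
  ext x
  constructor
  · intro hx
    refine ⟨g⁻¹ * x * g, ?_, by group⟩
    have := adj_conj hD hx g⁻¹
    show OddAdj D a (g⁻¹ * x * g)
    simpa [mul_assoc] using this
  · rintro ⟨y, hy, rfl⟩
    exact adj_conj hD hy g

lemma commutingMembers_conj (g a : G) :
    commutingMembers D (g * a * g⁻¹) = (fun x => g * x * g⁻¹) '' commutingMembers D a := by
  ext x
  constructor
  · rintro ⟨hx, hcm⟩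
    refine ⟨g⁻¹ * x * g, ⟨by simpa using hD.conj_mem x hx g⁻¹, ?_⟩, by group⟩
    have := congrArg (fun y => g⁻¹ * y * g) hcm
    simpa [mul_assoc] using this
  · rintro ⟨y, ⟨hy, hcm⟩, rfl⟩
    refine ⟨hD.conj_mem y hy g, ?_⟩
    show g * y * g⁻¹ * (g * a * g⁻¹) = g * a * g⁻¹ * (g * y * g⁻¹)
    have := congrArg (fun z => g * z * g⁻¹) hcm
    simpa [mul_assoc] using this

include hc

lemma exists_conj {a b : G} (ha : a ∈ D) (hb : b ∈ D) : ∃ g : G, g * a * g⁻¹ = b :=
  conj_of_reach hD (hc a ha b hb)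

lemma oddNbr_eq_of_subset {a b : G} (ha : a ∈ D) (hb : b ∈ D)
    (h : oddNbr D a ⊆ oddNbr D b) : oddNbr D a = oddNbr D b := by
  obtain ⟨g, rfl⟩ := exists_conj hD hc ha hb
  refine Set.eq_of_subset_of_ncard_le h (le_of_eq ?_) (Set.toFinite _)
  rw [oddNbr_conj hD, Set.ncard_image_of_injective _ fun x y e => by simpa using e]

lemma exists_comm_diff {a b : G} (ha : a ∈ D) (hb : b ∈ D)
    (h : commutingMembers D a ≠ commutingMembers D b) :
    ∃ z ∈ D, Commute z a ∧ ¬ Commute z b := by
  by_contra hne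
  push_neg at hne
  refine h (Set.eq_of_subset_of_ncard_le (fun z hz => ⟨hz.1, hne z hz.1 hz.2⟩) ?_ (Set.toFinite _))
  obtain ⟨g, rfl⟩ := exists_conj hD hc ha hb
  rw [commutingMembers_conj hD, Set.ncard_image_of_injective _ fun x y e => by simpa using e]

/-- For two non-commuting members with the same odd neighbours, the commutator has them too. -/
lemma oddNbr_four {t z : G} (ht : t ∈ D) (hz : z ∈ D) (hA : oddNbr D t = oddNbr D z)
    (hn : ¬ Commute t z) :
    orderOf (t * z) = 4 ∧ oddNbr D ((t * z) ^ 2) = oddNbr D t := by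
  have hodd : ¬ OddAdj D t z := fun h => by
    have h' : z ∈ oddNbr D z := hA ▸ h
    exact h'.2.2.1 rfl
  have h4 := (four_iff_not hD ht hz).2 ⟨hn, hodd⟩
  obtain ⟨p, -, -, e, -⟩ := four_spec hD ht hz h4
  refine ⟨h4, oddNbr_eq_of_subset hD hc p.right ht fun x hx => ?_⟩
  rcases triple hD p.swap hx with h | h
  · exact h
  · rw [← p.comm.eq, e] at h
    have h' := adj_conj hD h z
    rw [inv_eq hD hz, show z * (z * t * z) * z = t by
      simp only [← mul_assoc, sq_eq hD hz, one_mul]; simp [mul_assoc, sq_eq hD hz]] at h'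
    -- `zxz` is adjacent to `t`, hence to `z`, hence `x` is adjacent to `z`
    have h'' : OddAdj D z (z * x * z) := (hA ▸ h' : z * x * z ∈ oddNbr D z)
    have h3 := adj_conj hD h'' z
    rw [inv_eq hD hz] at h3
    simp only [← mul_assoc, sq_eq hD hz, one_mul] at h3
    simp only [mul_assoc, sq_eq hD hz, mul_one] at h3
    exact (hA ▸ h3 : x ∈ oddNbr D t)

/-- Members with the same odd neighbours commute. -/
theorem commute_of_oddNbr_eq {a b : G} (ha : a ∈ D) (hb : b ∈ D)
    (hA : oddNbr D a = oddNbr D b) : Commute a b := by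
  by_contra hn
  have : Fact (Nat.Prime 2) := ⟨Nat.prime_two⟩
  set T := {t | t ∈ D ∧ oddNbr D t = oddNbr D a} with hTdef
  have hTconj : ∀ s ∈ T, ∀ t ∈ T, s * t * s⁻¹ ∈ T := by
    rintro s ⟨hs, hsA⟩ t ⟨ht, htA⟩
    refine ⟨hD.conj_mem t ht s, ?_⟩
    rw [oddNbr_conj hD, htA, ← hsA, ← oddNbr_conj hD, mul_inv_cancel_right]
  set Q := Subgroup.closure T
  have hQ : IsPGroup 2 Q := isPGroup_closure_of_small T (fun t ht => hD.orderOf_eq t ht.1) hTconj
    fun s hs t ht => pow_four_of_not_adj hD hs.1 ht.1 fun h => by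
      have h' : t ∈ oddNbr D t := (ht.2.trans hs.2.symm).symm ▸ h
      exact h'.2.2.1 rfl
  have hpartner : ∀ t ∈ T, ∃ z ∈ T, (t * z) ^ 2 ∈ T ∧ ¬ Commute t z := by
    rintro t ⟨ht, htA⟩
    obtain ⟨g, rfl⟩ := exists_conj hD hc ha ht
    have hz : g * b * g⁻¹ ∈ T := ⟨hD.conj_mem b hb g, by rw [oddNbr_conj hD, ← hA, ← oddNbr_conj hD, htA]⟩
    have hnc : ¬ Commute (g * a * g⁻¹) (g * b * g⁻¹) := fun h => hn <| by
      have := h.map (MulAut.conj g⁻¹)
      simpa [mul_assoc] using this
    obtain ⟨h4, hA'⟩ := oddNbr_four hD hc (hD.conj_mem a ha g) hz.1 (htA.trans hz.2.symm) hnc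
    exact ⟨_, hz, ⟨(four_spec hD (hD.conj_mem a ha g) hz.1 h4).1.right, hA'.trans htA⟩, hnc⟩
  have hnil : Group.IsNilpotent Q := hQ.isNilpotent
  have hmain : ∀ k, ∃ t : Q, (t : G) ∈ T ∧ t ∈ Subgroup.lowerCentralSeries (⊤ : Subgroup Q) k := by
    intro k
    induction k with
    | zero => exact ⟨⟨a, Subgroup.subset_closure ⟨ha, rfl⟩⟩, ⟨ha, rfl⟩, by simp⟩
    | succ k ih =>
      obtain ⟨t, htT, htk⟩ := ih
      obtain ⟨z, hz, hh, -⟩ := hpartner t htT
      let z' : Q := ⟨z, Subgroup.subset_closure hz⟩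
      refine ⟨t * z' * t⁻¹ * z'⁻¹, ?_, ?_⟩
      · show (t : G) * z * (t : G)⁻¹ * z⁻¹ ∈ T
        rwa [inv_eq hD htT.1, inv_eq hD hz.1, mul_assoc _ (t : G) z, ← pow_two]
      · rw [Subgroup.lowerCentralSeries_succ]
        exact Subgroup.commutator_mem_commutator htk (Subgroup.mem_top z')
  obtain ⟨n, hn0⟩ := nilpotent_iff_lowerCentralSeries.1 hnil
  obtain ⟨t, htT, htk⟩ := hmain n
  rw [hn0, Subgroup.mem_bot] at htk
  exact ne_one hD htT.1 (by simpa using congrArg Subtype.val htk)

/-- Two members with the same odd neighbours have the same commuting members: the configuration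
is reduced to a partner pair `(h, y)` with a common four-partner pattern. -/
lemma exists_adj_diff {a b : G} (ha : a ∈ D) (hb : b ∈ D) (h : oddNbr D a ≠ oddNbr D b) :
    ∃ x, OddAdj D a x ∧ ¬ OddAdj D b x := by
  by_contra hne
  push_neg at hne
  exact h (oddNbr_eq_of_subset hD hc ha hb hne)

omit hc

/-- Injectivity of the commutator maps of the chain. -/
lemma partner_cancel {a x b b' : G} (hax : OddAdj D a x) (hb : Partner D a b) (hb' : Partner D a b')
    (hbb : Commute b b') (hx : ¬ OddAdj D b x) (he : b * x * b = b' * x * b') : b = b' := by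
  by_contra hne
  have hab : OddAdj D (a * b) x := (triple hD hb hax).resolve_left hx
  have hb2 := sq_eq hD hb.right
  have hb'2 := sq_eq hD hb'.right
  refine not_twist hD hab (u := b * b') ?_ ?_ ?_ ?_ ?_
  · exact ((hb.comm.symm.mul_left hb'.comm.symm).mul_right
      ((Commute.refl b).mul_left hbb.symm))
  · show b * b' * x = x * (b * b')
    calc b * b' * x = b * (b' * x * b') * b' := by simp [mul_assoc, hb'2]
      _ = b * (b * x * b) * b' := by rw [he]
      _ = x * (b * b') := by simp [← mul_assoc, hb2]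
  · rw [show b * b' * (b * b') = b * (b' * b) * b' by simp [mul_assoc], ← hbb.eq, ← mul_assoc, hb2,
      one_mul, hb'2]
  · exact fun e => hne (mul_eq_one_iff_eq_inv.1 e |>.trans (inv_eq hD hb'.right))
  · have e : b * b' * (a * b) = a * b' := by
      rw [hbb.eq, mul_assoc, ← mul_assoc b a b, ← hb.comm.eq, mul_assoc a b b, hb2, mul_one, ← hb'.comm.eq]
    rw [e]; exact hb'.mul

/-- `P = (xb)²` for the chain. -/
lemma chain_step {a x b : G} (hax : OddAdj D a x) (hb : Partner D a b) (h4 : orderOf (x * b) = 4) :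
    Partner D x ((x * b) ^ 2) ∧ Commute b ((x * b) ^ 2) ∧ orderOf (a * (x * b) ^ 2) = 4 ∧
      ¬ OddAdj D ((x * b) ^ 2) a ∧ x * b * x = b * (x * b) ^ 2 := by
  obtain ⟨p, q, -, -, e⟩ := four_spec hD hax.2.1 hb.right h4
  have h1 : ¬ Commute ((x * b) ^ 2) a := triple_comm hD p (adj_symm hD hax)
  have h2 : ¬ OddAdj D a ((x * b) ^ 2) := fun h => triple_comm hD hb h q.comm
  exact ⟨p, q.comm, (four_iff_not hD hb.left p.right).2 ⟨fun h => h1 h.symm, h2⟩,
    fun h => h2 (adj_symm hD h), e.symm⟩

include hD in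
/-- The chain argument: some member realises a given partner as a commutator with `a`. -/
theorem exists_four_of_adj {a x b : G} (hax : OddAdj D a x) (hb : Partner D a b)
    (h4 : orderOf (x * b) = 4) : ∃ f ∈ D, orderOf (a * f) = 4 ∧ (a * f) ^ 2 = b := by
  have hxa := adj_symm hD hax
  let step : G → G := fun b => (a * (x * b) ^ 2) ^ 2
  let B : ℕ → G := fun n => step^[n] b
  let F : ℕ → G := fun n => (x * B n) ^ 2
  have hB0 : B 0 = b := rfl
  have hBs : ∀ n, B (n + 1) = (a * F n) ^ 2 := fun n => Function.iterate_succ_apply' step n b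
  -- the invariants
  have inv : ∀ n, Partner D a (B n) ∧ orderOf (x * B n) = 4 := by
    intro n
    induction n with
    | zero => exact ⟨hb, h4⟩
    | succ n ih =>
      obtain ⟨p, hcm, h4', hno, -⟩ := chain_step hD hax ih.1 ih.2
      obtain ⟨p', q', -, -, -⟩ := four_spec hD ih.1.left p.right h4'
      rw [hBs]
      refine ⟨p', (four_iff_not hD hax.2.1 p'.right).2 ⟨fun h => triple_comm hD p' hax h.symm, fun h => ?_⟩⟩
      exact triple_comm hD p h q'.comm
  have hF : ∀ n, Partner D x (F n) ∧ Commute (B n) (F n) ∧ orderOf (a * F n) = 4 ∧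
      ¬ OddAdj D (F n) a ∧ x * B n * x = B n * F n := fun n => chain_step hD hax (inv n).1 (inv n).2
  have haF : ∀ n, a * F n * a = F n * B (n + 1) ∧ Commute (F n) (B (n + 1)) := fun n => by
    obtain ⟨-, q, -, -, e⟩ := four_spec hD hax.1 (hF n).1.right (hF n).2.2.1
    rw [hBs]; exact ⟨e.symm, q.comm⟩
  have hconja : ∀ {u v : G}, Commute u v → Commute (a * u * a) (a * v * a) := fun {u v} h => by
    have := h.map (MulAut.conj a)
    simpa only [MulAut.conj_apply, inv_eq hD hax.1] using this
  have hconjx : ∀ {u v : G}, Commute u v → Commute (x * u * x) (x * v * x) := fun {u v} h => by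
    have := h.map (MulAut.conj x)
    simpa only [MulAut.conj_apply, inv_eq hD hax.2.1] using this
  -- all members of the chain commute
  have comm : ∀ N, ∀ i < N, ∀ j < N, Commute (B i) (B j) ∧ Commute (F i) (F j) ∧ Commute (B i) (F j) := by
    intro N
    induction N with
    | zero => intro i hi; exact absurd hi (Nat.not_lt_zero i)
    | succ N ih =>
      have h1 : ∀ i < N, Commute (B N) (B i) := fun i hi => by
        obtain ⟨M, rfl⟩ : ∃ M, N = M + 1 := ⟨N - 1, by omega⟩
        rw [hBs]
        exact (((inv i).1.comm.mul_left (ih i hi M (by omega)).2.2.symm).pow_left 2)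
      have h2 : ∀ i < N, Commute (B N) (F i) := fun i hi => by
        obtain ⟨M, rfl⟩ : ∃ M, N = M + 1 := ⟨N - 1, by omega⟩
        rcases Nat.lt_or_ge i M with him | him
        · have e : B (M + 1) = a * F M * a * F M := by rw [hBs, pow_two]; simp only [mul_assoc]
          rw [e]
          refine Commute.mul_left ?_ (ih M (by omega) i hi).2.1
          have h := hconja (show Commute (F M) (a * F i * a) by
            rw [(haF i).1]
            exact (ih M (by omega) i hi).2.1.mul_right (ih (i + 1) (by omega) M (by omega)).2.2.symm)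
          simpa [mul_assoc, sq_eq hD hax.1, ← mul_assoc a a] using h
        · obtain rfl : i = M := by omega
          exact (haF i).2.symm
      have h3 : ∀ i < N, Commute (F N) (F i) := fun i hi =>
        ((hF i).1.comm.mul_left (h2 i hi)).pow_left 2
      have h4 : ∀ i < N, Commute (F N) (B i) := fun i hi => by
        have e : F N = x * B N * x * B N := by
          show (x * B N) ^ 2 = _
          rw [pow_two]; simp only [mul_assoc]
        rw [e]
        refine Commute.mul_left ?_ (h1 i hi)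
        have h := hconjx (show Commute (B N) (x * B i * x) by
          rw [(hF i).2.2.2.2]
          exact (h1 i hi).mul_right (h2 i hi))
        simpa [mul_assoc, sq_eq hD hax.2.1, ← mul_assoc x x] using h
      intro i hi j hj
      rcases Nat.lt_succ_iff_lt_or_eq.1 hi with hi' | rfl <;>
        rcases Nat.lt_succ_iff_lt_or_eq.1 hj with hj' | rfl
      · exact ih i hi' j hj'
      · exact ⟨(h1 i hi').symm, (h3 i hi').symm, (h4 i hi').symm⟩
      · exact ⟨h1 j hj', h3 j hj', h2 j hj'⟩
      · exact ⟨Commute.refl _, Commute.refl _, (hF _).2.1⟩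
  have cancel : ∀ i j, B (i + 1) = B (j + 1) → B i = B j := fun i j he => by
    have hij := comm (i + j + 1) i (by omega) j (by omega)
    have e1 : ∀ n, F n * a * F n = a * B (n + 1) := fun n => by
      rw [hBs, pow_two, ← mul_assoc, ← mul_assoc a a (F n), sq_eq hD hax.1, one_mul, mul_assoc]
    have eF : F i = F j := partner_cancel hD hxa (hF i).1 (hF j).1 hij.2.1 (hF i).2.2.2.1
      (by rw [e1, e1, he])
    have e2 : ∀ n, B n * x * B n = x * F n := fun n => by
      show _ = x * (x * B n) ^ 2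
      rw [pow_two, ← mul_assoc, ← mul_assoc x x (B n), sq_eq hD hax.2.1, one_mul, mul_assoc]
    exact partner_cancel hD hax (inv i).1 (inv j).1 hij.1
      (fun h => ((four_iff_not hD hax.2.1 (inv i).1.right).1 (inv i).2).2 (adj_symm hD h))
      (by rw [e2, e2, eF])
  obtain ⟨i, j, hne, he⟩ := Finite.exists_ne_map_eq_of_infinite B
  have back : ∀ m i, B i = B (i + m) → B 0 = B m := by
    intro m i
    induction i with
    | zero => intro h; simpa using h
    | succ i ih => intro h; exact ih (cancel i (i + m) (by rw [h, Nat.succ_add]))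
  obtain ⟨m, hm, h0⟩ : ∃ m, 0 < m ∧ B 0 = B m := by
    rcases Nat.lt_or_gt_of_ne hne with h | h
    · exact ⟨j - i, by omega, back (j - i) i (by rw [he]; congr 1; omega)⟩
    · exact ⟨i - j, by omega, back (i - j) j (by rw [← he]; congr 1; omega)⟩
  obtain ⟨k, rfl⟩ : ∃ k, m = k + 1 := ⟨m - 1, by omega⟩
  exact ⟨F k, (hF k).1.right, (hF k).2.2.1, by rw [← hBs, ← h0, hB0]⟩

omit [Finite G] in
/-- Two members inducing the two transvections of a four-group have product of order three. -/
theorem order_three {a x p q : G} (hx : x ∈ D) (hap : Partner D a p) (hq : q ∈ D)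
    (hpq : Commute p q) (haq : a * q * a = q * p) (hxp : x * p * x = p * q) (hxq : Commute x q) :
    orderOf (a * x) = 3 := by
  have ha2 := sq_eq hD hap.left
  have hx2 := sq_eq hD hx
  have hp2 := sq_eq hD hap.right
  have hq2 := sq_eq hD hq
  have hp1 := ne_one hD hap.right
  have hq1 := ne_one hD hq
  set g := a * x with hg
  have hgi : g⁻¹ = x * a := inv_mul_eq hD hap.left hx
  have g1 : g * p * g⁻¹ = q := by
    rw [hgi, show g * p * (x * a) = a * (x * p * x) * a by simp [hg, mul_assoc], hxp,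
      show a * (p * q) * a = a * p * a * (a * q * a) by simp [mul_assoc, ← mul_assoc a a, ha2],
      haq, hap.comm.eq, mul_assoc p a a, ha2, mul_one, hpq.symm.eq, ← mul_assoc, hp2, one_mul]
  have g2 : g * q * g⁻¹ = q * p := by
    rw [hgi, show g * q * (x * a) = a * (x * q * x) * a by simp [hg, mul_assoc], hxq.eq,
      mul_assoc q x x, hx2, mul_one, haq]
  have g3 : g * (q * p) * g⁻¹ = p := by
    rw [show g * (q * p) * g⁻¹ = g * q * g⁻¹ * (g * p * g⁻¹) by group, g1, g2, mul_assoc, hpq.eq,
      ← mul_assoc, hq2, one_mul]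
  have hg3 : g ^ 3 * p * (g ^ 3)⁻¹ = p := by
    rw [show g ^ 3 * p * (g ^ 3)⁻¹ = g * (g * (g * p * g⁻¹) * g⁻¹) * g⁻¹ by
      simp only [pow_succ, pow_zero, one_mul, mul_inv_rev, mul_assoc], g1, g2, g3]
  have hiter : ∀ k, g ^ (3 * k) * p * (g ^ (3 * k))⁻¹ = p := by
    intro k
    induction k with
    | zero => simp
    | succ k ih =>
      rw [show 3 * (k + 1) = 3 + 3 * k by ring, pow_add, mul_inv_rev,
        show g ^ 3 * g ^ (3 * k) * p * ((g ^ (3 * k))⁻¹ * (g ^ 3)⁻¹) =
          g ^ 3 * (g ^ (3 * k) * p * (g ^ (3 * k))⁻¹) * (g ^ 3)⁻¹ by group, ih, hg3]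
  have hdvd : 3 ∣ orderOf g := by
    have hmod := Nat.div_add_mod (orderOf g) 3
    have hlt := Nat.mod_lt (orderOf g) (show 3 > 0 by norm_num)
    have hn := pow_orderOf_eq_one g
    rw [← hmod, add_comm, pow_add] at hn
    have e : g ^ (orderOf g % 3) * p * (g ^ (orderOf g % 3))⁻¹ = p := by
      conv_lhs => rw [← hiter (orderOf g / 3)]
      rw [show g ^ (orderOf g % 3) * (g ^ (3 * (orderOf g / 3)) * p * (g ^ (3 * (orderOf g / 3)))⁻¹) *
          (g ^ (orderOf g % 3))⁻¹ = (g ^ (orderOf g % 3) * g ^ (3 * (orderOf g / 3))) * p *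
          (g ^ (orderOf g % 3) * g ^ (3 * (orderOf g / 3)))⁻¹ by group, hn]
      simp
    apply Nat.dvd_of_mod_eq_zero
    generalize orderOf g % 3 = r at e hlt
    interval_cases r
    · rfl
    · rw [pow_one, g1] at e
      rw [e] at g2
      exact absurd (by
        have := g2
        rw [g1, e, hp2] at this
        exact this) hp1
    · rw [pow_two, show g * g * p * (g * g)⁻¹ = g * (g * p * g⁻¹) * g⁻¹ by group, g1, g2] at e
      exact absurd (mul_eq_right.1 e) hq1
  rcases hD.pair a hap.left x hx with h | h | h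
  · have h2 : g ^ 2 = 1 := by rw [hg, Commute.mul_pow h, pow_two, pow_two, ha2, hx2, one_mul]
    exact absurd (hdvd.trans (orderOf_dvd_of_pow_eq_one h2)) (by decide)
  swap
  · exact absurd (h.1 ▸ hdvd : (3 : ℕ) ∣ 4) (by decide)
  obtain ⟨m, hm⟩ := h
  have hinv : ∀ k : ℕ, a * g ^ k * a = (g ^ k)⁻¹ := fun k => by
    have := CfsgLib.Small.invol_conj_pow (CfsgLib.Small.invol_conj_mul (hD.orderOf_eq a hap.left) (hD.orderOf_eq x hx)) k
    rwa [inv_eq hD hap.left] at this
  -- `a g³` is conjugate to `a`, commutes with `p`, and `g³` has odd order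
  have hk : g ^ 3 = g ^ (m + 2) * g ^ (m + 2) := by
    rw [← pow_add, show m + 2 + (m + 2) = orderOf g + 3 by rw [hg] at *; omega, pow_add,
      pow_orderOf_eq_one, one_mul]
  have hvD : a * g ^ 3 ∈ D := by
    have := hD.conj_mem a hap.left (g ^ (m + 2))⁻¹
    rw [inv_inv] at this
    rwa [hk, ← mul_assoc, show a * g ^ (m + 2) = (g ^ (m + 2))⁻¹ * a by
      rw [← hinv, mul_assoc _ a a, ha2, mul_one]]
  have hcomm : Commute p (a * g ^ 3) :=
    hap.comm.symm.mul_right (show p * g ^ 3 = g ^ 3 * p by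
      conv_lhs => rw [← hg3]
      rw [inv_mul_cancel_right])
  by_contra h3
  refine triple_comm hD hap (v := a * g ^ 3) ⟨hap.left, hvD, ?_, ?_⟩ hcomm
  · intro e
    have h1 : g ^ 3 = 1 := by simpa using e.symm
    rcases (Nat.dvd_prime Nat.prime_three).1 (orderOf_dvd_of_pow_eq_one h1) with h' | h'
    · rw [h'] at hdvd; exact absurd hdvd (by decide)
    · exact h3 h'
  · rw [← mul_assoc, ha2, one_mul]
    exact Odd.of_dvd_nat ⟨m, hm⟩ (orderOf_pow_dvd 3)

include hc

/-- Members with the same odd neighbours have the same commuting members. -/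
theorem commute_of_oddNbr_eq_of_commute {a b z : G} (ha : a ∈ D) (hb : b ∈ D) (hz : z ∈ D)
    (hA : oddNbr D a = oddNbr D b) (hza : Commute z a) : Commute z b := by
  by_contra hn
  have hzz : oddNbr D (z * b * z⁻¹) = oddNbr D b := by
    rw [oddNbr_conj hD, ← hA, ← oddNbr_conj hD, hza.eq, mul_inv_cancel_right]
  have hzb : ¬ OddAdj D b z := fun h => by
    have h' : z ∈ oddNbr D a := hA ▸ h
    exact adj_not_comm hD h' hza.symm
  have h4 : orderOf (b * z) = 4 := (four_iff_not hD hb hz).2 ⟨fun h => hn h.symm, hzb⟩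
  obtain ⟨p, q, -, e1, e2⟩ := four_spec hD hb hz h4
  set h := (b * z) ^ 2 with hh
  have hAh : oddNbr D h = oddNbr D b := oddNbr_eq_of_subset hD hc p.right hb fun x hx => by
    rcases triple hD p.swap hx with h' | h'
    · exact h'
    · rw [← p.comm.eq, e1] at h'
      rw [inv_eq hD hz] at hzz
      exact (hzz ▸ h' : x ∈ oddNbr D b)
  -- the pair (h, y) with y = b z b
  set y := b * z * b with hy
  have hyz : z * h = y := e2
  have hpy : Partner D h y := ⟨p.right, conj_self hD hb hz, by
      rw [← hyz]; exact q.comm.symm.mul_right (Commute.refl h),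
    by rw [← hyz, q.comm.eq, ← mul_assoc, sq_eq hD p.right, one_mul]; exact hz⟩
  have hAy : oddNbr D h ≠ oddNbr D y := fun he => by
    refine hn (commute_of_oddNbr_eq hD hc hz hb ?_)
    have : oddNbr D (b * y * b⁻¹) = oddNbr D b := by
      rw [oddNbr_conj hD, ← he, hAh, ← oddNbr_conj hD, mul_inv_cancel_right]
    rwa [hy, inv_eq hD hb, show b * (b * z * b) * b = z by
      simp only [← mul_assoc, sq_eq hD hb, one_mul]; simp [mul_assoc, sq_eq hD hb]] at this
  obtain ⟨x, hx, hxy⟩ := exists_adj_diff hD hc hpy.left hpy.right hAy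
  obtain ⟨f, hf, hf4, hf2⟩ := exists_four_of_adj hD hx hpy
    ((four_iff_not hD hx.2.1 hpy.right).2 ⟨fun h' => triple_comm hD hpy hx h'.symm, fun h' => hxy (adj_symm hD h')⟩)
  obtain ⟨-, qf, -, -, ef⟩ := four_spec hD hpy.left hf hf4
  rw [hf2] at qf
  have h3 : orderOf (b * f) = 3 := by
    refine order_three hD hf p hpy.right hpy.comm ?_ ?_ qf.comm
    · show b * (b * z * b) * b = y * h
      rw [← hyz, mul_assoc z h h, sq_eq hD p.right, mul_one]
      simp only [← mul_assoc, sq_eq hD hb, one_mul]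
      simp [mul_assoc, sq_eq hD hb]
    · have : f * h * f = h * y := by
        obtain ⟨-, -, -, ea, -⟩ := four_spec hD hpy.left hf hf4
        rw [← ea, hf2]
      exact this
  have hbf : OddAdj D b f := ⟨hb, hf, fun e => by
    rw [← e, sq_eq hD hb, orderOf_one] at h3; exact absurd h3 (by decide), by rw [h3]; decide⟩
  have : f ∈ oddNbr D h := hAh ▸ hbf
  exact ((four_iff_not hD hpy.left hf).1 hf4).2 this

theorem commutingMembers_eq_of_oddNbr_eq {a b : G} (ha : a ∈ D) (hb : b ∈ D)
    (hA : oddNbr D a = oddNbr D b) : commutingMembers D a = commutingMembers D b := by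
  by_contra hne
  obtain ⟨z, hz, hza, hzb⟩ := exists_comm_diff hD hc ha hb hne
  exact hzb (commute_of_oddNbr_eq_of_commute hD hc ha hb hz hA hza)

/-- A partner with different commuting members is a commutator with `a`. -/
theorem exists_four_of_partner {a b : G} (h : Partner D a b)
    (hne : commutingMembers D a ≠ commutingMembers D b) :
    ∃ f ∈ D, orderOf (a * f) = 4 ∧ (a * f) ^ 2 = b := by
  obtain ⟨x, hx, hxb⟩ := exists_adj_diff hD hc h.left h.right
    fun e => hne (commutingMembers_eq_of_oddNbr_eq hD hc h.left h.right e)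
  exact exists_four_of_adj hD hx h
    ((four_iff_not hD hx.2.1 h.right).2 ⟨fun h' => triple_comm hD h hx h'.symm, fun h' => hxb (adj_symm hD h')⟩)

theorem exists_order_three {a b : G} (h : Partner D a b)
    (hne : commutingMembers D a ≠ commutingMembers D b) :
    ∃ x ∈ fourPartners D b, orderOf (a * x) = 3 := by
  obtain ⟨f, hf, hf4, hf2⟩ := exists_four_of_partner hD hc h hne
  obtain ⟨-, q, -, -, e⟩ := four_spec hD h.left hf hf4
  rw [hf2] at q e
  have hne' : commutingMembers D b ≠ commutingMembers D f := fun he => by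
    have hab : a ∈ commutingMembers D f := he ▸ ⟨h.left, h.comm⟩
    exact ((four_iff_not hD h.left hf).1 hf4).1 hab.2
  obtain ⟨x, hx, hx4, hx2⟩ := exists_four_of_partner hD hc q.swap hne'
  obtain ⟨-, qx, -, ex, -⟩ := four_spec hD h.right hx hx4
  rw [hx2] at qx ex
  exact ⟨x, ⟨hx, hx4⟩, order_three hD hx h hf q.swap.comm e.symm ex.symm qx.comm⟩

end CfsgLib.RootInvolution
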