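import Cfsg.Prelude.Def_QuasithinSetup
import Cfsg.Agent.RootSubgroups.RootInvolutionsConnected
import Cfsg.Agent.PLocal.Cores

/-! The radical and the simple quotient of a group generated by connected root involutions. -/

set_option autoImplicit false

namespace CfsgLib.RootInvolution

open Cfsg

variable {G : Type*} [Group G] [Finite G] {D : Set G}

variable (hD : IsRootInvolutionSet D) (hc : IsConnectedSet (OddAdj D) D)
  (hDD : (D ∩ commutingProducts D).Nonempty)
include hD hc hDD

lemma exists_partner {d : G} (hd : d ∈ D) : ∃ c, Partner D d c := by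
  obtain ⟨x, hxD, a, ha, b, hb, hab, -, rfl⟩ := hDD
  obtain ⟨g, hg⟩ := exists_conj hD hc ha hd
  refine ⟨g * b * g⁻¹, hg ▸ ?_⟩
  refine ⟨hD.conj_mem a ha g, hD.conj_mem b hb g, (show Commute a b from hab).conj _, ?_⟩
  rw [show g * a * g⁻¹ * (g * b * g⁻¹) = g * (a * b) * g⁻¹ by group]
  exact hD.conj_mem _ hxD g

/-- A normal subgroup is everything or central modulo the 2-core. -/
theorem normal_top_or_le (N : Subgroup G) [N.Normal] : N = ⊤ ∨ N ≤ twoZCore G := by
  by_cases hND : ∃ d ∈ D, d ∈ N
  · obtain ⟨d, hd, hdN⟩ := hND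
    refine Or.inl (top_unique (hD.generates ▸ (Subgroup.closure_le N).2 fun e he => ?_))
    obtain ⟨g, hg⟩ := exists_conj hD hc hd he
    rw [← hg]; exact Subgroup.Normal.conj_mem inferInstance d hdN g
  push Not at hND
  right
  set π := QuotientGroup.mk' N
  have hker : ∀ {x : G}, π x = 1 → x ∈ N := fun {x} h => (QuotientGroup.eq_one_iff x).1 h
  have hcomm : ∀ d ∈ D, ∀ n ∈ N, Commute d (n * d * n⁻¹) := by
    intro d hd n hn
    set x := n * d * n⁻¹ with hx
    have hxD : x ∈ D := hD.conj_mem d hd n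
    have hπn : π n = 1 := (QuotientGroup.eq_one_iff n).2 hn
    have hπ : π x = π d := by rw [hx, map_mul, map_mul, map_inv, hπn, inv_one, mul_one, one_mul]
    have hdd : π d * π d = 1 := by rw [← map_mul, sq_eq hD hd, map_one]
    by_contra hne
    by_cases hadj : OddAdj D d x
    · obtain ⟨c, hp⟩ := exists_partner hD hc hDD hd
      have hcd : Commute (π c) (π d) := hp.comm.symm.map π
      have hcc : π c * π c = 1 := by rw [← map_mul, sq_eq hD hp.right, map_one]
      rcases hD.pair c hp.right x hxD with h | h | h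
      · exact triple_comm hD hp hadj h
      · have h2 : π (c * x) ^ 2 = 1 := by
          rw [map_mul, hπ, hcd.mul_pow, pow_two, pow_two, hcc, hdd, one_mul]
        have h3 : orderOf (π (c * x)) ∣ 1 := by
          rw [← (Nat.coprime_two_right.2 h).gcd_eq_one]
          exact Nat.dvd_gcd (orderOf_map_dvd π _) (orderOf_dvd_of_pow_eq_one h2)
        have h4 : π (c * x) = 1 := orderOf_eq_one_iff.1 (Nat.dvd_one.1 h3)
        rw [map_mul, hπ, ← map_mul, ← hp.comm.eq] at h4
        exact hND _ hp.mul (hker h4)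
      · refine hND _ h.2 (hker ?_)
        rw [map_pow, map_mul, hπ, hcd.mul_pow, pow_two, pow_two, hcc, hdd, one_mul]
    · have h4 := (four_iff_not hD hd hxD).2 ⟨hne, hadj⟩
      obtain ⟨hp, -⟩ := four_spec hD hd hxD h4
      refine hND _ hp.right (hker ?_)
      rw [map_pow, map_mul, hπ, hdd, one_pow]
  intro n hn
  show QuotientGroup.mk' (pCore 2 G) n ∈ Subgroup.center (G ⧸ pCore 2 G)
  set ρ := QuotientGroup.mk' (pCore 2 G)
  have hgen : ∀ d ∈ D, Commute (ρ d) (ρ n) := by
    intro d hd
    set T : Set G := {y | ∃ m ∈ N, y = m * d * m⁻¹}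
    set K := Subgroup.closure T with hK
    have hT : ∀ x ∈ T, ∀ y ∈ T, x * y = y * x := by
      rintro _ ⟨m, hm, rfl⟩ _ ⟨m', hm', rfl⟩
      have h := (hcomm d hd _ (mul_mem (inv_mem hm) hm')).conj m
      rw [show m * (m⁻¹ * m' * d * (m⁻¹ * m')⁻¹) * m⁻¹ = m' * d * m'⁻¹ by group] at h
      exact h
    have hKc : ∀ x ∈ K, ∀ y ∈ K, x * y = y * x := fun x hx y hy => by
      have := Subgroup.closure_le_centralizer_centralizer T
      have h1 : K ≤ Subgroup.centralizer T := (Subgroup.closure_le _).2 fun a ha =>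
        Subgroup.mem_centralizer_iff.2 fun b hb => hT b hb a ha
      exact Subgroup.mem_centralizer_iff.1 (this hy) x (h1 hx)
    have hK2 : IsPGroup 2 K := fun ⟨x, hx⟩ => ⟨1, by
      rw [pow_one]
      refine Subtype.ext ?_
      show x ^ 2 = 1
      induction hx using Subgroup.closure_induction with
      | mem y hy =>
        obtain ⟨m, -, rfl⟩ := hy
        rw [pow_two, show m * d * m⁻¹ * (m * d * m⁻¹) = m * (d * d) * m⁻¹ by group, sq_eq hD hd]
        group
      | one => exact one_pow _
      | mul a b ha hb iha ihb => rw [(show Commute a b from hKc a ha b hb).mul_pow, iha, ihb, mul_one]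
      | inv a _ iha => rw [inv_pow, iha, inv_one]⟩
    have hnorm : N ≤ Subgroup.normalizer ((K ⊓ N : Subgroup G) : Set G) := by
      refine Subgroup.le_normalizer_iff.2 fun m hm y hy => ⟨?_, ?_⟩
      · show m * y * m⁻¹ ∈ K
        have hmap : K.map (MulAut.conj m).toMonoidHom ≤ K := by
          rw [hK, MonoidHom.map_closure, Subgroup.closure_le]
          rintro _ ⟨_, ⟨m', hm', rfl⟩, rfl⟩
          refine Subgroup.subset_closure ⟨m * m', mul_mem hm hm', ?_⟩
          show m * (m' * d * m'⁻¹) * m⁻¹ = _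
          group
        exact hmap ⟨y, hy.1, rfl⟩
      · exact N.mul_mem (N.mul_mem hm hy.2) (N.inv_mem hm)
    have hle : K ⊓ N ≤ pCore 2 G :=
      CfsgLib.PLocal.le_pCore_of_le_isSubnormal (Subgroup.Normal.isSubnormal inferInstance) _
        inf_le_right hnorm (hK2.to_le inf_le_left)
    have hmem : d * (n * d * n⁻¹) ∈ K ⊓ N := by
      refine ⟨mul_mem (Subgroup.subset_closure ⟨1, one_mem N, by group⟩)
        (Subgroup.subset_closure ⟨n, hn, rfl⟩), ?_⟩
      have : d * n * d⁻¹ * n⁻¹ ∈ N := mul_mem (Subgroup.Normal.conj_mem inferInstance n hn d) (inv_mem hn)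
      rw [inv_eq hD hd] at this
      rw [show d * (n * d * n⁻¹) = d * n * d * n⁻¹ by group]
      exact this
    have h1 : ρ (d * (n * d * n⁻¹)) = 1 := (QuotientGroup.eq_one_iff _).2 (hle hmem)
    rw [map_mul, map_mul, map_mul, map_inv, mul_eq_one_iff_inv_eq, ← map_inv, inv_eq hD hd,
      eq_mul_inv_iff_mul_eq] at h1
    exact h1
  have hall : ∀ g : G, Commute (ρ g) (ρ n) := by
    intro g
    have : Subgroup.closure D ≤ (Subgroup.centralizer ({ρ n} : Set (G ⧸ pCore 2 G))).comap ρ :=
      (Subgroup.closure_le _).2 fun d hd => Subgroup.mem_centralizer_iff.2 fun z hz => by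
        rw [Set.mem_singleton_iff.1 hz]; exact (hgen d hd).symm
    rw [hD.generates] at this
    exact (Subgroup.mem_centralizer_iff.1 (this (Subgroup.mem_top g)) (ρ n) rfl).symm
  refine Subgroup.mem_center_iff.2 fun z => ?_
  obtain ⟨g, rfl⟩ := QuotientGroup.mk'_surjective _ z
  exact hall g

lemma exists_adj_pair : ∃ a x, OddAdj D a x := by
  obtain ⟨y, -, a, ha, b, hb, -, hne, -⟩ := hDD
  have hab : a ≠ b := fun h => hne (by rw [h, sq_eq hD hb])
  rcases (hc a ha b hb).cases_head with h | ⟨x, hx, -⟩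
  · exact absurd h hab
  · exact ⟨a, x, hx⟩

/-- No quotient identifies all members as one commuting set, except the trivial one. -/
lemma hom_trivial {H : Type*} [Group H] (hH : ∀ a b : H, a * b = b * a) (f : G →* H) : f = 1 := by
  have hadj : ∀ {a x : G}, OddAdj D a x → f a = f x := by
    intro a x h
    have h2 : f (a * x) ^ 2 = 1 := by
      rw [map_mul, (show Commute (f a) (f x) from hH _ _).mul_pow, ← map_pow, ← map_pow, pow_two, pow_two, sq_eq hD h.1, sq_eq hD h.2.1,
        map_one, one_mul]
    have h3 : orderOf (f (a * x)) ∣ 1 := by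
      rw [← (Nat.coprime_two_right.2 h.2.2.2).gcd_eq_one]
      exact Nat.dvd_gcd (orderOf_map_dvd f _) (orderOf_dvd_of_pow_eq_one h2)
    have h4 : f (a * x) = 1 := orderOf_eq_one_iff.1 (Nat.dvd_one.1 h3)
    rw [map_mul, mul_eq_one_iff_eq_inv, ← map_inv, inv_eq hD h.2.1] at h4
    exact h4
  have hone : ∀ d ∈ D, f d = 1 := by
    intro d hd
    obtain ⟨c, hp⟩ := exists_partner hD hc hDD hd
    have key : ∀ {u v : G}, u ∈ D → v ∈ D → f u = f v := fun {u v} hu hv => by
      have := hc u hu v hv
      clear hu hv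
      induction this with
      | refl => rfl
      | tail _ h ih => exact ih.trans (hadj h)
    have e := key hd hp.mul
    rw [map_mul] at e
    have : f c = 1 := mul_left_cancel (e.symm.trans (mul_one _).symm)
    rwa [key hd hp.right]
  refine MonoidHom.ext fun g => ?_
  have : Subgroup.closure D ≤ f.ker := (Subgroup.closure_le _).2 hone
  rw [hD.generates] at this
  exact this (Subgroup.mem_top g)

theorem twoZCore_ne_top : twoZCore G ≠ ⊤ := by
  intro h
  obtain ⟨a, x, hax⟩ := exists_adj_pair hD hc hDD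
  set Z := Subgroup.center (G ⧸ pCore 2 G)
  have hmem : ∀ g : G, QuotientGroup.mk' (pCore 2 G) g ∈ Z := fun g =>
    (h ▸ Subgroup.mem_top g : g ∈ twoZCore G)
  have htriv := hom_trivial hD hc hDD
    (fun a b => mul_comm' a b) ((QuotientGroup.mk' (pCore 2 G)).codRestrict Z hmem)
  have hm : a * x ∈ pCore 2 G := (QuotientGroup.eq_one_iff _).1
    (congrArg Subtype.val (DFunLike.congr_fun htriv (a * x)))
  obtain ⟨j, hj⟩ := CfsgLib.PLocal.isPGroup_pCore 2 G ⟨_, hm⟩
  have h2 : orderOf (a * x) ∣ 2 ^ j := orderOf_dvd_of_pow_eq_one (congrArg Subtype.val hj)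
  have h1 : orderOf (a * x) = 1 :=
    Nat.dvd_one.1 (((Nat.coprime_two_right.2 hax.2.2.2).pow_right j).dvd_of_dvd_mul_right
      (by rw [one_mul]; exact h2))
  rw [orderOf_eq_one_iff, mul_eq_one_iff_eq_inv, inv_eq hD hax.2.1] at h1
  exact hax.2.2.1 h1

theorem isSimpleGroup_quotient : IsSimpleGroup (G ⧸ twoZCore G) := by
  have : Nontrivial (G ⧸ twoZCore G) :=
    QuotientGroup.nontrivial_iff.2 (twoZCore_ne_top hD hc hDD)
  refine ⟨fun N hN => ?_⟩
  have := hN.comap (QuotientGroup.mk' (twoZCore G))
  have hs := QuotientGroup.mk'_surjective (twoZCore G)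
  rcases normal_top_or_le hD hc hDD (N.comap (QuotientGroup.mk' (twoZCore G))) with h | h
  · exact Or.inr (by rw [← Subgroup.map_comap_eq_self_of_surjective hs N, h,
      Subgroup.map_top_of_surjective _ hs])
  · left
    rw [eq_bot_iff, ← Subgroup.map_comap_eq_self_of_surjective hs N]
    refine (Subgroup.map_mono h).trans ?_
    rw [Subgroup.map_le_iff_le_comap, MonoidHom.comap_bot, QuotientGroup.ker_mk']

theorem solvableRadical_eq : solvableRadical G = twoZCore G := by
  refine le_antisymm (sSup_le ?_) (le_sSup ⟨inferInstance, ?_⟩)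
  · rintro N ⟨hN, hs⟩
    rcases normal_top_or_le hD hc hDD N with h | h
    · exfalso
      subst h
      have : Group.IsSolvable G := Group.isSolvable_of_surjective (f := (⊤ : Subgroup G).subtype)
        fun g => ⟨⟨g, Subgroup.mem_top g⟩, rfl⟩
      have hab := hom_trivial hD hc hDD (fun a b => mul_comm a b) (Abelianization.of (G := G))
      have hperf : commutator G = ⊤ := by
        rw [← Abelianization.ker_of, hab, MonoidHom.ker_one]
      have : Subsingleton G := by
        by_contra hns
        have : Nontrivial G := not_subsingleton_iff_nontrivial.1 hns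
        exact (Group.IsSolvable.commutator_lt_top_of_nontrivial G).ne hperf
      obtain ⟨a, x, hax⟩ := exists_adj_pair hD hc hDD
      exact hax.2.2.1 (Subsingleton.elim _ _)
    · exact h
  · let f := (QuotientGroup.mk' (pCore 2 G)).subgroupComap (Subgroup.center (G ⧸ pCore 2 G))
    have h1 : Group.IsSolvable (pCore 2 G) := by
      have : Fact (Nat.Prime 2) := ⟨Nat.prime_two⟩
      have := (CfsgLib.PLocal.isPGroup_pCore 2 G).isNilpotent
      infer_instance
    have h2 : Group.IsSolvable (Subgroup.center (G ⧸ pCore 2 G)) :=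
      Group.isSolvable_of_comm fun a b => mul_comm' a b
    exact Group.isSolvable_of_ker_le_range (Subgroup.inclusion (show pCore 2 G ≤ twoZCore G from
      fun x hx => by
        show QuotientGroup.mk' (pCore 2 G) x ∈ Subgroup.center (G ⧸ pCore 2 G)
        rw [QuotientGroup.mk'_apply, (QuotientGroup.eq_one_iff x).2 hx]
        exact one_mem _)) f fun x hx => ⟨⟨x.1, (QuotientGroup.eq_one_iff x.1).1
          (congrArg Subtype.val hx)⟩, rfl⟩

end CfsgLib.RootInvolution
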