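import Cfsg.Agent.RootSubgroups.RootDichotomy
import Cfsg.Agent.BenderUse.SplitUse

/-!
Non-degenerate classes of root involutions, from the embedding criterion and `SplitHyp`: the
commuting graph and the product graph are connected, `G = ⟨X_d, x⟩` for an odd partner `x` of `d`
(S5054), and a weak TI-subset generates an abelian group (S5053).
-/

set_option autoImplicit false
set_option linter.style.haveILetI false

namespace CfsgLib.RootDisconnected

open Cfsg CfsgLib.RootInvolution
open scoped commutatorElement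

universe u

variable {G : Type u} [Group G] [Finite G] {D : Set G}

/-- With a product of order four the commuting graph is connected. -/
theorem connected_of_four (hE : EmbedCriterion.{u}) (hS : CfsgLib.BenderUse.SplitHyp.{u})
    (hD : IsRootInvolutionSet D) {a b : G} (ha : a ∈ D) (hb : b ∈ D)
    (h4 : orderOf (a * b) = 4) : IsConnectedSet (CommAdj D) D := by
  by_contra hdis
  obtain ⟨p, q, -⟩ := four_spec hD ha hb h4
  have hne : a * (a * b) ^ 2 ≠ 1 := fun h => by
    rw [mul_eq_one_iff_eq_inv, inv_eq hD p.right] at h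
    have h' := p.mul
    rw [← h, sq_eq hD ha] at h'
    exact ne_one hD h' rfl
  have hDD : (D ∩ commutingProducts D).Nonempty :=
    ⟨_, p.mul, a, ha, _, p.right, p.comm.eq, hne, rfl⟩
  have hodd := odd_connected hD hdis
  haveI := isSimpleGroup_quotient hD hodd hDD
  haveI : Fact (Nat.Prime 2) := ⟨Nat.prime_two⟩
  set π := QuotientGroup.mk' (twoZCore G)
  -- the image of `(a b)²` is an involution
  set c := (a * b) ^ 2 with hc
  have hc1 : π c ≠ 1 := fun h1 => by
    refine twoZCore_ne_top hD hodd hDD (top_unique (hD.generates ▸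
      (Subgroup.closure_le _).2 fun e he => ?_))
    obtain ⟨g, rfl⟩ := exists_conj hD hodd p.right he
    exact (twoZCore_normal G).conj_mem c ((QuotientGroup.eq_one_iff _).1 h1) g
  have hco : orderOf (π c) = 2 :=
    orderOf_eq_prime (by rw [← map_pow, pow_two, sq_eq hD p.right, map_one]) hc1
  -- the quotient is nonabelian with trivial odd core
  have hna : ∃ x y : G ⧸ twoZCore G, x * y ≠ y * x := by
    refine ⟨π a, π b, fun h => hc1 ?_⟩
    rw [hc, map_pow, map_mul, (show Commute (π a) (π b) from h).mul_pow, ← map_pow, ← map_pow,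
      pow_two, pow_two, sq_eq hD ha, sq_eq hD hb, map_one, one_mul]
  have hO : Cfsg.oddCore (G ⧸ twoZCore G) = ⊥ := by
    rcases (inferInstance : (Cfsg.oddCore (G ⧸ twoZCore G)).Normal).eq_bot_or_eq_top with h | h
    · exact h
    · exfalso
      have hodd' := CfsgLib.TwoGroups.odd_card_oddCore (G := G ⧸ twoZCore G)
      rw [h, Subgroup.card_top] at hodd'
      exact Nat.not_even_iff_odd.2 hodd' (even_iff_two_dvd.2 (hco ▸ orderOf_dvd_natCard _))
  -- a strongly embedded subgroup containing the centraliser of the image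
  obtain ⟨H, hH⟩ : ∃ H : Subgroup (G ⧸ twoZCore G), Cfsg.IsStronglyEmbedded H :=
    dichotomy_embedded hE hD hDD hdis
  haveI := CfsgLib.SEmbed.nontrivial_cosets hH
  have hU := CfsgLib.SEmbed.uniqueFix hH
  obtain ⟨t, ht, htH⟩ : ∃ t : G ⧸ twoZCore G, orderOf t = 2 ∧ t ∈ H := by
    obtain ⟨x, hx⟩ := exists_prime_orderOf_dvd_card' (G := H) 2 (even_iff_two_dvd.1 hH.2.1)
    exact ⟨x, by rw [← hx]; exact Subgroup.orderOf_coe x, x.2⟩
  obtain ⟨g, hg⟩ := isConj_iff.1 (CfsgLib.SEmbed.isConj_invol hU hco ht)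
  have hcent : ∀ d ∈ D, Commute d c → g * π d * g⁻¹ ∈ H := fun d _ hdc =>
    (CfsgLib.SEmbed.smul_one_eq_iff H _).1 (CfsgLib.SEmbed.commute_fix hU ht
      (hg ▸ (hdc.map π).conj g) ((CfsgLib.SEmbed.smul_one_eq_iff H t).2 htH))
  have hord : ∀ d ∈ D, orderOf (g * π d * g⁻¹) = 2 := fun d hd => by
    rw [CfsgLib.Small.orderOf_conj_eq]
    refine orderOf_eq_prime (by rw [← map_pow, pow_two, sq_eq hD hd, map_one]) fun h1 => ?_
    obtain ⟨g', hg'⟩ := exists_conj hD hodd hd p.right
    exact hc1 (by rw [← hg', map_mul, map_mul, h1, mul_one, ← map_mul, mul_inv_cancel, map_one])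
  have h := CfsgLib.BenderUse.commute_invol hS hH hO (hcent a ha p.comm) (hcent b hb q.comm)
    (hord a ha) (hord b hb)
  have h' : Commute (π a) (π b) := by
    have := h.conj g⁻¹
    simpa [mul_assoc] using this
  refine hc1 ?_
  rw [hc, map_pow, map_mul, h'.mul_pow, ← map_pow, ← map_pow, pow_two, pow_two, sq_eq hD ha,
    sq_eq hD hb, map_one, one_mul]

omit [Finite G] in
lemma prodAdj_of_partner (hD : IsRootInvolutionSet D) {a c : G} (h : Partner D a c) :
    ProdAdj D a c :=
  ⟨h.left, h.right, fun e => ne_one hD h.mul (by rw [← e]; exact sq_eq hD h.left), h.comm.eq, h.mul⟩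

/-- The same component of the product graph. -/
def PSame (D : Set G) (a b : G) : Prop := Relation.ReflTransGen (ProdAdj D) a b

omit [Finite G] in
lemma PSame.symm {a b : G} (h : PSame D a b) : PSame D b a := by
  induction h with
  | refl => exact Relation.ReflTransGen.refl
  | tail _ hbc ih =>
    exact Relation.ReflTransGen.head ⟨hbc.2.1, hbc.1, hbc.2.2.1.symm, hbc.2.2.2.1.symm,
      hbc.2.2.2.1 ▸ hbc.2.2.2.2⟩ ih

omit [Finite G] in
lemma PSame.trans' {a b c : G} (h : PSame D a b) (h' : PSame D b c) : PSame D a c :=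
  Relation.ReflTransGen.trans h h'

omit [Finite G] in
lemma PSame.mem {a b : G} (h : PSame D a b) (ha : a ∈ D) : b ∈ D := by
  induction h with
  | refl => exact ha
  | tail _ hbc _ => exact hbc.2.1

omit [Finite G] in
lemma psame_conj (hD : IsRootInvolutionSet D) {a b : G} (h : PSame D a b) (g : G) :
    PSame D (g * a * g⁻¹) (g * b * g⁻¹) := by
  induction h with
  | refl => exact Relation.ReflTransGen.refl
  | @tail x y _ hxy ih =>
    refine ih.tail ⟨hD.conj_mem x hxy.1 g, hD.conj_mem y hxy.2.1 g,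
      fun e => hxy.2.2.1 (by simpa using e), ((show Commute x y from hxy.2.2.2.1).conj g).eq, ?_⟩
    rw [show g * x * g⁻¹ * (g * y * g⁻¹) = g * (x * y) * g⁻¹ by group]
    exact hD.conj_mem _ hxy.2.2.2.2 g

omit [Finite G] in
/-- Conjugacy of members along the generators gives odd connectedness. -/
lemma odd_connected_of_gen (hD : IsRootInvolutionSet D) {S : Set G} (hgen : Subgroup.closure S = ⊤)
    (hS2 : ∀ y ∈ S, y⁻¹ = y) {a : G} (hcls : ∀ b ∈ D, ∃ g : G, b = g * a * g⁻¹)
    (hstep : ∀ y ∈ S, Relation.ReflTransGen (OddAdj D) a (y * a * y⁻¹)) :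
    IsConnectedSet (OddAdj D) D := by
  have lift : ∀ {u v : G}, Relation.ReflTransGen (OddAdj D) u v → ∀ g : G,
      Relation.ReflTransGen (OddAdj D) (g * u * g⁻¹) (g * v * g⁻¹) := fun {u v} h g => by
    induction h with
    | refl => exact Relation.ReflTransGen.refl
    | tail _ hxy ih => exact ih.tail (adj_conj hD hxy g)
  have sym : ∀ {u v : G}, Relation.ReflTransGen (OddAdj D) u v →
      Relation.ReflTransGen (OddAdj D) v u := fun {u v} h => by
    induction h with
    | refl => exact Relation.ReflTransGen.refl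
    | tail _ hxy ih => exact Relation.ReflTransGen.head (adj_symm hD hxy) ih
  have key : ∀ g : G, Relation.ReflTransGen (OddAdj D) a (g * a * g⁻¹) := by
    intro g
    have hg : g ∈ Subgroup.closure S := hgen ▸ Subgroup.mem_top g
    induction hg using Subgroup.closure_induction'' with
    | mem y hy => exact hstep y hy
    | inv_mem y hy => rw [hS2 y hy]; exact hstep y hy
    | one => simpa using Relation.ReflTransGen.refl
    | mul g h _ _ hg hh =>
      have := hg.trans (lift hh g)
      rwa [show g * (h * a * h⁻¹) * g⁻¹ = g * h * a * (g * h)⁻¹ by group] at this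
  intro x hx y hy
  obtain ⟨g, rfl⟩ := hcls x hx
  obtain ⟨g', rfl⟩ := hcls y hy
  exact (sym (key g)).trans (key g')

/-- A non-degenerate class is connected for odd products. -/
theorem odd_connected_of_class (hD : IsRootInvolutionSet D)
    (hcl : ∀ a ∈ D, ∀ b ∈ D, ∃ g : G, b = g * a * g⁻¹) (hodd : ∃ a b, OddAdj D a b) :
    IsConnectedSet (OddAdj D) D := by
  obtain ⟨a₀, b₀, hab₀⟩ := hodd
  have hnbr : ∀ c ∈ D, ∃ x, OddAdj D c x := fun c hc => by
    obtain ⟨g, rfl⟩ := hcl a₀ hab₀.1 c hc
    exact ⟨_, adj_conj hD hab₀ g⟩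
  have sym : ∀ {u v : G}, Relation.ReflTransGen (OddAdj D) u v →
      Relation.ReflTransGen (OddAdj D) v u := fun {u v} h => by
    induction h with
    | refl => exact Relation.ReflTransGen.refl
    | tail _ hxy ih => exact Relation.ReflTransGen.head (adj_symm hD hxy) ih
  have hpart : ∀ {a c : G}, Partner D a c → Relation.ReflTransGen (OddAdj D) a c := by
    intro a c h
    have path : ∀ {u v w}, OddAdj D u v → OddAdj D w v → Relation.ReflTransGen (OddAdj D) u w :=
      fun h1 h2 => (Relation.ReflTransGen.single h1).tail (adj_symm hD h2)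
    obtain ⟨x, hx⟩ := hnbr c h.right
    obtain ⟨y, hy⟩ := hnbr a h.left
    rcases triple hD h.swap hx with h1 | h1
    · exact path h1 hx
    rcases triple hD h hy with h2 | h2
    · exact path hy h2
    rw [← h.comm.eq] at h1
    exact (path hy h2).trans (path h1 hx)
  refine odd_connected_of_gen hD hD.generates (fun y hy => inv_eq hD hy) (fun b hb => hcl a₀ hab₀.1 b hb)
    fun y hy => ?_
  have hya : y * a₀ * y⁻¹ ∈ D := hD.conj_mem _ hab₀.1 y
  have hyinv := inv_eq hD hy
  rcases hD.pair a₀ hab₀.1 y hy with h | h | h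
  · rw [← h, mul_inv_cancel_right]
  · by_cases he : a₀ = y
    · rw [← he, mul_inv_cancel_right]
    · have h1 : OddAdj D a₀ y := ⟨hab₀.1, hy, he, h⟩
      have h2 := adj_conj hD (adj_symm hD h1) y
      rw [mul_inv_cancel_right] at h2
      exact (Relation.ReflTransGen.single h1).tail h2
  · obtain ⟨p, q, -, -, e⟩ := four_spec hD hab₀.1 hy h.1
    have h1 := hpart p
    have h2 := hpart q
    have h3 := Relation.ReflTransGen.trans h1 (sym h2)
    have lift : ∀ {u v : G}, Relation.ReflTransGen (OddAdj D) u v →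
        Relation.ReflTransGen (OddAdj D) (y * u * y⁻¹) (y * v * y⁻¹) := fun {u v} h => by
      induction h with
      | refl => exact Relation.ReflTransGen.refl
      | tail _ hxy ih => exact ih.tail (adj_conj hD hxy y)
    have h4 : Relation.ReflTransGen (OddAdj D) (y * a₀ * y⁻¹) (y * y * y⁻¹) := lift h3
    rw [mul_inv_cancel_right] at h4
    exact h3.trans (sym h4)

/-- Members in different product components commute or are odd, uniformly along a component. -/
lemma commute_of_psame (hD : IsRootInvolutionSet D) {a a' b : G} (h : PSame D a a') (ha : a ∈ D)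
    (hb : b ∈ D) (hne : ¬ PSame D a b) (hc : Commute a b) : Commute a' b := by
  induction h with
  | refl => exact hc
  | @tail x y hax hxy ih =>
    by_contra hn
    have hp : Partner D x y := ⟨hxy.1, hxy.2.1, hxy.2.2.2.1, hxy.2.2.2.2⟩
    rcases hD.pair y hxy.2.1 b hb with h | h | h
    · exact hn h
    · exact not_twist hD ⟨hxy.2.1, hb, fun e => hn (e ▸ Commute.refl y), h⟩ hp.comm ih
        (sq_eq hD hxy.1) (ne_one hD hxy.1) hp.mul
    · obtain ⟨p, q, -⟩ := four_spec hD hxy.2.1 hb h.1
      exact hne (PSame.trans' (hax.tail hxy)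
        (PSame.trans' (Relation.ReflTransGen.single (prodAdj_of_partner hD p))
          (PSame.symm (Relation.ReflTransGen.single (prodAdj_of_partner hD q)))))

/-- The product graph of a connected non-degenerate set is connected. -/
theorem prod_connected_aux (hE : EmbedCriterion.{u}) (hS : CfsgLib.BenderUse.SplitHyp.{u}) :
    ∀ (n : ℕ) (G : Type u) [Group G] [Finite G] (D : Set G), Nat.card G = n →
      IsRootInvolutionSet D → IsConnectedSet (OddAdj D) D →
      (∃ a ∈ D, ∃ b ∈ D, orderOf (a * b) = 4) → IsConnectedSet (ProdAdj D) D := by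
  intro n
  induction n using Nat.strong_induction_on with
  | _ n IH =>
  intro G _ _ D hn hD hc hfour
  obtain ⟨u, hu, v, hv, huv⟩ := hfour
  have hcomm := connected_of_four hE hS hD hu hv huv
  have hnotfour : ∀ a ∈ D, ∀ b ∈ D, ¬ PSame D a b → ¬ Commute a b → OddAdj D a b := by
    intro a ha b hb hne hnc
    by_contra hno
    obtain ⟨p, q, -⟩ := four_spec hD ha hb ((four_iff_not hD ha hb).2 ⟨hnc, hno⟩)
    exact hne (PSame.trans' (Relation.ReflTransGen.single (prodAdj_of_partner hD p))
      (PSame.symm (Relation.ReflTransGen.single (prodAdj_of_partner hD q))))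
  -- two odd blocks generate
  have hgen : ∀ a x, OddAdj D a x → ¬ PSame D a x →
      Subgroup.closure ({t | PSame D a t} ∪ {x}) = ⊤ := by
    intro a x hax hne
    by_contra hH
    set H := Subgroup.closure ({t | PSame D a t} ∪ {x}) with hHdef
    have hTH : ∀ t, PSame D a t → t ∈ H := fun t ht => Subgroup.subset_closure (Or.inl ht)
    have hxH : x ∈ H := Subgroup.subset_closure (Or.inr rfl)
    have haH : a ∈ H := hTH a Relation.ReflTransGen.refl
    have hxodd : ∀ t, PSame D a t → OddAdj D t x := fun t ht => by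
      refine hnotfour t (ht.mem hax.1) x hax.2.1 (fun h => hne (ht.trans' h)) fun hc => ?_
      exact adj_not_comm hD hax
        (commute_of_psame hD ht.symm (ht.mem hax.1) hax.2.1 (fun h => hne (ht.trans' h)) hc)
    -- the class of `a` in `H`
    let E : Set H := {h | ∃ g : H, (h : G) = g * a * (g : G)⁻¹}
    have hED : ∀ h ∈ E, (h : G) ∈ D := by
      rintro h ⟨g, hg⟩; rw [hg]; exact hD.conj_mem a hax.1 _
    have hconjA : ∀ z, OddAdj D a z → z ∈ H → ∃ g : H, z = g * a * (g : G)⁻¹ := by
      intro z hz hzH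
      obtain ⟨k, hk⟩ := CfsgLib.Small.conj_pow_eq_of_odd (hD.orderOf_eq a hz.1)
        (hD.orderOf_eq z hz.2.1) hz.2.2.2
      exact ⟨⟨_, pow_mem (mul_mem haH hzH) k⟩, hk.symm⟩
    have hxE : (⟨x, hxH⟩ : H) ∈ E := hconjA x hax hxH
    have hTE : ∀ t (ht : PSame D a t), (⟨t, hTH t ht⟩ : H) ∈ E := by
      intro t ht
      obtain ⟨k, hk⟩ := CfsgLib.Small.conj_pow_eq_of_odd (hD.orderOf_eq x hax.2.1)
        (hD.orderOf_eq t (ht.mem hax.1)) (adj_symm hD (hxodd t ht)).2.2.2
      obtain ⟨g, hg⟩ := hxE
      refine ⟨⟨(x * t) ^ k, pow_mem (mul_mem hxH (hTH t ht)) k⟩ * g, ?_⟩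
      show t = (x * t) ^ k * g * a * ((x * t) ^ k * (g : G))⁻¹
      have hg' : x = g * a * (g : G)⁻¹ := hg
      calc t = (x * t) ^ k * x * ((x * t) ^ k)⁻¹ := hk.symm
        _ = (x * t) ^ k * (g * a * (g : G)⁻¹) * ((x * t) ^ k)⁻¹ := by rw [← hg']
        _ = _ := by group
    have hgenE : Subgroup.closure E = ⊤ := by
      rw [eq_top_iff]
      rintro ⟨y, hy⟩ -
      suffices ∀ y, (hy : y ∈ H) → (⟨y, hy⟩ : H) ∈ Subgroup.closure E from this y hy
      intro y hy
      induction hy using Subgroup.closure_induction with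
      | mem z hz =>
        rcases hz with hz | rfl
        · exact Subgroup.subset_closure (hTE z hz)
        · exact Subgroup.subset_closure hxE
      | one => exact one_mem _
      | mul a b _ _ ha hb => exact mul_mem ha hb
      | inv a _ ha => exact inv_mem ha
    have hDE : IsRootInvolutionSet E := by
      refine ⟨fun h hh => by rw [← Subgroup.orderOf_coe]; exact hD.orderOf_eq _ (hED h hh), hgenE,
        ?_, ?_⟩
      · rintro h ⟨g, hg⟩ k
        refine ⟨k * g, ?_⟩
        show (k : G) * h * (k : G)⁻¹ = k * g * a * ((k : G) * g)⁻¹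
        rw [hg]; group
      · rintro p ⟨gp, hp⟩ q hq
        rcases hD.pair _ (hED p ⟨gp, hp⟩) _ (hED q hq) with h | h | ⟨h, h'⟩
        · exact Or.inl (Subtype.ext h)
        · exact Or.inr (Or.inl (by rwa [← Subgroup.orderOf_coe]))
        · refine Or.inr (Or.inr ⟨by rwa [← Subgroup.orderOf_coe], ?_⟩)
          obtain ⟨pp, -, -⟩ := four_spec hD (hED p ⟨gp, hp⟩) (hED q hq) h
          have ht : PSame D a ((gp : G)⁻¹ * ((p : G) * q) ^ 2 * (gp : G)⁻¹⁻¹) := by
            have := psame_conj hD
              (Relation.ReflTransGen.single (prodAdj_of_partner hD pp)) (gp : G)⁻¹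
            rwa [show (gp : G)⁻¹ * (p : G) * (gp : G)⁻¹⁻¹ = a by rw [hp]; group] at this
          obtain ⟨g', hg'⟩ := hTE _ ht
          refine ⟨gp * g', ?_⟩
          show ((p : G) * q) ^ 2 = gp * g' * a * ((gp : G) * g')⁻¹
          calc ((p : G) * q) ^ 2
              = gp * ((gp : G)⁻¹ * ((p : G) * q) ^ 2 * (gp : G)⁻¹⁻¹) * (gp : G)⁻¹ := by group
            _ = gp * (g' * a * (g' : G)⁻¹) * (gp : G)⁻¹ := by rw [← hg']
            _ = _ := by group
    have hodd : ∀ p q : H, p ∈ E → q ∈ E → OddAdj D (p : G) q → OddAdj E p q := fun p q hp hq h =>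
      ⟨hp, hq, fun e => h.2.2.1 (congrArg Subtype.val e), by rw [← Subgroup.orderOf_coe]; exact h.2.2.2⟩
    have haE : (⟨a, haH⟩ : H) ∈ E := hTE a Relation.ReflTransGen.refl
    have hcE : IsConnectedSet (OddAdj E) E := by
      refine odd_connected_of_gen hDE (a := (⟨a, haH⟩ : H))
        (S := {y : H | PSame D a y ∨ (y : G) = x}) ?_ ?_ ?_ ?_
      · rw [eq_top_iff]
        rintro ⟨y, hy⟩ -
        suffices ∀ y, (hy : y ∈ H) →
            (⟨y, hy⟩ : H) ∈ Subgroup.closure {y : H | PSame D a y ∨ (y : G) = x} from this y hy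
        intro y hy
        induction hy using Subgroup.closure_induction with
        | mem z hz =>
          refine Subgroup.subset_closure ?_
          rcases hz with hz | rfl
          · exact Or.inl hz
          · exact Or.inr rfl
        | one => exact one_mem _
        | mul a b _ _ ha hb => exact mul_mem ha hb
        | inv a _ ha => exact inv_mem ha
      · intro y hy
        refine Subtype.ext ?_
        rcases hy with hy | hy
        · exact inv_eq hD (hy.mem hax.1)
        · show (y : G)⁻¹ = y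
          rw [hy, inv_eq hD hax.2.1]
      · rintro h ⟨g, hg⟩; exact ⟨g, Subtype.ext hg⟩
      · rintro ⟨y, hy⟩ (hya | hyx)
        · have ht : PSame D a (y * a * y⁻¹) := by
            have := psame_conj hD (PSame.symm hya) y
            rw [mul_inv_cancel_right] at this
            exact hya.trans' this
          exact (Relation.ReflTransGen.single (hodd _ ⟨x, hxH⟩ haE hxE hax)).tail
            (hodd ⟨x, hxH⟩ _ hxE (hDE.conj_mem _ haE _) (adj_symm hD (hxodd _ ht)))
        · have hyx : y = x := hyx
          subst hyx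
          have h2 := adj_conj hD (adj_symm hD hax) y
          rw [mul_inv_cancel_right] at h2
          exact (Relation.ReflTransGen.single (hodd _ ⟨y, hy⟩ haE hxE hax)).tail
            (hodd ⟨y, hy⟩ _ hxE (hDE.conj_mem _ haE _) h2)
    obtain ⟨g, hg⟩ := exists_conj hD hc hu hax.1
    have h4' : orderOf (a * (g * v * g⁻¹)) = 4 := by
      rw [← hg, show g * u * g⁻¹ * (g * v * g⁻¹) = g * (u * v) * g⁻¹ by group,
        CfsgLib.Small.orderOf_conj_eq, huv]
    obtain ⟨p1, p2, -⟩ := four_spec hD hax.1 (hD.conj_mem v hv g) h4'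
    have hfT : PSame D a (g * v * g⁻¹) :=
      PSame.trans' (Relation.ReflTransGen.single (prodAdj_of_partner hD p1))
        (PSame.symm (Relation.ReflTransGen.single (prodAdj_of_partner hD p2)))
    have hlt : Nat.card H < n := by
      rw [← hn]
      exact lt_of_le_of_ne (Subgroup.card_le_card_group H) fun h => hH (Subgroup.eq_top_of_card_eq H h)
    have hconn := IH _ hlt H E rfl hDE hcE
      ⟨_, haE, _, hTE _ hfT, by rw [← Subgroup.orderOf_coe]; exact h4'⟩
    have down : ∀ {p q : H}, Relation.ReflTransGen (ProdAdj E) p q → PSame D (p : G) q := by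
      intro p q hpq
      induction hpq with
      | refl => exact Relation.ReflTransGen.refl
      | tail _ h ih =>
        exact ih.tail ⟨hED _ h.1, hED _ h.2.1, fun e => h.2.2.1 (Subtype.ext e),
          congrArg Subtype.val h.2.2.2.1, hED _ h.2.2.2.2⟩
    exact hne (down (hconn _ haE _ hxE))
  -- commuting of blocks is transitive
  have htrans : ∀ a ∈ D, ∀ b ∈ D, ∀ e ∈ D, ¬ PSame D a b → Commute a b → ¬ PSame D b e →
      Commute b e → ¬ PSame D a e → Commute a e := by
    intro a ha b hb e he hab hcab hbe hcbe hae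
    by_contra hnc
    have hgen' := hgen a e (hnotfour a ha e he hae hnc) hae
    have hz : ∀ y : G, Commute b y := by
      intro y
      have hy : y ∈ Subgroup.closure ({t | PSame D a t} ∪ {e}) := hgen' ▸ Subgroup.mem_top y
      induction hy using Subgroup.closure_induction with
      | mem z hz =>
        rcases hz with hz | rfl
        · exact (commute_of_psame hD hz ha hb hab hcab).symm
        · exact hcbe
      | one => exact Commute.one_right _
      | mul p q _ _ hp hq => exact hp.mul_right hq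
      | inv p _ hp => exact hp.inv_right
    obtain ⟨g, hg⟩ := exists_conj hD hc hb ha
    refine hab ?_
    rw [← hg, (hz g).symm.eq, mul_inv_cancel_right]
    exact Relation.ReflTransGen.refl
  have hall : ∀ a ∈ D, ∀ y, Relation.ReflTransGen (CommAdj D) a y →
      PSame D a y ∨ Commute a y := by
    intro a ha y hy
    induction hy with
    | refl => exact Or.inl Relation.ReflTransGen.refl
    | @tail x y _ hxy ih =>
      by_cases hay : PSame D a y
      · exact Or.inl hay
      right
      have hxyc : Commute x y := hxy.2.2.2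
      by_cases hax : PSame D a x
      · exact commute_of_psame hD hax.symm hxy.1 hxy.2.1 (fun h => hay (hax.trans' h)) hxyc
      · have hcax := ih.resolve_left hax
        by_cases hxy' : PSame D x y
        · exact (commute_of_psame hD hxy' hxy.1 ha (fun h => hax (PSame.symm h)) hcax.symm).symm
        · exact htrans a ha x hxy.1 y hxy.2.1 hax hcax hxy' hxyc hay
  intro a ha b hb
  have hpath := hc a ha b hb
  induction hpath with
  | refl => exact Relation.ReflTransGen.refl
  | @tail x y _ hxy ih =>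
    refine (ih hxy.1).trans ?_
    rcases hall x hxy.1 y (hcomm x hxy.1 y hxy.2.1) with h | h
    · exact h
    · exact absurd h (adj_not_comm hD hxy)

section Nondegenerate

variable (hE : EmbedCriterion.{u}) (hS : CfsgLib.BenderUse.SplitHyp.{u})
variable (hD : IsNondegenerateRootInvolutionSet D) (hcl : IsRootInvolutionClass D)
include hD hcl

omit [Finite G] in
lemma exists_four_at {d : G} (hd : d ∈ D) : ∃ f ∈ D, orderOf (d * f) = 4 := by
  obtain ⟨-, -, -, a, ha, b, hb, h⟩ := hD
  obtain ⟨g, rfl⟩ := hcl.2.2 a ha d hd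
  refine ⟨g * b * g⁻¹, hcl.1.conj_mem b hb g, ?_⟩
  rw [show g * a * g⁻¹ * (g * b * g⁻¹) = g * (a * b) * g⁻¹ by group,
    CfsgLib.Small.orderOf_conj_eq, h]

lemma odd_connected_nondeg : IsConnectedSet (OddAdj D) D := by
  obtain ⟨-, -, ⟨a, ha, b, hb, hne, ho⟩, -⟩ := hD
  exact odd_connected_of_class hcl.1 hcl.2.2 ⟨a, b, ha, hb, hne, ho⟩

include hE hS

/-- The product graph is connected. -/
theorem prod_connected : IsConnectedSet (ProdAdj D) D :=
  prod_connected_aux hE hS _ G D rfl hcl.1 (odd_connected_nondeg hD hcl) hD.2.2.2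

/-- The product partners of `d` and one odd partner generate. -/
theorem closure_partners {d x : G} (hd : d ∈ D) (hx : x ∈ oddPartners D d) :
    Subgroup.closure (productPartners D d ∪ {x}) = ⊤ := by
  have hR := hcl.1
  have hdx : OddAdj D d x := ⟨hd, hx.1, hx.2.1.symm, hx.2.2⟩
  set H := Subgroup.closure (productPartners D d ∪ {x}) with hHdef
  have hxH : x ∈ H := Subgroup.subset_closure (Or.inr rfl)
  have hXH : ∀ {c}, Partner D d c → c ∈ H := fun {c} h => by
    have := prodAdj_of_partner hR h
    refine Subgroup.subset_closure (Or.inl ⟨⟨h.right, h.comm.symm.eq, this.2.2.1.symm⟩, ?_⟩)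
    rw [← h.comm.eq]; exact h.mul
  have hdH : d ∈ H := by
    obtain ⟨f, hf, h4⟩ := exists_four_at hD hcl hd
    obtain ⟨p, -⟩ := four_spec hR hd hf h4
    have := mul_mem (hXH (p.third hR)) (hXH p)
    rwa [mul_assoc, sq_eq hR p.right, mul_one] at this
  have hconj : ∀ {z}, OddAdj D z x → z ∈ H → ∃ g ∈ H, z = g * d * g⁻¹ := by
    intro z hz hzH
    obtain ⟨k, hk⟩ := CfsgLib.Small.conj_pow_eq_of_odd (hR.orderOf_eq d hd) (hR.orderOf_eq x hx.1)
      hdx.2.2.2
    obtain ⟨l, hl⟩ := CfsgLib.Small.conj_pow_eq_of_odd (hR.orderOf_eq x hx.1) (hR.orderOf_eq z hz.1)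
      (adj_symm hR hz).2.2.2
    refine ⟨(x * z) ^ l * (d * x) ^ k,
      mul_mem (pow_mem (mul_mem hxH hzH) l) (pow_mem (mul_mem hdH hxH) k), ?_⟩
    calc z = (x * z) ^ l * x * ((x * z) ^ l)⁻¹ := hl.symm
      _ = (x * z) ^ l * ((d * x) ^ k * d * ((d * x) ^ k)⁻¹) * ((x * z) ^ l)⁻¹ := by rw [hk]
      _ = _ := by group
  -- every partner of `d` is conjugate to `d` in `H`
  have hkey : ∀ {c}, Partner D d c → ∃ g ∈ H, c = g * d * g⁻¹ := by
    intro c hp
    by_cases hcx : OddAdj D c x
    · exact hconj hcx (hXH hp)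
    have hdc : OddAdj D (d * c) x := (triple hR hp hdx).resolve_left hcx
    obtain ⟨g, hg, hge⟩ := hconj hdc (mul_mem hdH (hXH hp))
    have h4 : orderOf (x * c) = 4 := (four_iff_not hR hx.1 hp.right).2
      ⟨fun h => triple_comm hR hp hdx h.symm, fun h => hcx (adj_symm hR h)⟩
    obtain ⟨-, hcp, h4', -⟩ := chain_step hR hdx hp h4
    obtain ⟨pp, -⟩ := four_spec hR hx.1 hp.right h4
    have hne : commutingMembers D c ≠ commutingMembers D d := fun he => by
      have : (x * c) ^ 2 ∈ commutingMembers D d := he ▸ ⟨pp.right, hcp.symm.eq⟩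
      exact ((four_iff_not hR hd pp.right).1 h4').1 this.2.symm
    obtain ⟨f, hf, hf4, hf2⟩ :=
      exists_four_of_partner hR (odd_connected_nondeg hD hcl) hp.swap hne
    obtain ⟨-, q, -, e, -⟩ := four_spec hR hp.right hf hf4
    rw [hf2] at q e
    have hfH : f ∈ H := hXH q.swap
    refine ⟨f * g, mul_mem hfH hg, ?_⟩
    have hff := sq_eq hR hf
    calc c = f * (f * c * f) * f⁻¹ := by
          rw [inv_eq hR hf,
            show f * (f * c * f) * f = (f * f) * c * (f * f) by simp only [mul_assoc], hff, one_mul,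
            mul_one]
      _ = f * (d * c) * f⁻¹ := by rw [← e, hp.comm.eq]
      _ = f * (g * d * g⁻¹) * f⁻¹ := by rw [hge]
      _ = _ := by group
  have hclosed : ∀ y, PSame D d y → ∃ g ∈ H, y = g * d * g⁻¹ := by
    intro y hy
    induction hy with
    | refl => exact ⟨1, one_mem _, by group⟩
    | @tail z w _ hzw ih =>
      obtain ⟨g, hg, rfl⟩ := ih
      have hp : Partner D d (g⁻¹ * w * g) := by
        refine ⟨hd, by simpa using hR.conj_mem w hzw.2.1 g⁻¹, ?_, ?_⟩
        · have h := (show Commute (g * d * g⁻¹) w from hzw.2.2.2.1).conj g⁻¹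
          simpa [mul_assoc] using h
        · have h := hR.conj_mem _ hzw.2.2.2.2 g⁻¹
          simpa [mul_assoc] using h
      obtain ⟨g', hg', he⟩ := hkey hp
      refine ⟨g * g', mul_mem hg hg', ?_⟩
      calc w = g * (g⁻¹ * w * g) * g⁻¹ := by group
        _ = g * (g' * d * g'⁻¹) * g⁻¹ := by rw [he]
        _ = _ := by group
  refine top_unique (hR.generates ▸ (Subgroup.closure_le H).2 fun y hy => ?_)
  obtain ⟨g, hg, rfl⟩ := hclosed y (prod_connected hE hS hD hcl d hd y hy)
  exact mul_mem (mul_mem hg hdH) (inv_mem hg)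

/-- A weak TI-subset generates an abelian subgroup. -/
theorem weakTI_commutative {T : Set G} (hT : IsWeakTISubsetOfElements D T) :
    IsMulCommutative ↥(Subgroup.closure T) := by
  have hR := hcl.1
  obtain ⟨hTD, ⟨t₀, ht₀, -⟩, hTne, hTI⟩ := hT
  have hnorm : ∀ d ∈ D, ∀ t ∈ T, Commute d t → ∀ s ∈ T, d * s * d⁻¹ ∈ T := by
    intro d hd t ht hc s hs
    rcases hTI d hd with h | h
    · exact h ▸ ⟨s, hs, rfl⟩
    · exact absurd ht (Set.disjoint_left.1 h ⟨t, ht, by
        show d * t * d⁻¹ = t
        rw [hc.eq, mul_inv_cancel_right]⟩)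
  have hodd : ∀ a ∈ T, ∀ y, OddAdj D a y → ¬ (∀ s ∈ T, y * s * y⁻¹ ∈ T) := by
    intro a ha y hay hy
    have hgen := closure_partners hE hS hD hcl (hTD ha) ⟨hay.2.1, hay.2.2.1.symm, hay.2.2.2⟩
    have hall : ∀ g : G, ∀ s ∈ T, g * s * g⁻¹ ∈ T := by
      intro g
      have hg : g ∈ Subgroup.closure (productPartners D a ∪ {y}) := hgen ▸ Subgroup.mem_top g
      have hinv : ∀ z ∈ productPartners D a ∪ {y}, z⁻¹ = z := by
        rintro z (hz | rfl)
        · exact inv_eq hR hz.1.1
        · exact inv_eq hR hay.2.1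
      have hgens : ∀ z ∈ productPartners D a ∪ {y}, ∀ s ∈ T, z * s * z⁻¹ ∈ T := by
        rintro z (hz | rfl)
        · exact hnorm z hz.1.1 a ha hz.1.2.1
        · exact hy
      induction hg using Subgroup.closure_induction'' with
      | mem z hz => exact hgens z hz
      | inv_mem z hz => rw [hinv z hz]; exact hgens z hz
      | one => intro s hs; simpa using hs
      | mul g h _ _ hg hh =>
        intro s hs
        have := hg _ (hh s hs)
        rwa [show g * (h * s * h⁻¹) * g⁻¹ = g * h * s * (g * h)⁻¹ by group] at this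
    refine hTne (Set.Subset.antisymm hTD fun e he => ?_)
    obtain ⟨g, rfl⟩ := hcl.2.2 t₀ (hTD ht₀) e he
    exact hall g t₀ ht₀
  have hTnorm : ∀ s ∈ T, ∀ t ∈ T, s * t * s⁻¹ ∈ T := fun s hs =>
    hnorm s (hTD hs) s hs (Commute.refl s)
  suffices h : ∀ a ∈ T, ∀ b ∈ T, Commute a b by
    haveI := Subgroup.isMulCommutative_closure (k := T) fun a ha b hb => (h a ha b hb).eq
    infer_instance
  intro a ha b hb
  by_contra hnc
  have hno : ∀ s ∈ T, ∀ t ∈ T, ¬ OddAdj D s t := fun s hs t ht h => hodd s hs t h (hTnorm t ht)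
  have h4 := (four_iff_not hR (hTD ha) (hTD hb)).2 ⟨hnc, hno a ha b hb⟩
  obtain ⟨p, q, -⟩ := four_spec hR (hTD ha) (hTD hb) h4
  have hne : commutingMembers D ((a * b) ^ 2) ≠ commutingMembers D a := fun he => by
    have : b ∈ commutingMembers D a := he ▸ ⟨hTD hb, q.comm.eq⟩
    exact hnc this.2.symm
  obtain ⟨f, hf, hf4, hf2⟩ :=
    exists_four_of_partner hR (odd_connected_nondeg hD hcl) p.swap hne
  obtain ⟨-, qf, -⟩ := four_spec hR p.right hf hf4
  rw [hf2] at qf
  haveI : Fact (Nat.Prime 2) := ⟨Nat.prime_two⟩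
  have hP : IsPGroup 2 ↥(Subgroup.closure T) :=
    isPGroup_closure_of_small T (fun t ht => hR.orderOf_eq t (hTD ht)) hTnorm
      fun s hs t ht => pow_four_of_not_adj hR (hTD hs) (hTD ht) (hno s hs t ht)
  have hfn : Subgroup.zpowers f ≤ Subgroup.normalizer (Subgroup.closure T : Set G) := by
    rw [Subgroup.zpowers_le]
    refine Subgroup.le_normalizer_iff.2 (fun m hm y hy => ?_) (Subgroup.mem_zpowers f)
    have hconj : ∀ s ∈ T, m * s * m⁻¹ ∈ T := by
      obtain ⟨k, rfl⟩ := hm
      intro s hs
      show f ^ k * s * (f ^ k)⁻¹ ∈ T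
      rw [← zpow_mod_orderOf, hR.orderOf_eq f hf]
      rcases Int.emod_two_eq k with h | h <;> rw [show k % ((2 : ℕ) : ℤ) = _ from h]
      · simpa using hs
      · rw [zpow_one]; exact hnorm f hf a ha qf.comm s hs
    induction hy using Subgroup.closure_induction with
    | mem s hs => exact Subgroup.subset_closure (hconj s hs)
    | one => simp
    | mul y z _ _ hy hz =>
      rw [show m * (y * z) * m⁻¹ = m * y * m⁻¹ * (m * z * m⁻¹) by group]
      exact mul_mem hy hz
    | inv y _ hy =>
      rw [show m * y⁻¹ * m⁻¹ = (m * y * m⁻¹)⁻¹ by group]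
      exact inv_mem hy
  have hU : IsPGroup 2 ↥(Subgroup.closure T ⊔ Subgroup.zpowers f) := by
    refine IsPGroup.to_sup_of_normal_left' hP (IsPGroup.of_card (n := 1) ?_) hfn
    rw [Nat.card_zpowers, hR.orderOf_eq f hf, pow_one]
  set U := Subgroup.closure T ⊔ Subgroup.zpowers f
  haveI : Group.IsNilpotent U := hU.isNilpotent
  have haU : a ∈ U := Subgroup.mem_sup_left (Subgroup.subset_closure ha)
  have hbU : b ∈ U := Subgroup.mem_sup_left (Subgroup.subset_closure hb)
  have hfU : f ∈ U := Subgroup.mem_sup_right (Subgroup.mem_zpowers f)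
  have hlow : ∀ n, a ∈ U.lowerCentralSeries n := by
    intro n
    induction n with
    | zero => exact haU
    | succ n ih =>
      have h1 : ⁅a, b⁆ ∈ U.lowerCentralSeries n :=
        Subgroup.lowerCentralSeries_antitone U (Nat.le_succ n)
          (Subgroup.commutator_mem_commutator ih hbU : ⁅a, b⁆ ∈ U.lowerCentralSeries (n + 1))
      have h2 : ⁅⁅a, b⁆, f⁆ ∈ U.lowerCentralSeries (n + 1) :=
        Subgroup.commutator_mem_commutator h1 hfU
      have e1 : ⁅a, b⁆ = (a * b) ^ 2 := by
        rw [commutatorElement_def, inv_eq hR (hTD ha), inv_eq hR (hTD hb), pow_two,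
          mul_assoc (a * b)]
      rw [e1, commutatorElement_def, inv_eq hR hf, inv_eq hR p.right,
        mul_assoc ((a * b) ^ 2 * f), ← pow_two ((a * b) ^ 2 * f), hf2] at h2
      exact h2
  obtain ⟨n, hn⟩ := (Subgroup.isNilpotent_iff_lowerCentralSeries U).1 (inferInstance : Group.IsNilpotent U)
  have h := hlow n
  rw [hn, Subgroup.mem_bot] at h
  exact ne_one hR (hTD ha) h

end Nondegenerate

end CfsgLib.RootDisconnected
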