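import Cfsg.Agent.RootSubgroups.Special
import Cfsg.Agent.RootSubgroups.Steinberg

/-! The groups generated by a partner pair, and the commutator with the diagonal subgroup. -/

set_option autoImplicit false

namespace CfsgLib.RootSubgroups

open Cfsg Matrix

variable {G : Type*} [Group G] {A B : Subgroup G}

namespace SpecialAbelian

variable (h : SpecialAbelian A B)
include h

lemma pow_prime_right {p : ℕ} (hA : ∀ a ∈ A, a ^ p = 1) {b : G} (hb : b ∈ B) : b ^ p = 1 := by
  by_cases hb1 : b = 1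
  · rw [hb1, one_pow]
  obtain ⟨a, q⟩ := exists_isPartner (RankOnePair_symm h.pair) hb hb1
  have e := congrArg (· ^ p) (h.swap q.symm).2.2.1
  simp only [conj_pow, hA a q.hb, mul_one, mul_inv_cancel, inv_pow] at e
  exact inv_eq_one.mp e.symm

omit h in
lemma pow_prime_mod {p : ℕ} {x : G} (hx : x ^ p = 1) (n : ℕ) : x ^ (n % p) = x ^ n := by
  conv_rhs => rw [← Nat.mod_add_div n p, pow_add, pow_mul, hx, one_pow, mul_one]

/-- Steinberg data of a partner pair in prime characteristic. -/
def rootData {p : ℕ} [Fact p.Prime] (hA : ∀ a ∈ A, a ^ p = 1) {a b : G}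
    (q : IsPartner A B a b) : Steinberg.RootData (ZMod p) G where
  x t := a ^ t.val
  y t := b ^ t.val
  x_add s t := by rw [← pow_add, ZMod.val_add, pow_prime_mod (hA a q.ha)]
  y_add s t := by rw [← pow_add, ZMod.val_add, pow_prime_mod (h.pow_prime_right hA q.hb)]
  braid t ht := by
    have hbp := h.pow_prime_right hA q.hb
    have hat : a ^ t.val ≠ 1 := by
      rw [Ne, ← orderOf_dvd_iff_pow_eq_one, orderOf_eq_prime (hA a q.ha) q.ha1]
      intro hd
      exact ht (by rw [← ZMod.natCast_rightInverse t]; exact (ZMod.natCast_eq_zero_iff _ _).mpr hd)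
    obtain ⟨d, hd⟩ := exists_isPartner h.pair (pow_mem q.ha _) hat
    have hdb : d ^ t.val = b := partner_pow h t.val q hd
    have hdy : d = b ^ (t⁻¹).val := by
      rw [← hdb, ← pow_mul, ← pow_prime_mod (h.pow_prime_right hA hd.hb), ← ZMod.val_mul,
        mul_inv_cancel₀ ht, ZMod.val_one, pow_one]
    have hneg : b ^ (-t⁻¹).val = d⁻¹ := by
      rw [eq_inv_iff_mul_eq_one, hdy, ← pow_add, ← pow_prime_mod hbp, ← ZMod.val_add,
        neg_add_cancel, ZMod.val_zero, pow_zero]
    rw [hneg]; exact h.braid hd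
  conj t ht s := by
    have hbp := h.pow_prime_right hA q.hb
    have hap := hA a q.ha
    have hat : a ^ t.val ≠ 1 := by
      rw [Ne, ← orderOf_dvd_iff_pow_eq_one, orderOf_eq_prime (hA a q.ha) q.ha1]
      intro hd
      exact ht (by rw [← ZMod.natCast_rightInverse t]; exact (ZMod.natCast_eq_zero_iff _ _).mpr hd)
    obtain ⟨d, hd⟩ := exists_isPartner h.pair (pow_mem q.ha _) hat
    have hdb : d ^ t.val = b := partner_pow h t.val q hd
    have hdy : d = b ^ (t⁻¹).val := by
      rw [← hdb, ← pow_mul, ← pow_prime_mod (h.pow_prime_right hA hd.hb), ← ZMod.val_mul,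
        mul_inv_cancel₀ ht, ZMod.val_one, pow_one]
    have hneg : b ^ (-t⁻¹).val = d⁻¹ := by
      rw [eq_inv_iff_mul_eq_one, hdy, ← pow_add, ← pow_prime_mod hbp, ← ZMod.val_add,
        neg_add_cancel, ZMod.val_zero, pow_zero]
    have hs : a ^ s.val = (a ^ t.val) ^ (s / t).val := by
      rw [← pow_mul, ← pow_prime_mod hap (t.val * _), ← ZMod.val_mul, mul_div_cancel₀ s ht]
    rw [hneg, hs, ← conj_pow, (h.swap hd).2.2.1, ← hneg, ← pow_mul,
      ← pow_prime_mod hbp (_ * _), ← ZMod.val_mul]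
    congr 2
    field_simp

/-- A partner pair in prime characteristic generates `SL₂(p)` or `PSL₂(p)`. -/
theorem closure_pair_iso {p : ℕ} [Fact p.Prime] (hA : ∀ a ∈ A, a ^ p = 1) {a b : G}
    (q : IsPartner A B a b) :
    Nonempty (↥(Subgroup.closure ({a, b} : Set G)) ≃* SpecialLinearGroup (Fin 2) (ZMod p)) ∨
    Nonempty (↥(Subgroup.closure ({a, b} : Set G)) ≃*
      ProjectiveSpecialLinearGroup (Fin 2) (ZMod p)) := by
  set R := h.rootData hA q with hR
  set φ := R.hom with hφ
  have hU : ∀ s, φ (SL2.U s) = a ^ s.val := fun s => R.hom_U s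
  have hL : ∀ s, φ (SL2.L s) = b ^ s.val := fun s => R.hom_L s
  have hrange : φ.range = Subgroup.closure ({a, b} : Set G) := by
    refine le_antisymm ?_ ((Subgroup.closure_le _).mpr ?_)
    · rw [MonoidHom.range_eq_map, ← SL2.lower_sup_upper, Subgroup.map_sup]
      refine sup_le ?_ ?_ <;> rintro _ ⟨g, hg, rfl⟩
      · obtain ⟨s, rfl⟩ := SL2.mem_lower.mp hg
        rw [hL]; exact pow_mem (Subgroup.subset_closure (by simp)) _
      · obtain ⟨s, rfl⟩ := SL2.mem_upper.mp hg
        rw [hU]; exact pow_mem (Subgroup.subset_closure (by simp)) _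
    · rintro x (rfl | rfl)
      · exact ⟨SL2.U 1, by rw [hU, ZMod.val_one, pow_one]⟩
      · exact ⟨SL2.L 1, by rw [hL, ZMod.val_one, pow_one]⟩
  have hcentral : φ.ker ≤ Subgroup.center _ := by
    rcases normal_dichotomy_top SL2.rankOneGroup φ.ker with hk | hk
    · exfalso
      refine q.ha1 (eq_one_of_fix h.pair q.ha ?_)
      have hm : SL2.U (1 : ZMod p) ∈ φ.ker ⊔ lowerUnipotentSL2 (ZMod p) := by rw [hk]; trivial
      obtain ⟨u, hu, l, hl, he⟩ := Subgroup.mem_sup_of_normal_left.mp hm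
      obtain ⟨s, rfl⟩ := SL2.mem_lower.mp hl
      have := congrArg φ he
      rw [map_mul, MonoidHom.mem_ker.mp hu, one_mul, hL, hU, ZMod.val_one, pow_one] at this
      exact conjBy_of_mem (this ▸ pow_mem q.hb _)
    · exact hk
  have e := (MulEquiv.subgroupCongr hrange.symm).trans
    (QuotientGroup.quotientKerEquivRange φ).symm
  by_cases hbot : φ.ker = ⊥
  · left
    exact ⟨e.trans ((QuotientGroup.quotientMulEquivOfEq hbot).trans QuotientGroup.quotientBot)⟩
  · right
    have hker : φ.ker = Subgroup.center _ := by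
      refine le_antisymm hcentral fun z hz => ?_
      obtain ⟨k, hk, hk1⟩ : ∃ k ∈ φ.ker, k ≠ 1 := by
        by_contra hc
        push Not at hc
        exact hbot ((Subgroup.eq_bot_iff_forall _).mpr hc)
      rcases SL2.eq_one_or_of_center (hcentral hk) with h1 | h1
      · exact absurd h1 hk1
      rcases SL2.eq_one_or_of_center hz with h2 | h2
      · rw [h2]; exact one_mem _
      · rwa [show z = k from Subtype.ext (h2.trans h1.symm)]
    exact ⟨e.trans (QuotientGroup.quotientMulEquivOfEq hker)⟩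

/-- With more than three elements, `A` is its commutator with the diagonal subgroup. -/
theorem commutator_diagonal (h3 : ∀ x y : G, ∃ w ∈ A, w ≠ 1 ∧ w ≠ x ∧ w ≠ y) :
    ⁅A, rankOneDiagonal A B⁆ = A := by
  have hfixA : ∀ g ∈ rankOneDiagonal A B, conjBy A g = A := fun g hg =>
    conjBy_eq_self_iff.mpr hg.1.2
  refine le_antisymm ?_ ?_
  · rw [Subgroup.commutator_le]
    intro x hx g hg
    rw [commutatorElement_def, mul_assoc, mul_assoc, ← mul_assoc g]
    refine mul_mem hx ?_
    have := conj_mem_conjBy (inv_mem hx) g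
    rwa [hfixA g hg] at this
  set R := ⁅A, rankOneDiagonal A B⁆ with hR
  have hRA : R ≤ A := by
    rw [hR, Subgroup.commutator_le]
    intro x hx g hg
    rw [commutatorElement_def, mul_assoc, mul_assoc, ← mul_assoc g]
    refine mul_mem hx ?_
    have := conj_mem_conjBy (inv_mem hx) g
    rwa [hfixA g hg] at this
  have key : ∀ a c : G, a ∈ A → a ≠ 1 → c ∈ A → c ≠ 1 → c ≠ a → a * (c * c)⁻¹ ∈ R := by
    intro a c ha ha1 hc hc1 hca
    obtain ⟨b, p⟩ := exists_isPartner h.pair ha ha1
    obtain ⟨d, q⟩ := exists_isPartner h.pair hc hc1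
    obtain ⟨e, he, hk⟩ := h.hua p q hca
    set n := a * b⁻¹ * a with hn
    have hnmem : ∀ {u v : G}, IsPartner A B u v → u * v⁻¹ * u ∈ A ⊔ B := fun r =>
      mul_mem (mul_mem ((le_sup_left : A ≤ A ⊔ B) r.ha) ((le_sup_right : B ≤ A ⊔ B) (inv_mem r.hb)))
        ((le_sup_left : A ≤ A ⊔ B) r.ha)
    -- conjugation by `n` sends the partner to the inverse, modulo `R`
    have hψ : ∀ {u v : G}, IsPartner A B u v → (n * v * n⁻¹) * u ∈ R := by
      intro u v r
      obtain ⟨huA, huB, -, huv, -, -⟩ := h.swap r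
      obtain ⟨hnA, hnB, -, -, -, -⟩ := h.swap p
      set m := u * v⁻¹ * u with hm
      have hg : n * m⁻¹ ∈ rankOneDiagonal A B := by
        unfold rankOneDiagonal
        rw [Subgroup.mem_inf, Subgroup.mem_inf]
        have hmA : conjBy A m⁻¹ = B :=
          (congrArg (fun C => conjBy C m⁻¹) huB).symm.trans (conjBy_inv_conjBy B m)
        have hmB : conjBy B m⁻¹ = A :=
          (congrArg (fun C => conjBy C m⁻¹) huA).symm.trans (conjBy_inv_conjBy A m)
        refine ⟨⟨mul_mem (hnmem p) (inv_mem (hnmem r)), conjBy_eq_self_iff.mp ?_⟩,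
          conjBy_eq_self_iff.mp ?_⟩
        · rw [← conjBy_conjBy, hmA, hnB]
        · rw [← conjBy_conjBy, hmB, hnA]
      have hv : m * v * m⁻¹ = u⁻¹ := by
        rw [← _root_.inv_inj, inv_inv, ← huv]; group
      have e : n * v * n⁻¹ * u = n * m⁻¹ * u⁻¹ * (n * m⁻¹)⁻¹ * u := by rw [← hv]; group
      rw [e]
      have : u⁻¹ * (n * m⁻¹) * u⁻¹⁻¹ * (n * m⁻¹)⁻¹ ∈ R := by
        rw [← commutatorElement_def]
        exact Subgroup.commutator_mem_commutator (inv_mem r.ha) hg
      have h2 := inv_mem this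
      simpa [mul_assoc] using h2
    have h1 := hψ he
    rw [show n * (n⁻¹ * (c * a⁻¹) * n) * n⁻¹ = c * a⁻¹ by group] at h1
    have h2 := hψ hk
    have h5 := hψ q
    have h6 : n * b * n⁻¹ = a⁻¹ := by
      rw [← _root_.inv_inj, inv_inv]
      calc (n * b * n⁻¹)⁻¹ = n * b⁻¹ * n⁻¹ := by group
        _ = a := (h.swap p).2.2.2.1
    -- combine in the abelian group `A`
    have hX : n * d * n⁻¹ ∈ A := by
      have := mul_mem (hRA h5) (inv_mem hc)
      rwa [mul_inv_cancel_right] at this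
    rw [show n * (d * b⁻¹) * n⁻¹ = (n * d * n⁻¹) * (n * b * n⁻¹)⁻¹ by group, h6, inv_inv] at h2
    have heA : e ∈ A := he.ha
    have hcomm := h.abelian.1
    let a' : A := ⟨a, ha⟩
    let c' : A := ⟨c, hc⟩
    let e' : A := ⟨e, heA⟩
    let x' : A := ⟨n * d * n⁻¹, hX⟩
    have heq : a' * (c' * c')⁻¹ = (x' * c')⁻¹ * (x' * a' * (e' * a'⁻¹)) * (c' * a'⁻¹ * e')⁻¹ := by
      simp only [_root_.mul_inv_rev, inv_inv]
      have hc2 : ∀ x y : A, x * y = y * x := hcomm.is_comm.comm
      letI : CommGroup A := { (inferInstance : Group A) with mul_comm := hc2 }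
      apply Eq.symm
      simp only [mul_assoc, mul_comm, mul_left_comm, inv_mul_cancel_left, mul_inv_cancel_left,
        inv_mul_cancel, mul_one]
      group
    have := congrArg Subtype.val heq
    simp only [a', c', e', x', Subgroup.coe_mul, Subgroup.coe_inv] at this
    rw [this]
    exact mul_mem (mul_mem (inv_mem h5) h2) (inv_mem h1)
  have cong : ∀ x y : G, x ∈ A → x ≠ 1 → y ∈ A → y ≠ 1 → x * y⁻¹ ∈ R := by
    intro x y hx hx1 hy hy1
    obtain ⟨c, hc, hc1, hcx, hcy⟩ := h3 x y
    have := mul_mem (key x c hx hx1 hc hc1 hcx) (inv_mem (key y c hy hy1 hc hc1 hcy))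
    simpa [mul_assoc] using this
  intro x hx
  by_cases hx1 : x = 1
  · rw [hx1]; exact one_mem _
  obtain ⟨y, hy, hy1, hyx, -⟩ := h3 x⁻¹ x
  have hxy : x * y ≠ 1 := fun h0 => hyx (mul_eq_one_iff_inv_eq.mp h0).symm
  have h1 := cong (x * y) x (mul_mem hx hy) hxy hx hx1
  rw [mul_comm_of_mem h.abelian.1 hx hy, mul_inv_cancel_right] at h1
  have h2 := cong x y hx hx1 hy hy1
  have := mul_mem h2 h1
  rwa [inv_mul_cancel_right] at this

end SpecialAbelian

end CfsgLib.RootSubgroups
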