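import Cfsg.Agent.RootSubgroups.RootSpecial
import Cfsg.Agent.RootSubgroups.RootGraph
import Cfsg.Agent.RootSubgroups.RootLines
import Cfsg.Agent.S5020

/-! Quasisimplicity of groups generated by separated connected sets of abstract root subgroups. -/

set_option autoImplicit false

namespace CfsgLib.RootSubgroups

open Cfsg

variable {G : Type*} [Group G]

/-- An element whose commutators with a perfect subgroup are central in it centralises it. -/
lemma centralizes_of_perfect {P : Subgroup G} (hP : ⁅P, P⁆ = P) {z : G}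
    (hz : ∀ x ∈ P, z * x * z⁻¹ * x⁻¹ ∈ P ∧ ∀ y ∈ P, (z * x * z⁻¹ * x⁻¹) * y = y * (z * x * z⁻¹ * x⁻¹)) :
    ∀ x ∈ P, z * x = x * z := by
  set f : G → G := fun x => z * x * z⁻¹ * x⁻¹ with hf
  have hmul : ∀ x ∈ P, ∀ y ∈ P, f (x * y) = f x * f y := by
    intro x hx y hy
    have e : f (x * y) = f x * (x * f y * x⁻¹) := by simp [hf, mul_assoc]
    have h := (hz y hy).2 x hx
    rw [e, show x * f y * x⁻¹ = f y by rw [← h, mul_inv_cancel_right]]
  have hf1 : f 1 = 1 := by simp [hf]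
  let K : Subgroup G :=
    { carrier := {x | x ∈ P ∧ f x = 1}
      one_mem' := ⟨one_mem P, hf1⟩
      mul_mem' := fun {x y} hx hy => ⟨mul_mem hx.1 hy.1, by rw [hmul x hx.1 y hy.1, hx.2, hy.2, one_mul]⟩
      inv_mem' := fun {x} hx => ⟨inv_mem hx.1, by
        have := hmul x hx.1 x⁻¹ (inv_mem hx.1)
        rw [mul_inv_cancel, hf1, hx.2, one_mul] at this
        exact this.symm⟩ }
  have hle : ⁅P, P⁆ ≤ K := Subgroup.commutator_le.2 fun a ha b hb => by
    refine ⟨hP ▸ Subgroup.commutator_mem_commutator ha hb, ?_⟩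
    rw [commutatorElement_def, hmul _ (mul_mem (mul_mem ha hb) (inv_mem ha)) _ (inv_mem hb),
      hmul _ (mul_mem ha hb) _ (inv_mem ha), hmul a ha b hb]
    have ia : f a * f a⁻¹ = 1 := by rw [← hmul a ha _ (inv_mem ha), mul_inv_cancel, hf1]
    have ib : f b * f b⁻¹ = 1 := by rw [← hmul b hb _ (inv_mem hb), mul_inv_cancel, hf1]
    have hc : f b * f a⁻¹ = f a⁻¹ * f b := (hz b hb).2 _ (hz _ (inv_mem ha)).1
    calc f a * f b * f a⁻¹ * f b⁻¹ = f a * (f b * f a⁻¹) * f b⁻¹ :=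
          congrArg (· * f b⁻¹) (mul_assoc _ _ _)
      _ = f a * (f a⁻¹ * f b) * f b⁻¹ := by rw [hc]
      _ = f a * f a⁻¹ * f b * f b⁻¹ := congrArg (· * f b⁻¹) (mul_assoc _ _ _).symm
      _ = 1 := by rw [ia, one_mul, ib]
  intro x hx
  have h := (hle (hP.symm ▸ hx)).2
  rwa [hf, mul_inv_eq_one, mul_inv_eq_iff_eq_mul] at h

variable {S : Set (Subgroup G)} {A B : Subgroup G}

/-- What is needed about a special rank one group with more than three root elements. -/
structure LargePair (A B : Subgroup G) : Prop where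
  perfect : ⁅(⁅A ⊔ B, A ⊔ B⁆ : Subgroup G), (⁅A ⊔ B, A ⊔ B⁆ : Subgroup G)⁆ = ⁅A ⊔ B, A ⊔ B⁆
  normal : ∀ K : Subgroup G, K ≤ ⁅A ⊔ B, A ⊔ B⁆ →
    (∀ x ∈ (⁅A ⊔ B, A ⊔ B⁆ : Subgroup G), ∀ k ∈ K, x * k * x⁻¹ ∈ K) →
    K = ⁅A ⊔ B, A ⊔ B⁆ ∨ ∀ k ∈ K, ∀ x ∈ (⁅A ⊔ B, A ⊔ B⁆ : Subgroup G), k * x = x * k
  left_ne : A ⊓ ⁅A ⊔ B, A ⊔ B⁆ ≠ ⊥

lemma largePair_of_special (h : SpecialAbelian A B) (h3 : 3 < ENat.card A) : LargePair A B := by
  set X := A ⊔ B with hX
  have hmA : (A.subgroupOf X).map X.subtype = A := Subgroup.map_subgroupOf_eq_of_le le_sup_left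
  have hmB : (B.subgroupOf X).map X.subtype = B := Subgroup.map_subgroupOf_eq_of_le le_sup_right
  have hinj := X.subtype_injective
  have hr := rankOneGroup_subgroupOf h.pair
  have hsp : IsSpecialRankOnePair (A.subgroupOf X) (B.subgroupOf X) := by
    refine ⟨hr.2, fun a ha ha1 b hb hb1 he => Subtype.ext ?_⟩
    have he' := congrArg (Subgroup.map X.subtype) he
    have key : ∀ (C : Subgroup X) (x : X), (conjBy C x).map X.subtype = conjBy (C.map X.subtype) x := by
      intro C x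
      rw [conjBy, conjBy, Subgroup.map_map, Subgroup.map_map]
      congr 1
    rw [key, key, hmA, hmB] at he'
    simpa using h.special.2 a (Subgroup.mem_subgroupOf.1 ha) (fun e => ha1 (Subtype.ext e))
      b (Subgroup.mem_subgroupOf.1 hb) (fun e => hb1 (Subtype.ext e)) (by simpa using he')
  have hab : HasAbelianUnipotents (A.subgroupOf X) (B.subgroupOf X) := by
    constructor
    · exact ⟨⟨fun x y => Subtype.ext (Subtype.ext (mul_comm_of_mem h.abelian.1
        (Subgroup.mem_subgroupOf.1 x.2) (Subgroup.mem_subgroupOf.1 y.2)))⟩⟩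
    · exact ⟨⟨fun x y => Subtype.ext (Subtype.ext (mul_comm_of_mem h.abelian.2
        (Subgroup.mem_subgroupOf.1 x.2) (Subgroup.mem_subgroupOf.1 y.2)))⟩⟩
  have hcA : ENat.card ↥(A.subgroupOf X) = ENat.card A :=
    ENat.card_congr (Subgroup.subgroupOfEquivOfLe le_sup_left).toEquiv
  rcases Cfsg.Agent.S5020.result hr hsp hab with ⟨hle, -⟩ | ⟨-, hq, hH⟩
  · rw [hcA] at hle; exact absurd hle (not_le.2 h3)
  have hmC : (commutator X).map X.subtype = ⁅X, X⁆ := Subgroup.map_subtype_commutator X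
  refine ⟨?_, fun K hK hKn => ?_, ?_⟩
  · have hp : ⁅commutator X, commutator X⁆ = commutator X := by
      rw [← Subgroup.map_subtype_commutator, show commutator ↥(commutator X) = ⊤ from hq.1.commutator_eq_top,
        ← MonoidHom.range_eq_map, Subgroup.range_subtype]
    rw [← hmC, ← Subgroup.map_commutator, hp]
  · let K' : Subgroup ↥(commutator X) := (K.comap X.subtype).comap (commutator X).subtype
    have hK' : K'.Normal := ⟨fun k hk x => hKn _ (hmC ▸ ⟨(x : X), x.2, rfl⟩) _ hk⟩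
    have := hq.2
    rcases this.eq_bot_or_eq_top_of_normal (K'.map (QuotientGroup.mk' (Subgroup.center ↥(commutator X))))
      (Subgroup.Normal.map hK' _ (QuotientGroup.mk'_surjective _)) with h0 | h1
    · right
      intro k hk x hx
      rw [← hmC] at hx
      obtain ⟨x', hx', rfl⟩ := hx
      obtain ⟨k', hk', hkk⟩ := (hmC.symm ▸ hK hk : k ∈ (commutator X).map X.subtype)
      have hk2 : (⟨k', hk'⟩ : ↥(commutator X)) ∈ K' := by
        show X.subtype k' ∈ K
        rwa [hkk]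
      have := (QuotientGroup.eq_one_iff _).1 ((Subgroup.mem_bot).1 (h0 ▸ Subgroup.mem_map_of_mem _ hk2))
      rw [← hkk]
      exact congrArg (fun w : ↥(commutator X) => ((w : X) : G)) (Subgroup.mem_center_iff.1 this ⟨x', hx'⟩).symm
    · left
      have hsup : K' ⊔ Subgroup.center ↥(commutator X) = ⊤ := by
        have := congrArg (Subgroup.comap (QuotientGroup.mk' (Subgroup.center ↥(commutator X)))) h1
        rwa [Subgroup.comap_map_eq, QuotientGroup.ker_mk', Subgroup.comap_top] at this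
      have hle : commutator ↥(commutator X) ≤ K' := by
        have : Subgroup.Normal K' := hK'
        rw [← Subgroup.Normal.quotient_commutative_iff_commutator_le]
        refine ⟨⟨fun p q => ?_⟩⟩
        have hsurj : ∀ p : ↥(commutator X) ⧸ K', ∃ c ∈ Subgroup.center ↥(commutator X), (c : _ ⧸ K') = p := by
          intro p
          induction p using QuotientGroup.induction_on with
          | H x =>
            obtain ⟨a, ha, c, hc, rfl⟩ := Subgroup.mem_sup_of_normal_left.1 (hsup ▸ Subgroup.mem_top x)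
            exact ⟨c, hc, by rw [QuotientGroup.mk_mul, (QuotientGroup.eq_one_iff a).2 ha, one_mul]⟩
        obtain ⟨c, hc, rfl⟩ := hsurj p
        induction q using QuotientGroup.induction_on with
        | H y => rw [← QuotientGroup.mk_mul, ← QuotientGroup.mk_mul, Subgroup.mem_center_iff.1 hc y]
      rw [hq.1.commutator_eq_top, top_le_iff] at hle
      refine le_antisymm hK ?_
      rw [← hmC]
      rintro _ ⟨x, hx, rfl⟩
      exact (hle ▸ Subgroup.mem_top (⟨x, hx⟩ : ↥(commutator X)) : (⟨x, hx⟩ : ↥(commutator X)) ∈ K')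
  · intro h0
    have hle : ⁅A.subgroupOf X, rankOneDiagonal (A.subgroupOf X) (B.subgroupOf X)⁆ ≤
        (A.subgroupOf X) ⊓ commutator X := by
      refine le_inf (Subgroup.commutator_le.2 fun a ha g hg => ?_) (Subgroup.commutator_mono le_top le_top)
      rw [commutatorElement_def, mul_assoc, mul_assoc]
      refine mul_mem ha ?_
      rw [← mul_assoc]
      exact (Subgroup.mem_normalizer_iff.1 hg.1.2 _).1 (inv_mem ha)
    have hbot : ⁅A.subgroupOf X, rankOneDiagonal (A.subgroupOf X) (B.subgroupOf X)⁆ = ⊥ := by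
      rw [eq_bot_iff]
      intro z hz
      have : (z : G) ∈ A ⊓ ⁅X, X⁆ := ⟨(hle hz).1, hmC ▸ ⟨z, (hle hz).2, rfl⟩⟩
      rw [h0, Subgroup.mem_bot] at this
      exact Subgroup.mem_bot.2 (Subtype.ext this)
    rw [hbot] at hH
    simp at hH

section Root

variable (hS : IsRootSubgroupSet S) (hconn : IsConnectedFamily (FAdj S) S)
  (h2 : ∀ A ∈ S, ∃ D ∈ S, IsRankOnePair A D)
  (hsp : ∀ A ∈ S, ∀ B ∈ S, IsRankOnePair A B → SpecialAbelian A B)
include hS

/-- A normal subgroup meeting a rank one group non-centrally makes it a twin of its first member. -/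
lemma le_sup_of_not_central {N : Subgroup G} (hr : IsRankOnePair A B)
    (hn : ∀ x ∈ A ⊔ B, ∀ n ∈ N, x * n * x⁻¹ ∈ N)
    (hnc : ¬ ∀ k ∈ N ⊓ (A ⊔ B), ∀ x ∈ A ⊔ B, k * x = x * k) : B ≤ N ⊔ A := by
  have hle : ∀ x ∈ A ⊔ B, conjBy (N ⊓ (A ⊔ B)) x ≤ N ⊓ (A ⊔ B) := by
    intro x hx z hz
    rw [mem_conjBy] at hz
    have h1 := hn x hx _ hz.1
    have h2 := mul_mem (mul_mem hx hz.2) (inv_mem hx)
    have e : x * (x⁻¹ * z * x) * x⁻¹ = z := by group
    rw [e] at h1 h2
    exact ⟨h1, h2⟩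
  have hnorm : ∀ x ∈ A ⊔ B, conjBy (N ⊓ (A ⊔ B)) x = N ⊓ (A ⊔ B) := fun x hx => by
    refine le_antisymm (hle x hx) ?_
    have := conjBy_mono (hle x⁻¹ (inv_mem hx)) x
    rwa [conjBy_conjBy_inv] at this
  have h := (normal_dichotomy hr inf_le_right hnorm).resolve_right hnc
  exact le_trans (le_sup_right : B ≤ A ⊔ B) (h ▸ sup_le_sup_right inf_le_left A)

include hconn h2

/-- If all rank one pairs are twins modulo a normal subgroup, it contains the commutator subgroup. -/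
lemma commutator_le_of_twins {M : Subgroup G} [M.Normal]
    (ht : ∀ A ∈ S, ∀ B ∈ S, IsRankOnePair A B → B ≤ M ⊔ A) : commutator G ≤ M := by
  by_cases hne : S.Nonempty
  · obtain ⟨A₀, hA₀⟩ := hne
    have hall : ∀ B ∈ S, B ≤ M ⊔ A₀ := by
      intro B hB
      have h := hconn A₀ hA₀ B hB
      clear hB
      induction h with
      | refl => exact le_sup_right
      | tail _ hbc ih => exact (ht _ hbc.1 _ hbc.2.1 hbc.2.2).trans (sup_le le_sup_left ih)
    have htop : M ⊔ A₀ = ⊤ := eq_top_iff.2 (hS.generates.ge.trans (iSup₂_le hall))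
    rw [← Subgroup.Normal.quotient_commutative_iff_commutator_le]
    have hsurj : ∀ p : G ⧸ M, ∃ a ∈ A₀, (a : G ⧸ M) = p := by
      intro p
      induction p using QuotientGroup.induction_on with
      | H x =>
        obtain ⟨m, hm, a, ha, rfl⟩ := Subgroup.mem_sup_of_normal_left.1 (htop ▸ Subgroup.mem_top x)
        exact ⟨a, ha, by rw [QuotientGroup.mk_mul, (QuotientGroup.eq_one_iff m).2 hm, one_mul]⟩
    refine ⟨⟨fun p q => ?_⟩⟩
    obtain ⟨a, ha, rfl⟩ := hsurj p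
    obtain ⟨b, hb, rfl⟩ := hsurj q
    rw [← QuotientGroup.mk_mul, ← QuotientGroup.mk_mul, commute_self hS hA₀ ha hb]
  · have : S = ∅ := Set.not_nonempty_iff_eq_empty.1 hne
    have h0 := hS.generates
    rw [this, iSup_emptyset] at h0
    intro x _
    have hx : x ∈ (⊥ : Subgroup G) := h0 ▸ Subgroup.mem_top x
    rw [Subgroup.mem_bot.1 hx]; exact one_mem M

include hsp

/-- A normal subgroup meeting one member nontrivially meets all and contains `G'`. -/
lemma meets_member {M : Subgroup G} [M.Normal] {F : Subgroup G} (hF : F ∈ S) {f : G} (hf : f ∈ F)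
    (hfM : f ∈ M) (hf1 : f ≠ 1) :
    (∀ H ∈ S, ∃ h ∈ H, h ∈ M ∧ h ≠ 1) ∧ commutator G ≤ M := by
  have hall : ∀ H ∈ S, ∃ h ∈ H, h ∈ M ∧ h ≠ 1 := by
    intro H hH
    have h := hconn F hF H hH
    clear hH
    induction h with
    | refl => exact ⟨f, hf, hfM, hf1⟩
    | @tail P Q _ hPQ ih =>
      obtain ⟨p, hp, hpM, hp1⟩ := ih
      obtain ⟨q, hq⟩ := exists_isPartner hPQ.2.2 hp hp1
      refine ⟨q, hq.hb, ?_, hq.hb1⟩
      have e := (hsp P hPQ.1 Q hPQ.2.1 hPQ.2.2).special.2 p hp hp1 q hq.hb hq.hb1 hq.eq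
      have h1 : q⁻¹ * p * q ∈ M := by
        have := Subgroup.Normal.conj_mem inferInstance p hpM q⁻¹
        rwa [inv_inv] at this
      rw [e] at h1
      have h2 : q⁻¹ ∈ M := by
        have := mul_mem (mul_mem hpM h1) (inv_mem hpM)
        simpa [mul_assoc] using this
      simpa using inv_mem h2
  refine ⟨hall, commutator_le_of_twins hS hconn h2 fun A hA B hB hr => ?_⟩
  obtain ⟨a, ha, haM, ha1⟩ := hall A hA
  refine le_sup_of_not_central hS hr (fun x _ n hn => Subgroup.Normal.conj_mem inferInstance n hn x) ?_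
  intro hc
  exact ha1 (eq_one_of_fix hr ha (conjBy_eq_of_commute fun x hx =>
    hc a ⟨haM, (le_sup_left : A ≤ A ⊔ B) ha⟩ x ((le_sup_right : B ≤ A ⊔ B) hx)))

/-- Elements fixing all members up to a subgroup meeting them trivially: the general step. -/
lemma fixes_members (N : Subgroup G) (R : Subgroup G) (hNR : ∀ x ∈ R, ∀ n ∈ N, x * n * x⁻¹ ∈ N)
    (hsep : ∀ A ∈ S, ∀ C ∈ S, A ≠ C → centralizingMembers S A ≠ centralizingMembers S C)
    (hR : ∀ A ∈ S, ∃ a ∈ A, a ∈ R ∧ a ≠ 1)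
    (hN : ∀ n ∈ N, n ∈ R)
    (hcent : ∀ A ∈ S, ∀ B ∈ S, IsRankOnePair A B → ∀ k ∈ N, k ∈ A ⊔ B → ∀ x ∈ A ⊔ B, k * x = x * k)
    (hnocomm : ∀ A ∈ S, ∀ B ∈ S, RootCommutatorCase S A B → ∃ a ∈ A, a ∈ R ∧ a ≠ 1 ∧
      ∀ b ∈ B, b ∈ R → a * b * a⁻¹ * b⁻¹ ∈ N → b = 1) :
    ∀ n ∈ N, ∀ A ∈ S, conjBy A n = A ∧ ∀ a ∈ A, a ∈ R → n * a = a * n := by
  intro n hn A hA
  have hfix : conjBy A n = A := by
    by_contra hne
    have hA2 := hS.conj_mem A hA n
    -- twins modulo `N`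
    have hRn : ∀ a ∈ R, n * a * n⁻¹ * a⁻¹ ∈ N := by
      intro a ha
      rw [mul_assoc, mul_assoc, ← mul_assoc a]
      exact mul_mem hn (hNR a ha _ (inv_mem hn))
    obtain ⟨a0, ha0, ha0R, ha01⟩ := hR A hA
    have ha2 : n * a0 * n⁻¹ ∈ conjBy A n := conj_mem_conjBy ha0 n
    have ha21 : n * a0 * n⁻¹ ≠ 1 := by simpa using ha01
    have hcommS : ∀ a ∈ A, ∀ b ∈ conjBy A n, a * b = b * a := by
      rcases trichotomy hS hA hA2 with h | h | h
      · exact h
      · exfalso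
        have hz : n * a0 * n⁻¹ * a0⁻¹ ∈ A ⊔ conjBy A n :=
          mul_mem ((le_sup_right : conjBy A n ≤ _) ha2) (inv_mem ((le_sup_left : A ≤ _) ha0))
        have hzc := hcent A hA _ hA2 h _ (hRn a0 ha0R) hz
        exact hne (eq_of_mul_mem hS hA hA2 h (z := n * a0 * n⁻¹ * a0⁻¹)
          (fun x hx => hzc x ((le_sup_left : A ≤ _) hx))
          (fun x hx => hzc x ((le_sup_right : conjBy A n ≤ _) hx)) ha0 ha01 hA2
          (by rw [inv_mul_cancel_right]; exact ha2)).1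
      · exfalso
        obtain ⟨a, ha, haR, ha1, hb⟩ := hnocomm A hA _ hA2 h
        have h1 : a * (n * a * n⁻¹) * a⁻¹ * (n * a * n⁻¹)⁻¹ ∈ N := by
          have e : a * (n * a * n⁻¹) * a⁻¹ * (n * a * n⁻¹)⁻¹ =
              (a * (n * a * n⁻¹ * a⁻¹) * a⁻¹) * (n * a * n⁻¹ * a⁻¹)⁻¹ := by group
          rw [e]
          exact mul_mem (hNR a haR _ (hRn a haR)) (inv_mem (hRn a haR))
        have h5 := hb _ (conj_mem_conjBy ha n)
          (mul_mem (mul_mem (hN n hn) haR) (inv_mem (hN n hn))) h1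
        exact ha1 (by simpa using h5)
    -- a member commuting with exactly one of the twins
    have key : ∀ P ∈ S, ∀ Q ∈ S, (∃ p ∈ P, ∃ q ∈ Q, p ∈ R ∧ q ∈ R ∧ q ≠ 1 ∧ q * p⁻¹ ∈ N) →
        ∀ E ∈ centralizingMembers S P, E ∈ centralizingMembers S Q := by
      rintro P hP Q hQ ⟨p, hp, q, hq, hpR, hqR, hq1, hqp⟩ E ⟨hE, hEP⟩
      refine ⟨hE, fun e he => Subgroup.mem_centralizer_iff.2 fun y hy => ?_⟩
      have hep : ∀ e ∈ E, e * p = p * e := fun e he => (Subgroup.mem_centralizer_iff.1 (hEP he) p hp).symm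
      have hmemN : ∀ e ∈ E, e ∈ R → e * q * e⁻¹ * q⁻¹ ∈ N := by
        intro e he heR
        have e1 : e * q * e⁻¹ * q⁻¹ = (e * (q * p⁻¹) * e⁻¹) * (q * p⁻¹)⁻¹ := by
          have : e * p⁻¹ * e⁻¹ = p⁻¹ := by
            rw [(Commute.inv_right (show Commute e p from hep e he)).eq, mul_inv_cancel_right]
          calc e * q * e⁻¹ * q⁻¹ = e * (q * p⁻¹) * e⁻¹ * (e * p⁻¹ * e⁻¹)⁻¹ * q⁻¹ := by group
            _ = _ := by rw [this]; group
        rw [e1]
        exact mul_mem (hNR e heR _ hqp) (inv_mem hqp)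
      rcases trichotomy hS hE hQ with h | h | h
      · exact (h e he y hy).symm
      · exfalso
        obtain ⟨e0, he0, he0R, he01⟩ := hR E hE
        have hz := hmemN e0 he0 he0R
        have hzX : e0 * q * e0⁻¹ * q⁻¹ ∈ E ⊔ Q := by
          have m1 := (le_sup_left : E ≤ E ⊔ Q) he0
          have m2 := (le_sup_right : Q ≤ E ⊔ Q) hq
          exact mul_mem (mul_mem (mul_mem m1 m2) (inv_mem m1)) (inv_mem m2)
        have hzc := hcent E hE Q hQ h _ hz hzX
        have hF := (eq_of_mul_mem hS hQ hE (RankOnePair_symm h) (z := e0 * q * e0⁻¹ * q⁻¹)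
          (fun x hx => hzc x ((le_sup_right : Q ≤ E ⊔ Q) hx))
          (fun x hx => hzc x ((le_sup_left : E ≤ E ⊔ Q) hx)) hq hq1 (hS.conj_mem Q hQ e0)
          (by rw [inv_mul_cancel_right]; exact conj_mem_conjBy hq e0)).1
        exact he01 (eq_one_of_fix h he0 hF)
      · exfalso
        obtain ⟨a, ha, haR, -, hb⟩ := hnocomm E hE Q hQ h
        exact hq1 (hb q hq hqR (hmemN a ha haR))
    refine hsep A hA _ hA2 (Ne.symm hne) (Set.Subset.antisymm
      (key A hA _ hA2 ⟨a0, ha0, _, ha2, ha0R, mul_mem (mul_mem (hN n hn) ha0R) (inv_mem (hN n hn)), ha21, hRn a0 ha0R⟩)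
      (key _ hA2 A hA ⟨_, ha2, a0, ha0, mul_mem (mul_mem (hN n hn) ha0R) (inv_mem (hN n hn)), ha0R, ha01, ?_⟩))
    have := inv_mem (hRn a0 ha0R)
    simpa [mul_assoc] using this
  refine ⟨hfix, fun a ha haR => ?_⟩
  obtain ⟨D, hD, hr⟩ := h2 A hA
  have h1 : n * a * n⁻¹ * a⁻¹ ∈ A := mul_mem (hfix ▸ conj_mem_conjBy ha n) (inv_mem ha)
  have h2' : n * a * n⁻¹ * a⁻¹ ∈ N := by
    rw [mul_assoc, mul_assoc, ← mul_assoc a]
    exact mul_mem hn (hNR a haR _ (inv_mem hn))
  have hz := hcent A hA D hD hr _ h2' ((le_sup_left : A ≤ A ⊔ D) h1)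
  have h3 := eq_one_of_fix hr h1 (conjBy_eq_of_commute fun x hx => hz x ((le_sup_right : D ≤ A ⊔ D) hx))
  rwa [mul_inv_eq_one, mul_inv_eq_iff_eq_mul] at h3


/-- A normal subgroup either contains `G'` or meets every rank one group centrally. -/
lemma rankOne_central {M : Subgroup G} [M.Normal]
    (hnd : (∃ E ∈ S, ∃ F ∈ S, RootCommutatorCase S E F) ∨
      ∀ A ∈ S, ∀ B ∈ S, IsRankOnePair A B → LargePair A B)
    (hclass : IsConjClassOfSubgroups S) (hM : ¬ commutator G ≤ M)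
    (hA : A ∈ S) (hB : B ∈ S) (hr : IsRankOnePair A B) :
    ∀ k ∈ M, k ∈ A ⊔ B → ∀ x ∈ A ⊔ B, k * x = x * k := by
  by_contra hcon
  have hle := le_sup_of_not_central hS hr (N := M)
    (fun x _ n hn => Subgroup.Normal.conj_mem inferInstance n hn x)
    (fun h => hcon fun k hk hk' => h k ⟨hk, hk'⟩)
  rcases hnd with ⟨E, hE, F, hF, hc⟩ | hlarge
  · have hnd' : IsNondegenerateRootSet S :=
      ⟨⟨_, hc.1, E, hE, (left_ne_comm hS hE hc).symm, commutator_eq_bot_iff_comm.mpr fun x hx y hy => comm_left hc hx hy⟩,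
        ⟨A, hA, B, hB, hr⟩, ⟨E, hE, F, hF, hc⟩⟩
    obtain ⟨C, hC, hBC⟩ := exists_line_commutator ⟨hS, hclass⟩ hnd' hA hB hr
    obtain ⟨-, -, hcomm⟩ := mem_partner_of_mem_line hC
    obtain ⟨b, hb, hb1⟩ := exists_ne_one hS hB
    obtain ⟨c, hc', hbc⟩ : ∃ c ∈ C, b * c * b⁻¹ * c⁻¹ ≠ 1 := by
      by_contra hn
      push Not at hn
      refine hS.ne_bot _ hBC.1 ?_
      rw [← hBC.2.2.1 b hb hb1, Subgroup.closure_eq_bot_iff]
      rintro _ ⟨c, hc', rfl⟩
      exact hn c hc'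
    obtain ⟨m, hm, a, ha, rfl⟩ := Subgroup.mem_sup_of_normal_left.1 (hle hb)
    refine hM (meets_member hS hconn h2 hsp hBC.1 (f := m * a * c * (m * a)⁻¹ * c⁻¹)
      (Subgroup.commutator_mem_commutator hb hc') ?_ hbc).2
    have e : m * a * c * (m * a)⁻¹ * c⁻¹ = m * (c * m⁻¹ * c⁻¹) := by
      rw [mul_assoc m a c, hcomm a ha c hc']; group
    rw [e]
    exact mul_mem hm (Subgroup.Normal.conj_mem inferInstance _ (inv_mem hm) c)
  · obtain ⟨a, ⟨haA, haX⟩, ha1⟩ :=
      (Subgroup.bot_or_exists_ne_one _).resolve_left (hlarge A hA B hB hr).left_ne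
    refine hM (meets_member hS hconn h2 hsp hA haA ?_ ha1).2
    have hX : A ⊔ B ≤ M ⊔ A := sup_le le_sup_right hle
    refine (Subgroup.commutator_le.2 fun x hx y hy => ?_ : ⁅A ⊔ B, A ⊔ B⁆ ≤ M) haX
    obtain ⟨m, hm, a₁, ha₁, rfl⟩ := Subgroup.mem_sup_of_normal_left.1 (hX hx)
    obtain ⟨m', hm', a₂, ha₂, rfl⟩ := Subgroup.mem_sup_of_normal_left.1 (hX hy)
    rw [commutatorElement_def]
    refine (QuotientGroup.eq_one_iff _).1 ?_
    have hc : (a₁ : G ⧸ M) * (a₂ : G ⧸ M) = (a₂ : G ⧸ M) * (a₁ : G ⧸ M) := by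
      rw [← QuotientGroup.mk_mul, ← QuotientGroup.mk_mul, commute_self hS hA ha₁ ha₂]
    simp only [QuotientGroup.mk_mul, QuotientGroup.mk_inv, (QuotientGroup.eq_one_iff m).2 hm,
      (QuotientGroup.eq_one_iff m').2 hm', one_mul]
    rw [hc]
    group

/-- A normal subgroup contains `G'` or is central. -/
theorem normal_dichotomy_root {M : Subgroup G} [M.Normal]
    (hnd : (∃ E ∈ S, ∃ F ∈ S, RootCommutatorCase S E F) ∨
      ∀ A ∈ S, ∀ B ∈ S, IsRankOnePair A B → LargePair A B)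
    (hclass : IsConjClassOfSubgroups S)
    (hsep : ∀ A ∈ S, ∀ C ∈ S, A ≠ C → centralizingMembers S A ≠ centralizingMembers S C) :
    commutator G ≤ M ∨ M ≤ Subgroup.center G := by
  by_cases hM : commutator G ≤ M
  · exact Or.inl hM
  refine Or.inr fun m hm => ?_
  have hfix := fixes_members hS hconn h2 hsp M ⊤
    (fun x _ n hn => Subgroup.Normal.conj_mem inferInstance n hn x) hsep
    (fun A hA => by obtain ⟨a, ha, ha1⟩ := exists_ne_one hS hA; exact ⟨a, ha, Subgroup.mem_top a, ha1⟩)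
    (fun n _ => Subgroup.mem_top n)
    (fun A hA B hB hr => rankOne_central hS hconn h2 hsp hnd hclass hM hA hB hr)
    (fun A hA B hB hc => by
      obtain ⟨a, ha, ha1⟩ := exists_ne_one hS hA
      obtain ⟨D, hD, hr⟩ := h2 A hA
      refine ⟨a, ha, Subgroup.mem_top a, ha1, fun b hb _ hmem => ?_⟩
      by_cases h1 : a * b * a⁻¹ * b⁻¹ = 1
      · refine rcomm_injective hS hA hD hr hc ha hb ha1 (rcomm_eq_one.mpr ?_)
        rwa [mul_inv_eq_one, mul_inv_eq_iff_eq_mul] at h1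
      · exact absurd (meets_member hS hconn h2 hsp hc.1 (Subgroup.commutator_mem_commutator ha hb) hmem h1).2 hM)
  rw [Subgroup.mem_center_iff]
  have hle : (⨆ A ∈ S, A) ≤ Subgroup.centralizer {m} := iSup₂_le fun A hA a ha =>
    Subgroup.mem_centralizer_iff.2 fun y hy => by
      rw [Set.mem_singleton_iff.1 hy]; exact (hfix m hm A hA).2 a ha (Subgroup.mem_top a)
  intro g
  exact ((Subgroup.mem_centralizer_iff.1 (hle (hS.generates.ge (Subgroup.mem_top g)))) m rfl).symm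

/-- In the degenerate case a subgroup of `G'` normalised by it is `G'` or central in it. -/
theorem normal_dichotomy_derived
    (hlarge : ∀ A ∈ S, ∀ B ∈ S, IsRankOnePair A B → LargePair A B)
    (hdeg : ∀ A ∈ S, ∀ B ∈ S, ¬ RootCommutatorCase S A B)
    (hclass : IsConjClassOfSubgroups S)
    (hsep : ∀ A ∈ S, ∀ C ∈ S, A ≠ C → centralizingMembers S A ≠ centralizingMembers S C)
    {N : Subgroup G} (hNle : N ≤ commutator G) (hN : ∀ x ∈ commutator G, ∀ n ∈ N, x * n * x⁻¹ ∈ N) :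
    N = commutator G ∨ ∀ n ∈ N, ∀ x ∈ commutator G, n * x = x * n := by
  have hX' : ∀ A B : Subgroup G, ⁅A ⊔ B, A ⊔ B⁆ ≤ commutator G := fun A B =>
    Subgroup.commutator_mono le_top le_top
  have hR : ∀ A ∈ S, ∀ B ∈ S, IsRankOnePair A B → ∃ a ∈ A, a ∈ (⁅A ⊔ B, A ⊔ B⁆ : Subgroup G) ∧ a ≠ 1 :=
    fun A hA B hB hr => by
      obtain ⟨a, ⟨h1, h3⟩, h4⟩ := (Subgroup.bot_or_exists_ne_one _).resolve_left (hlarge A hA B hB hr).left_ne
      exact ⟨a, h1, h3, h4⟩
  -- `N` meets the derived group of a rank one group in a normal subgroup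
  have hK : ∀ A ∈ S, ∀ B ∈ S, IsRankOnePair A B →
      ⁅A ⊔ B, A ⊔ B⁆ ≤ N ∨ ∀ k ∈ N, k ∈ (⁅A ⊔ B, A ⊔ B⁆ : Subgroup G) →
        ∀ x ∈ (⁅A ⊔ B, A ⊔ B⁆ : Subgroup G), k * x = x * k := by
    intro A hA B hB hr
    rcases (hlarge A hA B hB hr).normal (N ⊓ ⁅A ⊔ B, A ⊔ B⁆) inf_le_right
      (fun x hx k hk => ⟨hN x (hX' A B hx) k hk.1,
        Subgroup.mul_mem _ (Subgroup.mul_mem _ hx hk.2) (Subgroup.inv_mem _ hx)⟩) with h | h
    · exact Or.inl (h ▸ inf_le_left)
    · exact Or.inr fun k hk hk' => h k ⟨hk, hk'⟩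
  have hcentX : ∀ A ∈ S, ∀ B ∈ S, IsRankOnePair A B → ¬ ⁅A ⊔ B, A ⊔ B⁆ ≤ N → ∀ k ∈ N, k ∈ A ⊔ B →
      ∀ x ∈ (⁅A ⊔ B, A ⊔ B⁆ : Subgroup G), k * x = x * k := by
    intro A hA B hB hr hnle k hk hkX
    refine centralizes_of_perfect (hlarge A hA B hB hr).perfect fun x hx => ?_
    have m1 : k * x * k⁻¹ * x⁻¹ ∈ (⁅A ⊔ B, A ⊔ B⁆ : Subgroup G) :=
      Subgroup.commutator_mem_commutator hkX (Subgroup.commutator_le_self _ hx)
    refine ⟨m1, ((hK A hA B hB hr).resolve_left hnle) _ ?_ m1⟩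
    rw [mul_assoc, mul_assoc, ← mul_assoc x]
    exact mul_mem hk (hN x (hX' A B hx) _ (inv_mem hk))
  by_cases hone : ∃ A ∈ S, ∃ B ∈ S, IsRankOnePair A B ∧ ⁅A ⊔ B, A ⊔ B⁆ ≤ N
  · left
    obtain ⟨A₀, hA₀, B₀, hB₀, hr₀, hle₀⟩ := hone
    obtain ⟨f, hf, hfX, hf1⟩ := hR A₀ hA₀ B₀ hB₀ hr₀
    -- every member meets `N`, hence every derived rank one group lies in `N`
    have step : ∀ P ∈ S, ∀ Q ∈ S, IsRankOnePair P Q → (∃ p ∈ P, p ∈ N ∧ p ≠ 1) → ⁅P ⊔ Q, P ⊔ Q⁆ ≤ N := by
      rintro P hP Q hQ hr ⟨p, hp, hpN, hp1⟩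
      by_contra hnle
      obtain ⟨q, hq, hqX, hq1⟩ := hR Q hQ P hP (RankOnePair_symm hr)
      rw [sup_comm] at hqX
      exact hp1 (eq_one_of_commute hr hp hq hq1
        (hcentX P hP Q hQ hr hnle p hpN ((le_sup_left : P ≤ P ⊔ Q) hp) q hqX))
    have hmeet : ∀ H ∈ S, ∃ h ∈ H, h ∈ N ∧ h ≠ 1 := by
      intro H hH
      have h := hconn A₀ hA₀ H hH
      clear hH
      induction h with
      | refl => exact ⟨f, hf, hle₀ hfX, hf1⟩
      | @tail P Q _ hPQ ih =>
        obtain ⟨q, hq, hqX, hq1⟩ := hR Q hPQ.2.1 P hPQ.1 (RankOnePair_symm hPQ.2.2)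
        rw [sup_comm] at hqX
        exact ⟨q, hq, step P hPQ.1 Q hPQ.2.1 hPQ.2.2 ih hqX, hq1⟩
    let M : Subgroup G := ⨆ (A ∈ S) (B ∈ S) (_ : IsRankOnePair A B), ⁅A ⊔ B, A ⊔ B⁆
    have hMN : M ≤ N := iSup₂_le fun A hA => iSup₂_le fun B hB => iSup_le fun hr =>
      step A hA B hB hr (hmeet A hA)
    have hMn : M.Normal := by
      refine ⟨fun m hm g => ?_⟩
      have hle : conjBy M g ≤ M := by
        simp only [M, conjBy, Subgroup.map_iSup]
        refine iSup₂_le fun A hA => iSup₂_le fun B hB => iSup_le fun hr => ?_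
        rw [show Subgroup.map (MulAut.conj g).toMonoidHom ⁅A ⊔ B, A ⊔ B⁆ = conjBy ⁅A ⊔ B, A ⊔ B⁆ g from rfl,
          conjBy_commutator, conjBy_sup]
        exact le_iSup_of_le (conjBy A g) (le_iSup_of_le (hS.conj_mem A hA g)
          (le_iSup_of_le (conjBy B g) (le_iSup_of_le (hS.conj_mem B hB g)
            (le_iSup_of_le (rankOnePair_conj hr g) le_rfl))))
      exact hle (conj_mem_conjBy hm g)
    have hfM : f ∈ M := (le_iSup_of_le A₀ (le_iSup_of_le hA₀ (le_iSup_of_le B₀ (le_iSup_of_le hB₀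
      (le_iSup_of_le hr₀ le_rfl)))) : ⁅A₀ ⊔ B₀, A₀ ⊔ B₀⁆ ≤ M) hfX
    exact le_antisymm hNle ((meets_member hS hconn h2 hsp hA₀ hf hfM hf1).2.trans hMN)
  · right
    have hcent : ∀ A ∈ S, ∀ B ∈ S, IsRankOnePair A B → ∀ k ∈ N, k ∈ A ⊔ B → ∀ x ∈ A ⊔ B, k * x = x * k := by
      intro A hA B hB hr k hk hkX
      have hc := hcentX A hA B hB hr (fun h => hone ⟨A, hA, B, hB, hr, h⟩) k hk hkX
      have key : ∀ P ∈ S, ∀ Q ∈ S, IsRankOnePair P Q → A ⊔ B = P ⊔ Q → ∀ x ∈ P, k * x = x * k := by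
        intro P hP Q hQ hPQ he x hx
        obtain ⟨p, hp, hpX, hp1⟩ := hR P hP Q hQ hPQ
        obtain ⟨q, hq, hqX, hq1⟩ := hR Q hQ P hP (RankOnePair_symm hPQ)
        rw [sup_comm Q P, ← he] at hqX
        rw [← he] at hpX
        have hfixP : conjBy P k = P := eq_of_mem hS hP hQ hPQ (hS.conj_mem P hP k) hp (by
          rw [mem_conjBy, mul_assoc, ← hc p hpX, inv_mul_cancel_left]; exact hp) hp1
        have hw : k * x * k⁻¹ * x⁻¹ ∈ P := mul_mem (hfixP ▸ conj_mem_conjBy hx k) (inv_mem hx)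
        have hxX : x ∈ A ⊔ B := he ▸ (le_sup_left : P ≤ P ⊔ Q) hx
        -- `kxk⁻¹` and `x` act alike on the derived group
        have hy : x⁻¹ * q * x ∈ (⁅A ⊔ B, A ⊔ B⁆ : Subgroup G) := by
          have h1 : x⁻¹ * q * x = (x⁻¹ * q * x * q⁻¹) * q := by group
          rw [h1]
          refine mul_mem ?_ hqX
          have := Subgroup.commutator_mem_commutator (H₁ := A ⊔ B) (H₂ := A ⊔ B) (inv_mem hxX)
            (Subgroup.commutator_le_self _ hqX)
          rwa [commutatorElement_def, inv_inv] at this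
        have hwq : (k * x * k⁻¹ * x⁻¹) * q = q * (k * x * k⁻¹ * x⁻¹) := by
          have e1 := hc q hqX
          have e2 := hc _ hy
          have hi1 : k⁻¹ * q = q * k⁻¹ := ((Commute.inv_left (show Commute k q from e1))).eq
          have hi2 : k⁻¹ * (x⁻¹ * q * x) = (x⁻¹ * q * x) * k⁻¹ := ((Commute.inv_left (show Commute k _ from e2))).eq
          calc (k * x * k⁻¹ * x⁻¹) * q = k * x * (k⁻¹ * (x⁻¹ * q * x)) * x⁻¹ := by group
            _ = k * x * (x⁻¹ * q * x * k⁻¹) * x⁻¹ := by rw [hi2]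
            _ = (k * q) * (x * k⁻¹ * x⁻¹) := by group
            _ = (q * k) * (x * k⁻¹ * x⁻¹) := by rw [e1]
            _ = q * (k * x * k⁻¹ * x⁻¹) := by group
        have h1 := eq_one_of_commute hPQ hw hq hq1 hwq
        rwa [mul_inv_eq_one, mul_inv_eq_iff_eq_mul] at h1
      intro x hx
      have hle : A ⊔ B ≤ Subgroup.centralizer {k} := sup_le
        (fun a ha => Subgroup.mem_centralizer_iff.2 fun y hy => by
          rw [Set.mem_singleton_iff.1 hy]; exact key A hA B hB hr rfl a ha)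
        (fun a ha => Subgroup.mem_centralizer_iff.2 fun y hy => by
          rw [Set.mem_singleton_iff.1 hy]; exact key B hB A hA (RankOnePair_symm hr) (sup_comm A B) a ha)
      exact Subgroup.mem_centralizer_iff.1 (hle hx) k rfl
    have hfix := fixes_members hS hconn h2 hsp N (commutator G) hN hsep
      (fun A hA => by
        obtain ⟨D, hD, hr⟩ := h2 A hA
        obtain ⟨a, ha, haX, ha1⟩ := hR A hA D hD hr
        exact ⟨a, ha, hX' A D haX, ha1⟩)
      hNle hcent (fun A hA B hB h => absurd h (hdeg A hA B hB))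
    intro n hn
    let Q : Subgroup G := ⨆ A ∈ S, A ⊓ commutator G
    have hQn : Q.Normal := by
      refine ⟨fun m hm g => ?_⟩
      have hle : conjBy Q g ≤ Q := by
        simp only [Q, conjBy, Subgroup.map_iSup]
        refine iSup₂_le fun A hA => le_trans ?_ (le_biSup (fun A : Subgroup G => A ⊓ commutator G) (hS.conj_mem A hA g))
        rintro _ ⟨a, ha, rfl⟩
        exact ⟨⟨a, ha.1, rfl⟩, Subgroup.Normal.conj_mem inferInstance a ha.2 g⟩
      exact hle (conj_mem_conjBy hm g)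
    have hQ : Q ≤ Subgroup.centralizer {n} := iSup₂_le fun A hA a ha =>
      Subgroup.mem_centralizer_iff.2 fun y hy => by
        rw [Set.mem_singleton_iff.1 hy]; exact (hfix n hn A hA).2 a ha.1 ha.2
    obtain ⟨A, hA⟩ := hclass.1
    obtain ⟨D, hD, hr⟩ := h2 A hA
    obtain ⟨a, ha, haX, ha1⟩ := hR A hA D hD hr
    have hG'Q := (meets_member hS hconn h2 hsp hA ha
      ((le_biSup (fun A : Subgroup G => A ⊓ commutator G) hA : A ⊓ commutator G ≤ Q) ⟨ha, hX' A D haX⟩) ha1).2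
    intro x hx
    exact Subgroup.mem_centralizer_iff.1 (hQ (hG'Q hx)) n rfl

end Root

/-- Quasisimplicity of the derived group. -/
theorem quasisimple_root (hS : IsRootSubgroupSet S) (hne : ∃ A ∈ S, ∃ B ∈ S, A ≠ B)
    (hconn : IsConnectedFamily (FAdj S) S)
    (hsep : ∀ A ∈ S, ∀ C ∈ S, A ≠ C → centralizingMembers S A ≠ centralizingMembers S C)
    (h3 : IsDegenerateRootSet S → ∀ A ∈ S, 3 < ENat.card A)
    (h4 : ∀ A ∈ S, ∀ B ∈ rankOnePartners S A, IsSpecialRankOnePair A B) :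
    (∀ A ∈ S, commutator G ⊔ A = ⊤ ∧ A ⊓ commutator G ≠ ⊥) ∧ Cfsg.IsQuasisimple ↥(commutator G) ∧
    (IsNondegenerateRootSet S → commutator G = ⊤) ∧
    ((∃ A ∈ S, ∃ B ∈ rankOnePartners S A, Group.IsPerfect ↥(A ⊔ B)) → commutator G = ⊤) := by
  have h2 : ∀ A ∈ S, ∃ D ∈ S, IsRankOnePair A D := by
    intro A hA
    obtain ⟨P, hP, Q, hQ, hPQ⟩ := hne
    by_cases h : P = A
    · obtain ⟨D, hD⟩ := partner_of_reach_ne (hconn A hA Q hQ) (fun e => hPQ (h.trans e.symm))
      exact ⟨D, hD⟩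
    · obtain ⟨D, hD⟩ := partner_of_reach_ne (hconn A hA P hP) h
      exact ⟨D, hD⟩
  have hSne : S.Nonempty := ⟨_, hne.choose_spec.1⟩
  have hclass := class_of_connected hS hSne hconn
  have hsp : ∀ A ∈ S, ∀ B ∈ S, IsRankOnePair A B → SpecialAbelian A B := fun A hA B hB hr =>
    ⟨h4 A hA B ⟨hB, hr⟩, hS.commutative A hA, hS.commutative B hB⟩
  -- a member inside `G'` forces perfectness
  have htop : ∀ A ∈ S, A ≤ commutator G → commutator G = ⊤ := fun A hA hle => by
    rw [eq_top_iff, ← hS.generates]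
    refine iSup₂_le fun B hB => ?_
    obtain ⟨g, rfl⟩ := hclass.2 A hA B hB
    rintro _ ⟨a, ha, rfl⟩
    exact Subgroup.Normal.conj_mem inferInstance a (hle ha) g
  have hcase1 : (∃ E ∈ S, ∃ F ∈ S, RootCommutatorCase S E F) → commutator G = ⊤ :=
    fun ⟨E, _, F, _, hc⟩ => htop _ hc.1 (Subgroup.commutator_mono le_top le_top)
  have hlarge : ¬ (∃ E ∈ S, ∃ F ∈ S, RootCommutatorCase S E F) →
      ∀ A ∈ S, ∀ B ∈ S, IsRankOnePair A B → LargePair A B := fun hn A hA B hB hr =>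
    largePair_of_special (hsp A hA B hB hr) (h3 (fun P hP Q hQ h => hn ⟨P, hP, Q, hQ, h⟩) A hA)
  have hnd : (∃ E ∈ S, ∃ F ∈ S, RootCommutatorCase S E F) ∨
      ∀ A ∈ S, ∀ B ∈ S, IsRankOnePair A B → LargePair A B :=
    (em _).imp_right hlarge
  have hpartA : ∀ A ∈ S, A ⊓ commutator G ≠ ⊥ := by
    intro A hA h0
    rcases hnd with hc | hl
    · rw [hcase1 hc, inf_top_eq] at h0; exact hS.ne_bot A hA h0
    · obtain ⟨D, hD, hr⟩ := h2 A hA
      refine (hl A hA D hD hr).left_ne (eq_bot_iff.2 ?_)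
      rw [← h0]
      exact inf_le_inf le_rfl (Subgroup.commutator_mono le_top le_top)
  refine ⟨fun A hA => ⟨?_, hpartA A hA⟩, ?_, fun hN => ?_, ?_⟩
  · rw [eq_top_iff, ← hS.generates]
    refine iSup₂_le fun B hB => ?_
    obtain ⟨g, rfl⟩ := hclass.2 A hA B hB
    rintro _ ⟨a, ha, rfl⟩
    show g * a * g⁻¹ ∈ _
    have e : g * a * g⁻¹ = g * a * g⁻¹ * a⁻¹ * a := by group
    rw [e]
    exact mul_mem ((le_sup_left : commutator G ≤ _) (Subgroup.commutator_mem_commutator (Subgroup.mem_top g) (Subgroup.mem_top a)))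
      ((le_sup_right : A ≤ _) ha)
  · have hperf : ⁅commutator G, commutator G⁆ = commutator G := by
      rcases hnd with hc | hl
      · rw [hcase1 hc]; exact hcase1 hc
      · refine le_antisymm (Subgroup.commutator_le_self _) ?_
        obtain ⟨A, hA⟩ := hSne
        obtain ⟨D, hD, hr⟩ := h2 A hA
        obtain ⟨a, ⟨ha, haX⟩, ha1⟩ := (Subgroup.bot_or_exists_ne_one _).resolve_left (hl A hA D hD hr).left_ne
        refine (meets_member hS hconn h2 hsp hA ha ?_ ha1).2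
        rw [← (hl A hA D hD hr).perfect] at haX
        exact Subgroup.commutator_mono (Subgroup.commutator_mono le_top le_top)
          (Subgroup.commutator_mono le_top le_top) haX
    have hP : Group.IsPerfect ↥(commutator G) := by
      refine ⟨?_⟩
      apply Subgroup.map_injective (commutator G).subtype_injective
      rw [Subgroup.map_subtype_commutator, ← MonoidHom.range_eq_map, Subgroup.range_subtype, hperf]
    refine ⟨hP, ?_⟩
    have hdich : ∀ N : Subgroup ↥(commutator G), N.Normal → N = ⊤ ∨ N ≤ Subgroup.center _ := by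
      intro N hN
      have hle : N.map (commutator G).subtype ≤ commutator G := by rintro _ ⟨n, -, rfl⟩; exact n.2
      have hn : ∀ x ∈ commutator G, ∀ n ∈ N.map (commutator G).subtype,
          x * n * x⁻¹ ∈ N.map (commutator G).subtype := by
        rintro x hx _ ⟨n, hn, rfl⟩
        exact ⟨_, hN.conj_mem n hn ⟨x, hx⟩, rfl⟩
      have hd : N.map (commutator G).subtype = commutator G ∨
          ∀ n ∈ N.map (commutator G).subtype, ∀ x ∈ commutator G, n * x = x * n := by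
        rcases em (∃ E ∈ S, ∃ F ∈ S, RootCommutatorCase S E F) with hc | hc
        · have : (N.map (commutator G).subtype).Normal :=
            ⟨fun n hn' g => hn g (by rw [hcase1 hc]; exact Subgroup.mem_top g) n hn'⟩
          rcases normal_dichotomy_root hS hconn h2 hsp hnd hclass hsep (M := N.map (commutator G).subtype) with h | h
          · exact Or.inl (le_antisymm hle h)
          · exact Or.inr fun n hn' x _ => (Subgroup.mem_center_iff.1 (h hn') x).symm
        · exact normal_dichotomy_derived hS hconn h2 hsp (hlarge hc)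
            (fun P hP Q hQ h => hc ⟨P, hP, Q, hQ, h⟩) hclass hsep hle hn
      rcases hd with h | h
      · left
        apply Subgroup.map_injective (commutator G).subtype_injective
        rw [h, ← MonoidHom.range_eq_map, Subgroup.range_subtype]
      · right
        exact fun n hn => Subgroup.mem_center_iff.2 fun x => Subtype.ext (h n ⟨n, hn, rfl⟩ x x.2).symm
    have hne1 : Subgroup.center ↥(commutator G) ≠ ⊤ := by
      intro h
      obtain ⟨A, hA⟩ := hSne
      obtain ⟨a, ⟨-, ha⟩, ha1⟩ := (Subgroup.bot_or_exists_ne_one _).resolve_left (hpartA A hA)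
      apply ha1
      have h1 : (⟨a, ha⟩ : ↥(commutator G)) ∈ (⁅(⊤ : Subgroup ↥(commutator G)), (⊤ : Subgroup ↥(commutator G))⁆ :
          Subgroup ↥(commutator G)) := by
        show _ ∈ commutator ↥(commutator G)
        rw [hP.commutator_eq_top]; exact Subgroup.mem_top _
      have h0 : (⁅(⊤ : Subgroup ↥(commutator G)), (⊤ : Subgroup ↥(commutator G))⁆ :
          Subgroup ↥(commutator G)) = ⊥ := by
        rw [commutator_eq_bot_iff_comm]
        intro x _ y _
        exact Subgroup.mem_center_iff.1 (h ▸ Subgroup.mem_top y) x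
      rw [h0, Subgroup.mem_bot] at h1
      exact congrArg Subtype.val h1
    have : Nontrivial (↥(commutator G) ⧸ Subgroup.center ↥(commutator G)) :=
      QuotientGroup.nontrivial_iff.mpr hne1
    refine ⟨fun N hN => ?_⟩
    have hsurj := QuotientGroup.mk'_surjective (Subgroup.center ↥(commutator G))
    rcases hdich (N.comap (QuotientGroup.mk' (Subgroup.center ↥(commutator G)))) (hN.comap _) with h | h
    · right
      rw [← Subgroup.map_comap_eq_self_of_surjective hsurj N, h, ← MonoidHom.range_eq_map,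
        MonoidHom.range_eq_top.2 hsurj]
    · left
      rw [eq_bot_iff]
      intro x hx
      obtain ⟨y, rfl⟩ := hsurj x
      exact Subgroup.mem_bot.2 ((QuotientGroup.eq_one_iff y).2 (h hx))
  · obtain ⟨-, -, E, hE, F, hF, hc⟩ := hN
    exact hcase1 ⟨E, hE, F, hF, hc⟩
  · rintro ⟨A, hA, B, ⟨hB, -⟩, hperf⟩
    refine htop A hA fun a ha => ?_
    have h1 : (⟨a, (le_sup_left : A ≤ A ⊔ B) ha⟩ : ↥(A ⊔ B)) ∈ commutator ↥(A ⊔ B) := by
      rw [hperf.commutator_eq_top]; exact Subgroup.mem_top _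
    have h2' : a ∈ ⁅A ⊔ B, A ⊔ B⁆ := by
      rw [← Subgroup.map_subtype_commutator]; exact ⟨_, h1, rfl⟩
    exact Subgroup.commutator_mono le_top le_top h2'

end CfsgLib.RootSubgroups
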