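import Cfsg.Agent.RootSubgroups.RankOne

/-! Sets of abstract root subgroups: the trichotomy and the elements of members. -/

set_option autoImplicit false

namespace CfsgLib.RootSubgroups

open Cfsg

variable {G : Type*} [Group G] {S : Set (Subgroup G)} {A B : Subgroup G}

lemma rankOnePair_not_commute (h : IsRankOnePair A B) : ⁅A, B⁆ ≠ ⊥ := by
  intro hc
  obtain ⟨a, ha, ha1⟩ := exists_ne_one_left h
  obtain ⟨b, hb, hb1⟩ := exists_ne_one_right h
  exact ha1 (eq_one_of_commute h ha hb hb1 (commutator_eq_bot_iff_comm.mp hc a ha b hb))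

/-- A commutator of non-identity elements of a rank one pair does not fix either subgroup. -/
lemma commutator_not_fix_right (h : IsRankOnePair A B) {a b : G} (ha : a ∈ A) (ha1 : a ≠ 1)
    (hb : b ∈ B) (hb1 : b ≠ 1) : conjBy B (a * b * a⁻¹ * b⁻¹) ≠ B := by
  intro hfix
  rw [← conjBy_conjBy, conjBy_of_mem (inv_mem hb)] at hfix
  have h1 := congrArg (fun C => conjBy C a⁻¹) hfix
  simp only [conjBy_conjBy] at h1
  have hne : conjBy B a⁻¹ ≠ B := fun he =>
    ha1 (inv_eq_one.mp (eq_one_of_fix h (inv_mem ha) he))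
  refine hb1 (eq_one_of_fix_unip h (right_mem h) (unip_conj_mem (right_mem h)
    ((le_sup_left : A ≤ A ⊔ B) (inv_mem ha))) hne.symm hb ?_)
  rw [conjBy_conjBy]
  simpa [mul_assoc] using h1

lemma commutator_not_fix_left (h : IsRankOnePair A B) {a b : G} (ha : a ∈ A) (ha1 : a ≠ 1)
    (hb : b ∈ B) (hb1 : b ≠ 1) : conjBy A (a * b * a⁻¹ * b⁻¹) ≠ A := by
  intro hfix
  refine commutator_not_fix_right (RankOnePair_symm h) hb hb1 ha ha1 ?_
  have := conjBy_inv_eq_self hfix
  simpa [mul_assoc] using this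

lemma commCase_left_fix (hc : RootCommutatorCase S A B) {a b : G} (ha : a ∈ A) (hb : b ∈ B) :
    ∀ x ∈ A ⊔ B, (a * b * a⁻¹ * b⁻¹) * x = x * (a * b * a⁻¹ * b⁻¹) :=
  hc.2.1 _ (Subgroup.commutator_mem_commutator ha hb)

lemma commCase_not_rankOne (hc : RootCommutatorCase S A B) : ¬ IsRankOnePair A B := by
  intro h
  obtain ⟨a, ha, ha1⟩ := exists_ne_one_left h
  obtain ⟨b, hb, hb1⟩ := exists_ne_one_right h
  exact commutator_not_fix_right h ha ha1 hb hb1 (conjBy_eq_of_commute fun x hx =>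
    commCase_left_fix hc ha hb x ((le_sup_right : B ≤ A ⊔ B) hx))

lemma commCase_symm (hc : RootCommutatorCase S A B) : RootCommutatorCase S B A := by
  obtain ⟨h1, h2, h3, h4⟩ := hc
  have key : ∀ (P Q : Subgroup G), ∀ q : G,
      Subgroup.closure ((fun p : G => q * p * q⁻¹ * p⁻¹) '' (P : Set G)) =
        Subgroup.closure ((fun p : G => p * q * p⁻¹ * q⁻¹) '' (P : Set G)) := by
    intro P _ q
    rw [← Subgroup.closure_inv]
    congr 1
    ext x
    simp only [Set.mem_inv, Set.mem_image, SetLike.mem_coe]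
    constructor
    · rintro ⟨p, hp, hpx⟩
      exact ⟨p, hp, by rw [← inv_inj, ← hpx]; group⟩
    · rintro ⟨p, hp, rfl⟩
      exact ⟨p, hp, by group⟩
  refine ⟨Subgroup.commutator_comm A B ▸ h1, ?_, ?_, ?_⟩
  · rw [Subgroup.commutator_comm B A, sup_comm B A]; exact h2
  · intro b hb hb1
    rw [key A B b, Subgroup.commutator_comm B A]; exact h4 b hb hb1
  · intro a ha ha1
    rw [← key B A a, Subgroup.commutator_comm B A]; exact h3 a ha ha1

/-- In the commutator case no non-identity element of `A` centralises `B`. -/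
lemma commCase_centralizes (hS : IsRootSubgroupSet S) (hc : RootCommutatorCase S A B) {a : G}
    (ha : a ∈ A) (h : ∀ b ∈ B, a * b = b * a) : a = 1 := by
  by_contra ha1
  apply hS.ne_bot _ hc.1
  rw [← hc.2.2.1 a ha ha1, eq_bot_iff, Subgroup.closure_le]
  rintro _ ⟨b, hb, rfl⟩
  rw [SetLike.mem_coe, Subgroup.mem_bot]
  simp [h b hb]

lemma trichotomy (hS : IsRootSubgroupSet S) (hA : A ∈ S) (hB : B ∈ S) :
    (∀ a ∈ A, ∀ b ∈ B, a * b = b * a) ∨ IsRankOnePair A B ∨ RootCommutatorCase S A B :=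
  (hS.pair A hA B hB).imp_left commutator_eq_bot_iff_comm.mp

lemma commute_self (hS : IsRootSubgroupSet S) (hA : A ∈ S) {x y : G} (hx : x ∈ A) (hy : y ∈ A) :
    x * y = y * x := mul_comm_of_mem (hS.commutative A hA) hx hy

lemma exists_ne_one (hS : IsRootSubgroupSet S) (hA : A ∈ S) : ∃ a ∈ A, a ≠ 1 := by
  by_contra hc
  push Not at hc
  exact hS.ne_bot A hA ((Subgroup.eq_bot_iff_forall A).mpr hc)

/-- If some non-identity element of `A` commutes with all of `B`, then `A` and `B` commute. -/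
lemma commute_of_element (hS : IsRootSubgroupSet S) (hA : A ∈ S) (hB : B ∈ S) {a : G} (ha : a ∈ A)
    (ha1 : a ≠ 1) (h : ∀ b ∈ B, a * b = b * a) : ∀ x ∈ A, ∀ b ∈ B, x * b = b * x := by
  rcases trichotomy hS hA hB with hc | hr | hc
  · exact hc
  · exact absurd (eq_one_of_fix hr ha (conjBy_eq_of_commute h)) ha1
  · exact absurd (commCase_centralizes hS hc ha h) ha1

/-- `⁅A, B⁆ ∈ S` is the commutator case. -/
lemma commCase_of_mem (hS : IsRootSubgroupSet S) (hA : A ∈ S) (hB : B ∈ S) (hC : ⁅A, B⁆ ∈ S) :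
    RootCommutatorCase S A B := by
  rcases hS.pair A hA B hB with hc | hr | hc
  · exact absurd hc (hS.ne_bot _ hC)
  · exfalso
    obtain ⟨a, ha, ha1⟩ := exists_ne_one_left hr
    obtain ⟨b, hb, hb1⟩ := exists_ne_one_right hr
    have hk : a * b * a⁻¹ * b⁻¹ ∈ ⁅A, B⁆ := Subgroup.commutator_mem_commutator ha hb
    have hnorm : ∀ x ∈ A ⊔ B, conjBy ⁅A, B⁆ x = ⁅A, B⁆ := fun x hx =>
      conjBy_eq_self_iff.mpr (sup_le (Subgroup.normalizer_commutator_ge_left A B)
        (Subgroup.normalizer_commutator_ge_right A B) hx)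
    rcases trichotomy hS hC hA with h1 | h1 | h1
    · exact commutator_not_fix_left hr ha ha1 hb hb1 (conjBy_eq_of_commute (h1 _ hk))
    · obtain ⟨x, hx, hx1⟩ := exists_ne_one_right h1
      exact hx1 (eq_one_of_fix' h1 hx (hnorm x ((le_sup_left : A ≤ A ⊔ B) hx)))
    · refine commutator_not_fix_left hr ha ha1 hb hb1
        (fix_of_commutator_commute hr ?_ fun x hx x' hx' => ?_)
      · exact mul_mem (mul_mem (mul_mem ((le_sup_left : A ≤ A ⊔ B) ha)
          ((le_sup_right : B ≤ A ⊔ B) hb)) ((le_sup_left : A ≤ A ⊔ B) (inv_mem ha)))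
          ((le_sup_right : B ≤ A ⊔ B) (inv_mem hb))
      · exact commCase_left_fix h1 hk hx x' ((le_sup_right : A ≤ ⁅A, B⁆ ⊔ A) hx')
  · exact hc

lemma partner_of_not_isolated (hA : ¬ IsIsolatedIn (FAdj S) S A) (hAS : A ∈ S) :
    ∃ B, B ∈ S ∧ IsRankOnePair A B := by
  unfold IsIsolatedIn at hA
  push Not at hA
  obtain ⟨B, hB⟩ := hA hAS
  by_cases h : FAdj S A B
  · exact ⟨B, h.2.1, h.2.2⟩
  · exact ⟨B, (hB h).1, RankOnePair_symm (hB h).2.2⟩

/-- The partner element lemma: an element `z a`, with `z` centralising the rank one group `⟨A, B⟩`,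
lies in no member of `S` other than through `z = 1` in `A`. -/
lemma eq_of_mul_mem (hS : IsRootSubgroupSet S) (hA : A ∈ S) (hB : B ∈ S) (hr : IsRankOnePair A B)
    {z a : G} (hzA : ∀ x ∈ A, z * x = x * z) (hzB : ∀ x ∈ B, z * x = x * z) (ha : a ∈ A)
    (ha1 : a ≠ 1) {F : Subgroup G} (hF : F ∈ S) (hmem : z * a ∈ F) : F = A ∧ z = 1 := by
  have hz1 : z ∈ A → z = 1 := fun hz => eq_one_of_fix hr hz (conjBy_eq_of_commute hzB)
  have hf1 : z * a ≠ 1 := by
    intro he
    have hz : z = a⁻¹ := mul_eq_one_iff_eq_inv.mp he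
    exact ha1 (inv_eq_one.mp (by rw [← hz]; exact hz1 (hz ▸ inv_mem ha)))
  suffices hFA : F = A by
    subst hFA
    refine ⟨rfl, hz1 ?_⟩
    simpa using mul_mem hmem (inv_mem ha)
  have hfA : ∀ x ∈ A, z * a * x = x * (z * a) := fun x hx => by
    rw [mul_assoc, commute_self hS hA ha hx, ← mul_assoc, hzA x hx, mul_assoc]
  have hcomm := commute_of_element hS hF hA hmem hf1 hfA
  have hBzinv : conjBy B z⁻¹ = B := conjBy_inv_eq_self (conjBy_eq_of_commute hzB)
  rcases trichotomy hS hF hB with h1 | h1 | h1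
  · exfalso
    refine ha1 (eq_one_of_fix hr ha ?_)
    have : conjBy B (z * a) = B := conjBy_eq_of_commute (h1 _ hmem)
    have := congrArg (fun C => conjBy C z⁻¹) this
    simpa [conjBy_conjBy, hBzinv] using this
  · obtain ⟨b, hb, -, he⟩ := h1.cond_left _ hmem hf1
    rw [mul_inv_rev, ← conjBy_conjBy, hBzinv] at he
    have hFmem : F ∈ unipotentSubgroups A B := by
      rw [← conjBy_conjBy_inv F b, he]
      exact unip_conj_mem (unip_conj_mem (right_mem hr) ((le_sup_left : A ≤ A ⊔ B) (inv_mem ha)))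
        ((le_sup_right : B ≤ A ⊔ B) hb)
    by_contra hne
    obtain ⟨x, hx, hx1⟩ := exists_ne_one hS hF
    exact hx1 (eq_one_of_fix_unip hr hFmem (unip_left_mem A B) hne hx
      (conjBy_eq_of_commute (hcomm x hx)))
  · exfalso
    obtain ⟨b, hb, hb1⟩ := exists_ne_one_right hr
    refine commutator_not_fix_right hr ha ha1 hb hb1 (conjBy_eq_of_commute fun x hx => ?_)
    have h2 := commCase_left_fix h1 hmem hb x ((le_sup_right : B ≤ F ⊔ B) hx)
    have hb' : a * b * a⁻¹ * b⁻¹ = z⁻¹ * (z * a * b * (z * a)⁻¹ * b⁻¹) * z := by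
      have hbz : z * b⁻¹ = b⁻¹ * z := by
        rw [← inv_inj]; simp only [mul_inv_rev, inv_inv]
        have := hzB b hb
        calc b * z⁻¹ = z⁻¹ * (z * b) * z⁻¹ := by group
          _ = z⁻¹ * (b * z) * z⁻¹ := by rw [this]
          _ = z⁻¹ * b := by group
      calc a * b * a⁻¹ * b⁻¹ = z⁻¹ * (z * a * b * a⁻¹) * (b⁻¹ * z) * z⁻¹ := by group
        _ = z⁻¹ * (z * a * b * a⁻¹) * (z * b⁻¹) * z⁻¹ := by rw [hbz]
        _ = z⁻¹ * (z * a * b * a⁻¹) * (z⁻¹ * (z * (z * b⁻¹))) * z⁻¹ := by group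
        _ = z⁻¹ * (z * a * b * a⁻¹) * (z⁻¹ * (z * (b⁻¹ * z))) * z⁻¹ := by rw [hbz]
        _ = z⁻¹ * (z * a * b * a⁻¹) * (z⁻¹ * (z * b⁻¹)) := by group
        _ = z⁻¹ * (z * a * b * a⁻¹) * (z⁻¹ * (b⁻¹ * z)) := by rw [hbz]
        _ = _ := by group
    rw [hb']
    have hz' := hzB x hx
    calc z⁻¹ * (z * a * b * (z * a)⁻¹ * b⁻¹) * z * x
        = z⁻¹ * ((z * a * b * (z * a)⁻¹ * b⁻¹) * x) * z := by
          rw [mul_assoc _ z x, hz', ← mul_assoc]; group
      _ = z⁻¹ * (x * (z * a * b * (z * a)⁻¹ * b⁻¹)) * z := by rw [h2]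
      _ = z⁻¹ * (x * z) * z⁻¹ * (z * a * b * (z * a)⁻¹ * b⁻¹) * z := by group
      _ = z⁻¹ * (z * x) * z⁻¹ * (z * a * b * (z * a)⁻¹ * b⁻¹) * z := by rw [hz']
      _ = _ := by group

lemma eq_of_mem (hS : IsRootSubgroupSet S) (hA : A ∈ S) (hB : B ∈ S) (hr : IsRankOnePair A B)
    {F : Subgroup G} (hF : F ∈ S) {a : G} (ha : a ∈ A) (haF : a ∈ F) (ha1 : a ≠ 1) : F = A :=
  (eq_of_mul_mem hS hA hB hr (z := 1) (by simp) (by simp) ha ha1 hF (by simpa using haF)).1

lemma eq_of_mem' (hS : IsRootSubgroupSet S) (hA : A ∈ S) (hB : B ∈ S) (hr : IsRankOnePair A B)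
    {F : Subgroup G} (hF : F ∈ S) (hle : F ≤ A) : F = A := by
  obtain ⟨a, ha, ha1⟩ := exists_ne_one hS hF
  exact eq_of_mem hS hA hB hr hF (hle ha) ha ha1

/-- A member with a rank one partner inside the rank one group `⟨C, D⟩` is one of its unipotent
subgroups. -/
lemma mem_unip_of_le (hS : IsRootSubgroupSet S) {C D E E' : Subgroup G} (hC : C ∈ S) (hD : D ∈ S)
    (hs : IsRankOnePair C D) (hE : E ∈ S) (hr : IsRankOnePair E E') (hEle : E ≤ C ⊔ D)
    (hE'le : E' ≤ C ⊔ D) : E ∈ unipotentSubgroups C D := by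
  obtain ⟨e, he, he1⟩ := exists_ne_one hS hE
  rcases trichotomy hS hE hC with hc | hc | hc
  · obtain ⟨c, hcm, hz⟩ := exists_central_factor hs (hS.commutative C hC) (hEle he) (hc e he)
    by_cases hc1 : c = 1
    · refine absurd (eq_one_of_fix hr he (conjBy_eq_of_commute fun x hx => ?_)) he1
      simpa [hc1] using hz x (hE'le hx)
    · rw [(eq_of_mul_mem hS hC hD hs (fun x hx => hz x ((le_sup_left : C ≤ C ⊔ D) hx))
        (fun x hx => hz x ((le_sup_right : D ≤ C ⊔ D) hx)) hcm hc1 hE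
        (by rwa [inv_mul_cancel_right])).1]
      exact unip_left_mem C D
  · obtain ⟨c, hcm, -, heq⟩ := hc.cond_left e he he1
    rw [← conjBy_conjBy_inv E c, heq]
    exact unip_conj_mem (unip_conj_mem (unip_left_mem C D) (inv_mem (hEle he)))
      ((le_sup_left : C ≤ C ⊔ D) hcm)
  · exfalso
    have hle : ⁅E, C⁆ ≤ C := by
      rw [Subgroup.commutator_le]
      intro x hx c hcm
      rw [commutatorElement_def]
      refine mul_mem ?_ (inv_mem hcm)
      by_cases hc1 : c = 1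
      · simp [hc1]
      by_contra hout
      have hne : conjBy C x ≠ C := fun h0 => hout (by
        have := conj_mem_conjBy hcm x
        rwa [h0] at this)
      have hmem : x * c * x⁻¹ ∈ conjBy C x := conj_mem_conjBy hcm x
      refine hc1 ?_
      have := eq_one_of_fix_unip hs (unip_conj_mem (unip_left_mem C D) (hEle hx))
        (unip_left_mem C D) hne hmem ?_
      · simpa [mul_assoc] using congrArg (fun q => x⁻¹ * q * x) this
      · rw [← inv_mul_cancel_right (x * c * x⁻¹) c, ← conjBy_conjBy, conjBy_of_mem hcm]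
        exact conjBy_eq_of_commute fun y hy =>
          commCase_left_fix hc hx hcm y ((le_sup_right : C ≤ E ⊔ C) hy)
    have hEq := eq_of_mem' hS hC hD hs hc.1 hle
    apply hS.ne_bot _ hc.1
    rw [commutator_eq_bot_iff_comm]
    intro x hx c hcm
    refine (hc.2.1 c ?_ x ((le_sup_left : E ≤ E ⊔ C) hx)).symm
    rw [hEq]; exact hcm

end CfsgLib.RootSubgroups
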