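import Cfsg.Agent.RootSubgroups.Basic

/-! The subgroup of `SL₂(R)`, `R` a commutative `k`-algebra, generated by the upper unitriangular
matrices with entries in `k` and the lower ones with entries in `k • lam`. If `k` is infinite and
`lam` is algebraic, it contains every upper unitriangular matrix with entry in `k[lam]`. -/

set_option autoImplicit false

namespace CfsgLib.RootSubgroups.Gen2

open Cfsg Matrix Polynomial
open scoped MatrixGroups

variable {R : Type*} [CommRing R]

/-- The upper elementary matrix. -/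
def up (x : R) : SL(2, R) := ⟨!![1, x; 0, 1], by simp [det_fin_two_of]⟩

/-- The lower elementary matrix. -/
def lo (x : R) : SL(2, R) := ⟨!![1, 0; x, 1], by simp [det_fin_two_of]⟩

@[simp] lemma coe_up (x : R) : (up x : Matrix (Fin 2) (Fin 2) R) = !![1, x; 0, 1] := rfl
@[simp] lemma coe_lo (x : R) : (lo x : Matrix (Fin 2) (Fin 2) R) = !![1, 0; x, 1] := rfl

lemma ext2 {g h : SL(2, R)}
    (h00 : (g : Matrix (Fin 2) (Fin 2) R) 0 0 = (h : Matrix (Fin 2) (Fin 2) R) 0 0)
    (h01 : (g : Matrix (Fin 2) (Fin 2) R) 0 1 = (h : Matrix (Fin 2) (Fin 2) R) 0 1)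
    (h10 : (g : Matrix (Fin 2) (Fin 2) R) 1 0 = (h : Matrix (Fin 2) (Fin 2) R) 1 0)
    (h11 : (g : Matrix (Fin 2) (Fin 2) R) 1 1 = (h : Matrix (Fin 2) (Fin 2) R) 1 1) : g = h := by
  apply Subtype.ext
  ext i j
  fin_cases i <;> fin_cases j <;> assumption

lemma det_eq (g : SL(2, R)) :
    (g : Matrix (Fin 2) (Fin 2) R) 0 0 * (g : Matrix (Fin 2) (Fin 2) R) 1 1 -
      (g : Matrix (Fin 2) (Fin 2) R) 0 1 * (g : Matrix (Fin 2) (Fin 2) R) 1 0 = 1 := by
  rw [← det_fin_two]; exact g.2

lemma up_mul (x y : R) : up x * up y = up (x + y) := by apply ext2 <;> simp [add_comm]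
lemma lo_mul (x y : R) : lo x * lo y = lo (x + y) := by apply ext2 <;> simp
lemma up_zero : up (0 : R) = 1 := by apply ext2 <;> simp
lemma lo_zero : lo (0 : R) = 1 := by apply ext2 <;> simp
lemma up_inv (x : R) : (up x)⁻¹ = up (-x) := by
  rw [inv_eq_iff_mul_eq_one, up_mul, add_neg_cancel, up_zero]
lemma lo_inv (x : R) : (lo x)⁻¹ = lo (-x) := by
  rw [inv_eq_iff_mul_eq_one, lo_mul, add_neg_cancel, lo_zero]

lemma up_injective : Function.Injective (up : R → SL(2, R)) := fun x y h => by
  simpa using congrArg (fun g : SL(2, R) => (g : Matrix (Fin 2) (Fin 2) R) 0 1) h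

lemma lo_injective : Function.Injective (lo : R → SL(2, R)) := fun x y h => by
  simpa using congrArg (fun g : SL(2, R) => (g : Matrix (Fin 2) (Fin 2) R) 1 0) h

lemma tri_conj_up {g : SL(2, R)} (hg : (g : Matrix (Fin 2) (Fin 2) R) 1 0 = 0) (r : R) :
    g * up r * g⁻¹ =
      up ((g : Matrix (Fin 2) (Fin 2) R) 0 0 * (g : Matrix (Fin 2) (Fin 2) R) 0 0 * r) := by
  have hd := det_eq g
  rw [hg, mul_zero, sub_zero] at hd
  rw [mul_inv_eq_iff_eq_mul]
  apply ext2 <;> simp [Matrix.mul_apply, Fin.sum_univ_two, hg]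
  linear_combination (-((g : Matrix (Fin 2) (Fin 2) R) 0 0 * r)) * hd

variable (k : Type*) [Field k] [Algebra k R]

/-- Generated by `up (k)` and `lo (k • lam)`. -/
def genGroup (lam : R) : Subgroup SL(2, R) :=
  Subgroup.closure ({g | ∃ c : k, g = up (algebraMap k R c)} ∪
    {g | ∃ c : k, g = lo (algebraMap k R c * lam)})

variable {k}

lemma up_const_mem (lam : R) (c : k) : up (algebraMap k R c) ∈ genGroup k lam :=
  Subgroup.subset_closure (Or.inl ⟨c, rfl⟩)

lemma lo_lam_mem (lam : R) (c : k) : lo (algebraMap k R c * lam) ∈ genGroup k lam :=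
  Subgroup.subset_closure (Or.inr ⟨c, rfl⟩)

/-- The diagonal matrix attached to a scalar. -/
def dg (c : kˣ) : SL(2, R) :=
  ⟨!![algebraMap k R c, 0; 0, algebraMap k R ((c⁻¹ : kˣ) : k)], by
    simp [det_fin_two_of, ← map_mul]⟩

@[simp] lemma coe_dg (c : kˣ) : ((dg c : SL(2, R)) : Matrix (Fin 2) (Fin 2) R) =
    !![algebraMap k R c, 0; 0, algebraMap k R ((c⁻¹ : kˣ) : k)] := rfl

lemma dg_conj_up (c : kˣ) (r : R) : dg c * up r * (dg c)⁻¹ = up ((((c : k)) ^ 2) • r) := by
  rw [tri_conj_up (by simp) r, Algebra.smul_def, map_pow]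
  congr 1
  simp
  ring

lemma dg_conj_lo (c : kˣ) (r : R) :
    dg c * lo r * (dg c)⁻¹ = lo ((((c⁻¹ : kˣ) : k) ^ 2) • r) := by
  have hc : algebraMap k R c * algebraMap k R ((c⁻¹ : kˣ) : k) = 1 := by simp [← map_mul]
  rw [mul_inv_eq_iff_eq_mul, Algebra.smul_def, map_pow]
  apply ext2 <;> simp [Matrix.mul_apply, Fin.sum_univ_two]
  rw [Units.val_inv_eq_inv_val] at hc
  linear_combination (-(algebraMap k R ((c : k))⁻¹ * r)) * hc

lemma dg_conj_mem {lam : R} (c : kˣ) {g : SL(2, R)} (hg : g ∈ genGroup k lam) :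
    dg c * g * (dg c)⁻¹ ∈ genGroup k lam := by
  suffices h : genGroup k lam ≤ (genGroup k lam).comap (MulAut.conj (dg c : SL(2, R))).toMonoidHom by
    simpa using h hg
  unfold genGroup
  rw [Subgroup.closure_le]
  rintro g (⟨a, rfl⟩ | ⟨a, rfl⟩) <;>
    simp only [Subgroup.coe_comap, Set.mem_preimage, MulEquiv.coe_toMonoidHom, MulAut.conj_apply,
      SetLike.mem_coe]
  · rw [dg_conj_up, Algebra.smul_def, ← map_mul]
    exact up_const_mem lam _
  · rw [dg_conj_lo, Algebra.smul_def, ← mul_assoc, ← map_mul]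
    exact lo_lam_mem lam _

lemma two_ne_zero_of_char (hk2 : ringChar k ≠ 2) : (2 : k) ≠ 0 := Ring.two_ne_zero hk2

lemma smul_mem_of_sq {A : AddSubgroup R} (hk2 : (2 : k) ≠ 0)
    (h : ∀ c : kˣ, ∀ r ∈ A, ((c : k) ^ 2) • r ∈ A) (c : k) {r : R} (hr : r ∈ A) : c • r ∈ A := by
  have key : ∀ a : k, (a ^ 2) • r ∈ A := fun a => by
    rcases eq_or_ne a 0 with rfl | ha
    · simp
    · exact h (Units.mk0 a ha) r hr
  have := A.sub_mem (key ((c + 1) / 2)) (key ((c - 1) / 2))
  rw [← sub_smul] at this
  convert this using 2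
  field_simp
  ring

/-- The entries of the upper unitriangular elements of the generated group. -/
def upSet (hk2 : (2 : k) ≠ 0) (lam : R) : Submodule k R where
  carrier := {r | up r ∈ genGroup k lam}
  zero_mem' := by simp [up_zero]
  add_mem' := fun ha hb => by
    simp only [Set.mem_ofPred_eq] at *; rw [← up_mul]; exact mul_mem ha hb
  smul_mem' := fun c r hr => by
    let A : AddSubgroup R :=
      { carrier := {r | up r ∈ genGroup k lam}
        zero_mem' := by simp [up_zero]
        add_mem' := fun ha hb => by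
          simp only [Set.mem_ofPred_eq] at *; rw [← up_mul]; exact mul_mem ha hb
        neg_mem' := fun ha => by
          simp only [Set.mem_ofPred_eq] at *; rw [← up_inv]; exact inv_mem ha }
    exact smul_mem_of_sq (A := A) hk2 (fun c r hr => by
      show up ((((c : k)) ^ 2) • r) ∈ genGroup k lam
      rw [← dg_conj_up (R := R)]; exact dg_conj_mem c hr) c hr

lemma mem_upSet {hk2 : (2 : k) ≠ 0} {lam r : R} : r ∈ upSet hk2 lam ↔ up r ∈ genGroup k lam :=
  Iff.rfl

lemma one_mem_upSet (hk2 : (2 : k) ≠ 0) (lam : R) : (1 : R) ∈ upSet hk2 lam := by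
  rw [mem_upSet]
  simpa using up_const_mem (k := k) lam 1

/-! ### Words with prescribed first column -/

/-- The first column `(A(lam), B(lam))` occurs in the generated group. -/
def Reach (lam : R) (A B : k[X]) : Prop :=
  ∃ g ∈ genGroup k lam, (g : Matrix (Fin 2) (Fin 2) R) 0 0 = aeval lam A ∧
    (g : Matrix (Fin 2) (Fin 2) R) 1 0 = aeval lam B

variable {lam : R}

lemma reach_one : Reach (k := k) lam 1 0 := ⟨1, one_mem _, by simp, by simp⟩

lemma reach_up {A B : k[X]} (a : k) (h : Reach lam (A - C a * B) B) : Reach lam A B := by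
  obtain ⟨g, hg, h0, h1⟩ := h
  exact ⟨up (algebraMap k R a) * g, mul_mem (up_const_mem lam a) hg,
    by simp [Matrix.mul_apply, Fin.sum_univ_two, h0, h1],
    by simp [Matrix.mul_apply, Fin.sum_univ_two, h1]⟩

lemma reach_lo {A B : k[X]} (b : k) (h : Reach lam A (B - C b * X * A)) : Reach lam A B := by
  obtain ⟨g, hg, h0, h1⟩ := h
  exact ⟨lo (algebraMap k R b * lam) * g, mul_mem (lo_lam_mem lam b) hg,
    by simp [Matrix.mul_apply, Fin.sum_univ_two, h0],
    by simp [Matrix.mul_apply, Fin.sum_univ_two, h0, h1]⟩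

/-- No short combination `x P + y D` (degrees of `x`, `y` below `a`, `b`) has degree below `c`. -/
def NoShort (a b c : ℕ) (P D : k[X]) : Prop :=
  ∀ x y : k[X], x.degree < ((a : ℕ) : WithBot ℕ) → y.degree < ((b : ℕ) : WithBot ℕ) → (x * P + y * D).degree < ((c : ℕ) : WithBot ℕ) →
    x = 0 ∧ y = 0

/-- The conditions making the Euclidean algorithm of `(D, P)` a word. -/
def GoodPair (N : ℕ) (P D : k[X]) : Prop :=
  (∀ s, s + 1 ≤ N → NoShort s (s + 1) (N - 1 - s) P D) ∧
    ∀ s, 1 ≤ s → s + 1 ≤ N → NoShort s s (N - s) P (X * D)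

lemma degree_lt_of_coeff {f : k[X]} {n : ℕ} (h : f.degree < ((n + 1 : ℕ) : WithBot ℕ)) (hn : f.coeff n = 0) :
    f.degree < ((n : ℕ) : WithBot ℕ) := by
  rw [degree_lt_iff_coeff_zero] at h ⊢
  intro m hm
  rcases eq_or_lt_of_le hm with rfl | hm
  · exact hn
  · exact h m hm

lemma coeff_sub_step {A B : k[X]} {n : ℕ} (hA : A.degree < ((n + 1 : ℕ) : WithBot ℕ))
    (hB : B.degree < ((n + 1 : ℕ) : WithBot ℕ)) (hBn : B.coeff n ≠ 0) :
    (A - C (A.coeff n / B.coeff n) * B).degree < ((n : ℕ) : WithBot ℕ) := by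
  refine degree_lt_of_coeff ?_ (by simp [hBn])
  rw [degree_lt_iff_coeff_zero] at hA hB ⊢
  intro m hm
  simp [hA m hm, hB m hm]

lemma degree_lt_add {f g : k[X]} {n : ℕ} (hf : f.degree < ((n : ℕ) : WithBot ℕ)) (hg : g.degree < ((n : ℕ) : WithBot ℕ)) :
    (f + g).degree < ((n : ℕ) : WithBot ℕ) :=
  lt_of_le_of_lt (degree_add_le f g) (max_lt hf hg)

lemma degree_sub_lt' {f g : k[X]} {n : ℕ} (hf : f.degree < ((n : ℕ) : WithBot ℕ)) (hg : g.degree < ((n : ℕ) : WithBot ℕ)) :
    (f - g).degree < ((n : ℕ) : WithBot ℕ) :=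
  lt_of_le_of_lt (degree_sub_le f g) (max_lt hf hg)

lemma degree_C_mul_lt {f : k[X]} {n : ℕ} (a : k) (hf : f.degree < ((n : ℕ) : WithBot ℕ)) :
    (C a * f).degree < ((n : ℕ) : WithBot ℕ) := by
  rw [degree_lt_iff_coeff_zero] at hf ⊢
  intro m hm
  simp [hf m hm]

lemma degree_X_mul_lt {f : k[X]} {n : ℕ} (hf : f.degree < ((n : ℕ) : WithBot ℕ)) :
    (X * f).degree < ((n + 1 : ℕ) : WithBot ℕ) := by
  rw [degree_lt_iff_coeff_zero] at hf ⊢
  intro m hm
  obtain ⟨j, rfl⟩ : ∃ j, m = j + 1 := ⟨m - 1, by omega⟩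
  rw [coeff_X_mul]
  exact hf j (by omega)

/-- The invariant after `s` double steps; `r = N - s` steps remain. -/
theorem reach_of_good {N : ℕ} {P D : k[X]} (hP0 : P.coeff 0 = 0) (hD0 : D.coeff 0 = 1)
    (hgood : GoodPair N P D) :
    ∀ r s : ℕ, r + s = N → 1 ≤ r → ∀ xA yA xB yB : k[X],
      xA.degree < ((s : ℕ) : WithBot ℕ) → yA.degree < ((s + 1 : ℕ) : WithBot ℕ) → yA.coeff 0 = 1 →
      xB.degree < ((s + 1 : ℕ) : WithBot ℕ) → yB.degree < ((s : ℕ) : WithBot ℕ) → xB.coeff 0 = 1 →
      (xA * P + yA * D).degree < ((r : ℕ) : WithBot ℕ) → (xB * P + yB * (X * D)).degree < ((r + 1 : ℕ) : WithBot ℕ) →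
      Reach lam (xA * P + yA * D) (xB * P + yB * (X * D)) := by
  intro r
  induction r using Nat.strong_induction_on with
  | _ r ih =>
    intro s hrs hr xA yA xB yB hxA hyA hyA0 hxB hyB hxB0 hA hB
    set A := xA * P + yA * D with hAdef
    set B := xB * P + yB * (X * D) with hBdef
    -- the top coefficient of A does not vanish
    have hAn : A.coeff (r - 1) ≠ 0 := by
      intro h0
      have h := (hgood.1 s (by omega)) xA yA hxA hyA
        (show A.degree < ((N - 1 - s : ℕ) : WithBot ℕ) by
          rw [show N - 1 - s = r - 1 by omega]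
          exact degree_lt_of_coeff (by rwa [Nat.sub_add_cancel hr]) h0)
      simp [h.2] at hyA0
    refine reach_lo (B.coeff r / A.coeff (r - 1)) ?_
    set b := B.coeff r / A.coeff (r - 1) with hb
    set B' := B - C b * X * A with hB'def
    have hB' : B'.degree < ((r : ℕ) : WithBot ℕ) := by
      have hXA : (X * A).coeff r = A.coeff (r - 1) := by
        conv_lhs => rw [← Nat.sub_add_cancel hr]
        exact coeff_X_mul _ _
      have := coeff_sub_step (A := B) (B := X * A) hB (degree_X_mul_lt hA) (by rwa [hXA])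
      rw [hXA] at this
      rwa [hB'def, mul_assoc]
    have hBeq : B' = (xB - C b * (X * xA)) * P + (yB - C b * yA) * (X * D) := by
      rw [hB'def, hBdef, hAdef]; ring
    have hxB' : (xB - C b * (X * xA)).degree < ((s + 1 : ℕ) : WithBot ℕ) :=
      degree_sub_lt' hxB (degree_C_mul_lt b (degree_X_mul_lt hxA))
    have hyB' : (yB - C b * yA).degree < ((s + 1 : ℕ) : WithBot ℕ) :=
      degree_sub_lt' (lt_of_lt_of_le hyB (by exact_mod_cast Nat.le_succ s))
        (degree_C_mul_lt b hyA)
    have hxB'0 : (xB - C b * (X * xA)).coeff 0 = 1 := by simp [hxB0]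
    rcases Nat.lt_or_ge r 2 with h1 | h2
    · -- the end of the algorithm
      obtain rfl : r = 1 := by omega
      have hA1 : A = C (A.coeff 0) :=
        eq_C_of_degree_le_zero (degree_le_zero_iff.mpr (eq_C_of_degree_le_zero (by
          rw [degree_lt_iff_coeff_zero] at hA
          exact (degree_le_iff_coeff_zero A 0).mpr fun m hm => hA m (by
            have : 0 < m := by exact_mod_cast hm
            omega))))
      have hA0 : A.coeff 0 = 1 := by rw [hAdef]; simp [mul_coeff_zero, hP0, hD0, hyA0]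
      have hB'0 : B' = 0 := by
        ext m
        rcases Nat.eq_zero_or_pos m with rfl | hm
        · rw [hBeq]; simp [mul_coeff_zero, hP0]
        · exact (degree_lt_iff_coeff_zero _ _).mp hB' m hm
      rw [hA1, hA0, map_one, hB'0]
      exact reach_one
    · have hBn : B'.coeff (r - 1) ≠ 0 := by
        intro h0
        have h := (hgood.2 (s + 1) (by omega) (by omega)) _ _ hxB' hyB'
          (show ((xB - C b * (X * xA)) * P + (yB - C b * yA) * (X * D)).degree < ((N - (s + 1) : ℕ) : WithBot ℕ) by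
            rw [show N - (s + 1) = r - 1 by omega, ← hBeq]
            exact degree_lt_of_coeff (by rwa [Nat.sub_add_cancel hr]) h0)
        simp [h.1] at hxB'0
      refine reach_up (A.coeff (r - 1) / B'.coeff (r - 1)) ?_
      set a := A.coeff (r - 1) / B'.coeff (r - 1) with ha
      have hA' : (A - C a * B').degree < ((r - 1 : ℕ) : WithBot ℕ) :=
        coeff_sub_step (by rwa [Nat.sub_add_cancel hr]) (by rwa [Nat.sub_add_cancel hr]) hBn
      have hAeq : A - C a * B' = (xA - C a * (xB - C b * (X * xA))) * P +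
          (yA - C a * (X * (yB - C b * yA))) * D := by
        rw [hBeq, hAdef]; ring
      rw [hAeq, hBeq]
      refine ih (r - 1) (by omega) (s + 1) (by omega) (by omega) _ _ _ _ ?_ ?_ ?_ ?_ hyB' hxB'0
        (hAeq ▸ hA') ?_
      · exact degree_sub_lt' (lt_of_lt_of_le hxA (by exact_mod_cast Nat.le_succ s))
          (degree_C_mul_lt a hxB')
      · exact degree_sub_lt' (lt_of_lt_of_le hyA (by exact_mod_cast Nat.le_succ _))
          (degree_C_mul_lt a (degree_X_mul_lt hyB'))
      · simp [hyA0]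
      · exact lt_of_lt_of_le hxB' (by exact_mod_cast Nat.le_succ _)
      · rw [← hBeq, Nat.sub_add_cancel hr]; exact hB'

/-! ### Generic denominators -/

/-- `1 + v₀ X + ⋯ + v_{n-1} X^n`. -/
noncomputable def den {n : ℕ} {S : Type*} [CommRing S] (v : Fin n → S) : S[X] :=
  1 + ∑ i : Fin n, C (v i) * X ^ ((i : ℕ) + 1)

lemma den_coeff_zero {n : ℕ} (v : Fin n → k) : (den v).coeff 0 = 1 := by
  simp [den, finsetSum_coeff, coeff_X_pow]

lemma den_natDegree_lt {n : ℕ} (v : Fin n → k) : (den v).degree < ((n + 1 : ℕ) : WithBot ℕ) := by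
  rw [degree_lt_iff_coeff_zero]
  intro m hm
  simp only [den, coeff_add, coeff_one, finsetSum_coeff, coeff_C_mul_X_pow]
  rw [if_neg (by omega), zero_add]
  exact Finset.sum_eq_zero fun i _ => if_neg (by omega)

/-- The spanning family of the short combinations. -/
noncomputable def shortBasis {S : Type*} [CommRing S] (a b : ℕ) (P D : S[X]) :
    Fin a ⊕ Fin b → S[X] :=
  Sum.elim (fun i => X ^ (i : ℕ) * P) (fun i => X ^ (i : ℕ) * D)

/-- Coefficients in the window of the short combinations. -/
noncomputable def shortMatrix {S : Type*} [CommRing S] (a b c L : ℕ) (P D : S[X]) :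
    Matrix (Fin L) (Fin a ⊕ Fin b) S :=
  Matrix.of fun j i => (shortBasis a b P D i).coeff (c + (j : ℕ))

lemma shortMatrix_mulVec (a b c L : ℕ) (P D : k[X]) (w : Fin a ⊕ Fin b → k) (j : Fin L) :
    (shortMatrix a b c L P D *ᵥ w) j =
      ((∑ i, C (w (Sum.inl i)) * X ^ (i : ℕ)) * P +
        (∑ i, C (w (Sum.inr i)) * X ^ (i : ℕ)) * D).coeff (c + (j : ℕ)) := by
  simp only [Matrix.mulVec, dotProduct, shortMatrix, Matrix.of_apply, shortBasis,
    Fintype.sum_sum_type, Sum.elim_inl, Sum.elim_inr, Finset.sum_mul, coeff_add, finsetSum_coeff,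
    mul_assoc, coeff_C_mul]
  congr 1 <;> exact Finset.sum_congr rfl fun i _ => mul_comm _ _

lemma sum_eq_of_degree_lt {a : ℕ} {x : k[X]} (h : x.degree < ((a : ℕ) : WithBot ℕ)) :
    (∑ i : Fin a, C (x.coeff i) * X ^ (i : ℕ)) = x := by
  ext m
  simp only [finsetSum_coeff, coeff_C_mul_X_pow]
  rcases Nat.lt_or_ge m a with hm | hm
  · rw [Finset.sum_eq_single ⟨m, hm⟩]
    · simp
    · intro i _ hi
      exact if_neg fun e => hi (Fin.ext e.symm)
    · simp
  · rw [(degree_lt_iff_coeff_zero x a).mp h m hm]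
    exact Finset.sum_eq_zero fun i _ => if_neg (by omega)

lemma noShort_iff {a b c L : ℕ} {P D : k[X]} (hP : P.natDegree + a ≤ L)
    (hD : D.natDegree + b ≤ L) :
    NoShort a b c P D ↔ Function.Injective (shortMatrix a b c L P D).mulVec := by
  constructor
  · intro h w w' hw
    rw [← sub_eq_zero]
    have hz : (shortMatrix a b c L P D) *ᵥ (w - w') = 0 := by rw [Matrix.mulVec_sub, hw, sub_self]
    set v := w - w'
    set x := ∑ i : Fin a, C (v (Sum.inl i)) * X ^ (i : ℕ) with hx
    set y := ∑ i : Fin b, C (v (Sum.inr i)) * X ^ (i : ℕ) with hy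
    have hxd : x.degree < ((a : ℕ) : WithBot ℕ) := degree_sum_fin_lt _
    have hyd : y.degree < ((b : ℕ) : WithBot ℕ) := degree_sum_fin_lt _
    obtain ⟨h1, h2⟩ := h x y hxd hyd (by
      rw [degree_lt_iff_coeff_zero]
      intro m hm
      rcases Nat.lt_or_ge (m - c) L with hl | hl
      · have := congrFun hz ⟨m - c, hl⟩
        rw [shortMatrix_mulVec] at this
        simpa [Nat.add_sub_cancel' hm] using this
      · have key : ∀ (x Q : k[X]) (e : ℕ), x.degree < ((e : ℕ) : WithBot ℕ) → Q.natDegree + e ≤ L →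
            (x * Q).coeff m = 0 := fun x Q e hx hQ => by
          rcases eq_or_ne x 0 with rfl | hx0
          · simp
          have : x.natDegree < e := (natDegree_lt_iff_degree_lt hx0).mpr hx
          exact coeff_eq_zero_of_natDegree_lt (lt_of_le_of_lt natDegree_mul_le (by omega))
        rw [coeff_add, key x P a hxd hP, key y D b hyd hD, add_zero])
    funext i
    rcases i with i | i
    · have := congrArg (coeff · (i : ℕ)) h1
      simpa [hx, finsetSum_coeff, coeff_C_mul_X_pow, Fin.val_inj] using this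
    · have := congrArg (coeff · (i : ℕ)) h2
      simpa [hy, finsetSum_coeff, coeff_C_mul_X_pow, Fin.val_inj] using this
  · intro h x y hx hy hlt
    have hz : (shortMatrix a b c L P D) *ᵥ (Sum.elim (fun i : Fin a => x.coeff i)
        (fun i : Fin b => y.coeff i)) = (shortMatrix a b c L P D) *ᵥ 0 := by
      rw [Matrix.mulVec_zero]
      funext j
      rw [shortMatrix_mulVec]
      simp only [Sum.elim_inl, Sum.elim_inr]
      rw [sum_eq_of_degree_lt hx, sum_eq_of_degree_lt hy]
      exact (degree_lt_iff_coeff_zero _ _).mp hlt _ (by omega)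
    have hw := h hz
    constructor
    · rw [← sum_eq_of_degree_lt hx]
      exact Finset.sum_eq_zero fun i _ => by
        have := congrFun hw (Sum.inl i); simp at this; simp [this]
    · rw [← sum_eq_of_degree_lt hy]
      exact Finset.sum_eq_zero fun i _ => by
        have := congrFun hw (Sum.inr i); simp at this; simp [this]

/-- A polynomial `D₀` of exact degree below that of `P` gives a pair without short
combinations. -/
lemma noShort_special {a b c N : ℕ} {P D : k[X]} (hP : P.Monic) (hPN : P.natDegree = N)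
    (hD : D ≠ 0) (hc : c ≤ D.natDegree) (hb : D.natDegree + b ≤ N) :
    NoShort a b c P D := by
  intro x y _ hy hlt
  have hyD : (y * D).degree < ((N : ℕ) : WithBot ℕ) := by
    rcases eq_or_ne y 0 with rfl | hy0
    · simp
    have : y.natDegree < b := (natDegree_lt_iff_degree_lt hy0).mpr hy
    rw [degree_eq_natDegree (mul_ne_zero hy0 hD), natDegree_mul hy0 hD]
    exact_mod_cast (by omega : y.natDegree + D.natDegree < N)
  have hx : x = 0 := by
    by_contra hx
    have hxP : (x * P).degree = ((x.natDegree + N : ℕ) : WithBot ℕ) := by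
      rw [degree_eq_natDegree (mul_ne_zero hx hP.ne_zero), natDegree_mul hx hP.ne_zero, hPN]
    have hlt' : (y * D).degree < (x * P).degree :=
      lt_of_lt_of_le hyD (hxP ▸ (by exact_mod_cast Nat.le_add_left N x.natDegree))
    rw [degree_add_eq_left_of_degree_lt hlt', hxP] at hlt
    have : x.natDegree + N < c := by exact_mod_cast hlt
    omega
  refine ⟨hx, ?_⟩
  by_contra hy0
  rw [hx, zero_mul, zero_add, degree_eq_natDegree (mul_ne_zero hy0 hD), natDegree_mul hy0 hD] at hlt
  have : y.natDegree + D.natDegree < c := by exact_mod_cast hlt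
  omega

lemma map_den {n : ℕ} {S T : Type*} [CommRing S] [CommRing T] (f : S →+* T) (v : Fin n → S) :
    (den v).map f = den (fun i => f (v i)) := by
  simp [den, Polynomial.map_sum]

lemma map_shortMatrix {S T : Type*} [CommRing S] [CommRing T] (f : S →+* T) (a b c L : ℕ)
    (P D : S[X]) :
    (shortMatrix a b c L P D).map f = shortMatrix a b c L (P.map f) (D.map f) := by
  ext j i
  rcases i with i | i <;> simp [shortMatrix, shortBasis, ← Polynomial.coeff_map]

/-- A nonzero function of the parameters whose non-vanishing forces `NoShort`. -/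
lemma exists_witness {n a b c L : ℕ} (P : k[X]) (E : k[X]) (hP : P.natDegree + a ≤ L)
    (hE : E.natDegree + n + b ≤ L) (v₀ : Fin n → k) (h₀ : NoShort a b c P (E * den v₀)) :
    ∃ F : MvPolynomial (Fin n) k, F ≠ 0 ∧
      ∀ v, MvPolynomial.eval v F ≠ 0 → NoShort a b c P (E * den v) := by
  classical
  have hdeg : ∀ v : Fin n → k, (E * den v).natDegree + b ≤ L := fun v => by
    have h1 : (den v).natDegree ≤ n := by
      rcases eq_or_ne (den v) 0 with h | h
      · simp [h]
      · exact Nat.lt_succ_iff.mp ((natDegree_lt_iff_degree_lt h).mpr (den_natDegree_lt v))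
    have := natDegree_mul_le (p := E) (q := den v)
    omega
  set M₀ := shortMatrix a b c L P (E * den v₀)
  obtain ⟨g, hg⟩ := (Matrix.mulVecLin M₀).exists_leftInverse_of_injective
    (LinearMap.ker_eq_bot.mpr (fun w w' e => (noShort_iff hP (hdeg v₀)).mp h₀ e))
  set Rm : Matrix (Fin a ⊕ Fin b) (Fin L) k := LinearMap.toMatrix' g
  have hR : Rm * M₀ = 1 := by
    have := congrArg LinearMap.toMatrix' hg
    rwa [LinearMap.toMatrix'_comp, LinearMap.toMatrix'_id, ← Matrix.toLin'_apply',
      LinearMap.toMatrix'_toLin'] at this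
  let Mg : Matrix (Fin L) (Fin a ⊕ Fin b) (MvPolynomial (Fin n) k) :=
    shortMatrix a b c L (P.map MvPolynomial.C) (E.map MvPolynomial.C * den MvPolynomial.X)
  have hMg : ∀ v, Mg.map (MvPolynomial.eval v) = shortMatrix a b c L P (E * den v) := fun v => by
    have hid : ((MvPolynomial.eval v).comp MvPolynomial.C) = RingHom.id k := by ext r; simp
    rw [map_shortMatrix, Polynomial.map_mul, Polynomial.map_map, Polynomial.map_map, map_den, hid]
    simp
  let Rg : Matrix (Fin a ⊕ Fin b) (Fin L) (MvPolynomial (Fin n) k) :=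
    Matrix.of fun i j => MvPolynomial.C (Rm i j)
  have hF : ∀ v, MvPolynomial.eval v ((Rg * Mg).det) =
      (Rm * shortMatrix a b c L P (E * den v)).det := fun v => by
    have hid : ∀ r : k, MvPolynomial.eval v (MvPolynomial.C r) = r := fun r => MvPolynomial.eval_C r
    rw [RingHom.map_det, RingHom.mapMatrix_apply, Matrix.map_mul, hMg]
    congr 2
    ext i j
    simp [Rg, hid]
  refine ⟨(Rg * Mg).det, fun h => ?_, fun v hv => ?_⟩
  · have := hF v₀
    rw [h, map_zero, hR, Matrix.det_one] at this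
    exact zero_ne_one this
  · rw [noShort_iff hP (hdeg v)]
    rw [hF] at hv
    intro w w' hw
    have hu : IsUnit (Rm * shortMatrix a b c L P (E * den v)).det := isUnit_iff_ne_zero.mpr hv
    refine Matrix.mulVec_injective_iff_isUnit.mpr ((Matrix.isUnit_iff_isUnit_det _).mpr hu) ?_
    simp only [← Matrix.mulVec_mulVec, hw]

/-- Parameters giving the denominator `X^e + 1` (or `1` for `e = 0`). -/
def special (n e : ℕ) : Fin n → k := fun i => if (i : ℕ) + 1 = e then 1 else 0

lemma den_special_natDegree {n e : ℕ} (he : e ≤ n) :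
    (den (special (k := k) n e)).natDegree = e ∧ den (special (k := k) n e) ≠ 0 := by
  have hc : (den (special (k := k) n e)).coeff 0 = 1 := den_coeff_zero _
  have hne : den (special (k := k) n e) ≠ 0 := fun h => by simp [h] at hc
  refine ⟨natDegree_eq_of_le_of_coeff_ne_zero ?_ ?_, hne⟩
  · rw [natDegree_le_iff_coeff_eq_zero]
    intro m hm
    simp only [den, coeff_add, coeff_one, finsetSum_coeff, coeff_C_mul_X_pow, special]
    rw [if_neg (by omega), zero_add]
    refine Finset.sum_eq_zero fun i _ => ?_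
    split_ifs <;> first | rfl | omega
  · rcases Nat.eq_zero_or_pos e with rfl | hpos
    · rw [hc]; exact one_ne_zero
    · simp only [den, coeff_add, coeff_one, finsetSum_coeff, coeff_C_mul_X_pow, special]
      rw [if_neg (by omega), zero_add, Finset.sum_eq_single ⟨e - 1, by omega⟩]
      · simp [Nat.sub_add_cancel hpos]
      · intro i _ hi
        split_ifs with h1 h2
        · exact absurd (Fin.ext (show (i : ℕ) = e - 1 by omega)) hi
        · rfl
        · rfl
      · simp

/-- A nonzero function of the parameters whose non-vanishing makes the algorithm a word. -/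
lemma exists_goodPair {n : ℕ} {P : k[X]} (hP : P.Monic) (hPn : P.natDegree = n + 1) :
    ∃ F : MvPolynomial (Fin n) k, F ≠ 0 ∧
      ∀ v, MvPolynomial.eval v F ≠ 0 → GoodPair (n + 1) P (den v) := by
  classical
  have h1 : ∀ s : Fin (n + 1), ∃ F : MvPolynomial (Fin n) k, F ≠ 0 ∧
      ∀ v, MvPolynomial.eval v F ≠ 0 →
        NoShort (s : ℕ) ((s : ℕ) + 1) (n - s) P (1 * den v) := fun s => by
    obtain ⟨hd, hne⟩ := den_special_natDegree (k := k) (n := n) (e := n - s) (Nat.sub_le _ _)
    refine exists_witness (L := 3 * n + 3) P 1 (by omega) (by simp; omega) (special n (n - s)) ?_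
    rw [one_mul]
    exact noShort_special hP hPn hne (by omega) (by omega)
  have h2 : ∀ s : Fin n, ∃ F : MvPolynomial (Fin n) k, F ≠ 0 ∧
      ∀ v, MvPolynomial.eval v F ≠ 0 →
        NoShort ((s : ℕ) + 1) ((s : ℕ) + 1) (n - s) P (X * den v) := fun s => by
    obtain ⟨hd, hne⟩ := den_special_natDegree (k := k) (n := n) (e := n - 1 - s) (by omega)
    refine exists_witness (L := 3 * n + 3) P X (by omega) (by simp; omega)
      (special n (n - 1 - s)) ?_
    have hX : (X * den (special (k := k) n (n - 1 - s))).natDegree = n - s := by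
      rw [natDegree_mul X_ne_zero hne, natDegree_X, hd]; omega
    exact noShort_special hP hPn (mul_ne_zero X_ne_zero hne) (by omega) (by omega)
  choose F hF hF' using h1
  choose G hG hG' using h2
  refine ⟨(∏ s, F s) * ∏ s, G s, mul_ne_zero (Finset.prod_ne_zero_iff.mpr fun s _ => hF s)
    (Finset.prod_ne_zero_iff.mpr fun s _ => hG s), fun v hv => ⟨?_, ?_⟩⟩
  · intro s hs
    rw [map_mul, mul_ne_zero_iff, map_prod, Finset.prod_ne_zero_iff] at hv
    have := hF' ⟨s, by omega⟩ v (hv.1 _ (Finset.mem_univ _))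
    rw [one_mul] at this
    simpa using this
  · intro s hs1 hs
    rw [map_mul, mul_ne_zero_iff, map_prod, map_prod, Finset.prod_ne_zero_iff,
      Finset.prod_ne_zero_iff] at hv
    have := hG' ⟨s - 1, by omega⟩ v (hv.2 _ (Finset.mem_univ _))
    have e1 : s - 1 + 1 = s := by omega
    have e2 : n - (s - 1) = n + 1 - s := by omega
    simpa [e1, e2] using this

lemma sq_mem_upSet (hk2 : (2 : k) ≠ 0) {P : k[X]} {n : ℕ} (hP : P.Monic)
    (hPn : P.natDegree = n + 1) (hP0 : P.coeff 0 = 0) (hroot : aeval lam P = 0)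
    {v : Fin n → k} (hv : GoodPair (n + 1) P (den v)) :
    aeval lam (den v) * aeval lam (den v) ∈ upSet hk2 lam := by
  have h := reach_of_good (lam := lam) hP0 (den_coeff_zero v) hv (n + 1) 0 (by omega) (by omega)
    0 1 1 0 (by simp) (by simp) (by simp) (by simp) (by simp) (by simp)
    (by simpa using den_natDegree_lt v)
    (by
      simp only [one_mul, zero_mul, add_zero]
      rw [degree_eq_natDegree hP.ne_zero, hPn]
      exact_mod_cast Nat.lt_succ_self _)
  simp only [zero_mul, one_mul, zero_add, add_zero] at h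
  obtain ⟨g, hg, h0, h1⟩ := h
  rw [hroot] at h1
  have := mul_mem (mul_mem hg (up_const_mem lam (1 : k))) (inv_mem hg)
  rw [tri_conj_up h1, h0, map_one, mul_one] at this
  exact this

/-- Every square of a denominator lies in `upSet`. -/
lemma all_sq_mem_upSet [Infinite k] (hk2 : (2 : k) ≠ 0) {P : k[X]} {n : ℕ} (hP : P.Monic)
    (hPn : P.natDegree = n + 1) (hP0 : P.coeff 0 = 0) (hroot : aeval lam P = 0)
    (v : Fin n → k) : aeval lam (den v) * aeval lam (den v) ∈ upSet hk2 lam := by
  classical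
  obtain ⟨F, hF, hFgood⟩ := exists_goodPair hP hPn
  set S := upSet hk2 lam
  by_contra hv
  obtain ⟨T, hTv, hTS⟩ := Submodule.exists_dual_map_eq_bot_of_notMem hv inferInstance
  have hT : ∀ x ∈ S, T x = 0 := fun x hx => by
    have h := Submodule.mem_map_of_mem (f := T) hx
    rwa [hTS, Submodule.mem_bot] at h
  -- the functional, as a polynomial in the parameters
  let Q : MvPolynomial (Fin n) k :=
    MvPolynomial.C (T 1) + (∑ a : Fin n, MvPolynomial.C (2 * T (lam ^ ((a : ℕ) + 1))) *
      MvPolynomial.X a) + ∑ a : Fin n, ∑ b : Fin n,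
        MvPolynomial.C (T (lam ^ ((a : ℕ) + 1) * lam ^ ((b : ℕ) + 1))) *
          (MvPolynomial.X a * MvPolynomial.X b)
  have hQ : ∀ w, MvPolynomial.eval w Q = T (aeval lam (den w) * aeval lam (den w)) := fun w => by
    have e : aeval lam (den w) * aeval lam (den w) = 1 +
        (∑ a : Fin n, (2 * w a) • lam ^ ((a : ℕ) + 1)) + ∑ a : Fin n, ∑ b : Fin n,
          (w a * w b) • (lam ^ ((a : ℕ) + 1) * lam ^ ((b : ℕ) + 1)) := by
      have e1 : aeval lam (den w) = 1 + ∑ a : Fin n, w a • lam ^ ((a : ℕ) + 1) := by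
        simp [den, map_sum, Algebra.smul_def]
      rw [e1]
      simp only [mul_add, add_mul, one_mul, mul_one, Finset.sum_mul_sum, smul_mul_smul_comm]
      simp only [mul_smul, two_smul, Finset.sum_add_distrib]
      abel
    simp only [Q, map_add, map_sum, map_mul, MvPolynomial.eval_C, MvPolynomial.eval_X, e,
      map_smul, smul_eq_mul]
    congr 1
    · congr 1
      exact Finset.sum_congr rfl fun a _ => by ring
    · exact Finset.sum_congr rfl fun a _ => Finset.sum_congr rfl fun b _ => by ring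
  have hzero : F * Q = 0 := MvPolynomial.funext fun w => by
    rw [map_mul, map_zero]
    rcases eq_or_ne (MvPolynomial.eval w F) 0 with h | h
    · rw [h, zero_mul]
    · rw [hQ, hT _ (sq_mem_upSet (lam := lam) hk2 hP hPn hP0 hroot (hFgood w h)), mul_zero]
  have := hQ v
  rw [(mul_eq_zero.mp hzero).resolve_left hF, map_zero] at this
  exact hTv this.symm

lemma den_scale {n : ℕ} {g : k[X]} (hg : g.degree < ((n : ℕ) : WithBot ℕ)) (t : k) :
    den (fun i : Fin n => t * g.coeff i) = 1 + C t * (X * g) := by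
  have e : C t * (X * g) = ∑ i : Fin n, C t * (X * (C (g.coeff i) * X ^ (i : ℕ))) := by
    rw [← Finset.mul_sum, ← Finset.mul_sum, sum_eq_of_degree_lt hg]
  rw [e, den]
  refine congrArg (fun z : k[X] => 1 + z) (Finset.sum_congr rfl fun i _ => ?_)
  rw [map_mul]
  ring

/-- Over an infinite field the upper unitriangular elements of the generated group have all
entries in `k[lam]`. -/
theorem upSet_eq_of_infinite [Infinite k] (hk2 : (2 : k) ≠ 0) (hlam : IsIntegral k lam) (f : k[X]) :
    aeval lam f ∈ upSet hk2 lam := by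
  classical
  -- reduce `X f` modulo a monic equation divisible by `X`
  obtain ⟨m, hm, hmroot⟩ := hlam
  obtain ⟨n, P, hPm, hPn, hP0, hroot, hfn⟩ : ∃ (n : ℕ) (P : k[X]), P.Monic ∧
      P.natDegree = n + 1 ∧ P.coeff 0 = 0 ∧ aeval lam P = 0 ∧ f.natDegree + 1 ≤ n := by
    have hdeg : (X * m * X ^ (f.natDegree + 1)).natDegree = m.natDegree + f.natDegree + 1 + 1 := by
      rw [natDegree_mul (mul_ne_zero X_ne_zero hm.ne_zero) (pow_ne_zero _ X_ne_zero),
        natDegree_mul X_ne_zero hm.ne_zero, natDegree_X, natDegree_X_pow]; omega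
    refine ⟨m.natDegree + f.natDegree + 1, X * m * X ^ (f.natDegree + 1),
      (monic_X.mul hm).mul (monic_X.pow _), hdeg, by simp [mul_coeff_zero], ?_, by omega⟩
    have hmroot' : aeval lam m = 0 := hmroot
    simp [hmroot']
  set S := upSet hk2 lam
  have hall : ∀ v : Fin n → k, aeval lam (den v) * aeval lam (den v) ∈ S :=
    all_sq_mem_upSet hk2 hPm hPn hP0 hroot
  -- polarisation
  have h1 : (1 : R) ∈ S := one_mem_upSet hk2 lam
  have hlin : ∀ g : k[X], g.degree < ((n : ℕ) : WithBot ℕ) → aeval lam (X * g) ∈ S := by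
    intro g hg
    have key : ∀ t : k, aeval lam (den fun i : Fin n => t * g.coeff i) =
        1 + t • aeval lam (X * g) := fun t => by
      rw [den_scale hg]
      simp [Algebra.smul_def]
    set y := aeval lam (X * g)
    have hp := hall fun i => (1 : k) * g.coeff i
    have hm' := hall fun i => (-1 : k) * g.coeff i
    rw [key] at hp hm'
    have := S.smul_mem ((2 : k) * 2)⁻¹ (S.sub_mem hp hm')
    convert this using 1
    rw [one_smul, neg_one_smul,
      show (1 + y) * (1 + y) - (1 + -y) * (1 + -y) = ((2 : k) * 2) • y by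
        rw [Algebra.smul_def]; simp only [map_mul, map_ofNat]; ring,
      inv_smul_smul₀ (mul_ne_zero hk2 hk2)]
  have hf : f = C (f.coeff 0) + X * f.divX := (by rw [add_comm]; exact (X_mul_divX_add f).symm)
  rw [hf, map_add]
  refine S.add_mem ?_ (hlin _ ?_)
  · rw [aeval_C, Algebra.algebraMap_eq_smul_one]
    exact S.smul_mem _ h1
  · rw [degree_lt_iff_coeff_zero]
    intro j hj
    rw [coeff_divX]
    exact coeff_eq_zero_of_natDegree_lt (by omega)

end CfsgLib.RootSubgroups.Gen2
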