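import Cfsg.Agent.RootSubgroups.SL2GenFinite
import Cfsg.Agent.RootSubgroups.SL2

/-! `SL₂(F)` is generated by `up (k)` and `lo (k • lam)` when `F = k[lam]` is a field. -/

set_option autoImplicit false

namespace CfsgLib.RootSubgroups.Gen2

open Cfsg Matrix Polynomial
open scoped MatrixGroups

variable {k : Type*} [Field k] {F : Type*} [Field F] [Algebra k F]

lemma four_lt_card_of [Finite k] (hk2 : ringChar k ≠ 2) (hk3 : Nat.card k ≠ 3) : 4 < Nat.card k := by
  have := Fintype.ofFinite k
  obtain ⟨p, hp⟩ := CharP.exists k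
  obtain ⟨n, hpp, hn⟩ := FiniteField.card k p
  have hodd : Odd (Nat.card k) := by
    rw [Nat.card_eq_fintype_card, hn]
    exact (hpp.odd_of_ne_two (fun h => hk2 ((ringChar.eq k p).trans h))).pow
  have h1 := Finite.one_lt_card (α := k)
  obtain ⟨m, hm⟩ := hodd
  omega

theorem upSet_all (hk2 : ringChar k ≠ 2) (hk3 : Nat.card k ≠ 3) {lam : F} (hlam : lam ≠ 0)
    (hint : IsIntegral k lam) (hgen : ∀ x : F, ∃ f : k[X], aeval lam f = x) (x : F) :
    up x ∈ genGroup k lam := by
  obtain ⟨f, rfl⟩ := hgen x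
  have h2 := two_ne_zero_of_char hk2
  rcases finite_or_infinite k with hk | hk
  · have := Fintype.ofFinite k
    have hfd : FiniteDimensional k F := by
      have htop : Algebra.adjoin k ({lam} : Set F) = ⊤ := eq_top_iff.mpr fun y _ => by
        obtain ⟨g, rfl⟩ := hgen y
        exact Polynomial.aeval_mem_adjoin_singleton k lam
      have hfg := hint.fg_adjoin_singleton
      rw [htop, Algebra.top_toSubmodule] at hfg
      exact ⟨hfg⟩
    have : Finite F := Module.finite_of_finite k
    have := Fintype.ofFinite F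
    exact mem_upSet.mp (upSet_eq_of_finite_field h2 (four_lt_card_of hk2 hk3) hlam f)
  · exact mem_upSet.mp (upSet_eq_of_infinite h2 hint f)

/-- The generated group is everything. -/
theorem genGroup_eq_top (hk2 : ringChar k ≠ 2) (hk3 : Nat.card k ≠ 3) {lam : F} (hlam : lam ≠ 0)
    (hint : IsIntegral k lam) (hgen : ∀ x : F, ∃ f : k[X], aeval lam f = x) :
    genGroup k lam = ⊤ := by
  have hup : ∀ x : F, up x ∈ genGroup k lam := upSet_all hk2 hk3 hlam hint hgen
  set w : SL(2, F) := up (-lam⁻¹) * lo lam * up (-lam⁻¹) with hw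
  have hwmem : w ∈ genGroup k lam := by
    refine mul_mem (mul_mem (hup _) ?_) (hup _)
    simpa using lo_lam_mem (k := k) lam 1
  have hlo : ∀ x : F, lo x ∈ genGroup k lam := by
    intro x
    have e : w * up (-x / lam ^ 2) * w⁻¹ = lo x := by
      rw [mul_inv_eq_iff_eq_mul, hw]
      apply ext2 <;> simp [Matrix.mul_apply, Fin.sum_univ_two] <;> field_simp <;> (try ring_nf) <;> simp
    exact e ▸ mul_mem (mul_mem hwmem (hup _)) (inv_mem hwmem)
  refine SL2.generated (genGroup k lam) hup ?_
  rw [SL2.W_eq]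
  exact mul_mem (mul_mem (hup 1) (hlo (-1))) (hup 1)

end CfsgLib.RootSubgroups.Gen2
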