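import Cfsg.Agent.RootSubgroups.SL2Gen
import Cfsg.Agent.DicksonPSL2.Components

/-! The subgroup of `SL₂(F)`, `F` a finite field, generated by the upper unitriangular matrices
with entries in a subfield `k` of order at least five and the lower ones with entries in `k • lam`:
its Sylow subgroup contains every upper unitriangular matrix with entry in `k[lam]`. -/

set_option autoImplicit false
set_option linter.unusedSectionVars false

namespace CfsgLib.RootSubgroups.Gen2

open Cfsg Matrix Polynomial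
open CfsgLib.DicksonPSL2 (projHom u BP chi slope IsTor comp conjS)
open CfsgLib.SL2Trace (proj)
open scoped MatrixGroups

/-- The arithmetic of the class equation. -/
lemma count_arith {q c h n : ℕ} (hq : 5 ≤ q) (hqo : Odd q) (hc : 2 ≤ c) (hcq : c ∣ q - 1)
    (hn : 2 ≤ n) (hh : 2 ≤ h) (hhn : h ∣ 2 * n)
    (heq : (1 : ℚ) / (q * c * n) = 1 / (2 * h) + 1 / (q * c) - 1 / (2 * c)) : n = q + 1 := by
  obtain ⟨j, hj⟩ := hhn
  have hhQ : (0 : ℚ) < h := by exact_mod_cast (show 0 < h by omega)
  have hqQ : (0 : ℚ) < q := by exact_mod_cast (show 0 < q by omega)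
  have hcQ : (0 : ℚ) < c := by exact_mod_cast (show 0 < c by omega)
  have hnQ : (0 : ℚ) < n := by exact_mod_cast (show 0 < n by omega)
  have key : (2 * h : ℤ) = q * c * n + 2 * h * n - h * q * n := by
    have : (2 * h : ℚ) = q * c * n + 2 * h * n - h * q * n := by
      field_simp at heq
      linear_combination heq
    exact_mod_cast this
  have hjZ : (2 * n : ℤ) = h * j := by exact_mod_cast hj
  have key2 : (j * q * c : ℤ) = 4 + 2 * n * ((q : ℤ) - 2) := by
    apply mul_left_cancel₀ (show (h : ℤ) ≠ 0 by omega)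
    linear_combination (-2 : ℤ) * key - (q : ℤ) * c * hjZ
  have hdvd : (q : ℤ) ∣ (n : ℤ) - 1 := by
    have h4 : (q : ℤ) ∣ 4 * ((n : ℤ) - 1) := ⟨2 * n - j * c, by linear_combination key2⟩
    refine Int.dvd_of_dvd_mul_right_of_gcd_one h4 ?_
    rw [show (4 : ℤ) = ((4 : ℕ) : ℤ) by norm_num, Int.gcd_natCast_natCast,
      show (4 : ℕ) = 2 ^ 2 by rfl]
    exact Nat.Coprime.pow_right 2 hqo.coprime_two_right
  obtain ⟨r, hr⟩ := hdvd
  have hr1 : 1 ≤ r := by nlinarith
  have e1 : (j * c : ℤ) = 2 + 2 * r * ((q : ℤ) - 2) := by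
    apply mul_left_cancel₀ (show (q : ℤ) ≠ 0 by omega)
    linear_combination key2 + 2 * ((q : ℤ) - 2) * hr
  have e2 : (j * h : ℤ) = 2 + 2 * r * q := by linear_combination -hjZ + 2 * hr
  have e3 : (j : ℤ) * ((h : ℤ) - c) = 4 * r := by linear_combination e2 - e1
  have hjpos : (0 : ℤ) < j := by
    rcases Nat.eq_zero_or_pos j with rfl | h0
    · simp at e3; omega
    · exact_mod_cast h0
  have hd0 : 0 < (h : ℤ) - c := pos_of_mul_pos_right (by rw [e3]; linarith) hjpos.le
  have hcle : (c : ℤ) ≤ (q : ℤ) - 1 := by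
    have := Nat.le_of_dvd (by omega) hcq
    omega
  have hd2 : (h : ℤ) - c ≤ 2 := by
    by_contra hlt
    push Not at hlt
    have h1 : (j : ℤ) * 3 ≤ 4 * r := by rw [← e3]; exact mul_le_mul_of_nonneg_left hlt hjpos.le
    have h2 : (j : ℤ) * c ≤ j * ((q : ℤ) - 1) := mul_le_mul_of_nonneg_left hcle hjpos.le
    nlinarith
  have hr' : r = 1 := by
    rcases (show (h : ℤ) - c = 1 ∨ (h : ℤ) - c = 2 by omega) with hd | hd
    · rw [hd, mul_one] at e3
      rw [e3] at e1
      have : r * (2 * (c : ℤ) - ((q : ℤ) - 2)) = 1 := by linarith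
      exact Int.eq_one_of_mul_eq_one_right (by omega) this
    · rw [hd] at e3
      rw [show (j : ℤ) = 2 * r by omega] at e1
      have : r * ((c : ℤ) - ((q : ℤ) - 2)) = 1 := by linarith
      exact Int.eq_one_of_mul_eq_one_right (by omega) this
  subst hr'
  omega

variable {F : Type*} [Field F]

lemma up_eq_upSL (x : F) : up x = CfsgLib.DicksonPSL2.upSL x := rfl

lemma up_neg_pow {p : ℕ} [CharP F p] (hp : Odd p) (x : F) :
    (-up x : SL(2, F)) ^ (p + 1) = up x := by
  have hpow : ∀ n : ℕ, (up x : SL(2, F)) ^ n = up ((n : F) * x) := fun n => by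
    induction n with
    | zero => simp [up_zero]
    | succ n ih => rw [pow_succ, ih, up_mul]; push_cast; ring_nf
  have hev : Even (p + 1) := Odd.add_one hp
  rw [Even.neg_pow hev, hpow]
  congr 1
  simp

/-- A subspace containing `1` and `μ` and stable under `v ↦ μ² / v` is closed under
multiplication (Hua), so it contains `k[μ⁻¹]`. -/
theorem aeval_mem_of_invol [Finite F] {k : Type*} [Field k] [Algebra k F] (hk2 : (2 : k) ≠ 0)
    (S : Submodule k F) {lam : F} (hlam : lam ≠ 0) (h1S : (1 : F) ∈ S) (hμS : lam⁻¹ ∈ S)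
    (hinvol : ∀ v ∈ S, v ≠ 0 → lam⁻¹ ^ 2 / v ∈ S) (f : k[X]) : aeval lam f ∈ S := by
  classical
  set μ := lam⁻¹ with hμ
  have hμ0 : μ ≠ 0 := inv_ne_zero hlam
  have hsq : ∀ x ∈ S, ∀ w ∈ S, x * x * w / μ ^ 2 ∈ S := by
    intro x hx w hw
    by_cases hx0 : x = 0
    · simp [hx0]
    by_cases hw0 : w = 0
    · simp [hw0]
    set z := w / μ ^ 2 with hz
    have hz0 : z ≠ 0 := div_ne_zero hw0 (pow_ne_zero 2 hμ0)
    have hzS : z⁻¹ ∈ S := by rw [hz, inv_div]; exact hinvol w hw hw0
    rw [mul_div_assoc]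
    change x * x * z ∈ S
    by_cases hzx : z⁻¹ = x
    · rw [← hzx, mul_assoc, inv_mul_cancel₀ hz0, mul_one]; exact hzS
    have hy : z⁻¹ - x ≠ 0 := sub_ne_zero.2 hzx
    have hsum : μ ^ 2 / x + μ ^ 2 / (z⁻¹ - x) ∈ S :=
      S.add_mem (hinvol x hx hx0) (hinvol _ (S.sub_mem hzS hx) hy)
    set e := x * (z⁻¹ - x) * z with he
    have he0 : e ≠ 0 := mul_ne_zero (mul_ne_zero hx0 hy) hz0
    have hval : μ ^ 2 / x + μ ^ 2 / (z⁻¹ - x) = μ ^ 2 / e := by
      rw [div_add_div _ _ hx0 hy, div_eq_div_iff (mul_ne_zero hx0 hy) he0, he]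
      linear_combination μ ^ 2 * x * (z⁻¹ - x) * inv_mul_cancel₀ hz0
    have h4 := hinvol _ hsum (by rw [hval]; exact div_ne_zero (pow_ne_zero 2 hμ0) he0)
    have h5 : μ ^ 2 / (μ ^ 2 / e) = e := div_div_cancel₀ (pow_ne_zero 2 hμ0)
    rw [hval, h5] at h4
    have h6 : x * x * z = x - e := by
      rw [he]; linear_combination x * inv_mul_cancel₀ hz0
    rw [h6]
    exact S.sub_mem hx h4
  set Bs : Set F := (fun w => w / μ ^ 2) '' (S : Set F)
  have hBS : Bs = (S : Set F) := by
    refine Set.eq_of_subset_of_ncard_le ?_ ?_ (Set.toFinite _)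
    · rintro _ ⟨w, hw, rfl⟩
      simpa using hsq 1 h1S w hw
    · rw [Set.ncard_image_of_injective]
      exact fun a b e => (div_left_inj' (pow_ne_zero 2 hμ0)).1 e
  have hsq' : ∀ x ∈ S, ∀ z ∈ S, x * x * z ∈ S := by
    intro x hx z hz
    obtain ⟨w, hw, e⟩ : z ∈ Bs := hBS.symm ▸ hz
    rw [← e, ← mul_div_assoc]
    exact hsq x hx w hw
  have hmul : ∀ x ∈ S, ∀ y ∈ S, x * y ∈ S := by
    intro x hx y hy
    have h := S.sub_mem (S.sub_mem (hsq' (x + y) (S.add_mem hx hy) 1 h1S) (hsq' x hx 1 h1S))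
      (hsq' y hy 1 h1S)
    have e : x * y = (2 : k)⁻¹ • ((x + y) * (x + y) * 1 - x * x * 1 - y * y * 1) := by
      rw [show (x + y) * (x + y) * 1 - x * x * 1 - y * y * 1 = (2 : k) • (x * y) by
        rw [two_smul]; ring, inv_smul_smul₀ hk2]
    exact e ▸ S.smul_mem _ h
  have hlamS : lam ∈ S := by
    have h1 : (1 : F) / μ ^ 2 ∈ (S : Set F) := hBS ▸ ⟨1, h1S, rfl⟩
    have := hmul _ h1 _ hμS
    rwa [show (1 : F) / μ ^ 2 * μ = lam by rw [hμ]; field_simp] at this
  induction f using Polynomial.induction_on' with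
  | add f g hf hg => rw [map_add]; exact S.add_mem hf hg
  | monomial m a =>
    rw [aeval_monomial, ← Algebra.smul_def]
    refine S.smul_mem _ ?_
    induction m with
    | zero => simpa using h1S
    | succ m ih => rw [pow_succ]; exact hmul _ ih _ hlamS

set_option maxHeartbeats 1200000 in
-- one long counting argument
/-- In a finite field `k[lam]` lies in `upSet`. -/
theorem upSet_eq_of_finite_field [Fintype F] {k : Type*} [Field k] [Algebra k F] {lam : F}
    (hk2 : (2 : k) ≠ 0) (hk : 4 < Nat.card k) (hlam : lam ≠ 0) (f : k[X]) :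
    aeval lam f ∈ upSet hk2 lam := by
  classical
  have hF2 : (2 : F) ≠ 0 := by
    intro h; apply hk2; apply (algebraMap k F).injective; simpa [map_ofNat] using h
  obtain ⟨p, hp⟩ := CharP.exists F
  have : Fact p.Prime := ⟨CharP.char_is_prime F p⟩
  have hpo : Odd p := (Fact.out : p.Prime).odd_of_ne_two (by
    rintro rfl
    exact hF2 (by simpa using CharP.cast_eq_zero F 2))
  set S := upSet hk2 lam with hS
  have h1S : (1 : F) ∈ S := one_mem_upSet hk2 lam
  -- the image in the projective group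
  set H : Subgroup PSL(2, F) := (genGroup k lam).map projHom with hHdef
  have hu_iff : ∀ x : F, u x ∈ H ↔ x ∈ S := by
    intro x
    constructor
    · rintro ⟨g, hg, e⟩
      rcases CfsgLib.DicksonPSL2.proj_eq_proj_iff.1 e.symm with rfl | rfl
      · exact mem_upSet.mpr hg
      · refine mem_upSet.mpr ?_
        rw [← up_neg_pow hpo x]
        exact pow_mem hg _
    · exact fun hx => ⟨up x, mem_upSet.mp hx, rfl⟩
  -- the Sylow subgroup
  let P : Subgroup H :=
    { carrier := {y | ∃ x ∈ S, (y : PSL(2, F)) = u x}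
      one_mem' := ⟨0, S.zero_mem, CfsgLib.DicksonPSL2.u_zero.symm⟩
      mul_mem' := by
        rintro a b ⟨x, hx, ha⟩ ⟨y, hy, hb⟩
        exact ⟨x + y, S.add_mem hx hy, by rw [CfsgLib.DicksonPSL2.u_add, ← ha, ← hb]; rfl⟩
      inv_mem' := by
        rintro a ⟨x, hx, ha⟩
        exact ⟨-x, S.neg_mem hx, by rw [CfsgLib.DicksonPSL2.u_neg, ← ha]; rfl⟩ }
  have hmemP : ∀ y : H, y ∈ P ↔ ∃ x ∈ S, (y : PSL(2, F)) = u x := fun y => Iff.rfl
  let eP : S ≃ P := Equiv.ofBijective
    (fun x => ⟨⟨u x, (hu_iff _).mpr x.2⟩, ⟨x, x.2, rfl⟩⟩) ⟨fun a b e => Subtype.ext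
      (CfsgLib.DicksonPSL2.u_injective (congrArg (fun z : P => ((z : H) : PSL(2, F))) e)),
      fun ⟨⟨y, hyH⟩, x, hx, e⟩ => ⟨⟨x, hx⟩, Subtype.ext (Subtype.ext e.symm)⟩⟩
  set one' : H := ⟨u 1, (hu_iff 1).mpr h1S⟩ with hone'
  have hone_mem : one' ∈ P := ⟨1, h1S, rfl⟩
  have hPp : IsPGroup p P := by
    intro y
    refine ⟨1, ?_⟩
    obtain ⟨⟨y, hyH⟩, x, hx, e⟩ := y
    rw [pow_one]
    apply Subtype.ext; apply Subtype.ext
    push_cast
    change y ^ p = 1
    have e' : y = u x := e
    rw [e']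
    exact (not_not.1 fun h => CfsgLib.DicksonPSL2.not_isTor_u x
      ((CfsgLib.DicksonPSL2.isTor_iff_pow p (u x)).2 h))
  have hPmax : ∀ Q : Subgroup H, IsPGroup p Q → P ≤ Q → Q = P := by
    intro Q hQ hPQ
    refine le_antisymm (fun y hy => ?_) hPQ
    obtain ⟨T, hT⟩ := hQ.exists_le_sylow
    have hc := (CfsgLib.DicksonPSL2.sylow_comm p T (hT hy) (hT (hPQ hone_mem))).1
    obtain ⟨v, hv⟩ := CfsgLib.DicksonPSL2.exists_eq_u_of_comm (F := F) (x := (y : PSL(2, F)))
      (w := (1 : F)) one_ne_zero (congrArg Subtype.val hc)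
    exact ⟨v, (hu_iff v).mp (hv ▸ y.2), hv⟩
  let PS : Sylow p H := ⟨P, hPp, fun {Q} hQ hPQ => hPmax Q hQ hPQ⟩
  set B : Subgroup H := BP.subgroupOf H with hBdef
  have hNB : Subgroup.normalizer (P : Set H) = B := by
    ext y
    constructor
    · intro hy
      obtain ⟨x, hx, e⟩ := (hmemP _).mp ((Subgroup.mem_normalizer_iff.1 hy one').1 hone_mem)
      exact Subgroup.mem_subgroupOf.2 (CfsgLib.DicksonPSL2.mem_BP_of_conj_u
        (x := (y : PSL(2, F))) one_ne_zero e)
    · intro hy
      have hyB : (y : PSL(2, F)) ∈ BP := hy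
      rw [Subgroup.mem_normalizer_iff]
      intro z
      constructor
      · rintro ⟨x, hx, e⟩
        refine ⟨chi (y : PSL(2, F)) * x, ?_, ?_⟩
        · rw [← hu_iff, ← CfsgLib.DicksonPSL2.conj_u hyB, ← e]
          exact mul_mem (mul_mem y.2 z.2) (inv_mem y.2)
        · rw [← CfsgLib.DicksonPSL2.conj_u hyB, ← e]; rfl
      · rintro ⟨x, hx, e⟩
        have hyB' : ((y⁻¹ : H) : PSL(2, F)) ∈ BP := inv_mem hyB
        have ez : (z : PSL(2, F)) = u (chi ((y⁻¹ : H) : PSL(2, F)) * x) := by
          rw [← CfsgLib.DicksonPSL2.conj_u hyB', ← e]; push_cast; group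
        exact ⟨_, (hu_iff _).mp (ez ▸ z.2), ez⟩
  have hPB : P ≤ B := hNB ▸ Subgroup.le_normalizer
  -- the torus of the Borel subgroup
  let χ : B →* Fˣ :=
    { toFun := fun y => Units.mk0 (chi ((y : H) : PSL(2, F)))
        (CfsgLib.DicksonPSL2.chi_ne_zero (Subgroup.mem_subgroupOf.1 y.2))
      map_one' := Units.ext (CfsgLib.DicksonPSL2.chi_one)
      map_mul' := fun a b => Units.ext (CfsgLib.DicksonPSL2.chi_mul _ (Subgroup.mem_subgroupOf.1 b.2)) }
  have hχ : ∀ y : B, ((χ y : Fˣ) : F) = chi ((y : H) : PSL(2, F)) := fun y => rfl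
  have hker : χ.ker = P.subgroupOf B := by
    ext y
    rw [MonoidHom.mem_ker, Subgroup.mem_subgroupOf, Units.ext_iff, hχ, Units.val_one]
    constructor
    · intro h
      obtain ⟨w, hw⟩ := CfsgLib.DicksonPSL2.eq_u_of_chi_eq_one (Subgroup.mem_subgroupOf.1 y.2) h
      exact ⟨w, (hu_iff w).mp (hw ▸ (y : H).2), hw⟩
    · rintro ⟨x, hx, e⟩
      rw [e, CfsgLib.DicksonPSL2.chi_u]
  set c := Nat.card χ.range with hcdef
  set q := Nat.card P with hqdef
  have hcardB : Nat.card B = q * c := by
    have := χ.ker.index_mul_card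
    rw [Subgroup.index_ker, hker, Nat.card_congr (Subgroup.subgroupOfEquivOfLe hPB).toEquiv] at this
    rw [← this, mul_comm]
  have hqS : q = Nat.card S := (Nat.card_congr eP).symm
  have hq5 : 5 ≤ q := by
    have hfin : Finite k := Finite.of_injective _ (algebraMap k F).injective
    have : Nat.card k ≤ Nat.card S := Nat.card_le_card_of_injective
      (fun a : k => (⟨algebraMap k F a, mem_upSet.mpr (up_const_mem lam a)⟩ : S))
      (fun a b e => (algebraMap k F).injective (congrArg Subtype.val e))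
    omega
  have hqo : Odd q := by
    obtain ⟨m, hm⟩ := IsPGroup.iff_card.1 hPp
    rw [hqdef, hm]; exact hpo.pow
  set n := B.index with hndef
  have hcardH : Nat.card H = q * c * n := by rw [← hcardB, hndef, Subgroup.card_mul_index]
  have hBne : B ≠ ⊤ := by
    intro h
    have hmem : (⟨proj (lo lam), ⟨lo lam, by simpa using lo_lam_mem (k := k) lam 1, rfl⟩⟩ : H) ∈ B :=
      h ▸ Subgroup.mem_top _
    have := (CfsgLib.DicksonPSL2.proj_mem_BP_iff _).1 (Subgroup.mem_subgroupOf.1 hmem)
    exact hlam (by simpa using this)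
  have hn2 : 2 ≤ n := by
    have h0 : n ≠ 0 := Subgroup.index_ne_zero_of_finite
    have h1 : n ≠ 1 := fun h => hBne (Subgroup.index_eq_one.1 h)
    omega
  have hcpos : 0 < c := Nat.card_pos
  -- the torus order divides `q - 1`
  have hcq : c ∣ q - 1 := by
    let act : MulAction χ.range {x : S // x ≠ 0} :=
      { smul := fun t x => ⟨⟨((t : Fˣ) : F) * (x.1 : F), by
          obtain ⟨y, hy⟩ := t.2
          rw [← hy, hχ, ← hu_iff, ← CfsgLib.DicksonPSL2.conj_u (Subgroup.mem_subgroupOf.1 y.2)]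
          exact mul_mem (mul_mem (y : H).2 ((hu_iff _).mpr x.1.2)) (inv_mem (y : H).2)⟩, fun h =>
            x.2 (Subtype.ext ((mul_eq_zero.1 (congrArg Subtype.val h)).resolve_left
              (Units.ne_zero _)))⟩
        one_smul := fun x => Subtype.ext (Subtype.ext (one_mul _))
        mul_smul := fun a b x => Subtype.ext (Subtype.ext (mul_assoc _ _ _)) }
    have hst : ∀ x : {x : S // x ≠ 0}, MulAction.stabilizer χ.range x = ⊥ := by
      intro x
      rw [eq_bot_iff]
      intro t ht
      have e : ((t : Fˣ) : F) * (x.1 : F) = (x.1 : F) :=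
        congrArg (fun z : {x : S // x ≠ 0} => (z.1 : F)) ht
      rw [Subgroup.mem_bot]
      have hx0 : (x.1 : F) ≠ 0 := fun h => x.2 (Subtype.ext h)
      exact Subtype.ext (Units.ext (mul_right_cancel₀ hx0 (e.trans (one_mul _).symm)))
    have hcount := Nat.card_congr (MulAction.selfEquivOrbitsQuotientProd hst)
    rw [Nat.card_prod] at hcount
    have hS1 : Nat.card {x : S // x ≠ 0} = q - 1 := by
      have := Fintype.ofFinite S
      rw [hqS, Nat.card_eq_fintype_card, Nat.card_eq_fintype_card, Fintype.card_subtype_compl,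
        Fintype.card_subtype_eq]
    exact Dvd.intro_left _ (hcount.symm.trans hS1)
  -- the class equation
  obtain ⟨R, hR1, hR2, hR3, heq⟩ := CfsgLib.DicksonPSL2.class_equation p PS
  rw [show ((PS : Subgroup H)) = P from rfl, hNB, hcardB, hcardH, ← hqdef] at heq
  push_cast at heq
  set term : Subgroup H → ℚ := fun C =>
    ((Nat.card C : ℚ) - 1) / Nat.card (Subgroup.normalizer (C : Set H)) with hterm
  change 1 - 1 / ((q : ℚ) * c * n) = ((q : ℚ) - 1) / (q * c) + ∑ C ∈ R, term C at heq
  have hquarter : ∀ C ∈ R, (1 : ℚ) / 4 ≤ term C := by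
    intro C hC
    obtain ⟨x, hx, rfl⟩ := hR1 C hC
    have h2 : (2 : ℚ) ≤ Nat.card (comp H x) := by
      exact_mod_cast CfsgLib.DicksonPSL2.two_le_card_comp hx
    have hN : (Nat.card (Subgroup.normalizer (comp H x : Set H)) : ℚ) ≤ 2 * Nat.card (comp H x) := by
      rcases CfsgLib.DicksonPSL2.card_normalizer_comp hx with e | ⟨e, -⟩ <;>
        rw [e] <;> push_cast <;> linarith
    have hN0 : (0 : ℚ) < Nat.card (Subgroup.normalizer (comp H x : Set H)) := by
      exact_mod_cast Nat.card_pos
    rw [hterm]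
    rw [le_div_iff₀ hN0]
    linarith
  have hqQ : (5 : ℚ) ≤ q := by exact_mod_cast hq5
  have hcQ : (0 : ℚ) < c := by exact_mod_cast hcpos
  have hnQ : (2 : ℚ) ≤ n := by exact_mod_cast hn2
  have hHinv : 0 < 1 / ((q : ℚ) * c * n) := by positivity
  have hn_eq : n = q + 1 := by
    rcases (show c = 1 ∨ 2 ≤ c by omega) with hc1 | hc2
    · exfalso
      rw [hc1, Nat.cast_one, mul_one] at heq hHinv
      have hfirst : (3 : ℚ) / 4 ≤ ((q : ℚ) - 1) / q := by
        rw [div_le_div_iff₀ (by norm_num) (by linarith)]; linarith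
      rcases R.eq_empty_or_nonempty with hR | ⟨C, hC⟩
      · rw [hR, Finset.sum_empty, add_zero] at heq
        field_simp at heq
        nlinarith
      · have := Finset.single_le_sum (f := term)
          (fun D hD => le_trans (by norm_num) (hquarter D hD)) hC
        have := hquarter C hC
        linarith
    · -- a generator of the torus
      have hcyc : IsCyclic χ.range := isCyclic_of_subgroup_isDomain (R := F)
        ((Units.coeHom F).comp χ.range.subtype) (fun a b e => Subtype.ext (Units.ext e))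
      obtain ⟨t, ht⟩ := IsCyclic.exists_generator (α := χ.range)
      obtain ⟨x, hx⟩ := t.2
      have hto : orderOf t = c := by
        rw [hcdef, orderOf_eq_card_of_forall_mem_zpowers ht]
      have hxne : chi ((x : H) : PSL(2, F)) ≠ 1 := by
        intro h
        have : t = 1 := Subtype.ext (hx ▸ Units.ext h)
        rw [this, orderOf_one] at hto
        omega
      have hxB : ((x : H) : PSL(2, F)) ∈ BP := Subgroup.mem_subgroupOf.1 x.2
      have hxT : IsTor ((x : H) : PSL(2, F)) := CfsgLib.DicksonPSL2.isTor_of_chi_ne_one hxB hxne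
      have hcompB : comp H (x : H) ≤ B := fun y hy => Subgroup.mem_subgroupOf.2
        (CfsgLib.DicksonPSL2.torus_le_BP hxT hxB (CfsgLib.DicksonPSL2.mem_comp.1 hy))
      have hinj : Function.Injective (fun y : comp H (x : H) => χ ⟨(y : H), hcompB y.2⟩) := by
        intro a b e
        apply Subtype.ext
        have hab : a.1⁻¹ * b.1 ∈ comp H (x : H) := mul_mem (inv_mem a.2) b.2
        by_contra hne
        have hne1 : a.1⁻¹ * b.1 ≠ 1 := fun h => hne (inv_mul_eq_one.1 h)
        have hT := (CfsgLib.DicksonPSL2.comp_eq_of_mem hxT hab hne1).1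
        have hk : (⟨a.1⁻¹ * b.1, hcompB hab⟩ : B) ∈ χ.ker := by
          rw [MonoidHom.mem_ker]
          have : (⟨a.1⁻¹ * b.1, hcompB hab⟩ : B) =
              (⟨a.1, hcompB a.2⟩ : B)⁻¹ * ⟨b.1, hcompB b.2⟩ := rfl
          rw [this, map_mul, map_inv]
          exact inv_mul_eq_one.2 e
        rw [hker] at hk
        obtain ⟨w, -, hw⟩ := Subgroup.mem_subgroupOf.1 hk
        exact CfsgLib.DicksonPSL2.not_isTor_u w (hw ▸ hT)
      have hcardC : Nat.card (comp H (x : H)) = c := by
        refine le_antisymm ?_ ?_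
        · exact Nat.card_le_card_of_injective
            (fun y => (⟨χ ⟨(y : H), hcompB y.2⟩, ⟨_, rfl⟩⟩ : χ.range))
            (fun a b e => hinj (congrArg Subtype.val e))
        · have h1 : orderOf t ∣ orderOf x := by
            have : t = χ.rangeRestrict x := Subtype.ext hx.symm
            rw [this]; exact orderOf_map_dvd _ x
          have h2 : orderOf (x : H) ∣ Nat.card (comp H (x : H)) :=
            Subgroup.orderOf_dvd_natCard _ (CfsgLib.DicksonPSL2.self_mem_comp _)
          rw [Subgroup.orderOf_coe] at h2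
          exact Nat.le_of_dvd Nat.card_pos (hto ▸ h1.trans h2)
      obtain ⟨C₀, hC₀, g, hg⟩ := hR2 _ hxT
      have hcard0 : Nat.card C₀ = c := by
        rw [← hcardC, ← hg, CfsgLib.DicksonPSL2.card_conjS]
      obtain ⟨x₀, hx₀, hC₀x⟩ := hR1 C₀ hC₀
      have hterm0 : term C₀ = ((c : ℚ) - 1) / c ∨ term C₀ = ((c : ℚ) - 1) / (2 * c) := by
        have ht : term C₀ = ((Nat.card C₀ : ℚ) - 1) /
            Nat.card (Subgroup.normalizer (C₀ : Set H)) := rfl
        rw [ht]
        rcases CfsgLib.DicksonPSL2.card_normalizer_comp hx₀ with e | ⟨e, -⟩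
        · left; rw [← hC₀x] at e; rw [e, hcard0]
        · right; rw [← hC₀x] at e; rw [e, hcard0]; push_cast; rfl
      rw [← Finset.add_sum_erase _ _ hC₀] at heq
      have hrest : 0 ≤ ∑ C ∈ R.erase C₀, term C := Finset.sum_nonneg fun D hD =>
        le_trans (by norm_num) (hquarter D (Finset.mem_of_mem_erase hD))
      have hcQ2 : (2 : ℚ) ≤ c := by exact_mod_cast hc2
      have hqc : (0 : ℚ) < q * c := by positivity
      have hsmall : 1 / ((q : ℚ) * c) ≤ 1 / 10 := by
        rw [div_le_div_iff₀ hqc (by norm_num)]; nlinarith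
      have hfirst : ((q : ℚ) - 1) / (q * c) = 1 / c - 1 / (q * c) := by field_simp
      rcases hterm0 with e0 | e0 <;> rw [e0] at heq
      · exfalso
        have hsum : ((q : ℚ) - 1) / (q * c) + ((c : ℚ) - 1) / c = 1 - 1 / (q * c) := by
          field_simp; ring
        rcases (R.erase C₀).eq_empty_or_nonempty with hR | ⟨C, hC⟩
        · rw [hR, Finset.sum_empty, add_zero, hsum] at heq
          field_simp at heq
          nlinarith
        · have := Finset.single_le_sum (f := term) (fun D hD => le_trans (by norm_num)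
            (hquarter D (Finset.mem_of_mem_erase hD))) hC
          have := hquarter C (Finset.mem_of_mem_erase hC)
          linarith
      · have hhalf : ((c : ℚ) - 1) / (2 * c) = 1 / 2 - 1 / (2 * c) := by field_simp
        have hce : 1 / ((2 : ℚ) * c) = (1 / c) / 2 := by field_simp
        have hgap : 0 < 1 / (c : ℚ) / 2 - 1 / (q * c) := by
          rw [sub_pos, div_div, div_lt_div_iff₀ hqc (by positivity)]; nlinarith
        rcases (R.erase C₀).eq_empty_or_nonempty with hR | ⟨C, hC⟩
        · exfalso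
          rw [hR, Finset.sum_empty, add_zero, hfirst, hhalf, hce] at heq
          have hc' : 1 / (c : ℚ) ≤ 1 / 2 := by
            rw [div_le_div_iff₀ hcQ (by norm_num)]; linarith
          have hHsmall : 1 / ((q : ℚ) * c * n) ≤ 1 / 20 := by
            rw [div_le_div_iff₀ (by positivity) (by norm_num)]; nlinarith
          have : (0 : ℚ) < 1 / (q * c) := by positivity
          linarith
        · have hCR := Finset.mem_of_mem_erase hC
          have hCne := Finset.ne_of_mem_erase hC
          rw [← Finset.add_sum_erase _ _ hC, hfirst, hhalf, hce] at heq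
          rcases ((R.erase C₀).erase C).eq_empty_or_nonempty with hR | ⟨D, hD⟩
          · rw [hR, Finset.sum_empty, add_zero] at heq
            obtain ⟨y, hy, hCy⟩ := hR1 C hCR
            have hh2 := CfsgLib.DicksonPSL2.two_le_card_comp hy
            rw [← hCy] at hh2
            set h := Nat.card C with hhdef
            have hhQ : (2 : ℚ) ≤ h := by exact_mod_cast hh2
            rcases CfsgLib.DicksonPSL2.card_normalizer_comp hy with e | ⟨e, -⟩ <;>
              rw [← hCy, ← hhdef] at e
            · exfalso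
              have : (1 : ℚ) / 2 ≤ term C := by
                rw [hterm]; simp only [e, ← hhdef]
                rw [div_le_div_iff₀ (by norm_num) (by linarith)]; linarith
              linarith
            · have ht : term C = 1 / 2 - 1 / (2 * (h : ℚ)) := by
                rw [hterm]; simp only [e, ← hhdef]; push_cast; field_simp
              rw [ht] at heq
              have hgcd : Nat.gcd h c ≤ 2 := by
                by_contra hlt
                push Not at hlt
                obtain ⟨g', hg'⟩ := CfsgLib.DicksonPSL2.exists_conj_comp_of_gcd hy hx₀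
                  (by rw [← hCy, ← hC₀x, ← hhdef, hcard0]; omega)
                exact hCne (hR3 C hCR C₀ hC₀ g' (by rw [hCy, hC₀x]; exact hg'))
              have hcop : Nat.Coprime h q := by
                obtain ⟨m, hm⟩ := IsPGroup.iff_card.1 hPp
                rw [hqdef, hm]
                refine Nat.Coprime.pow_right _ (Nat.Coprime.symm ?_)
                rw [(Fact.out : p.Prime).coprime_iff_not_dvd, hhdef, hCy]
                exact CfsgLib.DicksonPSL2.not_dvd_card_comp p hy
              have hdvd : h ∣ q * c * n := hcardH ▸ Subgroup.card_subgroup_dvd_card C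
              have hdvd2 : h ∣ c * n := hcop.dvd_of_dvd_mul_left (by rwa [← mul_assoc])
              have hdvd3 : h ∣ 2 * n := by
                have hg12 : Nat.gcd h c ∣ 2 := by
                  have hpos : 0 < Nat.gcd h c := Nat.gcd_pos_of_pos_right _ hcpos
                  rcases (show Nat.gcd h c = 1 ∨ Nat.gcd h c = 2 by omega) with e | e <;> simp [e]
                exact ((Nat.dvd_gcd_mul_iff_dvd_mul (k := h)).2 hdvd2).trans
                  (Nat.mul_dvd_mul_right hg12 n)
              exact count_arith hq5 hqo hc2 hcq hn2 hh2 hdvd3 (by rw [hce]; linarith)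
          · exfalso
            have := Finset.single_le_sum (f := term) (fun D hD => le_trans (by norm_num)
              (hquarter D (Finset.mem_of_mem_erase (Finset.mem_of_mem_erase hD)))) hD
            have := hquarter D (Finset.mem_of_mem_erase (Finset.mem_of_mem_erase hD))
            have := hquarter C hCR
            linarith
  -- the slopes form a translate of `S`
  set μ := lam⁻¹ with hμ
  have hμ0 : μ ≠ 0 := inv_ne_zero hlam
  have hlo : ∀ a : k, lo (algebraMap k F a * lam) ∈ genGroup k lam := lo_lam_mem lam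
  let lp : k → H := fun a => ⟨proj (lo (algebraMap k F a * lam)), ⟨_, hlo a, rfl⟩⟩
  have hlpB : ∀ a : k, a ≠ 0 → (lp a : PSL(2, F)) ∉ BP := fun a ha h => by
    have := (CfsgLib.DicksonPSL2.proj_mem_BP_iff _).1 h
    simp [hlam, ha] at this
  have hslope_lp : ∀ a : k, slope (lp a : PSL(2, F)) = (algebraMap k F a)⁻¹ * μ := fun a => by
    rw [CfsgLib.DicksonPSL2.slope_proj]; simp [μ, mul_comm]
  set Sl : Set F := {s | ∃ g : H, (g : PSL(2, F)) ∉ BP ∧ slope (g : PSL(2, F)) = s} with hSl
  have hSl_shift : ∀ x ∈ S, μ + x ∈ Sl := fun x hx => by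
    refine ⟨⟨u x, (hu_iff x).mpr hx⟩ * lp 1, fun h => hlpB 1 one_ne_zero ?_, ?_⟩
    · have h' : u x * (lp 1 : PSL(2, F)) ∈ BP := h
      simpa using mul_mem (inv_mem (CfsgLib.DicksonPSL2.u_mem_BP x)) h'
    · show slope (u x * (lp 1 : PSL(2, F))) = μ + x
      rw [CfsgLib.DicksonPSL2.slope_u_mul (hlpB 1 one_ne_zero), hslope_lp, map_one, inv_one,
        one_mul, add_comm]
  have hSlcard : Nat.card Sl ≤ q := by
    choose g hg using fun s : Sl => s.2
    have hinj : Function.Injective (fun s : Sl => (QuotientGroup.mk (g s) : H ⧸ B)) := by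
      intro s t e
      have h := (QuotientGroup.eq).1 e
      have h' : (g s : PSL(2, F))⁻¹ * (g t : PSL(2, F)) ∈ BP := Subgroup.mem_subgroupOf.1 h
      apply Subtype.ext
      rw [← (hg s).2, ← (hg t).2]
      conv_rhs => rw [show (g t : PSL(2, F)) = g s * ((g s : PSL(2, F))⁻¹ * g t) by group,
        CfsgLib.DicksonPSL2.slope_mul_BP (hg s).1 h']
    have hne : ∀ s : Sl, (QuotientGroup.mk (g s) : H ⧸ B) ≠ QuotientGroup.mk 1 := fun s e => by
      have h := (QuotientGroup.eq).1 e
      rw [mul_one] at h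
      exact (hg s).1 (by simpa using inv_mem (Subgroup.mem_subgroupOf.1 h))
    have h1 : Nat.card Sl ≤ Nat.card {z : H ⧸ B // z ≠ QuotientGroup.mk 1} :=
      Nat.card_le_card_of_injective (fun s => ⟨_, hne s⟩)
        (fun s t e => hinj (congrArg Subtype.val e))
    have := Fintype.ofFinite (H ⧸ B)
    rw [Nat.card_eq_fintype_card (α := {z : H ⧸ B // z ≠ QuotientGroup.mk 1}),
      Fintype.card_subtype_compl, Fintype.card_subtype_eq, ← Nat.card_eq_fintype_card,
      ← Subgroup.index, ← hndef, hn_eq] at h1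
    omega
  have hSleq : Sl = (fun x => μ + x) '' (S : Set F) := by
    refine (Set.eq_of_subset_of_ncard_le ?_ ?_ (Set.toFinite _)).symm
    · rintro _ ⟨x, hx, rfl⟩; exact hSl_shift x hx
    · rw [Set.ncard_image_of_injective _ (add_right_injective μ), ← Nat.card_coe_set_eq,
        ← Nat.card_coe_set_eq]
      exact hSlcard.trans hqS.le
  have hμS : μ ∈ S := by
    have hmem : slope (lp (-1) : PSL(2, F)) ∈ Sl := ⟨lp (-1), hlpB _ (by simp), rfl⟩
    rw [hslope_lp, hSleq, map_neg, map_one, inv_neg, inv_one, neg_one_mul] at hmem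
    obtain ⟨x, hx, e⟩ := hmem
    have h2 : ((-1 : k) * 2⁻¹) • x = μ := by
      rw [show x = (-2 : k) • μ by
        have e' : μ + x = -μ := e
        rw [neg_smul, two_smul]; linear_combination e', smul_smul]
      rw [show (-1 : k) * 2⁻¹ * -2 = 1 by field_simp, one_smul]
    exact h2 ▸ S.smul_mem _ hx
  have hSlS : ∀ s ∈ Sl, s ∈ S := by
    rw [hSleq]; rintro _ ⟨x, hx, rfl⟩; exact S.add_mem hμS hx
  -- `v ↦ μ² / v` preserves `S`
  have hinvol : ∀ v ∈ S, v ≠ 0 → μ ^ 2 / v ∈ S := by
    intro v hv hv0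
    by_cases hvμ : v = μ
    · rw [hvμ, pow_two, mul_div_assoc, div_self hμ0, mul_one]; exact hμS
    -- with `s = v - μ`: the slope of `lo (lam) * g`, `g` of slope `s`
    obtain ⟨g, hgB, hgs⟩ : (v - μ) ∈ Sl := by
      rw [hSleq]; exact ⟨v - μ - μ, S.sub_mem (S.sub_mem hv hμS) hμS, by ring⟩
    obtain ⟨G₀, hG₀⟩ := CfsgLib.SL2Trace.proj_surjective (g : PSL(2, F))
    have hg10 : (G₀ : Matrix (Fin 2) (Fin 2) F) 1 0 ≠ 0 := fun h =>
      hgB (hG₀ ▸ (CfsgLib.DicksonPSL2.proj_mem_BP_iff _).2 h)
    rw [← hG₀, CfsgLib.DicksonPSL2.slope_proj, div_eq_iff hg10] at hgs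
    have hlow : ((lo lam * G₀ : SL(2, F)) : Matrix (Fin 2) (Fin 2) F) 1 0 =
        (G₀ : Matrix (Fin 2) (Fin 2) F) 1 0 * (lam * v) := by
      simp [Matrix.mul_apply, Fin.sum_univ_two, hgs, μ]
      field_simp
      ring
    have hmem : slope ((lp 1 * g : H) : PSL(2, F)) ∈ Sl := by
      refine ⟨lp 1 * g, ?_, rfl⟩
      show proj (lo (algebraMap k F 1 * lam)) * (g : PSL(2, F)) ∉ BP
      rw [← hG₀, ← CfsgLib.DicksonPSL2.proj_mul, map_one, one_mul,
        CfsgLib.DicksonPSL2.proj_mem_BP_iff, hlow]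
      exact mul_ne_zero hg10 (mul_ne_zero hlam hv0)
    have h3 := hSlS _ hmem
    have e : slope ((lp 1 * g : H) : PSL(2, F)) = μ - μ ^ 2 / v := by
      show slope (proj (lo (algebraMap k F 1 * lam)) * (g : PSL(2, F))) = _
      rw [← hG₀, ← CfsgLib.DicksonPSL2.proj_mul, CfsgLib.DicksonPSL2.slope_proj, map_one, one_mul,
        hlow]
      simp [Matrix.mul_apply, Fin.sum_univ_two, hgs, μ]
      field_simp
    rw [e] at h3
    simpa using S.sub_mem hμS h3
  exact aeval_mem_of_invol hk2 S hlam h1S hμS hinvol f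

end CfsgLib.RootSubgroups.Gen2
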