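import Cfsg.Agent.RootSubgroups.RootSet
import Cfsg.Agent.RootSubgroups.SL2

/-! Groups of transvections in matrix groups: rank one pairs, and abstract root subgroups. -/

set_option autoImplicit false

namespace CfsgLib.RootSubgroups

open Cfsg Matrix

/-- Transport of a rank one pair along an injective homomorphism. -/
lemma rankOnePair_map {G H : Type*} [Group G] [Group H] (f : G →* H) (hf : Function.Injective f)
    {A B : Subgroup G} (h : IsRankOnePair A B) : IsRankOnePair (A.map f) (B.map f) := by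
  have key : ∀ (C : Subgroup G) (x : G), conjBy (C.map f) (f x) = (conjBy C x).map f := fun C x => by
    rw [conjBy, conjBy, Subgroup.map_map, Subgroup.map_map]
    congr 1
    ext y
    simp
  have cond : ∀ {A B : Subgroup G}, RankOneCondition A B →
      RankOneCondition (A.map f) (B.map f) := by
    rintro A B hAB _ ⟨a, ha, rfl⟩ h1
    obtain ⟨b, hb, hb1, he⟩ := hAB a ha (fun e => h1 (by rw [e, map_one]))
    refine ⟨f b, ⟨b, hb, rfl⟩, fun e => hb1 (hf (e.trans (map_one f).symm)), ?_⟩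
    rw [← map_inv, ← map_inv, key, key, he]
  exact ⟨fun e => h.ne (Subgroup.map_injective hf e),
    by have := h.nilpotent_left; exact Group.nilpotent_of_mulEquiv (A.equivMapOfInjective f hf),
    by have := h.nilpotent_right; exact Group.nilpotent_of_mulEquiv (B.equivMapOfInjective f hf),
    cond h.cond_left, cond h.cond_right⟩

namespace Transv

variable {ι k : Type*} [Fintype ι] [DecidableEq ι] [Field k]

/-- The map `1 + p φᵀ`. -/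
def tv (p φ : ι → k) : Matrix ι ι k := 1 + vecMulVec p φ

omit [Fintype ι] in
@[simp] lemma tv_zero (φ : ι → k) : tv (0 : ι → k) φ = 1 := by
  simp [tv, zero_vecMulVec]

lemma tv_mulVec (p φ v : ι → k) : tv p φ *ᵥ v = v + (φ ⬝ᵥ v) • p := by
  rw [tv, add_mulVec, one_mulVec, vecMulVec_mulVec, op_smul_eq_smul]

lemma tv_mul (p φ q ψ : ι → k) :
    tv p φ * tv q ψ = 1 + vecMulVec p φ + vecMulVec q ψ + (φ ⬝ᵥ q) • vecMulVec p ψ := by
  rw [tv, tv, mul_add, add_mul, add_mul, one_mul, one_mul, mul_one, vecMulVec_mul_vecMulVec,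
    vecMulVec_smul]
  abel

lemma tv_smul_mul {p φ : ι → k} (h : φ ⬝ᵥ p = 0) (c d : k) :
    tv (c • p) φ * tv (d • p) φ = tv ((c + d) • p) φ := by
  rw [tv_mul, dotProduct_smul, h, smul_zero, zero_smul, add_zero, tv, add_smul, add_vecMulVec,
    add_assoc]

lemma conj_tv {M N : Matrix ι ι k} (h : M * N = 1) (p φ : ι → k) :
    M * tv p φ * N = tv (M *ᵥ p) (φ ᵥ* N) := by
  rw [tv, tv, mul_add, mul_one, add_mul, h, mul_vecMulVec, vecMulVec_mul]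

lemma det_tv {p φ : ι → k} (h : φ ⬝ᵥ p = 0) : (tv p φ).det = 1 := by
  rw [tv, vecMulVec_eq Unit, det_one_add_replicateCol_mul_replicateRow, h, add_zero]

omit [Fintype ι] in
lemma tv_eq_one {p φ : ι → k} : tv p φ = 1 ↔ p = 0 ∨ φ = 0 := by
  rw [tv, add_eq_left, vecMulVec_eq_zero]

/-- A vector avoided by two nonzero functionals. -/
lemma exists_avoid {a b : ι → k} (ha : a ≠ 0) (hb : b ≠ 0) :
    ∃ v : ι → k, a ⬝ᵥ v ≠ 0 ∧ b ⬝ᵥ v ≠ 0 := by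
  have key : ∀ a : ι → k, a ≠ 0 → ∃ v, a ⬝ᵥ v ≠ 0 := fun a ha => by
    by_contra hn
    exact ha (funext fun i => by simpa using not_not.1 (not_exists.1 hn (Pi.single i 1)))
  obtain ⟨u, hu⟩ := key a ha
  obtain ⟨w, hw⟩ := key b hb
  by_cases hbu : b ⬝ᵥ u = 0
  · by_cases haw : a ⬝ᵥ w = 0
    · exact ⟨u + w, by rw [dotProduct_add, haw, add_zero]; exact hu,
        by rw [dotProduct_add, hbu, zero_add]; exact hw⟩
    · exact ⟨w, haw, hw⟩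
  · exact ⟨u, hu, hbu⟩

/-! ### The embedded `SL₂` of two transvection groups -/

section SL2Hom

variable (p φ q ψ : ι → k)

/-- `SL₂` acting on the span of `p` and `q`, trivially on the common kernel of `φ` and `ψ`. -/
def sl2Mat (A : Matrix (Fin 2) (Fin 2) k) : Matrix ι ι k :=
  1 + ((A 0 0 - 1) • vecMulVec p ((ψ ⬝ᵥ p)⁻¹ • ψ) + A 0 1 • vecMulVec p ((φ ⬝ᵥ q)⁻¹ • φ) +
    A 1 0 • vecMulVec q ((ψ ⬝ᵥ p)⁻¹ • ψ) + (A 1 1 - 1) • vecMulVec q ((φ ⬝ᵥ q)⁻¹ • φ))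

variable {p φ q ψ} (h1 : φ ⬝ᵥ p = 0) (h2 : ψ ⬝ᵥ q = 0) (h3 : φ ⬝ᵥ q ≠ 0) (h4 : ψ ⬝ᵥ p ≠ 0)
include h1 h2 h3 h4

lemma sl2Mat_mul (A B : Matrix (Fin 2) (Fin 2) k) :
    sl2Mat p φ q ψ (A * B) = sl2Mat p φ q ψ A * sl2Mat p φ q ψ B := by
  have e1 : ((ψ ⬝ᵥ p)⁻¹ • ψ) ⬝ᵥ p = 1 := by rw [smul_dotProduct, smul_eq_mul, inv_mul_cancel₀ h4]
  have e2 : ((ψ ⬝ᵥ p)⁻¹ • ψ) ⬝ᵥ q = 0 := by rw [smul_dotProduct, h2, smul_zero]
  have e3 : ((φ ⬝ᵥ q)⁻¹ • φ) ⬝ᵥ q = 1 := by rw [smul_dotProduct, smul_eq_mul, inv_mul_cancel₀ h3]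
  have e4 : ((φ ⬝ᵥ q)⁻¹ • φ) ⬝ᵥ p = 0 := by rw [smul_dotProduct, h1, smul_zero]
  simp only [sl2Mat]
  generalize (ψ ⬝ᵥ p)⁻¹ • ψ = f at *
  generalize (φ ⬝ᵥ q)⁻¹ • φ = g at *
  simp only [add_mul, mul_add, one_mul, mul_one, smul_mul_smul_comm, vecMulVec_mul_vecMulVec,
    e1, e2, e3, e4, one_smul, zero_smul, vecMulVec_zero, smul_zero, add_zero, zero_add,
    Matrix.mul_apply, Fin.sum_univ_two]
  module

omit h1 h2 h3 h4 in
lemma sl2Mat_one : sl2Mat p φ q ψ 1 = 1 := by simp [sl2Mat]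

omit h1 h2 h3 h4 in
lemma sl2Mat_U (s : k) :
    sl2Mat p φ q ψ (SL2.U s : Matrix (Fin 2) (Fin 2) k) = tv ((s * (φ ⬝ᵥ q)⁻¹) • p) φ := by
  simp [sl2Mat, SL2.U, tv, smul_vecMulVec, vecMulVec_smul, smul_smul]

omit h1 h2 h3 h4 in
lemma sl2Mat_L (s : k) :
    sl2Mat p φ q ψ (SL2.L s : Matrix (Fin 2) (Fin 2) k) = tv ((s * (ψ ⬝ᵥ p)⁻¹) • q) ψ := by
  simp [sl2Mat, SL2.L, tv, smul_vecMulVec, vecMulVec_smul, smul_smul]

lemma sl2Mat_injective {A : Matrix (Fin 2) (Fin 2) k} (h : sl2Mat p φ q ψ A = 1) : A = 1 := by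
  have e1 : ((ψ ⬝ᵥ p)⁻¹ • ψ) ⬝ᵥ p = 1 := by rw [smul_dotProduct, smul_eq_mul, inv_mul_cancel₀ h4]
  have e2 : ((ψ ⬝ᵥ p)⁻¹ • ψ) ⬝ᵥ q = 0 := by rw [smul_dotProduct, h2, smul_zero]
  have e3 : ((φ ⬝ᵥ q)⁻¹ • φ) ⬝ᵥ q = 1 := by rw [smul_dotProduct, smul_eq_mul, inv_mul_cancel₀ h3]
  have e4 : ((φ ⬝ᵥ q)⁻¹ • φ) ⬝ᵥ p = 0 := by rw [smul_dotProduct, h1, smul_zero]
  simp only [sl2Mat, add_eq_left] at h
  generalize (ψ ⬝ᵥ p)⁻¹ • ψ = f at *
  generalize (φ ⬝ᵥ q)⁻¹ • φ = g at *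
  have hp := congrArg (fun X : Matrix ι ι k => X *ᵥ p) h
  have hq := congrArg (fun X : Matrix ι ι k => X *ᵥ q) h
  simp only [add_mulVec, smul_mulVec, vecMulVec_mulVec, op_smul_eq_smul, e1, e2, e3, e4,
    zero_mulVec, one_smul, zero_smul, smul_zero, add_zero, zero_add] at hp hq
  have c1 := congrArg (f ⬝ᵥ ·) hp
  have c2 := congrArg (g ⬝ᵥ ·) hp
  have c3 := congrArg (f ⬝ᵥ ·) hq
  have c4 := congrArg (g ⬝ᵥ ·) hq
  simp only [dotProduct_add, dotProduct_smul, e1, e2, e3, e4, dotProduct_zero, smul_eq_mul,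
    mul_one, mul_zero, add_zero, zero_add, sub_eq_zero] at c1 c2 c3 c4
  ext i j
  fin_cases i <;> fin_cases j <;> simp_all

end SL2Hom

/-! ### Root subgroups consisting of transvections -/

/-- A matrix group with a distinguished set of point–hyperplane pairs. -/
structure System (G : Type*) [Group G] (ι k : Type*) [Fintype ι] [DecidableEq ι] [Field k] where
  rep : G →* Matrix ι ι k
  inj : Function.Injective rep
  P : Set ((ι → k) × (ι → k))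
  adm : ∀ x ∈ P, x.1 ≠ 0 ∧ x.2 ≠ 0 ∧ x.2 ⬝ᵥ x.1 = 0
  lift : ∀ x ∈ P, ∀ c : k, ∃ g, rep g = tv (c • x.1) x.2
  gen : Subgroup.closure {g | ∃ x ∈ P, ∃ c : k, rep g = tv (c • x.1) x.2} = ⊤
  conj : ∀ x ∈ P, ∀ g, ∃ y ∈ P, ∃ s : k, s ≠ 0 ∧ rep g *ᵥ x.1 = s • y.1 ∧ x.2 ᵥ* rep g⁻¹ = y.2
  nbr : ∀ x ∈ P, ∀ y ∈ P, ∃ z ∈ P, (x.2 ⬝ᵥ z.1 ≠ 0 ∧ z.2 ⬝ᵥ x.1 ≠ 0) ∧
    (y.2 ⬝ᵥ z.1 ≠ 0 ∧ z.2 ⬝ᵥ y.1 ≠ 0)
  mix : ∀ x ∈ P, ∀ y ∈ P, x.2 ⬝ᵥ y.1 ≠ 0 → y.2 ⬝ᵥ x.1 = 0 → (x.1, y.2) ∈ P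
  nonempty : P.Nonempty

variable {G : Type*} [Group G] (R : System G ι k)

/-- The transvection group of a pair. -/
def System.T (x : (ι → k) × (ι → k)) : Subgroup G :=
  Subgroup.closure {g | ∃ c : k, R.rep g = tv (c • x.1) x.2}

/-- The transvection groups of the system. -/
def System.S : Set (Subgroup G) := {A | ∃ x ∈ R.P, A = R.T x}

variable {x y : (ι → k) × (ι → k)}

lemma System.mem_T (hx : x ∈ R.P) {g : G} : g ∈ R.T x ↔ ∃ c : k, R.rep g = tv (c • x.1) x.2 := by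
  refine ⟨fun hg => ?_, fun h => Subgroup.subset_closure h⟩
  induction hg using Subgroup.closure_induction with
  | mem g h => exact h
  | one => exact ⟨0, by simp⟩
  | mul a b _ _ ha hb =>
    obtain ⟨c, hc⟩ := ha
    obtain ⟨d, hd⟩ := hb
    exact ⟨c + d, by rw [map_mul, hc, hd, tv_smul_mul (R.adm x hx).2.2]⟩
  | inv a _ ha =>
    obtain ⟨c, hc⟩ := ha
    refine ⟨-c, ?_⟩
    have h1 : R.rep a * tv (-c • x.1) x.2 = 1 := by
      rw [hc, tv_smul_mul (R.adm x hx).2.2, add_neg_cancel, zero_smul, tv_zero]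
    calc R.rep a⁻¹ = R.rep a⁻¹ * (R.rep a * tv (-c • x.1) x.2) := by rw [h1, mul_one]
      _ = tv (-c • x.1) x.2 := by rw [← mul_assoc, ← map_mul, inv_mul_cancel, map_one, one_mul]

lemma System.rep_conj (g a : G) (p φ : ι → k) (h : R.rep a = tv p φ) :
    R.rep (g * a * g⁻¹) = tv (R.rep g *ᵥ p) (φ ᵥ* R.rep g⁻¹) := by
  rw [map_mul, map_mul, h, conj_tv (by rw [← map_mul, mul_inv_cancel, map_one])]

lemma System.T_conj (hx : x ∈ R.P) (g : G) : conjBy (R.T x) g ∈ R.S := by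
  obtain ⟨y, hy, s, hs, h1, h2⟩ := R.conj x hx g
  refine ⟨y, hy, ?_⟩
  ext z
  rw [mem_conjBy, R.mem_T hx, R.mem_T hy]
  constructor
  · rintro ⟨c, hc⟩
    refine ⟨c * s, ?_⟩
    have h := R.rep_conj g _ _ _ hc
    rw [show g * (g⁻¹ * z * g) * g⁻¹ = z by group, mulVec_smul, h1, h2, smul_smul] at h
    exact h
  · rintro ⟨c, hc⟩
    obtain ⟨a, ha⟩ := R.lift x hx (c / s)
    refine ⟨c / s, ?_⟩
    have h := R.rep_conj g a _ _ ha
    rw [mulVec_smul, h1, h2, smul_smul, div_mul_cancel₀ c hs, ← hc] at h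
    rw [← ha, ← R.inj h]
    congr 1; group

lemma System.T_ne_bot (hx : x ∈ R.P) : R.T x ≠ ⊥ := by
  intro h
  obtain ⟨a, ha⟩ := R.lift x hx 1
  have : a ∈ R.T x := (R.mem_T hx).2 ⟨1, ha⟩
  rw [h, Subgroup.mem_bot] at this
  rw [this, map_one, one_smul, eq_comm, tv_eq_one] at ha
  exact ha.elim (R.adm x hx).1 (R.adm x hx).2.1

lemma System.T_comm (hx : x ∈ R.P) : IsMulCommutative (R.T x) := by
  refine ⟨⟨fun ⟨a, ha⟩ ⟨b, hb⟩ => Subtype.ext (R.inj ?_)⟩⟩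
  obtain ⟨c, hc⟩ := (R.mem_T hx).1 ha
  obtain ⟨d, hd⟩ := (R.mem_T hx).1 hb
  simp only [Subgroup.coe_mul, map_mul, hc, hd, tv_smul_mul (R.adm x hx).2.2, add_comm c d]

lemma System.comm_case (hx : x ∈ R.P) (hy : y ∈ R.P) (h1 : x.2 ⬝ᵥ y.1 = 0)
    (h2 : y.2 ⬝ᵥ x.1 = 0) : ⁅R.T x, R.T y⁆ = ⊥ := by
  refine commutator_eq_bot_iff_comm.mpr fun a ha b hb => R.inj ?_
  obtain ⟨c, hc⟩ := (R.mem_T hx).1 ha
  obtain ⟨d, hd⟩ := (R.mem_T hy).1 hb
  rw [map_mul, map_mul, hc, hd, tv_mul, tv_mul, dotProduct_smul, dotProduct_smul, h1, h2]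
  simp only [smul_zero, zero_smul, add_zero]
  abel

lemma System.psl2_case (hx : x ∈ R.P) (hy : y ∈ R.P) (h1 : x.2 ⬝ᵥ y.1 ≠ 0)
    (h2 : y.2 ⬝ᵥ x.1 ≠ 0) : IsPSL2PairOver k (R.T x) (R.T y) ∧ IsRankOnePair (R.T x) (R.T y) := by
  have hxx := (R.adm x hx).2.2
  have hyy := (R.adm y hy).2.2
  let Φ : Matrix.SpecialLinearGroup (Fin 2) k →* Matrix ι ι k :=
    { toFun := fun g => sl2Mat x.1 x.2 y.1 y.2 (g : Matrix (Fin 2) (Fin 2) k)
      map_one' := by rw [Matrix.SpecialLinearGroup.coe_one, sl2Mat_one]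
      map_mul' := fun g h => by
        rw [Matrix.SpecialLinearGroup.coe_mul, sl2Mat_mul hxx hyy h1 h2] }
  have hU : ∀ s, Φ (SL2.U s) = tv ((s * (x.2 ⬝ᵥ y.1)⁻¹) • x.1) x.2 := fun s => sl2Mat_U s
  have hL : ∀ s, Φ (SL2.L s) = tv ((s * (y.2 ⬝ᵥ x.1)⁻¹) • y.1) y.2 := fun s => sl2Mat_L s
  have hmem : ∀ g, ∃ a : G, R.rep a = Φ g := by
    intro g
    have hg : g ∈ lowerUnipotentSL2 k ⊔ upperUnipotentSL2 k := by
      rw [SL2.lower_sup_upper]; exact Subgroup.mem_top g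
    rw [Subgroup.sup_eq_closure] at hg
    induction hg using Subgroup.closure_induction'' with
    | mem u hu =>
      rcases hu with hu | hu
      · obtain ⟨s, rfl⟩ := SL2.mem_lower.mp hu
        rw [hL]; exact R.lift y hy _
      · obtain ⟨s, rfl⟩ := SL2.mem_upper.mp hu
        rw [hU]; exact R.lift x hx _
    | inv_mem u hu =>
      rcases hu with hu | hu
      · obtain ⟨s, rfl⟩ := SL2.mem_lower.mp hu
        rw [SL2.L_inv, hL]; exact R.lift y hy _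
      · obtain ⟨s, rfl⟩ := SL2.mem_upper.mp hu
        rw [SL2.U_inv, hU]; exact R.lift x hx _
    | one => exact ⟨1, by rw [map_one, map_one]⟩
    | mul g h _ _ hg hh =>
      obtain ⟨a, ha⟩ := hg
      obtain ⟨b, hb⟩ := hh
      exact ⟨a * b, by rw [map_mul, map_mul, ha, hb]⟩
  choose f hf using hmem
  let ψ : Matrix.SpecialLinearGroup (Fin 2) k →* G :=
    { toFun := f
      map_one' := R.inj (by rw [hf, map_one, map_one])
      map_mul' := fun g h => R.inj (by rw [hf, map_mul, map_mul, hf, hf]) }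
  have hψ : Function.Injective ψ := by
    rw [injective_iff_map_eq_one]
    intro g hg
    have h := hf g
    rw [show f g = 1 from hg, map_one] at h
    exact Subtype.ext (sl2Mat_injective hxx hyy h1 h2 h.symm)
  have mU : (upperUnipotentSL2 k).map ψ = R.T x := by
    ext a
    rw [Subgroup.mem_map, R.mem_T hx]
    constructor
    · rintro ⟨g, hg, rfl⟩
      obtain ⟨s, rfl⟩ := SL2.mem_upper.mp hg
      exact ⟨_, (hf _).trans (hU s)⟩
    · rintro ⟨c, hc⟩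
      refine ⟨SL2.U (c * (x.2 ⬝ᵥ y.1)), SL2.U_mem _, R.inj ((hf _).trans ?_)⟩
      rw [hU, hc, mul_inv_cancel_right₀ h1]
  have mL : (lowerUnipotentSL2 k).map ψ = R.T y := by
    ext a
    rw [Subgroup.mem_map, R.mem_T hy]
    constructor
    · rintro ⟨g, hg, rfl⟩
      obtain ⟨s, rfl⟩ := SL2.mem_lower.mp hg
      exact ⟨_, (hf _).trans (hL s)⟩
    · rintro ⟨c, hc⟩
      refine ⟨SL2.L (c * (y.2 ⬝ᵥ x.1)), SL2.L_mem _, R.inj ((hf _).trans ?_)⟩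
      rw [hL, hc, mul_inv_cancel_right₀ h2]
  refine ⟨⟨ψ, ?_, ?_, mU, mL⟩, ?_⟩
  · rw [MonoidHom.range_eq_map, ← SL2.lower_sup_upper, Subgroup.map_sup, mU, mL, sup_comm]
  · rw [(MonoidHom.ker_eq_bot_iff ψ).2 hψ]; exact bot_le
  · have := rankOnePair_map ψ hψ (RankOnePair_symm SL2.rankOnePair)
    rwa [mU, mL] at this

lemma System.comm_rep (hx : x ∈ R.P) (hy : y ∈ R.P) (h2 : y.2 ⬝ᵥ x.1 = 0) {a b : G} {c d : k}
    (ha : R.rep a = tv (c • x.1) x.2) (hb : R.rep b = tv (d • y.1) y.2) :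
    R.rep (a * b * a⁻¹ * b⁻¹) = tv ((c * d * (x.2 ⬝ᵥ y.1)) • x.1) y.2 := by
  have hxx := (R.adm x hx).2.2
  have hyy := (R.adm y hy).2.2
  have key : R.rep (a * b) = tv ((c * d * (x.2 ⬝ᵥ y.1)) • x.1) y.2 * R.rep (b * a) := by
    rw [map_mul, map_mul, ha, hb, tv_mul, tv_mul, tv]
    simp only [dotProduct_smul, h2, smul_eq_mul, mul_zero, zero_smul, add_zero, mul_add, add_mul,
      one_mul, mul_one, smul_mul_assoc, mul_smul_comm, vecMulVec_mul_vecMulVec, smul_dotProduct,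
      vecMulVec_smul, smul_vecMulVec, hxx, hyy, vecMulVec_zero, smul_zero, zero_add]
    module
  rw [show a * b * a⁻¹ * b⁻¹ = a * b * (b * a)⁻¹ by group, map_mul, key, mul_assoc, ← map_mul,
    mul_inv_cancel, map_one, mul_one]

lemma System.mixed_case (hx : x ∈ R.P) (hy : y ∈ R.P) (h1 : x.2 ⬝ᵥ y.1 ≠ 0)
    (h2 : y.2 ⬝ᵥ x.1 = 0) : RootCommutatorCase R.S (R.T x) (R.T y) := by
  have hz := R.mix x hx y hy h1 h2
  have hxx := (R.adm x hx).2.2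
  have hyy := (R.adm y hy).2.2
  have hcomm : ∀ a ∈ R.T x, ∀ b ∈ R.T y, a * b * a⁻¹ * b⁻¹ ∈ R.T (x.1, y.2) := by
    intro a ha b hb
    obtain ⟨c, hc⟩ := (R.mem_T hx).1 ha
    obtain ⟨d, hd⟩ := (R.mem_T hy).1 hb
    exact (R.mem_T hz).2 ⟨_, R.comm_rep hx hy h2 hc hd⟩
  have hle : ⁅R.T x, R.T y⁆ ≤ R.T (x.1, y.2) :=
    Subgroup.commutator_le.2 fun a ha b hb => by rw [commutatorElement_def]; exact hcomm a ha b hb
  have hgeL : ∀ a ∈ R.T x, a ≠ 1 →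
      R.T (x.1, y.2) ≤ Subgroup.closure ((fun b : G => a * b * a⁻¹ * b⁻¹) '' (R.T y : Set G)) := by
    intro a ha ha1 z hz'
    obtain ⟨c, hc⟩ := (R.mem_T hx).1 ha
    obtain ⟨e, he⟩ := (R.mem_T hz).1 hz'
    have hc0 : c ≠ 0 := fun h => ha1 (R.inj (by rw [hc, h, zero_smul, tv_zero, map_one]))
    obtain ⟨b, hb⟩ := R.lift y hy (e / (c * (x.2 ⬝ᵥ y.1)))
    refine Subgroup.subset_closure ⟨b, (R.mem_T hy).2 ⟨_, hb⟩, R.inj ?_⟩
    rw [R.comm_rep hx hy h2 hc hb, he]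
    congr 2
    field_simp
  have hgeR : ∀ b ∈ R.T y, b ≠ 1 →
      R.T (x.1, y.2) ≤ Subgroup.closure ((fun a : G => a * b * a⁻¹ * b⁻¹) '' (R.T x : Set G)) := by
    intro b hb' hb1 z hz'
    obtain ⟨d, hd⟩ := (R.mem_T hy).1 hb'
    obtain ⟨e, he⟩ := (R.mem_T hz).1 hz'
    have hd0 : d ≠ 0 := fun h => hb1 (R.inj (by rw [hd, h, zero_smul, tv_zero, map_one]))
    obtain ⟨a, ha⟩ := R.lift x hx (e / (d * (x.2 ⬝ᵥ y.1)))
    refine Subgroup.subset_closure ⟨a, (R.mem_T hx).2 ⟨_, ha⟩, R.inj ?_⟩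
    rw [R.comm_rep hx hy h2 ha hd, he]
    congr 2
    field_simp
  have hL : ∀ a ∈ R.T x, Subgroup.closure ((fun b : G => a * b * a⁻¹ * b⁻¹) '' (R.T y : Set G)) ≤
      ⁅R.T x, R.T y⁆ := fun a ha => by
    rw [Subgroup.closure_le]
    rintro _ ⟨b, hb, rfl⟩
    exact Subgroup.commutator_mem_commutator ha hb
  have hR : ∀ b ∈ R.T y, Subgroup.closure ((fun a : G => a * b * a⁻¹ * b⁻¹) '' (R.T x : Set G)) ≤
      ⁅R.T x, R.T y⁆ := fun b hb => by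
    rw [Subgroup.closure_le]
    rintro _ ⟨a, ha, rfl⟩
    exact Subgroup.commutator_mem_commutator ha hb
  have heq : ⁅R.T x, R.T y⁆ = R.T (x.1, y.2) := by
    refine le_antisymm hle ?_
    obtain ⟨a, ha, ha1⟩ := (Subgroup.bot_or_exists_ne_one (R.T x)).resolve_left (R.T_ne_bot hx)
    exact (hgeL a ha ha1).trans (hL a ha)
  refine ⟨⟨_, hz, heq⟩, ?_, fun a ha ha1 => le_antisymm (hL a ha) (heq ▸ hgeL a ha ha1),
    fun b hb hb1 => le_antisymm (hR b hb) (heq ▸ hgeR b hb hb1)⟩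
  intro z hz'
  have hzx := commutator_eq_bot_iff_comm.mp (R.comm_case hz hx h2 hxx)
  have hzy := commutator_eq_bot_iff_comm.mp (R.comm_case hz hy hyy h2)
  rw [heq] at hz'
  intro w hw
  have hle' : R.T x ⊔ R.T y ≤ Subgroup.centralizer {z} := sup_le
    (fun a ha => Subgroup.mem_centralizer_iff.2 fun h hh => (Set.mem_singleton_iff.1 hh).symm ▸ hzx z hz' a ha)
    (fun a ha => Subgroup.mem_centralizer_iff.2 fun h hh => (Set.mem_singleton_iff.1 hh).symm ▸ hzy z hz' a ha)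
  exact Subgroup.mem_centralizer_iff.1 (hle' hw) z rfl

lemma commCase_symm' {S : Set (Subgroup G)} {A B : Subgroup G} (h : RootCommutatorCase S A B) :
    RootCommutatorCase S B A := by
  obtain ⟨h1, h2, h3, h4⟩ := h
  have hinv : ∀ (x : G) (s : Set G), Subgroup.closure ((fun b : G => b * x * b⁻¹ * x⁻¹) '' s) =
      Subgroup.closure ((fun b : G => x * b * x⁻¹ * b⁻¹) '' s) := by
    intro x s
    rw [← Subgroup.closure_inv]
    congr 1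
    ext z
    rw [Set.mem_inv]
    constructor
    · rintro ⟨b, hb, h⟩
      exact ⟨b, hb, inv_injective (by rw [← h]; group)⟩
    · rintro ⟨b, hb, rfl⟩
      exact ⟨b, hb, by group⟩
  rw [Subgroup.commutator_comm] at h1 h2 h3 h4
  refine ⟨h1, fun c hc z hz => h2 c hc z (sup_comm B A ▸ hz), fun b hb hb1 => ?_, fun a ha ha1 => ?_⟩
  · rw [← hinv]; exact h4 b hb hb1
  · rw [hinv]; exact h3 a ha ha1

theorem System.rootSet : IsRootSubgroupSet R.S := by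
  refine ⟨?_, ?_, ?_, ?_, ?_⟩
  · rintro _ ⟨x, hx, rfl⟩; exact R.T_comm hx
  · rintro _ ⟨x, hx, rfl⟩; exact R.T_ne_bot hx
  · rw [eq_top_iff, ← R.gen, Subgroup.closure_le]
    rintro g ⟨x, hx, c, hc⟩
    exact le_biSup (fun A : Subgroup G => A) (show R.T x ∈ R.S from ⟨x, hx, rfl⟩)
      ((R.mem_T hx).2 ⟨c, hc⟩)
  · rintro _ ⟨x, hx, rfl⟩ g; exact R.T_conj hx g
  · rintro _ ⟨x, hx, rfl⟩ _ ⟨y, hy, rfl⟩
    by_cases h1 : x.2 ⬝ᵥ y.1 = 0 <;> by_cases h2 : y.2 ⬝ᵥ x.1 = 0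
    · exact Or.inl (R.comm_case hx hy h1 h2)
    · exact Or.inr (Or.inr (commCase_symm' (R.mixed_case hy hx h2 h1)))
    · exact Or.inr (Or.inr (R.mixed_case hx hy h1 h2))
    · exact Or.inr (Or.inl (R.psl2_case hx hy h1 h2).2)

theorem System.connected : IsConnectedFamily (FAdj R.S) R.S := by
  rintro _ ⟨x, hx, rfl⟩ _ ⟨y, hy, rfl⟩
  obtain ⟨z, hz, ⟨a1, a2⟩, b1, b2⟩ := R.nbr x hx y hy
  exact (Relation.ReflTransGen.single
    ⟨⟨x, hx, rfl⟩, ⟨z, hz, rfl⟩, (R.psl2_case hx hz a1 a2).2⟩).tail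
    ⟨⟨z, hz, rfl⟩, ⟨y, hy, rfl⟩, RankOnePair_symm (R.psl2_case hy hz b1 b2).2⟩

theorem System.rootClass : IsRootSubgroupClass R.S := by
  refine ⟨R.rootSet, ⟨_, R.nonempty.choose, R.nonempty.choose_spec, rfl⟩, fun A hA B hB => ?_⟩
  have h := R.connected A hA B hB
  clear hA hB
  induction h with
  | refl => exact ⟨1, (conjBy_one A).symm⟩
  | @tail B C _ hBC ih =>
    obtain ⟨g, rfl⟩ := ih
    obtain ⟨u, -, he, -⟩ := exists_conj_pair hBC.2.2 (right_mem hBC.2.2)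
      (unip_left_mem _ _) hBC.2.2.ne.symm
    exact ⟨u * g, by rw [← conjBy_conjBy, he]⟩

theorem System.kRoot : IsKRootSubgroupSet k R.S := by
  refine ⟨R.rootSet, ?_⟩
  rintro _ ⟨x, hx, rfl⟩ _ ⟨y, hy, rfl⟩ h
  by_cases h1 : x.2 ⬝ᵥ y.1 = 0 <;> by_cases h2 : y.2 ⬝ᵥ x.1 = 0
  · exact absurd (R.comm_case hx hy h1 h2) (rankOnePair_not_commute h)
  · exact absurd h (commCase_not_rankOne (commCase_symm' (R.mixed_case hy hx h2 h1)))
  · exact absurd h (commCase_not_rankOne (R.mixed_case hx hy h1 h2))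
  · exact (R.psl2_case hx hy h1 h2).1

end Transv

end CfsgLib.RootSubgroups
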