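import Cfsg.Prelude.Def_Classical
import Cfsg.Agent.RootSubgroups.Transvections
import Cfsg.Agent.RootSubgroups.RootTransport

/-! The Siegel transvection groups of a hyperbolic quadratic form. -/

set_option autoImplicit false

namespace CfsgLib.RootSubgroups.Siegel

open Cfsg Matrix
open CfsgLib.RootSubgroups.Transv

variable {n : ℕ} {F : Type*} [Field F]

local notation "𝕍" => Fin n ⊕ Fin n → F
local notation "Q" => Cfsg.quadFormPlus n F

/-- The functional `B(u, ·)`, as a vector. -/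
def bx (u : Fin n ⊕ Fin n → F) : Fin n ⊕ Fin n → F := fun i => u i.swap

/-- The polar form. -/
def B (u v : Fin n ⊕ Fin n → F) : F := bx u ⬝ᵥ v

lemma B_def (u v : 𝕍) :
    B u v = ∑ i, (u (.inr i) * v (.inl i) + u (.inl i) * v (.inr i)) := by
  simp [B, bx, dotProduct, Fintype.sum_sum_type, Finset.sum_add_distrib]

lemma B_comm (u v : 𝕍) : B u v = B v u := by
  simp only [B_def]; exact Finset.sum_congr rfl fun i _ => by ring

lemma polar (u v : 𝕍) : Q (u + v) = Q u + Q v + B u v := by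
  simp only [Cfsg.quadFormPlus, B_def, Pi.add_apply, ← Finset.sum_add_distrib]
  exact Finset.sum_congr rfl fun i _ => by ring

lemma B_add_right (u v w : 𝕍) : B u (v + w) = B u v + B u w := dotProduct_add ..
lemma B_sub_right (u v w : 𝕍) : B u (v - w) = B u v - B u w := dotProduct_sub ..
lemma B_smul_right (u v : 𝕍) (c : F) : B u (c • v) = c * B u v := by
  rw [B, dotProduct_smul, smul_eq_mul]; rfl
@[simp] lemma B_neg_right (u v : 𝕍) : B u (-v) = -B u v := dotProduct_neg ..
@[simp] lemma B_zero_right (u : 𝕍) : B u 0 = 0 := dotProduct_zero ..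
lemma B_add_left (u v w : 𝕍) : B (u + v) w = B u w + B v w := by
  rw [B_comm, B_add_right, B_comm w, B_comm w]
lemma B_sub_left (u v w : 𝕍) : B (u - v) w = B u w - B v w := by
  rw [B_comm, B_sub_right, B_comm w, B_comm w]
lemma B_smul_left (u v : 𝕍) (c : F) : B (c • u) v = c * B u v := by
  rw [B_comm, B_smul_right, B_comm v]

lemma Q_smul (u : 𝕍) (c : F) : Q (c • u) = c * c * Q u := by
  simp only [Cfsg.quadFormPlus, Pi.smul_apply, smul_eq_mul, Finset.mul_sum]
  exact Finset.sum_congr rfl fun i _ => by ring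

lemma B_self (u : 𝕍) : B u u = 2 * Q u := by
  simp only [Cfsg.quadFormPlus, B_def, Finset.mul_sum]
  exact Finset.sum_congr rfl fun i _ => by ring

lemma B_self_eq_zero {u : 𝕍} (h : Q u = 0) : B u u = 0 := by rw [B_self, h, mul_zero]

lemma eq_zero_of_B {u : 𝕍} (h : ∀ v, B u v = 0) : u = 0 := by
  funext i
  have := h (Pi.single i.swap 1)
  simpa [B, bx] using this

/-- Two independent vectors have a dual pair. -/
lemma exists_dual {p r : 𝕍} (hli : LinearIndependent F ![p, r]) :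
    ∃ u w : 𝕍, B p u = 1 ∧ B r u = 0 ∧ B p w = 0 ∧ B r w = 1 := by
  obtain ⟨u₀, hu₀⟩ : ∃ u, B p u ≠ 0 := by
    by_contra h
    push Not at h
    exact hli.ne_zero 0 (eq_zero_of_B h)
  obtain ⟨e, he⟩ : ∃ e, B p e = 1 :=
    ⟨(B p u₀)⁻¹ • u₀, by rw [B_smul_right, inv_mul_cancel₀ hu₀]⟩
  have hne : r - B r e • p ≠ 0 := fun h => by
    have := LinearIndependent.pair_iff.1 hli (-(B r e)) 1 (by rw [← h]; module)
    exact one_ne_zero this.2
  obtain ⟨w₀, hw₀⟩ : ∃ w, B (r - B r e • p) w ≠ 0 := by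
    by_contra h
    push Not at h
    exact hne (eq_zero_of_B h)
  set f := w₀ - B p w₀ • e with hf
  have hf0 : B p f = 0 := by rw [hf, B_sub_right, B_smul_right, he, mul_one, sub_self]
  have hf1 : B r f ≠ 0 := by
    rw [B_sub_left, B_smul_left] at hw₀
    rwa [hf, B_sub_right, B_smul_right, mul_comm (B p w₀)]
  obtain ⟨w, hw0, hw1⟩ : ∃ w, B p w = 0 ∧ B r w = 1 :=
    ⟨(B r f)⁻¹ • f, by rw [B_smul_right, hf0, mul_zero],
      by rw [B_smul_right, inv_mul_cancel₀ hf1]⟩
  exact ⟨e - B r e • w, w, by rw [B_sub_right, B_smul_right, he, hw0, mul_zero, sub_zero],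
    by rw [B_sub_right, B_smul_right, hw1, mul_one, sub_self], hw0, hw1⟩

/-- A totally singular pair spanning a singular line. -/
def Sing (p r : Fin n ⊕ Fin n → F) : Prop :=
  Cfsg.quadFormPlus n F p = 0 ∧ Cfsg.quadFormPlus n F r = 0 ∧ B p r = 0 ∧
    LinearIndependent F ![p, r]

lemma Sing.symm {p r : 𝕍} (h : Sing p r) : Sing r p :=
  ⟨h.2.1, h.1, by rw [B_comm]; exact h.2.2.1, LinearIndependent.pair_symm_iff.1 h.2.2.2⟩

lemma Sing.Q_comb {p r : 𝕍} (h : Sing p r) (a b : F) : Q (a • p + b • r) = 0 := by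
  rw [polar, Q_smul, Q_smul, h.1, h.2.1, B_smul_left, B_smul_right, h.2.2.1]; ring

lemma Sing.B_comb {p r : 𝕍} (h : Sing p r) (a b c d : F) :
    B (a • p + b • r) (c • p + d • r) = 0 := by
  simp only [B_add_left, B_add_right, B_smul_left, B_smul_right, B_self_eq_zero h.1,
    B_self_eq_zero h.2.1, h.2.2.1, B_comm r p]
  ring

lemma Sing.change {p r : 𝕍} (h : Sing p r) {a b c d : F} (hd : a * d - b * c ≠ 0) :
    Sing (a • p + b • r) (c • p + d • r) := by
  refine ⟨h.Q_comb a b, h.Q_comb c d, h.B_comb a b c d, LinearIndependent.pair_iff.2 fun s t hst => ?_⟩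
  obtain ⟨h1, h2⟩ := LinearIndependent.pair_iff.1 h.2.2.2 (s * a + t * c) (s * b + t * d)
    (by rw [← hst]; module)
  constructor
  · exact (mul_eq_zero.1 (show s * (a * d - b * c) = 0 by linear_combination d * h1 - c * h2)).resolve_right hd
  · exact (mul_eq_zero.1 (show t * (a * d - b * c) = 0 by linear_combination a * h2 - b * h1)).resolve_right hd

/-- The infinitesimal Siegel transvection of a pair. -/
def N (p r : Fin n ⊕ Fin n → F) : Matrix (Fin n ⊕ Fin n) (Fin n ⊕ Fin n) F :=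
  vecMulVec p (bx r) - vecMulVec r (bx p)

lemma N_mulVec (p r v : 𝕍) : N p r *ᵥ v = B r v • p - B p v • r := by
  simp [N, sub_mulVec, vecMulVec_mulVec, op_smul_eq_smul, B]

lemma mat_ext {X Y : Matrix (Fin n ⊕ Fin n) (Fin n ⊕ Fin n) F} (h : ∀ v, X *ᵥ v = Y *ᵥ v) : X = Y :=
  Matrix.ext_iff_mulVec.2 h

lemma N_change (p r : 𝕍) (a b c d : F) :
    N (a • p + b • r) (c • p + d • r) = (a * d - b * c) • N p r := by
  refine mat_ext fun v => ?_
  simp only [N_mulVec, smul_mulVec, B_add_left, B_smul_left]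
  module

lemma N_sq {p r : 𝕍} (h : Sing p r) : N p r * N p r = 0 := by
  refine mat_ext fun v => ?_
  rw [← mulVec_mulVec, N_mulVec, N_mulVec, zero_mulVec]
  simp [B_sub_right, B_smul_right, B_self_eq_zero h.1, B_self_eq_zero h.2.1, h.2.2.1,
    B_comm r p]

lemma N_ne_zero {p r : 𝕍} (h : Sing p r) : N p r ≠ 0 := by
  intro h0
  obtain ⟨u, w, -, hu2, hw1, hw2⟩ := exists_dual h.2.2.2
  have := N_mulVec p r w
  rw [h0, zero_mulVec, hw1, hw2, one_smul, zero_smul, sub_zero] at this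
  exact h.2.2.2.ne_zero 0 this.symm

local notation "GO" => Cfsg.isometryGroup F (Cfsg.quadFormPlus n F)

/-- The matrix of an isometry. -/
def mat : ↥(Cfsg.isometryGroup F (Cfsg.quadFormPlus n F)) →* Matrix (Fin n ⊕ Fin n) (Fin n ⊕ Fin n) F :=
  (Units.coeHom _).comp (Subgroup.subtype _)

lemma mat_injective : Function.Injective (mat (n := n) (F := F)) :=
  fun _ _ h => Subtype.ext (Units.ext h)

lemma mat_Q (g : GO) (v : 𝕍) : Q (mat g *ᵥ v) = Q v := g.2 v v

lemma mat_B (g : GO) (u v : 𝕍) : B (mat g *ᵥ u) (mat g *ᵥ v) = B u v := by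
  have h := polar (mat g *ᵥ u) (mat g *ᵥ v)
  rw [← mulVec_add, mat_Q, mat_Q, mat_Q, polar] at h
  linear_combination -h

lemma mat_mul_inv (g : GO) : mat g * mat g⁻¹ = 1 := by rw [← map_mul, mul_inv_cancel, map_one]

lemma one_add_mul {p r : 𝕍} (h : Sing p r) (c d : F) :
    (1 + c • N p r) * (1 + d • N p r) = 1 + (c + d) • N p r := by
  rw [mul_add, add_mul, add_mul, one_mul, mul_one, one_mul, smul_mul_smul_comm, N_sq h, smul_zero,
    add_zero, add_smul, add_assoc]

lemma exists_elem {p r : 𝕍} (h : Sing p r) (c : F) : ∃ g : GO, mat g = 1 + c • N p r := by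
  let u : Matrix.GeneralLinearGroup (Fin n ⊕ Fin n) F :=
    ⟨1 + c • N p r, 1 + (-c) • N p r, by rw [one_add_mul h, add_neg_cancel, zero_smul, add_zero],
      by rw [one_add_mul h, neg_add_cancel, zero_smul, add_zero]⟩
  refine ⟨⟨u, fun v _ => ?_⟩, rfl⟩
  show Q ((1 + c • N p r) *ᵥ v) = Q v
  rw [add_mulVec, one_mulVec, smul_mulVec, N_mulVec, polar, Q_smul,
    sub_eq_add_neg, ← neg_smul, h.Q_comb, B_smul_right, B_add_right, B_smul_right, B_smul_right,
    B_comm v p, B_comm v r]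
  ring

/-- The group of isometries fixing the orthogonal of the line. -/
def T (p r : Fin n ⊕ Fin n → F) : Subgroup ↥(Cfsg.isometryGroup F (Cfsg.quadFormPlus n F)) :=
  Subgroup.closure {σ | ∀ v : Fin n ⊕ Fin n → F,
    Cfsg.quadFormPlus n F (v + p) - Cfsg.quadFormPlus n F v - Cfsg.quadFormPlus n F p = 0 →
    Cfsg.quadFormPlus n F (v + r) - Cfsg.quadFormPlus n F v - Cfsg.quadFormPlus n F r = 0 →
      ((σ : Matrix.GeneralLinearGroup (Fin n ⊕ Fin n) F) :
        Matrix (Fin n ⊕ Fin n) (Fin n ⊕ Fin n) F) *ᵥ v = v}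

lemma fix_iff {p r : 𝕍} (h : Sing p r) (g : GO) :
    (∀ v : 𝕍, B p v = 0 → B r v = 0 → mat g *ᵥ v = v) ↔ ∃ c : F, mat g = 1 + c • N p r := by
  constructor
  · intro hfix
    obtain ⟨u, w, hu1, hu2, hw1, hw2⟩ := exists_dual h.2.2.2
    set a := mat g *ᵥ u - u with ha
    set b := mat g *ᵥ w - w with hb
    have hga : mat g *ᵥ u = u + a := by rw [ha]; abel
    have hgb : mat g *ᵥ w = w + b := by rw [hb]; abel
    have hperp : ∀ {x y : 𝕍}, B p x = 0 → B r x = 0 → mat g *ᵥ y - y = a ∨ mat g *ᵥ y - y = b →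
        B (mat g *ᵥ y - y) x = 0 := by
      intro x y hx1 hx2 _
      have := mat_B g y x
      rw [hfix x hx1 hx2] at this
      rw [B_sub_left, this, sub_self]
    have hspan : ∀ {y : 𝕍}, mat g *ᵥ y - y = a ∨ mat g *ᵥ y - y = b →
        mat g *ᵥ y - y = B (mat g *ᵥ y - y) u • p + B (mat g *ᵥ y - y) w • r := by
      intro y hy
      rw [← sub_eq_zero]
      set d := mat g *ᵥ y - y with hd
      refine eq_zero_of_B fun v => ?_
      set v' := v - B p v • u - B r v • w with hv'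
      have h1 : B p v' = 0 := by
        rw [hv', B_sub_right, B_sub_right, B_smul_right, B_smul_right, hu1, hw1]; ring
      have h2 : B r v' = 0 := by
        rw [hv', B_sub_right, B_sub_right, B_smul_right, B_smul_right, hu2, hw2]; ring
      have h3 := hperp h1 h2 hy
      rw [← hd, hv', B_sub_right, B_sub_right, B_smul_right, B_smul_right] at h3
      rw [B_sub_left, B_add_left, B_smul_left, B_smul_left]
      linear_combination h3
    obtain ⟨α, β, eA⟩ : ∃ α β : F, a = α • p + β • r :=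
      ⟨_, _, hspan (y := u) (Or.inl ha.symm)⟩
    obtain ⟨γ, δ, eB⟩ : ∃ γ δ : F, b = γ • p + δ • r :=
      ⟨_, _, hspan (y := w) (Or.inr hb.symm)⟩
    have hα : α = 0 := by
      have := mat_Q g u
      rw [hga, eA, polar, h.Q_comb, B_add_right, B_smul_right, B_smul_right, B_comm u p,
        B_comm u r, hu1, hu2] at this
      linear_combination this
    have hδ : δ = 0 := by
      have := mat_Q g w
      rw [hgb, eB, polar, h.Q_comb, B_add_right, B_smul_right, B_smul_right, B_comm w p,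
        B_comm w r, hw1, hw2] at this
      linear_combination this
    have hβ : β = -γ := by
      have := mat_Q g (u + w)
      rw [mulVec_add, hga, hgb, eA, eB, show u + (α • p + β • r) + (w + (γ • p + δ • r)) =
        (u + w) + ((α + γ) • p + (β + δ) • r) by module, polar, h.Q_comb, B_add_right,
        B_smul_right, B_smul_right, B_add_left, B_add_left, B_comm u p, B_comm w p, B_comm u r,
        B_comm w r, hu1, hw1, hu2, hw2, hα, hδ] at this
      linear_combination this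
    refine ⟨γ, mat_ext fun v => ?_⟩
    set v' := v - B p v • u - B r v • w with hv'
    have h1 : B p v' = 0 := by
      rw [hv', B_sub_right, B_sub_right, B_smul_right, B_smul_right, hu1, hw1]; ring
    have h2 : B r v' = 0 := by
      rw [hv', B_sub_right, B_sub_right, B_smul_right, B_smul_right, hu2, hw2]; ring
    conv_lhs => rw [show v = v' + B p v • u + B r v • w by rw [hv']; abel]
    rw [mulVec_add, mulVec_add, mulVec_smul, mulVec_smul, hfix v' h1 h2, hga, hgb, add_mulVec,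
      one_mulVec, smul_mulVec, N_mulVec, hv', eA, eB, hα, hδ, hβ]
    module
  · rintro ⟨c, hc⟩ v h1 h2
    rw [hc, add_mulVec, one_mulVec, smul_mulVec, N_mulVec, h1, h2]
    simp

lemma mem_T {p r : 𝕍} (h : Sing p r) {g : GO} : g ∈ T p r ↔ ∃ c : F, mat g = 1 + c • N p r := by
  have hq : ∀ x v : 𝕍, Q (v + x) - Q v - Q x = B x v := fun x v => by rw [polar, B_comm v]; ring
  constructor
  · intro hg
    induction hg using Subgroup.closure_induction with
    | mem g hg =>
      exact (fix_iff h g).1 fun v h1 h2 => hg v ((hq p v).trans h1) ((hq r v).trans h2)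
    | one => exact ⟨0, by simp⟩
    | mul a b _ _ ha hb =>
      obtain ⟨c, hc⟩ := ha
      obtain ⟨d, hd⟩ := hb
      exact ⟨c + d, by rw [map_mul, hc, hd, one_add_mul h]⟩
    | inv a _ ha =>
      obtain ⟨c, hc⟩ := ha
      refine ⟨-c, ?_⟩
      calc mat a⁻¹ = mat a⁻¹ * (mat a * (1 + (-c) • N p r)) := by
            rw [hc, one_add_mul h, add_neg_cancel, zero_smul, add_zero, mul_one]
        _ = _ := by rw [← mul_assoc, ← map_mul, inv_mul_cancel, map_one, one_mul]
  · intro hg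
    exact Subgroup.subset_closure fun v h1 h2 =>
      (fix_iff h g).2 hg v ((hq p v).symm.trans h1) ((hq r v).symm.trans h2)

/-- The Siegel transvection groups. -/
def S (n : ℕ) (F : Type*) [Field F] : Set (Subgroup ↥(Cfsg.isometryGroup F (Cfsg.quadFormPlus n F))) :=
  {A | ∃ p r : Fin n ⊕ Fin n → F, LinearIndependent F ![p, r] ∧
    Cfsg.quadFormPlus n F p = 0 ∧ Cfsg.quadFormPlus n F r = 0 ∧
    Cfsg.quadFormPlus n F (p + r) = 0 ∧ A = T p r}

lemma mem_S {A : Subgroup GO} : A ∈ S n F ↔ ∃ p r : 𝕍, Sing p r ∧ A = T p r := by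
  constructor
  · rintro ⟨p, r, h1, h2, h3, h4, rfl⟩
    exact ⟨p, r, ⟨h2, h3, by rw [polar, h2, h3] at h4; linear_combination h4, h1⟩, rfl⟩
  · rintro ⟨p, r, h, rfl⟩
    exact ⟨p, r, h.2.2.2, h.1, h.2.1, by rw [polar, h.1, h.2.1, h.2.2.1]; ring, rfl⟩

lemma T_congr {p r p' r' : 𝕍} (h : Sing p r) (h' : Sing p' r') {e : F} (he : e ≠ 0)
    (hN : N p' r' = e • N p r) : T p' r' = T p r := by
  ext g
  rw [mem_T h', mem_T h, hN]
  constructor
  · rintro ⟨c, hc⟩; exact ⟨c * e, by rw [hc, smul_smul]⟩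
  · rintro ⟨c, hc⟩; exact ⟨c / e, by rw [hc, smul_smul, div_mul_cancel₀ c he]⟩

lemma T_change {p r : 𝕍} (h : Sing p r) {a b c d : F} (hd : a * d - b * c ≠ 0) :
    T (a • p + b • r) (c • p + d • r) = T p r :=
  T_congr h (h.change hd) hd (N_change p r a b c d)

lemma conj_N (g : GO) (p r : 𝕍) :
    mat g * N p r * mat g⁻¹ = N (mat g *ᵥ p) (mat g *ᵥ r) := by
  refine mat_ext fun v => ?_
  have key : ∀ x : 𝕍, B x (mat g⁻¹ *ᵥ v) = B (mat g *ᵥ x) v := fun x => by
    conv_rhs => rw [← one_mulVec v, ← mat_mul_inv g, ← mulVec_mulVec, mat_B]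
  rw [← mulVec_mulVec, ← mulVec_mulVec, N_mulVec, N_mulVec, mulVec_sub, mulVec_smul, mulVec_smul,
    key, key]

lemma Sing.map {p r : 𝕍} (h : Sing p r) (g : GO) : Sing (mat g *ᵥ p) (mat g *ᵥ r) := by
  refine ⟨by rw [mat_Q, h.1], by rw [mat_Q, h.2.1], by rw [mat_B, h.2.2.1],
    LinearIndependent.pair_iff.2 fun s t hst => LinearIndependent.pair_iff.1 h.2.2.2 s t ?_⟩
  have := congrArg (mat g⁻¹ *ᵥ ·) hst
  simpa [mulVec_add, mulVec_smul, mulVec_mulVec, ← map_mul] using this

lemma T_conj {p r : 𝕍} (h : Sing p r) (g : GO) :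
    conjBy (T p r) g = T (mat g *ᵥ p) (mat g *ᵥ r) := by
  have key : ∀ x : GO, ∀ c : F, mat x = 1 + c • N p r →
      mat (g * x * g⁻¹) = 1 + c • N (mat g *ᵥ p) (mat g *ᵥ r) := fun x c hx => by
    rw [map_mul, map_mul, hx, ← conj_N, mul_add, add_mul, mul_one, mat_mul_inv, mul_smul_comm,
      smul_mul_assoc]
  ext x
  rw [mem_conjBy, mem_T h, mem_T (h.map g)]
  constructor
  · rintro ⟨c, hc⟩
    exact ⟨c, by rw [← key _ _ hc]; congr 1; group⟩
  · rintro ⟨c, hc⟩
    obtain ⟨y, hy⟩ := exists_elem h c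
    refine ⟨c, ?_⟩
    rw [← hy]
    congr 1
    have : g * y * g⁻¹ = x := mat_injective ((key y c hy).trans hc.symm)
    rw [← this]; group

lemma T_comm {p r : 𝕍} (h : Sing p r) : IsMulCommutative (T p r) := by
  refine ⟨⟨fun ⟨a, ha⟩ ⟨b, hb⟩ => Subtype.ext (mat_injective ?_)⟩⟩
  obtain ⟨c, hc⟩ := (mem_T h).1 ha
  obtain ⟨d, hd⟩ := (mem_T h).1 hb
  simp only [Subgroup.coe_mul, map_mul, hc, hd, one_add_mul h, add_comm c d]

lemma T_ne_bot {p r : 𝕍} (h : Sing p r) : T p r ≠ ⊥ := by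
  intro h0
  obtain ⟨a, ha⟩ := exists_elem h 1
  have : a ∈ T p r := (mem_T h).2 ⟨1, ha⟩
  rw [h0, Subgroup.mem_bot] at this
  rw [this, map_one, one_smul, left_eq_add] at ha
  exact N_ne_zero h ha

/-- Vanishing commutator of the infinitesimal maps gives commuting groups. -/
lemma commute_of_N {p r s t : 𝕍} (h : Sing p r) (h' : Sing s t)
    (hN : N p r * N s t = N s t * N p r) : ⁅T p r, T s t⁆ = ⊥ := by
  refine commutator_eq_bot_iff_comm.mpr fun a ha b hb => mat_injective ?_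
  obtain ⟨c, hc⟩ := (mem_T h).1 ha
  obtain ⟨d, hd⟩ := (mem_T h').1 hb
  rw [map_mul, map_mul, hc, hd]
  simp only [mul_add, add_mul, one_mul, mul_one, smul_mul_smul_comm, hN]
  rw [mul_comm c d]
  abel

/-- Orthogonal lines give commuting groups. -/
lemma comm_case {p r s t : 𝕍} (h : Sing p r) (h' : Sing s t)
    (h1 : B p s = 0) (h2 : B p t = 0) (h3 : B r s = 0) (h4 : B r t = 0) :
    ⁅T p r, T s t⁆ = ⊥ := by
  refine commute_of_N h h' ?_
  refine mat_ext fun v => ?_
  simp [← mulVec_mulVec, N_mulVec, B_sub_right, B_smul_right, h1, h2, h3, h4,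
    B_comm t p, B_comm t r, B_comm s p, B_comm s r]

lemma commutator_mat {R : Type*} [Ring R] {x y x' y' : R} (hx : x * x = 0) (hy : y * y = 0)
    (h1 : x * y * x = 0) (h2 : y * x * y = 0) (ex : x' = -x) (ey : y' = -y) :
    (1 + x) * (1 + y) * (1 + x') * (1 + y') = 1 + (x * y - y * x) := by
  subst ex ey
  have h3 : x * y * y = 0 := by rw [mul_assoc, hy, mul_zero]
  simp [mul_add, add_mul, hx, hy, h1, h2, h3]
  abel

/-- The mixed case: the commutator is the group of the line through `p` and `s`. -/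
lemma mixed_case {p r s t : 𝕍} (h : Sing p r) (h' : Sing s t) (hz : Sing s p)
    (h1 : B p s = 0) (h2 : B p t = 0) (h3 : B r s = 0) (h4 : B r t ≠ 0) :
    RootCommutatorCase (S n F) (T p r) (T s t) := by
  set β := B r t
  have hpp := B_self_eq_zero h.1
  have hss := B_self_eq_zero h'.1
  have hNN : N p r * N s t - N s t * N p r = β • N s p := by
    refine mat_ext fun v => ?_
    simp [sub_mulVec, smul_mulVec, ← mulVec_mulVec, N_mulVec, B_sub_right, B_smul_right, h1, h2, h3,
      B_comm t p, B_comm s p, B_comm s r, B_comm t r, β]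
    module
  have haba : N p r * N s t * N p r = 0 := by
    refine mat_ext fun v => ?_
    simp [← mulVec_mulVec, N_mulVec, B_sub_right, B_smul_right, h1, h2, h3, hpp, h.2.2.1,
      B_comm t p, B_comm s p, B_comm s r, B_comm t r, B_comm r p]
  have hbab : N s t * N p r * N s t = 0 := by
    refine mat_ext fun v => ?_
    simp [← mulVec_mulVec, N_mulVec, B_sub_right, B_smul_right, h1, h2, h3, hss, h'.2.2.1,
      B_comm t p, B_comm s p, B_comm s r, B_comm t r, B_comm t s]
  have crep : ∀ {a b : GO} {c d : F}, mat a = 1 + c • N p r → mat b = 1 + d • N s t →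
      mat (a * b * a⁻¹ * b⁻¹) = 1 + (c * d * β) • N s p := by
    intro a b c d ha hb
    have inv : ∀ {a : GO} {c : F} {u v : 𝕍}, Sing u v → mat a = 1 + c • N u v →
        mat a⁻¹ = 1 + -(c • N u v) := by
      intro a c u v hs ha
      calc mat a⁻¹ = mat a⁻¹ * (mat a * (1 + (-c) • N u v)) := by
            rw [ha, one_add_mul hs, add_neg_cancel, zero_smul, add_zero, mul_one]
        _ = _ := by rw [← mul_assoc, ← map_mul, inv_mul_cancel, map_one, one_mul, neg_smul]
    rw [map_mul, map_mul, map_mul, inv h ha, inv h' hb, ha, hb,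
      commutator_mat (by rw [smul_mul_smul_comm, N_sq h, smul_zero])
        (by rw [smul_mul_smul_comm, N_sq h', smul_zero])
        (by rw [smul_mul_smul_comm, smul_mul_smul_comm, haba, smul_zero])
        (by rw [smul_mul_smul_comm, smul_mul_smul_comm, hbab, smul_zero]) rfl rfl,
      smul_mul_smul_comm, smul_mul_smul_comm, mul_comm d c, ← smul_sub, hNN, smul_smul]
  have hle : ⁅T p r, T s t⁆ ≤ T s p := Subgroup.commutator_le.2 fun a ha b hb => by
    obtain ⟨c, hc⟩ := (mem_T h).1 ha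
    obtain ⟨d, hd⟩ := (mem_T h').1 hb
    rw [commutatorElement_def]
    exact (mem_T hz).2 ⟨_, crep hc hd⟩
  have hgeL : ∀ a ∈ T p r, a ≠ 1 →
      T s p ≤ Subgroup.closure ((fun b : GO => a * b * a⁻¹ * b⁻¹) '' (T s t : Set GO)) := by
    intro a ha ha1 z hz'
    obtain ⟨c, hc⟩ := (mem_T h).1 ha
    obtain ⟨e, he⟩ := (mem_T hz).1 hz'
    have hc0 : c ≠ 0 := fun h0 => ha1 (mat_injective (by rw [hc, h0, zero_smul, add_zero, map_one]))
    obtain ⟨b, hb⟩ := exists_elem h' (e / (c * β))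
    refine Subgroup.subset_closure ⟨b, (mem_T h').2 ⟨_, hb⟩, mat_injective ?_⟩
    rw [crep hc hb, he]
    congr 2
    field_simp
  have hgeR : ∀ b ∈ T s t, b ≠ 1 →
      T s p ≤ Subgroup.closure ((fun a : GO => a * b * a⁻¹ * b⁻¹) '' (T p r : Set GO)) := by
    intro b hb' hb1 z hz'
    obtain ⟨d, hd⟩ := (mem_T h').1 hb'
    obtain ⟨e, he⟩ := (mem_T hz).1 hz'
    have hd0 : d ≠ 0 := fun h0 => hb1 (mat_injective (by rw [hd, h0, zero_smul, add_zero, map_one]))
    obtain ⟨a, ha⟩ := exists_elem h (e / (d * β))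
    refine Subgroup.subset_closure ⟨a, (mem_T h).2 ⟨_, ha⟩, mat_injective ?_⟩
    rw [crep ha hd, he]
    congr 2
    field_simp
  have hL : ∀ a ∈ T p r, Subgroup.closure ((fun b : GO => a * b * a⁻¹ * b⁻¹) '' (T s t : Set GO)) ≤
      ⁅T p r, T s t⁆ := fun a ha => by
    rw [Subgroup.closure_le]
    rintro _ ⟨b, hb, rfl⟩
    exact Subgroup.commutator_mem_commutator ha hb
  have hR : ∀ b ∈ T s t, Subgroup.closure ((fun a : GO => a * b * a⁻¹ * b⁻¹) '' (T p r : Set GO)) ≤
      ⁅T p r, T s t⁆ := fun b hb => by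
    rw [Subgroup.closure_le]
    rintro _ ⟨a, ha, rfl⟩
    exact Subgroup.commutator_mem_commutator ha hb
  have heq : ⁅T p r, T s t⁆ = T s p := by
    refine le_antisymm hle ?_
    obtain ⟨a, ha, ha1⟩ := (Subgroup.bot_or_exists_ne_one (T p r)).resolve_left (T_ne_bot h)
    exact (hgeL a ha ha1).trans (hL a ha)
  refine ⟨mem_S.2 ⟨s, p, hz, heq⟩, ?_, fun a ha ha1 => le_antisymm (hL a ha) (heq ▸ hgeL a ha ha1),
    fun b hb hb1 => le_antisymm (hR b hb) (heq ▸ hgeR b hb hb1)⟩
  intro z hz' w hw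
  have hzx := commutator_eq_bot_iff_comm.mp (comm_case hz h (by rw [B_comm]; exact h1)
    (by rw [B_comm]; exact h3) hpp h.2.2.1)
  have hzy := commutator_eq_bot_iff_comm.mp (comm_case hz h' hss h'.2.2.1 h1 h2)
  rw [heq] at hz'
  have hle' : T p r ⊔ T s t ≤ Subgroup.centralizer {z} := sup_le
    (fun a ha => Subgroup.mem_centralizer_iff.2 fun x hx => (Set.mem_singleton_iff.1 hx).symm ▸ hzx z hz' a ha)
    (fun a ha => Subgroup.mem_centralizer_iff.2 fun x hx => (Set.mem_singleton_iff.1 hx).symm ▸ hzy z hz' a ha)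
  exact Subgroup.mem_centralizer_iff.1 (hle' hw) z rfl

/-- Mixed case with a common point: the groups commute. -/
lemma mixed_comm {p r s t : 𝕍} (h : Sing p r) (h' : Sing s t)
    (h1 : B p s = 0) (h2 : B p t = 0) (h3 : B r s = 0) {e : F} (hs : s = e • p) :
    ⁅T p r, T s t⁆ = ⊥ := by
  refine commute_of_N h h' ?_
  refine mat_ext fun v => ?_
  simp [← mulVec_mulVec, N_mulVec, B_sub_right, B_smul_right, h1, h2, h3, B_comm t p, B_comm s p,
    B_comm s r, B_comm t r]
  rw [hs, B_smul_left]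
  module

lemma sl2_commute {ι k : Type*} [Fintype ι] [DecidableEq ι] [Field k] {p φ q ψ p' φ' q' ψ' : ι → k}
    (a1 : φ ⬝ᵥ p' = 0) (a2 : φ ⬝ᵥ q' = 0) (a3 : ψ ⬝ᵥ p' = 0) (a4 : ψ ⬝ᵥ q' = 0)
    (b1 : φ' ⬝ᵥ p = 0) (b2 : φ' ⬝ᵥ q = 0) (b3 : ψ' ⬝ᵥ p = 0) (b4 : ψ' ⬝ᵥ q = 0)
    (A A' : Matrix (Fin 2) (Fin 2) k) :
    sl2Mat p φ q ψ A * sl2Mat p' φ' q' ψ' A' = sl2Mat p' φ' q' ψ' A' * sl2Mat p φ q ψ A := by
  simp only [sl2Mat, add_mul, mul_add, one_mul, mul_one, smul_mul_smul_comm,
    vecMulVec_mul_vecMulVec, smul_dotProduct, a1, a2, a3, a4, b1, b2, b3, b4, smul_zero,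
    zero_smul, vecMulVec_zero, add_zero]
  abel

/-- Opposite lines: an embedded `SL₂`. -/
theorem psl2_case {p r s t : 𝕍} (h : Sing p r) (h' : Sing s t)
    (h1 : B p s = 1) (h2 : B p t = 0) (h3 : B r s = 0) (h4 : B r t = 1) :
    IsPSL2PairOver F (T p r) (T s t) ∧ IsRankOnePair (T p r) (T s t) := by
  have hpp := B_self_eq_zero h.1
  have hrr := B_self_eq_zero h.2.1
  have hss := B_self_eq_zero h'.1
  have htt := B_self_eq_zero h'.2.1
  have hpr := h.2.2.1
  have hrp : B r p = 0 := by rw [B_comm]; exact hpr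
  have hst := h'.2.2.1
  have hts : B t s = 0 := by rw [B_comm]; exact hst
  have htp : B t p = 0 := by rw [B_comm]; exact h2
  have hsr : B s r = 0 := by rw [B_comm]; exact h3
  have hsp : B s p = 1 := by rw [B_comm]; exact h1
  have htr : B t r = 1 := by rw [B_comm]; exact h4
  have hneg : ∀ {x y : 𝕍}, bx x ⬝ᵥ (-y) = -B x y := fun {x y} => dotProduct_neg ..
  have c1 : bx r ⬝ᵥ p = 0 := hrp
  have c2 : bx s ⬝ᵥ t = 0 := hst
  have c3 : bx r ⬝ᵥ t ≠ 0 := by rw [show bx r ⬝ᵥ t = 1 from h4]; exact one_ne_zero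
  have c4 : bx s ⬝ᵥ p ≠ 0 := by rw [show bx s ⬝ᵥ p = 1 from hsp]; exact one_ne_zero
  have d1 : bx p ⬝ᵥ r = 0 := hpr
  have d2 : bx t ⬝ᵥ (-s) = 0 := by rw [hneg, hts, neg_zero]
  have d3 : bx p ⬝ᵥ (-s) ≠ 0 := by rw [hneg, h1]; exact neg_ne_zero.2 one_ne_zero
  have d4 : bx t ⬝ᵥ r ≠ 0 := by rw [show bx t ⬝ᵥ r = 1 from htr]; exact one_ne_zero
  have hc : ∀ A A' : Matrix (Fin 2) (Fin 2) F,
      sl2Mat p (bx r) t (bx s) A * sl2Mat r (bx p) (-s) (bx t) A' =
        sl2Mat r (bx p) (-s) (bx t) A' * sl2Mat p (bx r) t (bx s) A :=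
    sl2_commute hrr (by rw [hneg, h3, neg_zero]) hsr (by rw [hneg, hss, neg_zero]) hpp h2 htp htt
  let Φ : Matrix.SpecialLinearGroup (Fin 2) F →* Matrix (Fin n ⊕ Fin n) (Fin n ⊕ Fin n) F :=
    { toFun := fun g => sl2Mat p (bx r) t (bx s) (g : Matrix (Fin 2) (Fin 2) F) *
        sl2Mat r (bx p) (-s) (bx t) (g : Matrix (Fin 2) (Fin 2) F)
      map_one' := by rw [Matrix.SpecialLinearGroup.coe_one, sl2Mat_one, sl2Mat_one, one_mul]
      map_mul' := fun g g' => by
        rw [Matrix.SpecialLinearGroup.coe_mul, sl2Mat_mul c1 c2 c3 c4, sl2Mat_mul d1 d2 d3 d4]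
        simp only [mul_assoc]
        rw [← mul_assoc (sl2Mat p (bx r) t (bx s) (g' : Matrix (Fin 2) (Fin 2) F)), hc]
        simp only [mul_assoc] }
  have hU : ∀ x, Φ (SL2.U x) = 1 + x • N p r := fun x => by
    show sl2Mat p (bx r) t (bx s) _ * sl2Mat r (bx p) (-s) (bx t) _ = _
    rw [sl2Mat_U, sl2Mat_U, tv_mul, show bx r ⬝ᵥ t = 1 from h4,
      show bx p ⬝ᵥ (-s) = -1 by rw [hneg, h1], inv_one, mul_one, inv_neg, inv_one, mul_neg, mul_one,
      dotProduct_smul, show bx r ⬝ᵥ r = 0 from hrr, smul_zero, zero_smul, add_zero, N, smul_sub,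
      smul_vecMulVec, smul_vecMulVec, neg_smul]
    abel
  have hL : ∀ x, Φ (SL2.L x) = 1 + (-x) • N s t := fun x => by
    show sl2Mat p (bx r) t (bx s) _ * sl2Mat r (bx p) (-s) (bx t) _ = _
    rw [sl2Mat_L, sl2Mat_L, tv_mul, show bx s ⬝ᵥ p = 1 from hsp,
      show bx t ⬝ᵥ r = 1 from htr, inv_one, mul_one,
      dotProduct_smul, show bx s ⬝ᵥ (-s) = 0 by rw [hneg, hss, neg_zero], smul_zero, zero_smul,
      add_zero, N, smul_sub, smul_vecMulVec, smul_vecMulVec, neg_vecMulVec, smul_neg, neg_smul, neg_smul]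
    abel
  have hmem : ∀ g, ∃ a : GO, mat a = Φ g := by
    intro g
    have hg : g ∈ lowerUnipotentSL2 F ⊔ upperUnipotentSL2 F := by
      rw [SL2.lower_sup_upper]; exact Subgroup.mem_top g
    rw [Subgroup.sup_eq_closure] at hg
    induction hg using Subgroup.closure_induction'' with
    | mem u hu =>
      rcases hu with hu | hu
      · obtain ⟨x, rfl⟩ := SL2.mem_lower.mp hu
        rw [hL]; exact exists_elem h' _
      · obtain ⟨x, rfl⟩ := SL2.mem_upper.mp hu
        rw [hU]; exact exists_elem h _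
    | inv_mem u hu =>
      rcases hu with hu | hu
      · obtain ⟨x, rfl⟩ := SL2.mem_lower.mp hu
        rw [SL2.L_inv, hL]; exact exists_elem h' _
      · obtain ⟨x, rfl⟩ := SL2.mem_upper.mp hu
        rw [SL2.U_inv, hU]; exact exists_elem h _
    | one => exact ⟨1, by rw [map_one, map_one]⟩
    | mul g g' _ _ hg hh =>
      obtain ⟨a, ha⟩ := hg
      obtain ⟨b, hb⟩ := hh
      exact ⟨a * b, by rw [map_mul, map_mul, ha, hb]⟩
  choose f hf using hmem
  let ψ : Matrix.SpecialLinearGroup (Fin 2) F →* GO :=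
    { toFun := f
      map_one' := mat_injective (by rw [hf, map_one, map_one])
      map_mul' := fun g g' => mat_injective (by rw [hf, map_mul, map_mul, hf, hf]) }
  have hψ : Function.Injective ψ := by
    rw [injective_iff_map_eq_one]
    intro g hg
    have h0 := hf g
    rw [show f g = 1 from hg, map_one] at h0
    replace h0 : (1 : Matrix (Fin n ⊕ Fin n) (Fin n ⊕ Fin n) F) =
      sl2Mat p (bx r) t (bx s) (g : Matrix (Fin 2) (Fin 2) F) *
        sl2Mat r (bx p) (-s) (bx t) (g : Matrix (Fin 2) (Fin 2) F) := h0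
    have fix2 : ∀ {x : 𝕍}, bx p ⬝ᵥ x = 0 → bx t ⬝ᵥ x = 0 →
        sl2Mat r (bx p) (-s) (bx t) (g : Matrix (Fin 2) (Fin 2) F) *ᵥ x = x := by
      intro x hx1 hx2
      simp only [sl2Mat, add_mulVec, smul_mulVec, vecMulVec_mulVec, op_smul_eq_smul, smul_dotProduct,
        hx1, hx2, smul_zero, zero_smul, add_zero, one_mulVec]
    have act : ∀ x : 𝕍, sl2Mat p (bx r) t (bx s) (g : Matrix (Fin 2) (Fin 2) F) *ᵥ x =
        x + ((((g : Matrix (Fin 2) (Fin 2) F) 0 0 - 1) * B s x + (g : Matrix (Fin 2) (Fin 2) F) 0 1 * B r x) • p +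
          ((g : Matrix (Fin 2) (Fin 2) F) 1 0 * B s x + ((g : Matrix (Fin 2) (Fin 2) F) 1 1 - 1) * B r x) • t) := by
      intro x
      simp only [sl2Mat, show bx s ⬝ᵥ p = 1 from hsp, show bx r ⬝ᵥ t = 1 from h4, inv_one, one_smul,
        add_mulVec, one_mulVec, smul_mulVec, vecMulVec_mulVec, op_smul_eq_smul, smul_smul]
      simp only [B]
      module
    have hp : p = sl2Mat p (bx r) t (bx s) (g : Matrix (Fin 2) (Fin 2) F) *ᵥ p := by
      conv_lhs => rw [← one_mulVec p, h0, ← mulVec_mulVec, fix2 hpp htp]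
    have ht : t = sl2Mat p (bx r) t (bx s) (g : Matrix (Fin 2) (Fin 2) F) *ᵥ t := by
      conv_lhs => rw [← one_mulVec t, h0, ← mulVec_mulVec, fix2 h2 htt]
    rw [act, hsp, hrp, mul_one, mul_one, mul_zero, mul_zero, add_zero, add_zero, left_eq_add] at hp
    rw [act, hst, h4, mul_one, mul_one, mul_zero, mul_zero, zero_add, zero_add, left_eq_add] at ht
    have e1 := congrArg (B s) hp
    have e2 := congrArg (B r) hp
    have e3 := congrArg (B s) ht
    have e4 := congrArg (B r) ht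
    simp [B_add_right, B_smul_right, hsp, hst, hrp, h4, sub_eq_zero] at e1 e2 e3 e4
    ext i j
    fin_cases i <;> fin_cases j <;> assumption
  have mU : (upperUnipotentSL2 F).map ψ = T p r := by
    ext a
    rw [Subgroup.mem_map, mem_T h]
    constructor
    · rintro ⟨g, hg, rfl⟩
      obtain ⟨x, rfl⟩ := SL2.mem_upper.mp hg
      exact ⟨_, (hf _).trans (hU x)⟩
    · rintro ⟨c, hc⟩
      exact ⟨SL2.U c, SL2.U_mem _, mat_injective (((hf _).trans (hU c)).trans hc.symm)⟩
  have mL : (lowerUnipotentSL2 F).map ψ = T s t := by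
    ext a
    rw [Subgroup.mem_map, mem_T h']
    constructor
    · rintro ⟨g, hg, rfl⟩
      obtain ⟨x, rfl⟩ := SL2.mem_lower.mp hg
      exact ⟨_, (hf _).trans (hL x)⟩
    · rintro ⟨c, hc⟩
      refine ⟨SL2.L (-c), SL2.L_mem _, mat_injective ((hf _).trans ?_)⟩
      rw [hL, neg_neg, hc]
  refine ⟨⟨ψ, ?_, ?_, mU, mL⟩, ?_⟩
  · rw [MonoidHom.range_eq_map, ← SL2.lower_sup_upper, Subgroup.map_sup, mU, mL, sup_comm]
  · rw [(MonoidHom.ker_eq_bot_iff ψ).2 hψ]; exact bot_le
  · have := rankOnePair_map ψ hψ (RankOnePair_symm SL2.rankOnePair)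
    rwa [mU, mL] at this

/-- The three cases. -/
theorem trichotomy {p r s t : 𝕍} (h : Sing p r) (h' : Sing s t) :
    ⁅T p r, T s t⁆ = ⊥ ∨ RootCommutatorCase (S n F) (T p r) (T s t) ∨
      (IsPSL2PairOver F (T p r) (T s t) ∧ IsRankOnePair (T p r) (T s t)) := by
  set α := B p s with hα
  set β := B p t with hβ
  set γ := B r s with hγ
  set δ := B r t with hδ
  by_cases hd : α * δ - β * γ = 0
  · by_cases hall : α = 0 ∧ β = 0 ∧ γ = 0 ∧ δ = 0
    · exact Or.inl (comm_case h h' hall.1 hall.2.1 hall.2.2.1 hall.2.2.2)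
    · -- a left and a right kernel
      obtain ⟨a, b, c, d, hab, k1, k2⟩ : ∃ a b c d : F, a * d - b * c ≠ 0 ∧
          a * α + b * γ = 0 ∧ a * β + b * δ = 0 := by
        by_cases hz : γ = 0 ∧ δ = 0
        · exact ⟨0, 1, -1, 0, by simp, by simp [hz.1], by simp [hz.2]⟩
        · rcases not_and_or.1 hz with hg | hg
          · exact ⟨γ, -α, 0, 1, by simpa using hg, by ring, by linear_combination -hd⟩
          · exact ⟨δ, -β, 0, 1, by simpa using hg, by linear_combination hd, by ring⟩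
      set p' := a • p + b • r with hp'
      set r' := c • p + d • r with hr'
      have hne : B r' s ≠ 0 ∨ B r' t ≠ 0 := by
        by_contra hh
        push Not at hh
        simp only [hr', B_add_left, B_smul_left, ← hα, ← hβ, ← hγ, ← hδ] at hh
        refine hall ⟨?_, ?_, ?_, ?_⟩ <;> refine (mul_eq_zero.1 ?_).resolve_left hab
        · linear_combination d * k1 - b * hh.1
        · linear_combination d * k2 - b * hh.2
        · linear_combination a * hh.1 - c * k1
        · linear_combination a * hh.2 - c * k2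
      obtain ⟨a', b', c', d', hab', k3, k4⟩ : ∃ a' b' c' d' : F, a' * d' - b' * c' ≠ 0 ∧
          a' * B r' s + b' * B r' t = 0 ∧ c' * B r' s + d' * B r' t ≠ 0 := by
        rcases hne with hg | hg
        · exact ⟨B r' t, -(B r' s), 1, 0, by simpa using hg, by ring, by simpa using hg⟩
        · exact ⟨B r' t, -(B r' s), 0, 1, by simpa using hg, by ring, by simpa using hg⟩
      rw [← T_change h hab, ← T_change h' hab', ← hp', ← hr']
      have hps : B p' s = 0 := by rw [hp', B_add_left, B_smul_left, B_smul_left]; exact k1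
      have hpt : B p' t = 0 := by rw [hp', B_add_left, B_smul_left, B_smul_left]; exact k2
      have e1 : B p' (a' • s + b' • t) = 0 := by simp [B_add_right, B_smul_right, hps, hpt]
      have e2 : B p' (c' • s + d' • t) = 0 := by simp [B_add_right, B_smul_right, hps, hpt]
      have e3 : B r' (a' • s + b' • t) = 0 := by rw [B_add_right, B_smul_right, B_smul_right]; exact k3
      have e4 : B r' (c' • s + d' • t) ≠ 0 := by rwa [B_add_right, B_smul_right, B_smul_right]
      have H := h.change hab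
      have H' := h'.change hab'
      rw [← hp', ← hr'] at H
      by_cases hli : LinearIndependent F ![a' • s + b' • t, p']
      · exact Or.inr (Or.inl (mixed_case H H' ⟨H'.1, H.1, by rw [B_comm]; exact e1, hli⟩ e1 e2 e3 e4))
      · rw [LinearIndependent.pair_symm_iff, LinearIndependent.pair_iff' (show p' ≠ 0 from H.2.2.2.ne_zero 0)] at hli
        push Not at hli
        obtain ⟨e, he⟩ := hli
        exact Or.inl (mixed_comm H H' e1 e2 e3 he.symm)
  · have hd' : δ / (α * δ - β * γ) * (α / (α * δ - β * γ)) -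
        (-γ / (α * δ - β * γ)) * (-β / (α * δ - β * γ)) ≠ 0 := by
      rw [div_mul_div_comm, div_mul_div_comm, ← sub_div, neg_mul_neg]
      exact div_ne_zero (fun h0 => hd (by linear_combination h0)) (mul_ne_zero hd hd)
    refine Or.inr (Or.inr ?_)
    rw [← T_change h' hd']
    refine psl2_case h (h'.change hd') ?_ ?_ ?_ ?_ <;>
      (simp only [B_add_right, B_smul_right, ← hα, ← hβ, ← hγ, ← hδ];
       rw [div_mul_eq_mul_div, div_mul_eq_mul_div, ← add_div];
       first
         | exact (div_eq_one_iff_eq hd).2 (by ring)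
         | exact div_eq_zero_iff.2 (Or.inl (by ring)))

lemma mem_S_of {p r : 𝕍} (h : Sing p r) : T p r ∈ S n F := mem_S.2 ⟨p, r, h, rfl⟩

lemma adj_of {p r s t : 𝕍} (h : Sing p r) (h' : Sing s t) (hd : B p s * B r t - B p t * B r s ≠ 0) :
    FAdj (S n F) (T p r) (T s t) := by
  refine ⟨mem_S_of h, mem_S_of h', ?_⟩
  set D := B p s * B r t - B p t * B r s with hD
  have hd' : B r t / D * (B p s / D) - (-(B r s) / D) * (-(B p t) / D) ≠ 0 := by
    rw [div_mul_div_comm, div_mul_div_comm, ← sub_div, neg_mul_neg]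
    exact div_ne_zero (fun h0 => hd (by rw [hD]; linear_combination h0)) (mul_ne_zero hd hd)
  rw [← T_change h' hd']
  refine (psl2_case h (h'.change hd') ?_ ?_ ?_ ?_).2 <;>
    (simp only [B_add_right, B_smul_right];
     rw [div_mul_eq_mul_div, div_mul_eq_mul_div, ← add_div];
     first
       | exact (div_eq_one_iff_eq hd).2 (by rw [hD]; ring)
       | exact div_eq_zero_iff.2 (Or.inl (by ring)))

variable (hn : 3 ≤ n)

include hn

lemma exists_singular_perp (p s : 𝕍) : ∃ u : 𝕍, u ≠ 0 ∧ Q u = 0 ∧ B p u = 0 ∧ B s u = 0 := by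
  let L : (Fin n → F) →ₗ[F] (Fin 2 → F) :=
    LinearMap.pi fun j => ∑ i, ((![p, s] j) (.inr i)) • LinearMap.proj i
  have hker : LinearMap.ker L ≠ ⊥ := fun h => by
    have := LinearMap.finrank_le_finrank_of_injective (LinearMap.ker_eq_bot.1 h)
    simp at this
    omega
  obtain ⟨x, hx, hx0⟩ := (Submodule.ne_bot_iff _).1 hker
  refine ⟨Sum.elim x 0, fun h => hx0 (funext fun i => congrFun h (.inl i)), by simp [Cfsg.quadFormPlus], ?_, ?_⟩
  · have := congrFun hx 0
    simpa [L, B_def, LinearMap.sum_apply] using this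
  · have := congrFun hx 1
    simpa [L, B_def, LinearMap.sum_apply] using this

lemma exists_nonsingular_perp (e : Fin 4 → 𝕍) : ∃ f : 𝕍, f ≠ 0 ∧ ∀ j, B (e j) f = 0 := by
  let L : (Fin n ⊕ Fin n → F) →ₗ[F] (Fin 4 → F) :=
    LinearMap.pi fun j => ∑ i, (bx (e j) i) • LinearMap.proj i
  have hker : LinearMap.ker L ≠ ⊥ := fun h => by
    have := LinearMap.finrank_le_finrank_of_injective (LinearMap.ker_eq_bot.1 h)
    simp at this
    omega
  obtain ⟨x, hx, hx0⟩ := (Submodule.ne_bot_iff _).1 hker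
  refine ⟨x, hx0, fun j => ?_⟩
  have := congrFun hx j
  simpa [L, B, dotProduct, LinearMap.sum_apply] using this

lemma common_point {p r t : 𝕍} (h : Sing p r) (h' : Sing p t) :
    Relation.ReflTransGen (FAdj (S n F)) (T p r) (T p t) := by
  obtain ⟨u₀, -, hu₀, -, -, -⟩ := exists_dual h.2.2.2
  obtain ⟨s, hps, hQs⟩ : ∃ s, B p s = 1 ∧ Q s = 0 :=
    ⟨u₀ - Q u₀ • p, by rw [B_sub_right, B_smul_right, hu₀, B_self_eq_zero h.1]; ring,
      by rw [sub_eq_add_neg, ← neg_smul, polar, Q_smul, h.1, B_smul_right, B_comm, hu₀]; ring⟩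
  have hsp : B s p = 1 := by rw [B_comm]; exact hps
  have hss := B_self_eq_zero hQs
  have hpp := B_self_eq_zero h.1
  -- adjusted second points
  have adj : ∀ {x : 𝕍}, Sing p x → ∃ a : 𝕍, Sing p a ∧ T p a = T p x ∧ B s a = 0 ∧ a ≠ 0 := by
    intro x hx
    have hd : (1 : F) * 1 - 0 * -(B s x) ≠ 0 := by simp
    have H := hx.change hd
    have HT := T_change hx hd
    simp only [one_smul, zero_smul, add_zero] at H HT
    refine ⟨_, H, HT, ?_, H.2.2.2.ne_zero 1⟩
    rw [B_add_right, B_smul_right, hsp]; ring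
  obtain ⟨a, ha, haT, hsa, ha0⟩ := adj h
  obtain ⟨b, hb, hbT, hsb, hb0⟩ := adj h'
  suffices hw : ∃ w : 𝕍, Q w = 0 ∧ B p w = 0 ∧ B s w = 0 ∧ B a w ≠ 0 ∧ B b w ≠ 0 by
    obtain ⟨w, hQw, hpw, hsw, haw, hbw⟩ := hw
    have hz : Sing s w := by
      refine ⟨hQs, hQw, hsw, LinearIndependent.pair_iff.2 fun x y hxy => ?_⟩
      have e1 := congrArg (B p) hxy
      have e2 := congrArg (B a) hxy
      simp [B_add_right, B_smul_right, hps, hpw, B_comm a s, hsa, haw,
        show B p (0 : 𝕍) = 0 from dotProduct_zero _, show B a (0 : 𝕍) = 0 from dotProduct_zero _] at e1 e2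
      exact ⟨e1, e2⟩
    rw [← haT, ← hbT]
    exact (Relation.ReflTransGen.single (adj_of ha hz (by simp [hps, hpw, haw]))).tail
      (adj_of hz hb (by simp [hsp, B_comm w p, hpw, B_comm w b, hbw, hsb]))
  -- project to the orthogonal of the plane
  have proj : ∀ x : 𝕍, ∃ y : 𝕍, B p y = 0 ∧ B s y = 0 ∧
      ∀ z : 𝕍, B p z = 0 → B s z = 0 → B z y = B z x := fun x => by
    refine ⟨x - B s x • p - B p x • s, ?_, ?_, fun z hz1 hz2 => ?_⟩
    · simp [B_sub_right, B_smul_right, hpp, hps]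
    · simp [B_sub_right, B_smul_right, hsp, hss]
    · simp [B_sub_right, B_smul_right, B_comm z p, B_comm z s, hz1, hz2]
  have hpa := ha.2.2.1
  have hpb := hb.2.2.1
  have haa := B_self_eq_zero ha.2.1
  have hbb := B_self_eq_zero hb.2.1
  have dual : ∀ {a : 𝕍}, a ≠ 0 → Q a = 0 → B p a = 0 → B s a = 0 →
      ∃ u, Q u = 0 ∧ B p u = 0 ∧ B s u = 0 ∧ B a u = 1 := by
    intro a ha0 hQa h1 h2
    obtain ⟨v, hv⟩ : ∃ v, B a v ≠ 0 := by
      by_contra hh
      push Not at hh
      exact ha0 (eq_zero_of_B hh)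
    obtain ⟨y, hy1, hy2, hy3⟩ := proj ((B a v)⁻¹ • v)
    have hay : B a y = 1 := by rw [hy3 a h1 h2, B_smul_right, inv_mul_cancel₀ hv]
    refine ⟨y - Q y • a, ?_, ?_, ?_, ?_⟩
    · rw [sub_eq_add_neg, ← neg_smul, polar, Q_smul, hQa, B_smul_right, B_comm, hay]; ring
    · simp [B_sub_right, B_smul_right, hy1, h1]
    · simp [B_sub_right, B_smul_right, hy2, h2]
    · simp [B_sub_right, B_smul_right, hay, B_self_eq_zero hQa]
  obtain ⟨u, hQu, hu1, hu2, hau⟩ := dual ha0 ha.2.1 hpa hsa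
  obtain ⟨u', hQu', hu1', hu2', hbu'⟩ := dual hb0 hb.2.1 hpb hsb
  by_cases hbu : B b u ≠ 0
  · exact ⟨u, hQu, hu1, hu2, by simp [hau], hbu⟩
  by_cases hau' : B a u' ≠ 0
  · exact ⟨u', hQu', hu1', hu2', hau', by simp [hbu']⟩
  push Not at hbu hau'
  by_cases hab : B a b = 0
  · refine ⟨u + u' + (-(B u u')) • a, ?_, ?_, ?_, ?_, ?_⟩
    · rw [polar, polar, Q_smul, hQu, hQu', ha.2.1, B_smul_right, B_add_left, B_comm u a, B_comm u' a,
        hau, hau']
      ring
    · simp [B_add_right, B_smul_right, hu1, hu1', hpa]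
    · simp [B_add_right, B_smul_right, hu2, hu2', hsa]
    · simp [B_add_right, B_smul_right, hau, hau', haa]
    · simp [B_add_right, B_smul_right, hbu, hbu', B_comm b a, hab]
  · obtain ⟨f₀, hf0, hf⟩ := exists_nonsingular_perp hn ![p, s, a, b]
    have hp0 : B p f₀ = 0 := hf 0
    have hs0 : B s f₀ = 0 := hf 1
    have ha0' : B a f₀ = 0 := hf 2
    have hb0' : B b f₀ = 0 := hf 3
    obtain ⟨f, hQf, hf1, hf2, hf3, hf4⟩ : ∃ f, Q f ≠ 0 ∧ B p f = 0 ∧ B s f = 0 ∧ B a f = 0 ∧ B b f = 0 := by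
      by_contra hall
      push Not at hall
      apply hf0
      refine eq_zero_of_B fun v => ?_
      obtain ⟨y, hy1, hy2, hy3⟩ := proj v
      set y' := y - (B b y / B a b) • a - (B a y / B a b) • b with hy'
      have g1 : B p y' = 0 := by simp [hy', B_sub_right, B_smul_right, hy1, hpa, hpb]
      have g2 : B s y' = 0 := by simp [hy', B_sub_right, B_smul_right, hy2, hsa, hsb]
      have g3 : B a y' = 0 := by
        simp [hy', B_sub_right, B_smul_right, haa]; field_simp; ring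
      have g4 : B b y' = 0 := by
        simp [hy', B_sub_right, B_smul_right, hbb, B_comm b a]; field_simp; ring
      have q1 : Q f₀ = 0 := by
        by_contra hne; exact hall f₀ hne hp0 hs0 ha0' hb0'
      have q2 : Q y' = 0 := by
        by_contra hne; exact hall y' hne g1 g2 g3 g4
      have q3 : Q (f₀ + y') = 0 := by
        by_contra hne
        exact hall _ hne (by simp [B_add_right, hp0, g1]) (by simp [B_add_right, hs0, g2])
          (by simp [B_add_right, ha0', g3]) (by simp [B_add_right, hb0', g4])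
      have hfy : B f₀ y' = B f₀ y := by
        simp [hy', B_sub_right, B_smul_right, B_comm f₀ a, B_comm f₀ b, ha0', hb0']
      rw [← hy3 f₀ hp0 hs0, ← hfy]
      rw [polar, q1, q2] at q3
      linear_combination q3
    have hab' : -(Q f) / B a b ≠ 0 := div_ne_zero (neg_ne_zero.2 hQf) hab
    refine ⟨a + (-(Q f) / B a b) • b + f, ?_, ?_, ?_, ?_, ?_⟩
    · rw [polar, polar, Q_smul, ha.2.1, hb.2.1, B_smul_right, B_add_left, B_smul_left, hf3, hf4]
      field_simp
      ring
    · simp [B_add_right, B_smul_right, hf1, hpa, hpb]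
    · simp [B_add_right, B_smul_right, hf2, hsa, hsb]
    · simp [B_add_right, B_smul_right, hf3, haa, hab, hQf]
    · simp [B_add_right, B_smul_right, hf4, hbb, B_comm b a, hab]

theorem connected : IsConnectedFamily (FAdj (S n F)) (S n F) := by
  rintro A hA C hC
  obtain ⟨p, r, h, rfl⟩ := mem_S.1 hA
  obtain ⟨s, t, h', rfl⟩ := mem_S.1 hC
  have swap : ∀ {x y : 𝕍}, Sing x y → T x y = T y x := fun {x y} hxy =>
    (T_congr hxy hxy.symm (neg_ne_zero.2 one_ne_zero)
      (by rw [N, N, neg_smul, one_smul, neg_sub])).symm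
  by_cases hli : LinearIndependent F ![p, s]
  · have step : ∀ {a c : 𝕍}, Q a = 0 → Q c = 0 → B a c = 0 → LinearIndependent F ![a, c] →
        ∀ {x y : 𝕍}, Sing a x → Sing c y →
          Relation.ReflTransGen (FAdj (S n F)) (T a x) (T c y) := by
      intro a c q1 q2 q3 hl x y hx hy
      have hac : Sing a c := ⟨q1, q2, q3, hl⟩
      refine (common_point hn hx hac).trans ?_
      rw [swap hac]
      exact common_point hn hac.symm hy
    by_cases hps : B p s = 0
    · exact step h.1 h'.1 hps hli h h'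
    · obtain ⟨u, hu0, hQu, hpu, hsu⟩ := exists_singular_perp hn p s
      have hup : LinearIndependent F ![u, p] := by
        refine LinearIndependent.pair_iff.2 fun x y hxy => ?_
        have e2 := congrArg (B s) hxy
        simp [B_add_right, B_smul_right, hsu, B_comm s p, hps,
          show B s (0 : 𝕍) = 0 from dotProduct_zero _] at e2
        rw [e2, zero_smul, add_zero, smul_eq_zero] at hxy
        exact ⟨hxy.resolve_right hu0, e2⟩
      have hus : LinearIndependent F ![u, s] := by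
        refine LinearIndependent.pair_iff.2 fun x y hxy => ?_
        have e2 := congrArg (B p) hxy
        simp [B_add_right, B_smul_right, hpu, hps,
          show B p (0 : 𝕍) = 0 from dotProduct_zero _] at e2
        rw [e2, zero_smul, add_zero, smul_eq_zero] at hxy
        exact ⟨hxy.resolve_right hu0, e2⟩
      have sup' : Sing u p := ⟨hQu, h.1, by rw [B_comm]; exact hpu, hup⟩
      have sus : Sing u s := ⟨hQu, h'.1, by rw [B_comm]; exact hsu, hus⟩
      refine (common_point hn h sup'.symm).trans ?_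
      rw [← swap sup']
      refine (common_point hn sup' sus).trans ?_
      rw [swap sus]
      exact common_point hn sus.symm h'
  · rw [LinearIndependent.pair_iff' (show p ≠ 0 from h.2.2.2.ne_zero 0)] at hli
    push Not at hli
    obtain ⟨c, hc⟩ := hli
    have hc0 : c ≠ 0 := fun h0 => h'.2.2.2.ne_zero 0 (show s = 0 by rw [← hc, h0, zero_smul])
    have hd : c⁻¹ * 1 - 0 * 0 ≠ 0 := by simpa using hc0
    have H := h'.change hd
    have HT := T_change h' hd
    rw [zero_smul, zero_smul, add_zero, zero_add, one_smul, ← hc, smul_smul, inv_mul_cancel₀ hc0,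
      one_smul] at H HT
    rw [← hc, ← HT]
    exact common_point hn h H

theorem kRoot : IsKRootSubgroupSet F
    ((fun A : Subgroup GO => A.subgroupOf (⨆ C ∈ S n F, C)) '' S n F) := by
  set X := ⨆ C ∈ S n F, C with hX
  have hle : ∀ C ∈ S n F, C ≤ X := fun C hC => le_biSup (fun Z : Subgroup GO => Z) hC
  have hpair : ∀ C ∈ S n F, ∀ D ∈ S n F, ⁅C, D⁆ = ⊥ ∨ IsRankOnePair C D ∨
      RootCommutatorCase (S n F) C D := by
    intro C hC D hD
    obtain ⟨p, r, h, rfl⟩ := mem_S.1 hC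
    obtain ⟨s, t, h', rfl⟩ := mem_S.1 hD
    rcases trichotomy h h' with h | h | h
    exacts [Or.inl h, Or.inr (Or.inr h), Or.inr (Or.inl h.2)]
  refine ⟨Transport.isRootSubgroupSet_subgroupOf (X := X) rfl (fun C hC => ?_) (fun C hC => ?_)
    (fun C hC g _ => ?_) hpair, ?_⟩
  · obtain ⟨p, r, h, rfl⟩ := mem_S.1 hC; exact T_comm h
  · obtain ⟨p, r, h, rfl⟩ := mem_S.1 hC; exact T_ne_bot h
  · obtain ⟨p, r, h, rfl⟩ := mem_S.1 hC
    exact mem_S.2 ⟨_, _, h.map g, T_conj h g⟩
  · rintro _ ⟨C, hC, rfl⟩ _ ⟨D, hD, rfl⟩ hr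
    have hr' := (Transport.rankOnePair_iff (hle C hC) (hle D hD)).1 hr
    obtain ⟨p, r, h, rfl⟩ := mem_S.1 hC
    obtain ⟨s, t, h', rfl⟩ := mem_S.1 hD
    rcases trichotomy h h' with hc | hc | ⟨⟨φ, e1, e2, e3, e4⟩, -⟩
    · exact absurd hc (rankOnePair_not_commute hr')
    · exact absurd hr' (commCase_not_rankOne hc)
    · have hmem : ∀ g, φ g ∈ X := fun g => by
        have : φ g ∈ T p r ⊔ T s t := e1 ▸ ⟨g, rfl⟩
        exact (sup_le (hle _ hC) (hle _ hD)) this
      have key : ∀ (K : Subgroup (Matrix.SpecialLinearGroup (Fin 2) F)) (C : Subgroup GO),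
          K.map φ = C → K.map (φ.codRestrict X hmem) = C.subgroupOf X := by
        intro K C hKC
        ext y
        rw [Subgroup.mem_subgroupOf, ← hKC]
        constructor
        · rintro ⟨g, hg, rfl⟩; exact ⟨g, hg, rfl⟩
        · rintro ⟨g, hg, e⟩; exact ⟨g, hg, Subtype.ext e⟩
      refine ⟨φ.codRestrict X hmem, ?_, ?_, key _ _ e3, key _ _ e4⟩
      · rw [MonoidHom.range_eq_map, key ⊤ _ ((MonoidHom.range_eq_map φ).symm.trans e1)]
        exact Subgroup.subgroupOf_sup (hle _ hC) (hle _ hD)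
      · rw [MonoidHom.ker_codRestrict]; exact e2

end CfsgLib.RootSubgroups.Siegel
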