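import Cfsg.Agent.RootSubgroups.RankOne
import Cfsg.Prelude.Def_Transfer

/-! Special rank one pairs with abelian unipotent subgroups. -/

set_option autoImplicit false

namespace CfsgLib.RootSubgroups

open Cfsg

/-- `b` is the partner of `a` in the rank one pair `(A, B)`. -/
structure IsPartner {G : Type*} [Group G] (A B : Subgroup G) (a b : G) : Prop where
  ha : a ∈ A
  ha1 : a ≠ 1
  hb : b ∈ B
  hb1 : b ≠ 1
  eq : conjBy A b⁻¹ = conjBy B a⁻¹

variable {G : Type*} [Group G] {A B : Subgroup G}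

lemma IsPartner.symm {a b : G} (p : IsPartner A B a b) : IsPartner B A b a :=
  ⟨p.hb, p.hb1, p.ha, p.ha1, p.eq.symm⟩

lemma exists_isPartner (h : IsRankOnePair A B) {a : G} (ha : a ∈ A) (ha1 : a ≠ 1) :
    ∃ b, IsPartner A B a b := by
  obtain ⟨b, hb, hb1, he⟩ := h.cond_left a ha ha1
  exact ⟨b, ha, ha1, hb, hb1, he⟩

lemma IsPartner.unique (h : IsRankOnePair A B) {a b b' : G} (p : IsPartner A B a b)
    (p' : IsPartner A B a b') : b = b' := unique_partner h p.hb p'.hb p.eq p'.eq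

lemma isPartner_left_unique (h : IsRankOnePair A B) {a a' b : G} (p : IsPartner A B a b)
    (p' : IsPartner A B a' b) : a = a' :=
  IsPartner.unique (RankOnePair_symm h) p.symm p'.symm

/-- A special rank one pair with abelian unipotent subgroups. -/
structure SpecialAbelian (A B : Subgroup G) : Prop where
  special : IsSpecialRankOnePair A B
  abelian : HasAbelianUnipotents A B

namespace SpecialAbelian

variable (h : SpecialAbelian A B)
include h

lemma pair : IsRankOnePair A B := h.special.1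

lemma symm : SpecialAbelian B A :=
  ⟨⟨RankOnePair_symm h.special.1, fun b hb hb1 a ha ha1 he => by
    have := congrArg (·⁻¹) (h.special.2 a ha ha1 b hb hb1 he.symm)
    simpa [mul_assoc] using this.symm⟩, h.abelian.2, h.abelian.1⟩

lemma braid {a b : G} (p : IsPartner A B a b) : a * b⁻¹ * a = b⁻¹ * a * b⁻¹ := by
  have e := h.special.2 a p.ha p.ha1 b p.hb p.hb1 p.eq
  calc a * b⁻¹ * a = a * (a * (a⁻¹ * b⁻¹ * a) * a⁻¹) * a := by group
    _ = a * (a * (b⁻¹ * a * b) * a⁻¹) * a := by rw [e]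
    _ = a * a * (b⁻¹ * a * b) := by group
    _ = a * a * (a⁻¹ * b⁻¹ * a) * 1 := by rw [e, mul_one]
    _ = a * b⁻¹ * a := by group
    _ = a * (b⁻¹ * a * b) * b⁻¹ := by group
    _ = a * (a⁻¹ * b⁻¹ * a) * b⁻¹ := by rw [e]
    _ = _ := by group

/-- The Weyl element of a partner pair exchanges the two unipotent subgroups. -/
lemma swap {a b : G} (p : IsPartner A B a b) :
    conjBy A (a * b⁻¹ * a) = B ∧ conjBy B (a * b⁻¹ * a) = A ∧
      (a * b⁻¹ * a) * a * (a * b⁻¹ * a)⁻¹ = b⁻¹ ∧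
      (a * b⁻¹ * a) * b⁻¹ * (a * b⁻¹ * a)⁻¹ = a ∧
      conjBy A b = conjBy B a ∧ b * a * b⁻¹ = a * b⁻¹ * a⁻¹ := by
  have e : b⁻¹ * a * b = a⁻¹ * b⁻¹ * a := h.special.2 a p.ha p.ha1 b p.hb p.hb1 p.eq
  have e' : a⁻¹ * b * a = b⁻¹ * a⁻¹ * b := by
    simpa [mul_assoc] using (congrArg (·⁻¹) e).symm
  have e2 : b * a * b⁻¹ = a * b⁻¹ * a⁻¹ := by
    calc b * a * b⁻¹ = a * (a⁻¹ * b * a) * b⁻¹ := by group
      _ = a * (b⁻¹ * a⁻¹ * b) * b⁻¹ := by rw [e']
      _ = _ := by group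
  have hA' : conjBy A b = conjBy B a := by
    -- both contain the non-identity element `b a b⁻¹`
    have hr := h.pair
    by_contra hne
    have hm1 : b * a * b⁻¹ ∈ conjBy A b := conj_mem_conjBy p.ha b
    have hm2 : b * a * b⁻¹ ∈ conjBy B a := e2 ▸ conj_mem_conjBy (inv_mem p.hb) a
    have := eq_one_of_fix_unip hr
      (unip_conj_mem (unip_left_mem A B) ((le_sup_right : B ≤ A ⊔ B) p.hb))
      (unip_conj_mem (right_mem hr) ((le_sup_left : A ≤ A ⊔ B) p.ha)) hne hm1
      (conjBy_of_mem hm2)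
    exact p.ha1 (by simpa [mul_assoc] using congrArg (fun z => b⁻¹ * z * b) this)
  have hb := h.braid p
  refine ⟨?_, ?_, ?_, ?_, hA', e2⟩
  · calc conjBy A (a * b⁻¹ * a) = conjBy (conjBy (conjBy A a) b⁻¹) a := by
          simp only [conjBy_conjBy, mul_assoc]
      _ = B := by rw [conjBy_of_mem p.ha, p.eq, conjBy_conjBy_inv]
  · calc conjBy B (a * b⁻¹ * a) = conjBy (conjBy (conjBy B b⁻¹) a) b⁻¹ := by
          rw [hb]; simp only [conjBy_conjBy, mul_assoc]
      _ = A := by rw [conjBy_of_mem (inv_mem p.hb), ← hA', conjBy_inv_conjBy]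
  · calc (a * b⁻¹ * a) * a * (a * b⁻¹ * a)⁻¹ = a * (b⁻¹ * a * b) * a⁻¹ := by group
      _ = a * (a⁻¹ * b⁻¹ * a) * a⁻¹ := by rw [e]
      _ = b⁻¹ := by group
  · calc (a * b⁻¹ * a) * b⁻¹ * (a * b⁻¹ * a)⁻¹
        = (b⁻¹ * a * b⁻¹) * b⁻¹ * (b⁻¹ * a * b⁻¹)⁻¹ := by rw [hb]
      _ = b⁻¹ * (a * b⁻¹ * a⁻¹) * b := by group
      _ = b⁻¹ * (b * a * b⁻¹) * b := by rw [e2]
      _ = a := by group

lemma partner_inv {a b : G} (p : IsPartner A B a b) : IsPartner A B a⁻¹ b⁻¹ :=
  ⟨inv_mem p.ha, inv_ne_one.mpr p.ha1, inv_mem p.hb, inv_ne_one.mpr p.hb1, by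
    rw [inv_inv, inv_inv]; exact (h.swap p).2.2.2.2.1⟩

/-- The Hua type identity. -/
lemma hua {a b c d : G} (p : IsPartner A B a b) (q : IsPartner A B c d) (hne : c ≠ a) :
    ∃ e, IsPartner A B e ((a * b⁻¹ * a)⁻¹ * (c * a⁻¹) * (a * b⁻¹ * a)) ∧
      IsPartner A B (e * a⁻¹) (d * b⁻¹) := by
  obtain ⟨hsA, hsB, -, -, -, -⟩ := h.swap p
  have hr := h.pair
  set n := a * b⁻¹ * a with hn
  have hA' : conjBy B n⁻¹ = A := by rw [← hsA, conjBy_inv_conjBy]
  have hB' : conjBy A n⁻¹ = B := by rw [← hsB, conjBy_inv_conjBy]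
  set f := n⁻¹ * (c * a⁻¹) * n with hf
  have hfB : f ∈ B := by
    rw [← hB', mem_conjBy, inv_inv, hf, show n * (n⁻¹ * (c * a⁻¹) * n) * n⁻¹ = c * a⁻¹ by group]
    exact mul_mem q.ha (inv_mem p.ha)
  have hf1 : f ≠ 1 := by
    intro h0
    apply hne
    have h1 : n * f * n⁻¹ = 1 := by rw [h0]; group
    rw [hf, show n * (n⁻¹ * (c * a⁻¹) * n) * n⁻¹ = c * a⁻¹ by group] at h1
    exact mul_inv_eq_one.mp h1
  obtain ⟨e, he⟩ := exists_isPartner (RankOnePair_symm hr) hfB hf1
  refine ⟨e, he.symm, ?_⟩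
  have hbform : b = a⁻¹ * b * a⁻¹ * b⁻¹ * a := by
    have := congrArg (·⁻¹) (h.braid p)
    simp only [mul_inv_rev, inv_inv] at this
    calc b = (b * (a⁻¹ * b)) * b⁻¹ * a := by group
      _ = a⁻¹ * (b * a⁻¹) * b⁻¹ * a := by rw [← this]
      _ = _ := by group
  have hb' : b = a * n⁻¹ * a := by rw [hn]; group
  have key : conjBy A (d * b⁻¹)⁻¹ = conjBy B (e * a⁻¹)⁻¹ := by
    rw [mul_inv_rev, inv_inv, ← conjBy_conjBy, q.eq, conjBy_conjBy, hb',
      show a * n⁻¹ * a * c⁻¹ = a * ((n⁻¹ * (a * c⁻¹) * n) * n⁻¹) by group, ← conjBy_conjBy,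
      ← conjBy_conjBy B, hA',
      show n⁻¹ * (a * c⁻¹) * n = f⁻¹ by rw [hf]; group, he.symm.eq, conjBy_conjBy]
    congr 1
    rw [mul_inv_rev, inv_inv]
  refine ⟨mul_mem he.hb (inv_mem p.ha), ?_, mul_mem q.hb (inv_mem p.hb), ?_, key⟩
  · intro h0
    have hA1 : conjBy A (d * b⁻¹)⁻¹ = B := by rw [key, h0, inv_one, conjBy_one]
    rcases eq_or_ne (d * b⁻¹) 1 with h1 | h1
    · rw [h1, inv_one, conjBy_one] at hA1; exact hr.ne hA1
    · exact hr.ne.symm (by
        have := congrArg (fun C => conjBy C (d * b⁻¹)) hA1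
        simp only [conjBy_conjBy_inv] at this
        rw [this, conjBy_of_mem (mul_mem q.hb (inv_mem p.hb))])
  · intro h0
    rw [mul_inv_eq_one] at h0
    subst h0
    exact hne (isPartner_left_unique hr q p)

end SpecialAbelian

/-- The partner of a power. -/
theorem partner_pow {A B : Subgroup G} (h : SpecialAbelian A B) (m : ℕ) :
    ∀ {a b c : G}, IsPartner A B a b → IsPartner A B (a ^ m) c → c ^ m = b := by
  induction m using Nat.strong_induction_on generalizing A B with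
  | _ m ih =>
    intro a b c p q
    rcases Nat.lt_or_ge m 2 with hm | hm
    · interval_cases m
      · exact absurd (pow_zero a) q.ha1
      · rw [pow_one] at q ⊢; exact q.unique h.pair p
    -- the case of a square
    have two : ∀ {A B : Subgroup G}, SpecialAbelian A B → ∀ {a b c : G}, IsPartner A B a b →
        IsPartner A B (a ^ 2) c → c ^ 2 = b := by
      intro A B h a b c p q
      have hne : a ^ 2 ≠ a := fun he => p.ha1 (by rwa [sq, mul_eq_left] at he)
      obtain ⟨e, he, hk⟩ := h.hua p q hne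
      have hf : (a * b⁻¹ * a)⁻¹ * (a ^ 2 * a⁻¹) * (a * b⁻¹ * a) = b⁻¹ := by
        rw [show a ^ 2 * a⁻¹ = a by group]
        calc (a * b⁻¹ * a)⁻¹ * a * (a * b⁻¹ * a)
            = (a * b⁻¹ * a)⁻¹ * ((a * b⁻¹ * a) * b⁻¹ * (a * b⁻¹ * a)⁻¹) * (a * b⁻¹ * a) := by
              rw [(h.swap p).2.2.2.1]
          _ = b⁻¹ := by group
      rw [hf] at he
      obtain rfl : e = a⁻¹ := isPartner_left_unique h.pair he (h.partner_inv p)
      rw [show a⁻¹ * a⁻¹ = (a ^ 2)⁻¹ by group] at hk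
      have := hk.unique h.pair (h.partner_inv q)
      rw [sq]
      calc c * c = c * (c * b⁻¹) * b := by group
        _ = c * c⁻¹ * b := by rw [this]
        _ = b := by simp
    rcases eq_or_ne m 2 with rfl | hm2
    · exact two h p q
    rcases Nat.even_or_odd' m with ⟨k, rfl | rfl⟩
    · -- even: `a ^ (2 k) = (a ^ 2) ^ k`
      have hk : k < 2 * k := by omega
      rw [pow_mul] at q
      have hne : a ^ 2 ≠ 1 := fun h0 => q.ha1 (by rw [h0, one_pow])
      obtain ⟨d, hd⟩ := exists_isPartner h.pair (pow_mem p.ha 2) hne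
      have h1 := ih k hk h hd q
      rw [mul_comm, pow_mul, h1, two h p hd]
    · -- odd: reduce to `m + 1` for the reversed pair
      set m := 2 * k + 1 with hmdef
      have hk : k + 1 < m := by omega
      have succ : ∀ {A B : Subgroup G}, SpecialAbelian A B → ∀ {a b c : G}, IsPartner A B a b →
          IsPartner A B (a ^ (m + 1)) c → c ^ (m + 1) = b := by
        intro A B h a b c p q
        rw [show m + 1 = 2 * (k + 1) by omega] at q ⊢
        rw [pow_mul] at q
        have hne : a ^ 2 ≠ 1 := fun h0 => q.ha1 (by rw [h0, one_pow])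
        obtain ⟨d, hd⟩ := exists_isPartner h.pair (pow_mem p.ha 2) hne
        have h1 := ih (k + 1) hk h hd q
        rw [mul_comm, pow_mul, h1, two h p hd]
      suffices H : ∀ {A B : Subgroup G}, SpecialAbelian A B → ∀ {a b g : G}, IsPartner A B a b →
          IsPartner A B g (b ^ m) → g ^ m = a from H h.symm p.symm q.symm
      intro A B h a b g p q
      obtain ⟨-, -, hna, hnb, -, -⟩ := h.swap p
      set n := a * b⁻¹ * a with hn
      by_cases ha1 : a ^ (m + 1) = 1
      · have hbm : b⁻¹ ^ (m + 1) = 1 := by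
          rw [← hna, conj_pow, ha1, mul_one, mul_inv_cancel]
        have hb' : b ^ m = b⁻¹ := by
          rw [inv_pow, inv_eq_one, pow_succ] at hbm
          exact eq_inv_of_mul_eq_one_left hbm
        rw [hb'] at q
        obtain rfl : g = a⁻¹ := isPartner_left_unique h.pair q (h.partner_inv p)
        rw [pow_succ] at ha1
        rw [inv_pow, eq_inv_of_mul_eq_one_left ha1, inv_inv]
      · obtain ⟨d, hd⟩ := exists_isPartner h.pair (pow_mem p.ha (m + 1)) ha1
        have hne : a ^ (m + 1) ≠ a := by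
          intro h0
          have ham : a ^ m = 1 := by simpa [pow_succ] using h0
          apply q.hb1
          have : b⁻¹ ^ m = 1 := by rw [← hna, conj_pow, ham, mul_one, mul_inv_cancel]
          simpa using this
        obtain ⟨e, he, hk'⟩ := h.hua p hd hne
        have hdb : d ^ (m + 1) = b := succ h p hd
        have hf : n⁻¹ * (a ^ (m + 1) * a⁻¹) * n = (b ^ m)⁻¹ := by
          rw [show a ^ (m + 1) * a⁻¹ = a ^ m by rw [pow_succ, mul_inv_cancel_right], ← inv_pow]
          have h2 : n⁻¹ * a * n = b⁻¹ := by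
            calc n⁻¹ * a * n = n⁻¹ * (n * b⁻¹ * n⁻¹) * n := by rw [hnb]
              _ = b⁻¹ := by group
          have h3 := conj_pow (a := n⁻¹) (b := a) (i := m)
          rw [inv_inv, h2] at h3
          rw [h3]
        rw [← hn, hf] at he
        obtain rfl : e = g⁻¹ := isPartner_left_unique h.pair he (h.partner_inv q)
        -- `d b⁻¹ = d ^ (-m)`
        have h4 : d * b⁻¹ = (d ^ m)⁻¹ := by rw [← hdb]; group
        rw [h4] at hk'
        have hdm := h.partner_inv hk'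
        rw [inv_inv] at hdm
        have hpow : (d ^ m) ^ (m + 1) = b ^ m := by rw [← pow_mul, mul_comm, pow_mul, hdb]
        have h5 := succ h.symm hdm.symm (c := g) (by rw [hpow]; exact q.symm)
        have hgc : g⁻¹ * a⁻¹ = a⁻¹ * g⁻¹ :=
          mul_comm_of_mem h.abelian.1 (inv_mem q.ha) (inv_mem p.ha)
        rw [hgc, mul_inv_rev, inv_inv, inv_inv, pow_succ'] at h5
        exact mul_left_cancel h5

/-- Every element with a non-trivial `m`-th power has an `m`-th root. -/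
lemma SpecialAbelian.exists_root (h : SpecialAbelian A B) {a : G} (ha : a ∈ A) (m : ℕ)
    (hm : a ^ m ≠ 1) : ∃ g ∈ A, g ^ m = a ∧ g ≠ 1 := by
  have ha1 : a ≠ 1 := fun h0 => hm (by rw [h0, one_pow])
  obtain ⟨b, p⟩ := exists_isPartner h.pair ha ha1
  have hbm : b ^ m ≠ 1 := by
    intro h0
    apply hm
    have := congrArg (· ^ m) (h.swap p).2.2.2.1
    simp only [conj_pow, inv_pow, h0, inv_one, mul_one, mul_inv_cancel] at this
    exact this.symm
  obtain ⟨g, q⟩ := exists_isPartner (RankOnePair_symm h.pair) (pow_mem p.hb m) hbm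
  exact ⟨g, q.hb, partner_pow h.symm m p.symm q, q.hb1⟩

/-- Elementary abelian, or torsion free and divisible. -/
theorem SpecialAbelian.elementary_or_divisible (h : SpecialAbelian A B) :
    (∃ p : ℕ, p.Prime ∧ Cfsg.IsElementaryAbelian p A) ∨
    ((∀ a ∈ A, a ≠ 1 → ¬ IsOfFinOrder a) ∧ ∀ a ∈ A, ∀ n : ℕ, 0 < n → ∃ c ∈ A, c ^ n = a) := by
  by_cases htor : ∀ a ∈ A, a ≠ 1 → ¬ IsOfFinOrder a
  · refine Or.inr ⟨htor, fun a ha n hn => ?_⟩
    by_cases ha1 : a = 1
    · exact ⟨1, one_mem _, by rw [one_pow, ha1]⟩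
    · obtain ⟨g, hg, hge, -⟩ := h.exists_root ha n fun h0 =>
        htor a ha ha1 (isOfFinOrder_iff_pow_eq_one.mpr ⟨n, hn, h0⟩)
      exact ⟨g, hg, hge⟩
  left
  push Not at htor
  obtain ⟨a₀, ha₀, ha₀1, hfin⟩ := htor
  obtain ⟨p, hp, hdvd⟩ := Nat.exists_prime_and_dvd (n := orderOf a₀) (by simpa using ha₀1)
  set a := a₀ ^ (orderOf a₀ / p) with hadef
  have ha : a ∈ A := pow_mem ha₀ _
  have hap : a ^ p = 1 := by
    rw [hadef, ← pow_mul, Nat.div_mul_cancel hdvd, pow_orderOf_eq_one]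
  have ha1 : a ≠ 1 := by
    intro hc
    have h1 := Nat.le_of_dvd (Nat.div_pos (Nat.le_of_dvd hfin.orderOf_pos hdvd) hp.pos)
      (orderOf_dvd_of_pow_eq_one hc)
    have h2 := Nat.div_lt_self hfin.orderOf_pos hp.one_lt
    omega
  refine ⟨p, hp, h.abelian.1, fun c hc => ?_⟩
  by_contra hcp
  have hac : (a * c) ^ p ≠ 1 := by
    rw [Commute.mul_pow (mul_comm_of_mem h.abelian.1 ha hc), hap, one_mul]; exact hcp
  obtain ⟨g, hg, hgp, -⟩ := h.exists_root hc p hcp
  obtain ⟨g', hg', hgp', -⟩ := h.exists_root (mul_mem ha hc) p hac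
  have he : (g' * g⁻¹) ^ p = a := by
    rw [Commute.mul_pow (mul_comm_of_mem h.abelian.1 hg' (inv_mem hg)), inv_pow, hgp', hgp,
      mul_inv_cancel_right]
  have he1 : g' * g⁻¹ ≠ 1 := fun h0 => ha1 (by rw [← he, h0, one_pow])
  obtain ⟨f, hf⟩ := exists_isPartner h.pair (mul_mem hg' (inv_mem hg)) he1
  obtain ⟨b, hb⟩ := exists_isPartner h.pair ha ha1
  have hbp : b ^ p = f := partner_pow h p hf (by rw [he]; exact hb)
  apply hf.hb1
  rw [← hbp]
  have := congrArg (· ^ p) (h.swap hb).2.2.1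
  simp only [conj_pow, hap, mul_one, mul_inv_cancel, inv_pow] at this
  exact inv_eq_one.mp this.symm

end CfsgLib.RootSubgroups
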