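import Cfsg.Agent.RootSubgroups.Transvections
import Cfsg.Agent.Forms.Symplectic
import Cfsg.Agent.Linear.Perfect

/-! The transvection systems of `SL` and `Sp`. -/

set_option autoImplicit false

namespace CfsgLib.RootSubgroups.Transv

open Matrix

variable {k : Type*} [Field k]

lemma single_eq_vecMulVec {ι : Type*} [Fintype ι] [DecidableEq ι] (i j : ι) (c : k) :
    Matrix.transvection i j c = tv (c • (Pi.single i 1 : ι → k)) (Pi.single j 1) := by
  rw [tv, Matrix.transvection, smul_vecMulVec]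
  congr 1
  ext a b
  simp [Matrix.single, vecMulVec, Pi.single_apply]
  grind

/-- The transvection system of `SL(ι, k)`. -/
def slSystem (ι : Type*) [Fintype ι] [DecidableEq ι] [Nontrivial ι] :
    System (SpecialLinearGroup ι k) ι k where
  rep :=
    { toFun := fun g => (g : Matrix ι ι k)
      map_one' := Matrix.SpecialLinearGroup.coe_one
      map_mul' := Matrix.SpecialLinearGroup.coe_mul }
  inj := fun _ _ h => Subtype.ext h
  P := {x | x.1 ≠ 0 ∧ x.2 ≠ 0 ∧ x.2 ⬝ᵥ x.1 = 0}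
  adm := fun _ hx => hx
  lift := fun x hx c => ⟨⟨tv (c • x.1) x.2, det_tv (by rw [dotProduct_smul, hx.2.2, smul_zero])⟩, rfl⟩
  gen := CfsgLib.Linear.sl_eq_top_of_transvections fun i j hij c => Subgroup.subset_closure
    ⟨(Pi.single i 1, Pi.single j 1), ⟨fun h => one_ne_zero (α := k) (by simpa using congrFun h i),
      fun h => one_ne_zero (α := k) (by simpa using congrFun h j),
      by simp [single_dotProduct, Pi.single_apply, hij.symm]⟩, c, single_eq_vecMulVec i j c⟩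
  conj := fun x hx g => by
    have hgh : ((g⁻¹ : SpecialLinearGroup ι k) : Matrix ι ι k) * (g : Matrix ι ι k) = 1 := by
      rw [← Matrix.SpecialLinearGroup.coe_mul, inv_mul_cancel, Matrix.SpecialLinearGroup.coe_one]
    obtain ⟨h, hh⟩ : ∃ h : Matrix ι ι k, h = ((g⁻¹ : SpecialLinearGroup ι k) : Matrix ι ι k) := ⟨_, rfl⟩
    rw [← hh] at hgh
    refine ⟨((g : Matrix ι ι k) *ᵥ x.1, x.2 ᵥ* h),
      ⟨fun e => hx.1 ?_, fun e => hx.2.1 ?_, ?_⟩, 1, one_ne_zero, (one_smul k _).symm, by rw [hh]; rfl⟩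
    · have := congrArg (fun v => h *ᵥ v) (show (g : Matrix ι ι k) *ᵥ x.1 = 0 from e)
      simpa [mulVec_mulVec, hgh] using this
    · have := congrArg (fun v => v ᵥ* (g : Matrix ι ι k)) (show x.2 ᵥ* h = 0 from e)
      simpa [vecMul_vecMul, hgh] using this
    · show (x.2 ᵥ* h) ⬝ᵥ ((g : Matrix ι ι k) *ᵥ x.1) = 0
      rw [dotProduct_mulVec, vecMul_vecMul, hgh, vecMul_one]
      exact hx.2.2
  nbr := fun x hx y hy => by
    obtain ⟨r, hr1, hr2⟩ := exists_avoid hx.2.1 hy.2.1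
    have hq : y.1 - ((x.2 ⬝ᵥ y.1) / (x.2 ⬝ᵥ r)) • r ≠ 0 := by
      intro h
      rw [sub_eq_zero] at h
      have h2 := hy.2.2
      rw [h, dotProduct_smul, smul_eq_mul, mul_eq_zero] at h2
      exact hy.1 (by rw [h, h2.resolve_right hr2, zero_smul])
    obtain ⟨χ, h1, h2⟩ := exists_avoid hx.1 hq
    refine ⟨(r, χ - ((χ ⬝ᵥ r) / (x.2 ⬝ᵥ r)) • x.2), ⟨fun h => hr1 (by rw [show r = 0 from h, dotProduct_zero]), ?_, ?_⟩, ⟨hr1, ?_⟩, hr2, ?_⟩
    · intro h
      apply h1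
      rw [sub_eq_zero] at h
      rw [h, dotProduct_smul, dotProduct_comm x.1, hx.2.2, smul_zero]
    · rw [sub_dotProduct, smul_dotProduct, smul_eq_mul, div_mul_cancel₀ _ hr1, sub_self]
    · rw [sub_dotProduct, smul_dotProduct, hx.2.2, smul_zero, sub_zero, dotProduct_comm]
      exact h1
    · intro h
      apply h2
      rw [sub_dotProduct, smul_dotProduct, dotProduct_comm y.1, dotProduct_comm r, smul_eq_mul]
      rw [sub_dotProduct, smul_dotProduct, smul_eq_mul] at h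
      linear_combination h
  mix := fun x hx y hy _ h2 => ⟨hx.1, hy.2.1, h2⟩
  nonempty := by
    obtain ⟨i, j, hij⟩ := exists_pair_ne ι
    exact ⟨(Pi.single i 1, Pi.single j 1), fun h => one_ne_zero (α := k) (by simpa using congrFun h i),
      fun h => one_ne_zero (α := k) (by simpa using congrFun h j),
      by simp [single_dotProduct, Pi.single_apply, hij.symm]⟩

open CfsgLib.Forms in
/-- The transvection system of `Sp`. -/
noncomputable def spSystem (m : ℕ) (F : Type*) [Field F] :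
    System ↥(Matrix.symplecticGroup (Fin (m + 1)) F) (Fin (m + 1) ⊕ Fin (m + 1)) F where
  rep := (Matrix.symplecticGroup (Fin (m + 1)) F).subtype
  inj := Subtype.val_injective
  P := {x | x.1 ≠ 0 ∧ x.2 = Matrix.J (Fin (m + 1)) F *ᵥ x.1}
  adm := fun x hx => by
    refine ⟨hx.1, fun h => hx.1 (sympForm_sep x.1 fun v => ?_), ?_⟩
    · rw [sympForm_swap, Cfsg.sympForm, ← hx.2, h, dotProduct_zero, neg_zero]
    · rw [hx.2, dotProduct_comm]; exact sympForm_self x.1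
  lift := fun x hx c => ⟨spTransv x.1 c, by
    show Cfsg.sympTransvection (m + 1) x.1 c = _
    rw [Cfsg.sympTransvection, tv, smul_vecMulVec, hx.2]⟩
  gen := by
    rw [eq_top_iff, ← transvGroup_eq_top, transvGroup, Subgroup.closure_le]
    rintro _ ⟨w, -, c, rfl⟩
    by_cases hw : w = 0
    · have : spTransv w c = 1 := Subtype.ext (by
        show Cfsg.sympTransvection (m + 1) w c = 1
        simp [Cfsg.sympTransvection, hw])
      rw [this]; exact one_mem _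
    · refine Subgroup.subset_closure ⟨(w, Matrix.J (Fin (m + 1)) F *ᵥ w), ⟨hw, rfl⟩, c, ?_⟩
      show Cfsg.sympTransvection (m + 1) w c = _
      rw [Cfsg.sympTransvection, tv, smul_vecMulVec]
  conj := fun x hx g => by
    obtain ⟨h, hh⟩ : ∃ h : ↥(Matrix.symplecticGroup (Fin (m + 1)) F), h = g⁻¹ := ⟨_, rfl⟩
    have hgh : (h : Matrix (Fin (m + 1) ⊕ Fin (m + 1)) (Fin (m + 1) ⊕ Fin (m + 1)) F) * (g : Matrix (Fin (m + 1) ⊕ Fin (m + 1)) (Fin (m + 1) ⊕ Fin (m + 1)) F) = 1 := by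
      rw [hh]; exact congrArg Subtype.val (inv_mul_cancel g)
    have hhg : (g : Matrix (Fin (m + 1) ⊕ Fin (m + 1)) (Fin (m + 1) ⊕ Fin (m + 1)) F) * (h : Matrix (Fin (m + 1) ⊕ Fin (m + 1)) (Fin (m + 1) ⊕ Fin (m + 1)) F) = 1 := mul_eq_one_comm.1 hgh
    refine ⟨((g : Matrix (Fin (m + 1) ⊕ Fin (m + 1)) (Fin (m + 1) ⊕ Fin (m + 1)) F) *ᵥ x.1, Matrix.J (Fin (m + 1)) F *ᵥ ((g : Matrix (Fin (m + 1) ⊕ Fin (m + 1)) (Fin (m + 1) ⊕ Fin (m + 1)) F) *ᵥ x.1)),
      ⟨fun e => hx.1 ?_, rfl⟩, 1, one_ne_zero, (one_smul F _).symm, ?_⟩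
    · have := congrArg (fun v => (h : Matrix (Fin (m + 1) ⊕ Fin (m + 1)) (Fin (m + 1) ⊕ Fin (m + 1)) F) *ᵥ v) e
      simpa [mulVec_mulVec, hgh] using this
    · show x.2 ᵥ* ((g⁻¹ : ↥(Matrix.symplecticGroup (Fin (m + 1)) F)) : Matrix (Fin (m + 1) ⊕ Fin (m + 1)) (Fin (m + 1) ⊕ Fin (m + 1)) F) = _
      rw [← hh, hx.2, ← mulVec_transpose, mulVec_mulVec, mulVec_mulVec]
      congr 1
      have := SymplecticGroup.mem_iff'.1 h.2
      calc (h : Matrix (Fin (m + 1) ⊕ Fin (m + 1)) (Fin (m + 1) ⊕ Fin (m + 1)) F)ᵀ * Matrix.J _ F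
          = (h : Matrix (Fin (m + 1) ⊕ Fin (m + 1)) (Fin (m + 1) ⊕ Fin (m + 1)) F)ᵀ * Matrix.J _ F * ((h : Matrix (Fin (m + 1) ⊕ Fin (m + 1)) (Fin (m + 1) ⊕ Fin (m + 1)) F) * (g : Matrix (Fin (m + 1) ⊕ Fin (m + 1)) (Fin (m + 1) ⊕ Fin (m + 1)) F)) := by rw [hgh, mul_one]
        _ = _ := by rw [← mul_assoc, this]
  nbr := fun x hx y hy => by
    have h0 : ∀ z : (Fin (m + 1) ⊕ Fin (m + 1) → F), z ≠ 0 → Matrix.J (Fin (m + 1)) F *ᵥ z ≠ 0 := by
      intro z hz h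
      exact hz (sympForm_sep z fun v => by rw [sympForm_swap, Cfsg.sympForm, h, dotProduct_zero, neg_zero])
    have key : ∀ p r : (Fin (m + 1) ⊕ Fin (m + 1) → F), (Matrix.J (Fin (m + 1)) F *ᵥ p) ⬝ᵥ r ≠ 0 →
        (Matrix.J (Fin (m + 1)) F *ᵥ r) ⬝ᵥ p ≠ 0 := by
      intro p r h h'
      apply h
      rw [dotProduct_comm] at h' ⊢
      show Cfsg.sympForm (m + 1) F r p = 0
      rw [sympForm_swap, show Cfsg.sympForm (m + 1) F p r = 0 from h', neg_zero]
    obtain ⟨r, h1, h2⟩ := exists_avoid (h0 _ hx.1) (h0 _ hy.1)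
    refine ⟨(r, Matrix.J (Fin (m + 1)) F *ᵥ r), ⟨fun h => h1 (by rw [show r = 0 from h, dotProduct_zero]), rfl⟩, ?_⟩
    rw [hx.2, hy.2]
    exact ⟨⟨h1, key _ _ h1⟩, h2, key _ _ h2⟩
  mix := fun x hx y hy h1 h2 => by
    exfalso
    apply h1
    rw [hx.2, dotProduct_comm]
    rw [hy.2, dotProduct_comm] at h2
    show Cfsg.sympForm (m + 1) F y.1 x.1 = 0
    rw [sympForm_swap, show Cfsg.sympForm (m + 1) F x.1 y.1 = 0 from h2, neg_zero]
  nonempty := ⟨(Pi.single (Sum.inl 0) 1, Matrix.J (Fin (m + 1)) F *ᵥ Pi.single (Sum.inl 0) 1),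
    fun h => one_ne_zero (α := F) (by simpa using congrFun h (Sum.inl 0)), rfl⟩

end CfsgLib.RootSubgroups.Transv
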