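import Cfsg.Agent.RootSubgroups.Transvections
import Cfsg.Agent.RootSubgroups.RootInvolutions

/-! Transvections in characteristic two are root involutions. -/

set_option autoImplicit false

namespace CfsgLib.RootSubgroups

open Cfsg Matrix CfsgLib.RootInvolution

namespace Transv

variable {ι k : Type*} [Fintype ι] [DecidableEq ι] [Field k] [CharP k 2] [Finite k]
  {G : Type*} [Group G] [Finite G] (R : System G ι k)

/-- The non-identity transvections of the system. -/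
def System.D : Set G := {g | ∃ x ∈ R.P, ∃ c : k, c ≠ 0 ∧ R.rep g = tv (c • x.1) x.2}

omit [Finite k] [Finite G] in
lemma System.D_mul_self {a : G} (ha : a ∈ R.D) : a * a = 1 ∧ a ≠ 1 := by
  obtain ⟨x, hx, c, hc, h⟩ := ha
  refine ⟨R.inj ?_, fun e => ?_⟩
  · rw [map_mul, h, tv_smul_mul (R.adm x hx).2.2, CharTwo.add_self_eq_zero, zero_smul, tv_zero, map_one]
  · rw [e, map_one, eq_comm, tv_eq_one, smul_eq_zero] at h
    exact h.elim (fun h' => h'.elim hc (R.adm x hx).1) (R.adm x hx).2.1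

omit [Finite k] [Finite G] in
lemma SL2_odd [Finite (SpecialLinearGroup (Fin 2) k)] {s t : k} (hs : s ≠ 0) (ht : t ≠ 0) :
    Odd (orderOf (SL2.U s * SL2.L t)) := by
  have hU : orderOf (SL2.U s) = 2 := CfsgLib.Small.orderOf_eq_two_iff_sq.2
    ⟨fun h => hs (SL2.U_eq_one.1 h), by rw [SL2.U_mul, CharTwo.add_self_eq_zero, SL2.U_zero]⟩
  have hL : orderOf (SL2.L t) = 2 := CfsgLib.Small.orderOf_eq_two_iff_sq.2
    ⟨fun h => ht (SL2.L_eq_one.1 h), by rw [SL2.L_mul, CharTwo.add_self_eq_zero, SL2.L_zero]⟩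
  rcases Nat.even_or_odd (orderOf (SL2.U s * SL2.L t)) with he | ho
  swap
  · exact ho
  obtain ⟨h2, hcU, hcL⟩ := CfsgLib.Small.half_pow_spec hU hL he
  generalize (SL2.U s * SL2.L t) ^ (orderOf (SL2.U s * SL2.L t) / 2) = u at h2 hcU hcL
  have e1 := congrArg (fun g : SpecialLinearGroup (Fin 2) k => (g : Matrix (Fin 2) (Fin 2) k)) hcU.eq
  have e2 := congrArg (fun g : SpecialLinearGroup (Fin 2) k => (g : Matrix (Fin 2) (Fin 2) k)) hcL.eq
  have p00 := congrFun (congrFun e1 0) 0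
  have p01 := congrFun (congrFun e1 0) 1
  have q00 := congrFun (congrFun e2 0) 0
  simp [SpecialLinearGroup.coe_mul, Matrix.mul_apply, Fin.sum_univ_two, hs, ht] at p00 p01 q00
  have hd := SL2.det_eq u
  exfalso
  refine CfsgLib.Small.ne_one_of_orderOf_two h2 (SL2.ext2 ?_ ?_ ?_ ?_) <;>
    simp_all [mul_comm s, ← pow_two, CharTwo.neg_eq]

omit [Finite k] [Finite G] in
lemma SL2_three (h : ∀ c : k, c ≠ 0 → c = 1) {s t : k} (hs : s ≠ 0) (ht : t ≠ 0) :
    (SL2.U s * SL2.L t) ^ 3 = 1 := by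
  obtain rfl := h s hs
  obtain rfl := h t ht
  apply SL2.ext2 <;>
    simp [pow_succ, SpecialLinearGroup.coe_mul, Matrix.mul_apply, Fin.sum_univ_two, CharTwo.add_self_eq_zero]

/-- The three cases for two transvections. -/
lemma System.D_pair {a b : G} (ha : a ∈ R.D) (hb : b ∈ R.D) :
    a * b = b * a ∨ (Odd (orderOf (a * b)) ∧ ((∀ c : k, c ≠ 0 → c = 1) → (a * b) ^ 3 = 1)) ∨
      (orderOf (a * b) = 4 ∧ (a * b) ^ 2 ∈ R.D) := by
  have haD := ha
  have hbD := hb
  obtain ⟨x, hx, c, hc, hax⟩ := ha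
  obtain ⟨y, hy, d, hd, hby⟩ := hb
  have hia : a⁻¹ = a := inv_eq_of_mul_eq_one_right (R.D_mul_self haD).1
  have hib : b⁻¹ = b := inv_eq_of_mul_eq_one_right (R.D_mul_self hbD).1
  have memA : a ∈ R.T x := (R.mem_T hx).2 ⟨c, hax⟩
  have memB : b ∈ R.T y := (R.mem_T hy).2 ⟨d, hby⟩
  have four : ∀ g : G, g ^ 2 ∈ R.D → orderOf g = 4 := fun g hg => by
    have := orderOf_eq_prime_pow (p := 2) (n := 1) (x := g) (by simpa using (R.D_mul_self hg).2)
      (by rw [show 2 ^ (1 + 1) = 2 * 2 from rfl, pow_mul, pow_two, (R.D_mul_self hg).1])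
    simpa using this
  by_cases h1 : x.2 ⬝ᵥ y.1 = 0 <;> by_cases h2 : y.2 ⬝ᵥ x.1 = 0
  · exact Or.inl (commutator_eq_bot_iff_comm.mp (R.comm_case hx hy h1 h2) a memA b memB)
  · have hmem : (b * a) ^ 2 ∈ R.D := by
      refine ⟨(y.1, x.2), R.mix y hy x hx h2 h1, d * c * (y.2 ⬝ᵥ x.1), mul_ne_zero (mul_ne_zero hd hc) h2, ?_⟩
      rw [← R.comm_rep hy hx h1 hby hax, hia, hib, pow_two, mul_assoc (b * a)]
    have e : a * b = (b * a)⁻¹ := by rw [_root_.mul_inv_rev, hia, hib]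
    refine Or.inr (Or.inr ⟨by rw [e, orderOf_inv, four _ hmem], ?_⟩)
    rw [e, inv_pow, inv_eq_of_mul_eq_one_right (R.D_mul_self hmem).1]
    exact hmem
  · have hmem : (a * b) ^ 2 ∈ R.D := by
      refine ⟨(x.1, y.2), R.mix x hx y hy h1 h2, c * d * (x.2 ⬝ᵥ y.1), mul_ne_zero (mul_ne_zero hc hd) h1, ?_⟩
      rw [← R.comm_rep hx hy h2 hax hby, hia, hib, pow_two, mul_assoc (a * b)]
    exact Or.inr (Or.inr ⟨four _ hmem, hmem⟩)
  · obtain ⟨⟨f, -, hker, hA, hB⟩, -⟩ := R.psl2_case hx hy h1 h2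
    have hinj : Function.Injective f := by
      rw [injective_iff_map_eq_one]
      intro g hg
      rcases SL2.eq_one_or_of_center (hker hg) with h | h
      · exact h
      · exact Subtype.ext (h.trans (by ext i j; simp [CharTwo.neg_eq]))
    rw [← hA] at memA
    rw [← hB] at memB
    obtain ⟨g, hg, rfl⟩ := memA
    obtain ⟨g', hg', rfl⟩ := memB
    obtain ⟨s, rfl⟩ := SL2.mem_upper.mp hg
    obtain ⟨t, rfl⟩ := SL2.mem_lower.mp hg'
    have hs : s ≠ 0 := fun h => (R.D_mul_self haD).2 (by rw [SL2.U_eq_one.2 h, map_one])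
    have ht : t ≠ 0 := fun h => (R.D_mul_self hbD).2 (by rw [SL2.L_eq_one.2 h, map_one])
    refine Or.inr (Or.inl ⟨?_, fun h => by rw [← map_mul, ← map_pow, SL2_three h hs ht, map_one]⟩)
    rw [← map_mul, orderOf_injective f hinj]
    exact SL2_odd hs ht

theorem System.rootInvolutions : IsRootInvolutionSet R.D where
  orderOf_eq := fun d hd => CfsgLib.Small.orderOf_eq_two_iff_sq.2 ⟨(R.D_mul_self hd).2, (R.D_mul_self hd).1⟩
  generates := by
    rw [eq_top_iff, ← R.gen, Subgroup.closure_le]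
    rintro g ⟨x, hx, c, hc⟩
    by_cases h0 : c = 0
    · rw [h0, zero_smul, tv_zero, ← map_one R.rep] at hc
      rw [R.inj hc]; exact one_mem _
    · exact Subgroup.subset_closure ⟨x, hx, c, h0, hc⟩
  conj_mem := by
    rintro a ⟨x, hx, c, hc, ha⟩ g
    obtain ⟨y, hy, s, hs, h1, h2⟩ := R.conj x hx g
    refine ⟨y, hy, c * s, mul_ne_zero hc hs, ?_⟩
    rw [R.rep_conj g a _ _ ha, mulVec_smul, h1, h2, smul_smul]
  pair := fun a ha b hb => by
    rcases R.D_pair ha hb with h | h | h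
    · exact Or.inl h
    · exact Or.inr (Or.inl h.1)
    · exact Or.inr (Or.inr h)

theorem System.involutionClass : IsRootInvolutionClass R.D := by
  obtain ⟨x, hx⟩ := R.nonempty
  obtain ⟨g, hg⟩ := R.lift x hx 1
  refine ⟨R.rootInvolutions, ⟨g, x, hx, 1, one_ne_zero, hg⟩, fun a ha b hb => ?_⟩
  suffices h : Relation.ReflTransGen (OddAdj R.D) a b by
    obtain ⟨u, hu⟩ := conj_of_reach R.rootInvolutions h
    exact ⟨u, hu.symm⟩
  obtain ⟨x, hx, c, hc, hax⟩ := ha
  obtain ⟨y, hy, d, hd, hby⟩ := hb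
  obtain ⟨z, hz, ⟨a1, a2⟩, b1, b2⟩ := R.nbr x hx y hy
  obtain ⟨e, he⟩ := R.lift z hz 1
  have heD : e ∈ R.D := ⟨z, hz, 1, one_ne_zero, he⟩
  have adj : ∀ {u : (ι → k) × (ι → k)} {w : G} {r : k}, u ∈ R.P → r ≠ 0 → R.rep w = tv (r • u.1) u.2 →
      u.2 ⬝ᵥ z.1 ≠ 0 → z.2 ⬝ᵥ u.1 ≠ 0 → OddAdj R.D w e := by
    intro u w r hu hr hw p q
    have hwD : w ∈ R.D := ⟨u, hu, r, hr, hw⟩
    have hcase := (R.psl2_case hu hz p q).2
    have hnc : w * e ≠ e * w := fun h =>
      (R.D_mul_self hwD).2 (eq_one_of_commute hcase ((R.mem_T hu).2 ⟨r, hw⟩)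
        ((R.mem_T hz).2 ⟨1, he⟩) (R.D_mul_self heD).2 h)
    refine ⟨hwD, heD, fun h => hnc (by rw [h]), ?_⟩
    rcases R.D_pair hwD heD with h | h | h
    · exact absurd h hnc
    · exact h.1
    · exfalso
      obtain ⟨v, hv, r', hr', hv'⟩ := h.2
      have : Odd (orderOf (w * e)) := by
        obtain ⟨⟨f, -, hker, hA, hB⟩, -⟩ := R.psl2_case hu hz p q
        have hinj : Function.Injective f := by
          rw [injective_iff_map_eq_one]
          intro g hg
          rcases SL2.eq_one_or_of_center (hker hg) with h | h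
          · exact h
          · exact Subtype.ext (h.trans (by ext i j; simp [CharTwo.neg_eq]))
        have mA : w ∈ R.T u := (R.mem_T hu).2 ⟨r, hw⟩
        have mB : e ∈ R.T z := (R.mem_T hz).2 ⟨1, he⟩
        rw [← hA] at mA
        rw [← hB] at mB
        obtain ⟨g, hg, rfl⟩ := mA
        obtain ⟨g', hg', rfl⟩ := mB
        obtain ⟨s, rfl⟩ := SL2.mem_upper.mp hg
        obtain ⟨t, rfl⟩ := SL2.mem_lower.mp hg'
        rw [← map_mul, orderOf_injective f hinj]
        exact SL2_odd (fun h => (R.D_mul_self hwD).2 (by rw [SL2.U_eq_one.2 h, map_one]))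
          (fun h => (R.D_mul_self heD).2 (by rw [SL2.L_eq_one.2 h, map_one]))
      rw [h.1] at this
      exact absurd this (by decide)
  exact (Relation.ReflTransGen.single (adj hx hc hax a1 a2)).tail
    (RootInvolution.adj_symm R.rootInvolutions (adj hy hd hby b1 b2))

end Transv

end CfsgLib.RootSubgroups
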