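import Cfsg.Agent.RootSubgroups.LineSpecial
import Cfsg.Agent.RootSubgroups.RootGraph
import Cfsg.Agent.RootSubgroups.SL2

/-!
# Members with the same commuting members in a degenerate class

Twins (different members with the same commuting neighbours) do not occur in a degenerate class
whose members have at least four elements and which contains a commuting pair.
-/

set_option autoImplicit false

namespace CfsgLib.RootSubgroups.Deg

open Cfsg

variable {G : Type*} [Group G] {S : Set (Subgroup G)} {A B : Subgroup G}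

/-- The other members commuting with `A`. -/
def nbrs (S : Set (Subgroup G)) (A : Subgroup G) : Set (Subgroup G) :=
  {E | E ∈ S ∧ E ≠ A ∧ Com E A}

/-- The subgroup generated by the twins of `A`. -/
def twinGroup (S : Set (Subgroup G)) (A : Subgroup G) : Subgroup G :=
  ⨆ X ∈ {X | X ∈ S ∧ nbrs S X = nbrs S A}, X

lemma le_twinGroup {X : Subgroup G} (hX : X ∈ S) (h : nbrs S X = nbrs S A) :
    X ≤ twinGroup S A :=
  le_iSup₂_of_le (f := fun X _ => X) X ⟨hX, h⟩ le_rfl

lemma mem_nbrs_symm {E : Subgroup G} (hA : A ∈ S) (h : E ∈ nbrs S A) : A ∈ nbrs S E :=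
  ⟨hA, h.2.1.symm, h.2.2.symm⟩

lemma twinGroup_commute {E : Subgroup G} (hE : E ∈ nbrs S A) :
    ∀ x ∈ twinGroup S A, ∀ e ∈ E, Commute x e := by
  have h : twinGroup S A ≤ Subgroup.centralizer (E : Set G) := iSup₂_le fun X hX x hx =>
    Subgroup.mem_centralizer_iff.mpr fun e he => (hX.2 ▸ hE : E ∈ nbrs S X).2.2 e he x hx
  exact fun x hx e he => (Subgroup.mem_centralizer_iff.mp (h hx) e he).symm

lemma nbrs_cj (hS : IsRootSubgroupSet S) (x : G) {E : Subgroup G} (h : E ∈ nbrs S A) :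
    cj E x ∈ nbrs S (cj A x) :=
  ⟨hS.conj_mem E h.1 _, fun he => h.2.1 (cj_inj he), h.2.2.cj x⟩

lemma nbrs_cj_subset (hS : IsRootSubgroupSet S) (x : G) (h : nbrs S A ⊆ nbrs S B) :
    nbrs S (cj A x) ⊆ nbrs S (cj B x) := fun E hE => by
  have h1 := nbrs_cj hS x⁻¹ hE
  rw [cj_cj, mul_inv_cancel, cj_one] at h1
  have h2 := nbrs_cj hS x (h h1)
  rwa [cj_cj, inv_mul_cancel, cj_one] at h2

lemma nbrs_cj_eq (hS : IsRootSubgroupSet S) (x : G) (h : nbrs S A = nbrs S B) :
    nbrs S (cj A x) = nbrs S (cj B x) :=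
  Set.Subset.antisymm (nbrs_cj_subset hS x h.le) (nbrs_cj_subset hS x h.ge)

lemma pair_of_not_com (hS : IsRootSubgroupSet S) (hd : IsDegenerateRootSet S) (hA : A ∈ S)
    (hB : B ∈ S) (h : ¬ Com A B) : IsRankOnePair A B := by
  rcases trichotomy hS hA hB with h1 | h1 | h1
  · exact absurd h1 h
  · exact h1
  · exact absurd h1 (hd A hA B hB)

/-- If every other member commuting with `A` commutes with its partner `B`, they are twins. -/
lemma nbrs_eq_of_pair (hS : IsRootSubgroupSet S) (hr : IsRankOnePair A B)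
    (h : ∀ E ∈ nbrs S A, Com E B) : nbrs S A = nbrs S B := by
  obtain ⟨x, hx, hBx⟩ := right_mem hr
  have hfix : ∀ E ∈ nbrs S A, conjBy E x = E := fun E hE => by
    have hle : A ⊔ B ≤ Subgroup.centralizer (E : Set G) := sup_le
      (fun a ha => Subgroup.mem_centralizer_iff.mpr fun e he => hE.2.2 e he a ha)
      (fun b hb => Subgroup.mem_centralizer_iff.mpr fun e he => h E hE e he b hb)
    exact conjBy_eq_of_commute fun e he => (Subgroup.mem_centralizer_iff.mp (hle hx) e he).symm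
  ext E
  constructor
  · intro hE
    exact ⟨hE.1, fun he => hE.2.1 (conjBy_injective x (show conjBy E x = conjBy A x by
      rw [hfix E hE, ← hBx, he])), h E hE⟩
  · intro hE
    have h1 := nbrs_cj hS x hE
    have e : cj B x = A := by rw [cj, hBx, conjBy_inv_conjBy]
    rw [e] at h1
    have h2 := hfix _ h1
    rw [cj, conjBy_conjBy_inv] at h2
    rwa [cj, ← h2] at h1

/-- Twins `Q, Q'` cannot meet a commuting pair `A, C` of rank one partners of `Q`. -/
theorem no_twins (hS : IsRootSubgroupSet S)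
    (hd : IsDegenerateRootSet S) (hfour : ∀ X ∈ S, ∀ x y z : G, ∃ w ∈ X, w ≠ x ∧ w ≠ y ∧ w ≠ z)
    {C Q Q' : Subgroup G} (hA : A ∈ S) (hC : C ∈ nbrs S A) (hQ : Q ∈ S) (hQ' : Q' ∈ S)
    (hr : IsRankOnePair A Q) (hCQ : IsRankOnePair C Q) (htw : nbrs S Q' = nbrs S Q) :
    Q' = Q := by
  by_contra hQQ
  obtain ⟨q, hq, hq1⟩ := exists_ne_one hS hQ
  obtain ⟨a, ha, ha1, hea⟩ := exists_partner (RankOnePair_symm hr) hq hq1
  obtain ⟨k, m, hm, hk, hkQ, hmA, hkA, hkne, hQm, hQmne⟩ :=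
    exists_translation hS hA hQ hr hC.2.2.symm hC.2.1.symm hCQ ha hq hq1 hea.symm
  set t := cj A k⁻¹ with htdef
  have htS : t ∈ S := hS.conj_mem A hA _
  have hAt : Com A t := by
    have := hkA.cj k⁻¹
    rw [cj_cj, mul_inv_cancel, cj_one] at this
    exact this.symm
  have htA : t ≠ A := fun h => hkne (by
    have := congrArg (fun X => cj X k) h
    simp only [htdef, cj_cj, inv_mul_cancel, cj_one] at this
    exact this.symm)
  have hAnt : A ∈ nbrs S t := ⟨hA, htA.symm, hAt⟩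
  have htnA : t ∈ nbrs S A := ⟨htS, htA, hAt.symm⟩
  have htQ : IsRankOnePair t Q := by
    have := pair_cj hr k⁻¹
    rwa [cj_of_commute (fun x hx => (hkQ x hx).inv_left)] at this
  -- the translations attached to `A` and `t`
  set φ : G → G := fun x => k * x * k⁻¹ with hφdef
  set f : G → G := fun x => x * (φ x)⁻¹ with hfdef
  have hφt : ∀ {x}, x ∈ A → φ x ∈ t := fun {x} hx => by
    simpa [φ, htdef] using conj_mem_cj hx k⁻¹
  have hfA : ∀ {x}, x ∈ A → ∀ z ∈ A, Commute (f x) z := fun {x} hx z hz =>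
    (show Commute x z from commute_self hS hA hx hz).mul_left (hAt z hz _ (inv_mem (hφt hx))).symm
  have hft : ∀ {x}, x ∈ A → ∀ z ∈ t, Commute (f x) z := fun {x} hx z hz =>
    (hAt x hx z hz).mul_left (Commute.inv_left (commute_self hS htS (hφt hx) hz))
  have hfmul : ∀ {x z}, x ∈ A → z ∈ A → f x * f z = f (x * z) := fun {x z} hx hz => by
    have h1 : φ (x * z) = φ z * φ x := by
      rw [commute_self hS hA hx hz]; simp [φ, mul_assoc]
    calc f x * f z = x * ((φ x)⁻¹ * z) * (φ z)⁻¹ := by simp [f, mul_assoc]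
      _ = x * (z * (φ x)⁻¹) * (φ z)⁻¹ := by rw [(hAt z hz _ (inv_mem (hφt hx))).eq]
      _ = f (x * z) := by simp only [f]; rw [h1, mul_inv_rev]; simp [φ, mul_assoc]
  have hfcom : ∀ {x}, x ∈ A → Com Q (cj Q (f x)) := fun {x} hx => by
    have := line_com hS hQ (RankOnePair_symm hr) (f := k⁻¹) (fun z hz => (hkQ z hz).inv_left)
      hAt hx
    have e : k⁻¹⁻¹ * x * k⁻¹ * x⁻¹ = (f x)⁻¹ := by simp [f, φ, mul_assoc]
    rw [e] at this
    have h2 := this.cj (f x)
    rw [cj_cj, inv_mul_cancel, cj_one] at h2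
    exact h2.symm
  have hfa : f a = m := by rw [hm]; simp [f, φ, mul_assoc]
  have hQa : ∀ {x y}, x ∈ A → y ∈ Q → cj A y = cj Q x → ¬ Com (cj Q x) Q := by
    intro x y _ hy he hc
    rw [← he] at hc
    have := hc.cj y⁻¹
    rw [cj_cj, mul_inv_cancel, cj_one, cj_of_mem (inv_mem hy)] at this
    exact not_com hr this
  -- the partner map of `t` is the partner map of `A` followed by `φ`
  have hcore : ∀ {x}, x ∈ A → x ≠ 1 → ∀ {y}, y ∈ Q → y ≠ 1 → cj A y = cj Q x →
      cj t y = cj Q (φ x) := by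
    intro x hx hx1 y hy hy1 he
    obtain ⟨d, hd', -, hed⟩ := exists_partner (RankOnePair_symm htQ) hy hy1
    have h1 : Com (cj Q x) (cj Q (φ x)) := by
      have := (hfcom hx).cj (φ x)
      rw [cj_cj, inv_mul_cancel_right] at this
      exact this.symm
    have h2 : Com (cj Q x) (cj Q d) := by rw [← he, hed]; exact hAt.cj y
    rw [← hed]
    by_contra hne
    exact hQa hx hy he (com_of_two htQ hd' (hφt hx)
      (fun h => hne (by rw [h])) h2 h1).1
  have hfne : ∀ {x}, x ∈ A → x ≠ 1 → cj Q (f x) ≠ Q := by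
    intro x hx hx1 h
    obtain ⟨y, hy, hy1, he⟩ := exists_partner hr hx hx1
    have h' : cj Q x = cj Q (φ x) := cj_eq_iff.mpr h
    rw [← he, ← hcore hx hx1 hy hy1 he] at h'
    exact htA (cj_inj h').symm
  -- the twin `Q'`
  have hAnQ : A ∉ nbrs S Q := fun h => not_com hr h.2.2
  have htnQ : t ∉ nbrs S Q := fun h => not_com htQ h.2.2
  have hrQ' : IsRankOnePair A Q' := pair_of_not_com hS hd hA hQ' fun h => by
    by_cases he : A = Q'
    · have hCQ' : C ∈ nbrs S Q := htw ▸ he ▸ hC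
      exact not_com hCQ hCQ'.2.2
    · exact hAnQ (htw ▸ ⟨hA, he, h⟩)
  have htQ' : IsRankOnePair t Q' := pair_of_not_com hS hd htS hQ' fun h => by
    by_cases he : t = Q'
    · exact hAnQ (htw ▸ he ▸ hAnt)
    · exact htnQ (htw ▸ ⟨htS, he, h⟩)
  obtain ⟨q', hq', hq'1, heq'⟩ := exists_partner hrQ' ha ha1
  set v := q' * q⁻¹ with hvdef
  have hvA : nbrs S (cj A v) = nbrs S A := by
    have := nbrs_cj_eq hS q⁻¹ (nbrs_cj_eq hS a htw)
    rw [← heq', hea, cj_cj, cj_cj, mul_inv_cancel, cj_one] at this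
    exact this
  have hvt : nbrs S (cj t v) = nbrs S t := by
    obtain ⟨d, hd', -, hed⟩ := exists_partner (RankOnePair_symm htQ') hq' hq'1
    have hda : d = φ a := by
      by_contra hne
      have h1 : Com (cj Q' a) (cj Q' d) := by rw [← heq', hed]; exact hAt.cj q'
      have hin : cj Q (φ a) ∈ nbrs S (cj Q a) := by
        have := nbrs_cj hS (φ a) (show Q ∈ nbrs S (cj Q (f a)) from
          ⟨hQ, (hfne ha ha1).symm, hfcom ha⟩)
        rwa [cj_cj, inv_mul_cancel_right] at this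
      rw [← nbrs_cj_eq hS a htw] at hin
      have hin2 := mem_nbrs_symm (hS.conj_mem Q' hQ' _) hin
      rw [← nbrs_cj_eq hS (φ a) htw] at hin2
      have h3 := (com_of_two htQ' hd' (hφt ha) hne h1 hin2.2.2).1
      rw [← heq'] at h3
      have h4 := h3.cj q'⁻¹
      rw [cj_cj, mul_inv_cancel, cj_one, cj_of_mem (inv_mem hq')] at h4
      exact not_com hrQ' h4
    have := nbrs_cj_eq hS q⁻¹ (nbrs_cj_eq hS (φ a) htw)
    rw [← hcore ha ha1 hq hq1 hea.symm, ← hda, hed, cj_cj t q' q⁻¹, cj_cj t q q⁻¹, mul_inv_cancel,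
      cj_one] at this
    exact this
  have hvΓ : v ∈ twinGroup S Q :=
    mul_mem (le_twinGroup hQ' htw hq') (le_twinGroup hQ rfl (inv_mem hq))
  -- `v^m = v γ α`
  set α := v⁻¹ * a⁻¹ * v * a with hαdef
  have hα : α ∈ twinGroup S A :=
    mul_mem (le_twinGroup (hS.conj_mem A hA _) hvA (conj_mem_cj (inv_mem ha) v))
      (le_twinGroup hA rfl ha)
  set c := (φ a)⁻¹ with hcdef
  have hct : c ∈ t := inv_mem (hφt ha)
  set γ := v⁻¹ * c⁻¹ * v * c with hγdef
  have hγ : γ ∈ twinGroup S t :=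
    mul_mem (le_twinGroup (hS.conj_mem t htS _) hvt (conj_mem_cj (inv_mem hct) v))
      (le_twinGroup htS rfl hct)
  have hy : v⁻¹ * (m⁻¹ * v * m) = γ * α := by
    have hαc : Commute α c := twinGroup_commute htnA α hα c hct
    have e : m = a * c := by rw [← hfa]
    calc v⁻¹ * (m⁻¹ * v * m) = v⁻¹ * c⁻¹ * v * (α * c) := by rw [e, hαdef]; group
      _ = v⁻¹ * c⁻¹ * v * (c * α) := by rw [hαc.eq]
      _ = γ * α := by rw [hγdef]; group
  obtain ⟨a3, ha3, ha31, ha3a, ha3i⟩ := hfour A hA 1 a a⁻¹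
  set h := f a3 with hhdef
  have hhm : h * m = f (a3 * a) := by rw [hhdef, ← hfa, hfmul ha3 ha]
  have hn1 : cj Q h ∈ nbrs S Q := ⟨hS.conj_mem Q hQ _, hfne ha3 ha31, (hfcom ha3).symm⟩
  have hn2 : cj Q (h * m) ∈ nbrs S Q := by
    have hne1 : a3 * a ≠ 1 := fun h0 => ha3i (mul_eq_one_iff_eq_inv.mp h0)
    rw [hhm]
    exact ⟨hS.conj_mem Q hQ _, hfne (mul_mem ha3 ha) hne1, (hfcom (mul_mem ha3 ha)).symm⟩
  have hn3 : cj Q (h * m) ∈ nbrs S (cj Q m) := by rw [← cj_cj]; exact nbrs_cj hS m hn1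
  have hn4 : cj Q h ∈ nbrs S (cj Q m) := by
    have hne1 : a3 * a⁻¹ ≠ 1 := fun h0 => ha3a (mul_inv_eq_one.mp h0)
    have := nbrs_cj hS m (show cj Q (f (a3 * a⁻¹)) ∈ nbrs S Q from
      ⟨hS.conj_mem Q hQ _, hfne (mul_mem ha3 (inv_mem ha)) hne1,
        (hfcom (mul_mem ha3 (inv_mem ha))).symm⟩)
    have e : f (a3 * a⁻¹) * m = h := by
      rw [← hfa, hfmul (mul_mem ha3 (inv_mem ha)) ha, inv_mul_cancel_right]
    rwa [cj_cj, e] at this
  have hvm : m⁻¹ * v * m ∈ twinGroup S (cj Q m) := by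
    have hle : twinGroup S Q ≤ (twinGroup S (cj Q m)).comap (MulAut.conj m⁻¹).toMonoidHom :=
      iSup₂_le fun X hX x hx => by
        simp only [Subgroup.mem_comap, MulEquiv.coe_toMonoidHom, MulAut.conj_apply, inv_inv]
        exact le_twinGroup (hS.conj_mem X hX.1 _) (nbrs_cj_eq hS m hX.2) (conj_mem_cj hx m)
    simpa using hle hvΓ
  obtain ⟨q2, hq2, hq21, hq2q, -⟩ := hfour Q hQ 1 q q
  set g2 := m⁻¹ * q2 * m * q2⁻¹ with hg2def
  set g := h⁻¹ * g2 * h with hgdef
  have hhm' : h * m = m * h := by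
    rw [← hfa]; exact ((hfA ha3 a ha).mul_right (hft ha3 c hct)).eq
  have hgmem : ∀ x, (∀ e ∈ cj Q (h * m), Commute x e) → (∀ e ∈ cj Q h, Commute x e) →
      Commute x g := by
    intro x h1 h2
    have e : g = (h⁻¹ * m⁻¹) * q2 * (m * h) * (h⁻¹ * q2⁻¹ * h) := by rw [hgdef, hg2def]; group
    rw [e]
    refine (h1 _ ?_).mul_right (h2 _ (conj_mem_cj (inv_mem hq2) h))
    have := conj_mem_cj hq2 (h * m)
    rw [hhm', mul_inv_rev] at this
    rw [hhm']
    exact this
  have hyg : Commute (γ * α) g := by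
    rw [← hy]
    exact (hgmem _ (fun e he => twinGroup_commute hn2 v hvΓ e he)
      (fun e he => twinGroup_commute hn1 v hvΓ e he)).inv_left.mul_left
      (hgmem _ (fun e he => twinGroup_commute hn3 _ hvm e he)
        (fun e he => twinGroup_commute hn4 _ hvm e he))
  -- the conjugates of `A` and `t` under `g` commute with `A`
  have hhA : ∀ X : Subgroup G, (∀ z ∈ X, Commute h z) → cj X g = cj (cj X g2) h := fun X hX => by
    rw [hgdef, mul_assoc, ← cj_cj X h⁻¹, cj_of_commute (fun z hz => (hX z hz).inv_left), cj_cj]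
  have hAh : cj A h = A := cj_of_commute fun z hz => hfA ha3 z hz
  have hnAg : A ∈ nbrs S (cj A g) := by
    have := nbrs_cj hS h (show A ∈ nbrs S (cj A g2) from
      ⟨hA, (line_ne hr hmA hQmne hq2 hq21).symm, line_com hS hA hr hmA hQm hq2⟩)
    rwa [hAh, ← hhA A (fun z hz => hfA ha3 z hz)] at this
  have hntg : A ∈ nbrs S (cj t g) := by
    have hq3 : q⁻¹ * q2 ∈ Q := mul_mem (inv_mem hq) hq2
    have hq31 : q⁻¹ * q2 ≠ 1 := fun h0 => hq2q (inv_mul_eq_one.mp h0).symm
    have e : k⁻¹ * g2 = m⁻¹ * (q⁻¹ * q2) * m * (q⁻¹ * q2)⁻¹ := by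
      have hc : Commute q (m⁻¹ * (q⁻¹ * q2) * m) := hQm q hq _ (conj_mem_cj hq3 m)
      have hcq : Commute q q2⁻¹ := commute_self hS hQ hq (inv_mem hq2)
      calc k⁻¹ * g2 = q * (m⁻¹ * (q⁻¹ * q2) * m) * q2⁻¹ := by rw [hk, hg2def]; group
        _ = (m⁻¹ * (q⁻¹ * q2) * m) * q * q2⁻¹ := by rw [hc.eq]
        _ = (m⁻¹ * (q⁻¹ * q2) * m) * (q2⁻¹ * q) := by rw [mul_assoc, hcq.eq]
        _ = _ := by group
    have := nbrs_cj hS h (show A ∈ nbrs S (cj t g2) from ⟨hA,
      by rw [htdef, cj_cj, e]; exact (line_ne hr hmA hQmne hq3 hq31).symm,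
      by rw [htdef, cj_cj, e]; exact line_com hS hA hr hmA hQm hq3⟩)
    rwa [hAh, ← hhA t (fun z hz => hft ha3 z hz)] at this
  have hconj : ∀ {X : Subgroup G} {x : G}, x ∈ twinGroup S X →
      g⁻¹ * x * g ∈ twinGroup S (cj X g) := by
    intro X x hx
    have hle : twinGroup S X ≤ (twinGroup S (cj X g)).comap (MulAut.conj g⁻¹).toMonoidHom :=
      iSup₂_le fun Y hY y hy' => by
        simp only [Subgroup.mem_comap, MulEquiv.coe_toMonoidHom, MulAut.conj_apply, inv_inv]
        exact le_twinGroup (hS.conj_mem Y hY.1 _) (nbrs_cj_eq hS g hY.2) (conj_mem_cj hy' g)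
    simpa using hle hx
  have hαA : ∀ z ∈ A, Commute α z := by
    intro z hz
    have h1 : Commute (γ * α) z := by
      have e : γ * α = (g⁻¹ * γ * g) * (g⁻¹ * α * g) := by
        have : g⁻¹ * (γ * α) * g = γ * α := by rw [mul_assoc, hyg.eq, inv_mul_cancel_left]
        rw [← this]; group
      rw [e]
      exact (twinGroup_commute hntg _ (hconj hγ) z hz).mul_left
        (twinGroup_commute hnAg _ (hconj hα) z hz)
    have h2 : Commute γ z := twinGroup_commute hAnt γ hγ z hz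
    simpa using h2.inv_left.mul_left h1
  -- so `v` fixes `A`
  have hfix : cj A v = A := by
    by_contra hne
    have hmem : v⁻¹ * a * v ∈ cj A v := conj_mem_cj ha v
    have hne1 : v⁻¹ * a * v ≠ 1 := fun h0 => ha1 (by
      simpa [mul_assoc] using congrArg (fun x => v * x * v⁻¹) h0)
    have hcom : ∀ z ∈ A, v⁻¹ * a * v * z = z * (v⁻¹ * a * v) := fun z hz => by
      have e : v⁻¹ * a * v = a * α⁻¹ := by rw [hαdef]; group
      rw [e]
      exact ((show Commute a z from commute_self hS hA ha hz).mul_left (hαA z hz).inv_left).eq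
    have hC' : Com (cj A v) A :=
      commute_of_element hS (hS.conj_mem A hA _) hA hmem hne1 hcom
    have hin : cj A v ∈ nbrs S (cj A v) := hvA.symm ▸ ⟨hS.conj_mem A hA _, hne, hC'⟩
    exact hin.2.1 rfl
  refine hQQ (cj_inj (x := a) ?_)
  rw [← heq', hea]
  exact cj_eq_iff.mpr hfix

/-- Among four elements one avoids any three. -/
lemma exists_avoid {ι : Type*} [Fintype ι] (hι : 4 ≤ Fintype.card ι) {X : Subgroup G} (e : ι → G)
    (he : Function.Injective e) (hX : ∀ i, e i ∈ X) (x y z : G) :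
    ∃ w ∈ X, w ≠ x ∧ w ≠ y ∧ w ≠ z := by
  classical
  by_contra hc
  push Not at hc
  have h1 : (Finset.univ.image e) ⊆ {x, y, z} := fun w hw => by
    obtain ⟨i, -, rfl⟩ := Finset.mem_image.mp hw
    simp only [Finset.mem_insert, Finset.mem_singleton]
    by_cases h1 : e i = x
    · exact Or.inl h1
    by_cases h2 : e i = y
    · exact Or.inr (Or.inl h2)
    exact Or.inr (Or.inr (hc _ (hX i) h1 h2))
  have h2 := (Finset.card_le_card h1).trans Finset.card_le_three
  rw [Finset.card_image_of_injective _ he, Finset.card_univ] at h2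
  omega

/-- An element of infinite order or of order above three gives four elements. -/
lemma avoid_of_order {X : Subgroup G} {a : G} (ha : a ∈ X) (h : orderOf a = 0 ∨ 3 < orderOf a)
    (x y z : G) : ∃ w ∈ X, w ≠ x ∧ w ≠ y ∧ w ≠ z := by
  refine exists_avoid (ι := Fin 4) (by simp) (fun i => a ^ (i : ℕ)) (fun i j hij => ?_)
    (fun i => pow_mem ha _) x y z
  rcases h with h | h
  · exact Fin.ext (injective_pow_iff_not_isOfFinOrder.mpr (orderOf_eq_zero_iff.mp h) hij)
  · exact Fin.ext (pow_injOn_Iio_orderOf (Set.mem_Iio.mpr (by omega)) (Set.mem_Iio.mpr (by omega)) hij)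

/-- A subgroup containing the image of a unitriangular group over a field with more than three
elements has four elements. -/
lemma avoid_of_psl2 {X A₀ B₀ : Subgroup G} (hle : A₀ ≤ X) {k : Type*} [Field k]
    (hk : 3 < ENat.card k) (hp : IsPSL2PairOver k A₀ B₀)
    (x y z : G) : ∃ w ∈ X, w ≠ x ∧ w ≠ y ∧ w ≠ z := by
  obtain ⟨φ, -, hker, hU, -⟩ := hp
  obtain ⟨s, hs⟩ : ∃ s : Fin 4 → k, Function.Injective s := by
    rcases finite_or_infinite k with hf | hf
    · have := Fintype.ofFinite k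
      rw [ENat.card_eq_coe_fintype_card] at hk
      obtain ⟨e⟩ := Function.Embedding.nonempty_of_card_le (α := Fin 4) (β := k)
        (by rw [Fintype.card_fin]; exact_mod_cast hk)
      exact ⟨e, e.injective⟩
    · exact ⟨fun i => Infinite.natEmbedding k i,
        fun i j h => Fin.ext ((Infinite.natEmbedding k).injective h)⟩
  refine exists_avoid (ι := Fin 4) (by simp) (fun i => φ (SL2.U (s i))) (fun i j hij => ?_)
    (fun i => hle (hU ▸ Subgroup.mem_map_of_mem φ (SL2.mem_upper.mpr ⟨_, rfl⟩))) x y z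
  have h1 : SL2.U (s i - s j) ∈ φ.ker := by
    rw [MonoidHom.mem_ker, sub_eq_add_neg, ← SL2.U_mul, map_mul, ← SL2.U_inv, map_inv]
    exact mul_inv_eq_one.mpr hij
  have h2 := Subgroup.mem_center_iff.mp (hker h1) (SL2.L 1)
  have h3 := congrArg (fun g : Matrix.SpecialLinearGroup (Fin 2) k =>
    (g : Matrix (Fin 2) (Fin 2) k) 0 0) h2
  simp at h3
  exact hs (sub_eq_zero.mp h3)

/-- A degenerate class with a commuting pair and four elements in each member has special pairs. -/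
theorem special_of_degenerate (hS : IsRootSubgroupClass S) (hd : IsDegenerateRootSet S)
    (hcomm : ∃ P ∈ S, ∃ R ∈ S, P ≠ R ∧ Com P R)
    (hfour : ∀ X ∈ S, ∀ x y z : G, ∃ w ∈ X, w ≠ x ∧ w ≠ y ∧ w ≠ z)
    (hA : A ∈ S) (hB : B ∈ S) (hr : IsRankOnePair A B) : IsSpecialRankOnePair A B := by
  by_cases hC : ∃ C ∈ nbrs S A, ¬ Com C B
  · obtain ⟨C, hC, hCB⟩ := hC
    exact special_of_com hS.1 hA hB hr hC.2.2.symm hC.2.1.symm
      (pair_of_not_com hS.1 hd hC.1 hB hCB)
  push Not at hC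
  exfalso
  have htw := nbrs_eq_of_pair hS.1 hr hC
  obtain ⟨E, hE⟩ : ∃ E, E ∈ nbrs S A := by
    obtain ⟨P, hP, R, hR, hne, hc⟩ := hcomm
    obtain ⟨g, rfl⟩ := hS.2.2 P hP A hA
    have := nbrs_cj hS.1 g⁻¹ (show R ∈ nbrs S P from ⟨hR, hne.symm, hc.symm⟩)
    rw [show cj P g⁻¹ = conjBy P g by rw [cj, inv_inv]] at this
    exact ⟨_, this⟩
  obtain ⟨A1, hA1, hA1tw, Q, hQ, hrQ, hQtw⟩ : ∃ A1 ∈ S, nbrs S A1 = nbrs S A ∧
      ∃ Q ∈ S, IsRankOnePair A1 Q ∧ nbrs S Q ≠ nbrs S A := by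
    by_contra hcon
    push Not at hcon
    have hconn := connected_of_class hS.1 hS.2 ⟨A, hA, B, hB, hr⟩ A hA E hE.1
    have : nbrs S E = nbrs S A := by
      have key : ∀ Y, Relation.ReflTransGen (FAdj S) A Y → nbrs S Y = nbrs S A := by
        intro Y hY
        induction hY with
        | refl => rfl
        | tail _ hbc ih => exact hcon _ hbc.1 ih _ hbc.2.1 hbc.2.2
      exact key E hconn
    exact (this.symm ▸ hE : E ∈ nbrs S E).2.1 rfl
  obtain ⟨C, hC1, hCQ⟩ : ∃ C ∈ nbrs S A1, ¬ Com C Q := by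
    by_contra hcon
    push Not at hcon
    exact hQtw ((nbrs_eq_of_pair hS.1 hrQ hcon).symm.trans hA1tw)
  obtain ⟨g, rfl⟩ := hS.2.2 A hA Q hQ
  have h := no_twins hS.1 hd hfour hA1 hC1 hQ (hS.1.conj_mem B hB g) hrQ
    (pair_of_not_com hS.1 hd hC1.1 hQ hCQ) (by
      have := nbrs_cj_eq hS.1 g⁻¹ htw.symm
      rwa [show cj B g⁻¹ = conjBy B g by rw [cj, inv_inv],
        show cj A g⁻¹ = conjBy A g by rw [cj, inv_inv]] at this)
  exact hr.ne (conjBy_injective g h).symm

end CfsgLib.RootSubgroups.Deg
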