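import Cfsg.Prelude.Def_Classical
import Cfsg.Agent.FieldEmb.QuadExt
import Cfsg.Agent.RootSubgroups.Transvections
import Cfsg.Agent.RootSubgroups.PSL2Transport

/-! The unitary transvection groups form a degenerate class of `k`-root subgroups. -/

set_option autoImplicit false

namespace CfsgLib.RootSubgroups.Unitary

open Cfsg Matrix
open CfsgLib.RootSubgroups.Transv

variable {F : Type*} [Field F] [Fintype F] {q m : ℕ}

/-- The functional `h(·, p)` as a vector. -/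
def hv (q : ℕ) (p : Fin m → F) : Fin m → F := fun i => p i ^ q

local notation "𝕌" => Cfsg.SU m F q
local notation "h⟪" u ", " v "⟫" => Cfsg.hermForm m F q u v

omit [Fintype F] in
lemma dot_hv (u p : Fin m → F) : hv q p ⬝ᵥ u = h⟪u, p⟫ := by
  simp [hv, dotProduct, Cfsg.hermForm, mul_comm]

/-- The matrix of a unitary element. -/
def mat : ↥(Cfsg.SU m F q) →* Matrix (Fin m) (Fin m) F :=
  (slToMat m F).comp (Subgroup.subtype _)

omit [Fintype F] in
lemma mat_injective : Function.Injective (mat (m := m) (F := F) (q := q)) :=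
  fun _ _ h => Subtype.ext (Subtype.ext h)

omit [Fintype F] in
lemma mat_herm (g : 𝕌) (u v : Fin m → F) : h⟪mat g *ᵥ u, mat g *ᵥ v⟫ = h⟪u, v⟫ := g.2 u v

omit [Fintype F] in
lemma mat_mul_inv (g : 𝕌) : mat g * mat g⁻¹ = 1 := by rw [← map_mul, mul_inv_cancel, map_one]

variable (hF : Fintype.card F = q ^ 2)

include hF

lemma q_ne_zero : q ≠ 0 := fun h => by
  have := Fintype.card_pos (α := F)
  rw [hF, h] at this
  simp at this

lemma pow_add' (x y : F) : (x + y) ^ q = x ^ q + y ^ q := by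
  obtain ⟨σ, hσ, -⟩ := CfsgLib.FieldEmb.exists_conj hF
  simp only [← hσ, map_add]

lemma pow_neg' (x : F) : (-x) ^ q = -(x ^ q) := by
  obtain ⟨σ, hσ, -⟩ := CfsgLib.FieldEmb.exists_conj hF
  simp only [← hσ, map_neg]

lemma pow_pow' (x : F) : (x ^ q) ^ q = x := by rw [← pow_mul, ← pow_two, ← hF, FiniteField.pow_card]

lemma herm_symm (u v : Fin m → F) : h⟪v, u⟫ = h⟪u, v⟫ ^ q := by
  obtain ⟨σ, hσ, -⟩ := CfsgLib.FieldEmb.exists_conj hF
  rw [← hσ, Cfsg.hermForm, Cfsg.hermForm, map_sum]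
  exact Finset.sum_congr rfl fun i _ => by rw [map_mul, hσ, hσ, pow_pow' hF, mul_comm]

omit hF [Fintype F] in
lemma herm_add_left (u v w : Fin m → F) : h⟪u + v, w⟫ = h⟪u, w⟫ + h⟪v, w⟫ := by
  simp [Cfsg.hermForm, add_mul, Finset.sum_add_distrib]

lemma herm_add_right (u v w : Fin m → F) : h⟪u, v + w⟫ = h⟪u, v⟫ + h⟪u, w⟫ := by
  simp [Cfsg.hermForm, pow_add' hF, mul_add, Finset.sum_add_distrib]

omit hF [Fintype F] in
lemma herm_smul_left (c : F) (u v : Fin m → F) : h⟪c • u, v⟫ = c * h⟪u, v⟫ := by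
  simp [Cfsg.hermForm, Finset.mul_sum, mul_assoc]

omit hF [Fintype F] in
lemma herm_smul_right (c : F) (u v : Fin m → F) : h⟪u, c • v⟫ = c ^ q * h⟪u, v⟫ := by
  simp only [Cfsg.hermForm, Pi.smul_apply, smul_eq_mul, mul_pow, Finset.mul_sum]
  exact Finset.sum_congr rfl fun i _ => by ring

lemma hv_ne_zero {p : Fin m → F} (hp : p ≠ 0) : hv q p ≠ 0 := fun h =>
  hp (funext fun i => eq_zero_of_pow_eq_zero (congrFun h i))

omit hF [Fintype F] in
/-- The unitary transvection group of an isotropic vector. -/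
def T (p : Fin m → F) : Subgroup ↥(Cfsg.SU m F q) :=
  Subgroup.closure {g | (∀ v : Fin m → F, ∃ c : F,
      ((g : Matrix.SpecialLinearGroup (Fin m) F) : Matrix (Fin m) (Fin m) F) *ᵥ v = v + c • p) ∧
    ∀ v : Fin m → F, Cfsg.hermForm m F q v p = 0 →
      ((g : Matrix.SpecialLinearGroup (Fin m) F) : Matrix (Fin m) (Fin m) F) *ᵥ v = v}

omit hF [Fintype F] in
/-- An isotropic point. -/
def Iso (q : ℕ) (p : Fin m → F) : Prop := p ≠ 0 ∧ Cfsg.hermForm m F q p p = 0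

omit hF [Fintype F] in
lemma Iso.dot {p : Fin m → F} (hp : Iso q p) : hv q p ⬝ᵥ p = 0 := by rw [dot_hv]; exact hp.2

lemma exists_elem {p : Fin m → F} (hp : Iso q p) {x : F} (hx : x + x ^ q = 0) :
    ∃ g : 𝕌, mat g = tv (x • p) (hv q p) := by
  refine ⟨⟨⟨tv (x • p) (hv q p), det_tv (by rw [dotProduct_smul, hp.dot, smul_zero])⟩, fun u v => ?_⟩,
    rfl⟩
  show h⟪tv (x • p) (hv q p) *ᵥ u, tv (x • p) (hv q p) *ᵥ v⟫ = h⟪u, v⟫
  rw [tv_mulVec, tv_mulVec, smul_smul, smul_smul, dot_hv, dot_hv, herm_add_left, herm_add_right hF,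
    herm_add_right hF, herm_smul_left, herm_smul_left, herm_smul_right, herm_smul_right, hp.2,
    mul_pow, herm_symm hF v p]
  linear_combination (h⟪u, p⟫ * h⟪v, p⟫ ^ q) * hx

lemma shape {p : Fin m → F} (hp : Iso q p) {g : 𝕌}
    (h1 : ∀ v, ∃ c : F, mat g *ᵥ v = v + c • p) (h2 : ∀ v, h⟪v, p⟫ = 0 → mat g *ᵥ v = v) :
    ∃ x : F, x + x ^ q = 0 ∧ mat g = tv (x • p) (hv q p) := by
  obtain ⟨v₁, hv₁⟩ : ∃ v, hv q p ⬝ᵥ v ≠ 0 := by
    by_contra h
    push Not at h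
    exact hv_ne_zero hF hp.1 (funext fun i => by simpa using h (Pi.single i 1))
  obtain ⟨v₀, hv₀⟩ : ∃ v, hv q p ⬝ᵥ v = 1 :=
    ⟨(hv q p ⬝ᵥ v₁)⁻¹ • v₁, by rw [dotProduct_smul, smul_eq_mul, inv_mul_cancel₀ hv₁]⟩
  obtain ⟨x, hx⟩ := h1 v₀
  refine ⟨x, ?_, Matrix.ext_iff_mulVec.2 fun w => ?_⟩
  · have h := mat_herm g v₀ v₀
    rw [dot_hv] at hv₀
    rw [hx, herm_add_left, herm_add_right hF, herm_add_right hF, herm_smul_left, herm_smul_left,
      herm_smul_right, herm_smul_right, hp.2, herm_symm hF v₀ p, hv₀, one_pow] at h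
    linear_combination h
  · have hw := h2 (w - (hv q p ⬝ᵥ w) • v₀)
      (by rw [← dot_hv, dotProduct_sub, dotProduct_smul, hv₀, smul_eq_mul, mul_one, sub_self])
    rw [mulVec_sub, mulVec_smul, hx, sub_eq_iff_eq_add] at hw
    rw [hw, tv_mulVec]
    module

lemma mem_T {p : Fin m → F} (hp : Iso q p) {g : 𝕌} :
    g ∈ T p ↔ ∃ x : F, x + x ^ q = 0 ∧ mat g = tv (x • p) (hv q p) := by
  constructor
  · intro hg
    induction hg using Subgroup.closure_induction with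
    | mem g hg => exact shape hF hp hg.1 hg.2
    | one => exact ⟨0, by simp [q_ne_zero hF], by simp⟩
    | mul a b _ _ ha hb =>
      obtain ⟨c, hc', hc⟩ := ha
      obtain ⟨d, hd', hd⟩ := hb
      exact ⟨c + d, by rw [pow_add' hF]; linear_combination hc' + hd',
        by rw [map_mul, hc, hd, tv_smul_mul hp.dot]⟩
    | inv a _ ha =>
      obtain ⟨c, hc', hc⟩ := ha
      refine ⟨-c, by rw [pow_neg' hF]; linear_combination -hc', ?_⟩
      have h1 : mat a * tv (-c • p) (hv q p) = 1 := by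
        rw [hc, tv_smul_mul hp.dot, add_neg_cancel, zero_smul, tv_zero]
      calc mat a⁻¹ = mat a⁻¹ * (mat a * tv (-c • p) (hv q p)) := by rw [h1, mul_one]
        _ = _ := by rw [← mul_assoc, ← map_mul, inv_mul_cancel, map_one, one_mul]
  · rintro ⟨x, -, hx⟩
    refine Subgroup.subset_closure ⟨fun v => ⟨(hv q p ⬝ᵥ v) * x, ?_⟩, fun v hv' => ?_⟩
    · show mat g *ᵥ v = _
      rw [hx, tv_mulVec, smul_smul]
    · show mat g *ᵥ v = v
      rw [hx, tv_mulVec, dot_hv, hv', zero_smul, add_zero]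

/-- The transvection groups. -/
def S (m : ℕ) (F : Type*) [Field F] (q : ℕ) : Set (Subgroup ↥(Cfsg.SU m F q)) :=
  {A | ∃ p : Fin m → F, p ≠ 0 ∧ Cfsg.hermForm m F q p p = 0 ∧ A = T p}

lemma mem_S_of {p : Fin m → F} (hp : Iso q p) : T p ∈ S m F q := ⟨p, hp.1, hp.2, rfl⟩

lemma iso_map {p : Fin m → F} (hp : Iso q p) (g : 𝕌) : Iso q (mat g *ᵥ p) := by
  refine ⟨fun h => hp.1 ?_, (mat_herm g p p).trans hp.2⟩
  rw [← one_mulVec p, show (1 : Matrix (Fin m) (Fin m) F) = mat g⁻¹ * mat g by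
    rw [← map_mul, inv_mul_cancel, map_one], ← mulVec_mulVec, h, mulVec_zero]

lemma T_conj {p : Fin m → F} (hp : Iso q p) (g : 𝕌) : conjBy (T p) g = T (mat g *ᵥ p) := by
  have hvec : hv q p ᵥ* mat g⁻¹ = hv q (mat g *ᵥ p) := by
    refine dotProduct_eq _ _ fun w => ?_
    rw [← dotProduct_mulVec, dot_hv, dot_hv, ← mat_herm g, mulVec_mulVec, mat_mul_inv, one_mulVec]
  have key : ∀ a : 𝕌, ∀ x : F, mat a = tv (x • p) (hv q p) →
      mat (g * a * g⁻¹) = tv (x • (mat g *ᵥ p)) (hv q (mat g *ᵥ p)) := fun a x ha => by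
    rw [map_mul, map_mul, ha, conj_tv (mat_mul_inv g), mulVec_smul, hvec]
  ext z
  rw [mem_conjBy, mem_T hF hp, mem_T hF (iso_map hF hp g)]
  constructor
  · rintro ⟨x, hx', hx⟩
    exact ⟨x, hx', by rw [← key _ _ hx]; congr 1; group⟩
  · rintro ⟨x, hx', hx⟩
    obtain ⟨a, ha⟩ := exists_elem hF hp hx'
    refine ⟨x, hx', ?_⟩
    have : g * a * g⁻¹ = z := mat_injective ((key a x ha).trans hx.symm)
    rw [← ha, ← this]
    congr 1; group

lemma exists_moved : ∃ x : F, x ^ q ≠ x := by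
  by_contra hfix
  push Not at hfix
  classical
  have hq : 1 < q := by
    by_contra h
    have h2 := Fintype.one_lt_card (α := F)
    rw [hF] at h2
    interval_cases q <;> simp at h2
  have hne := FiniteField.X_pow_card_sub_X_ne_zero F hq
  have hle : Fintype.card F ≤ q := by
    calc Fintype.card F = (Finset.univ : Finset F).card := rfl
      _ ≤ (Polynomial.X ^ q - Polynomial.X : Polynomial F).roots.toFinset.card :=
          Finset.card_le_card fun x _ => by simp [Polynomial.mem_roots hne, hfix]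
      _ ≤ _ := (Multiset.toFinset_card_le _).trans ((Polynomial.card_roots' _).trans
          (FiniteField.X_pow_card_sub_X_natDegree_eq F hq).le)
  rw [hF] at hle
  nlinarith

lemma exists_skew : ∃ a : F, a ≠ 0 ∧ a ^ q = -a := by
  obtain ⟨x, hx⟩ := exists_moved hF
  refine ⟨x - x ^ q, sub_ne_zero.2 (Ne.symm hx), ?_⟩
  rw [sub_eq_add_neg, pow_add' hF, pow_neg' hF, pow_pow' hF]
  ring

lemma comm_case {p r : Fin m → F} (hp : Iso q p) (hr : Iso q r) (h : h⟪p, r⟫ = 0) :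
    ⁅T (q := q) p, T (q := q) r⁆ = ⊥ := by
  refine commutator_eq_bot_iff_comm.mpr fun a ha b hb => mat_injective ?_
  obtain ⟨c, -, hc⟩ := (mem_T hF hp).1 ha
  obtain ⟨d, -, hd⟩ := (mem_T hF hr).1 hb
  rw [map_mul, map_mul, hc, hd, tv_mul, tv_mul, dotProduct_smul, dotProduct_smul, dot_hv, dot_hv, h,
    herm_symm hF p r, h, zero_pow (q_ne_zero hF)]
  simp only [smul_zero, zero_smul, add_zero]
  abel

variable {L : Type} [Field L] (ι : L →+* F) (hL : ∀ x : F, x ∈ Set.range ι ↔ x ^ q = x)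

include hL

lemma psl2_case {p r : Fin m → F} (hp : Iso q p) (hr : Iso q r) (h : h⟪p, r⟫ ≠ 0) :
    IsPSL2PairOver L (T (q := q) p) (T (q := q) r) ∧ IsRankOnePair (T (q := q) p) (T (q := q) r) := by
  obtain ⟨a₀, ha₀, ha₀q⟩ := exists_skew hF
  set η := h⟪p, r⟫ with hη
  have hηq : h⟪r, p⟫ = η ^ q := herm_symm hF p r
  have hηq0 : η ^ q ≠ 0 := pow_ne_zero _ h
  have hfix : ∀ l : L, ι l ^ q = ι l := fun l => (hL _).1 ⟨l, rfl⟩
  set μ := (a₀ * η ^ q)⁻¹ with hμ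
  have hμ0 : μ ≠ 0 := inv_ne_zero (mul_ne_zero ha₀ hηq0)
  have e1 : hv q p ⬝ᵥ (μ • r) = a₀⁻¹ := by
    rw [dotProduct_smul, dot_hv, hηq, smul_eq_mul, hμ, mul_inv, mul_assoc, inv_mul_cancel₀ hηq0, mul_one]
  have e2 : hv q r ⬝ᵥ p = η := by rw [dot_hv]
  have c2 : hv q r ⬝ᵥ (μ • r) = 0 := by rw [dotProduct_smul, hr.dot, smul_zero]
  have c3 : hv q p ⬝ᵥ (μ • r) ≠ 0 := e1 ▸ inv_ne_zero ha₀
  have c4 : hv q r ⬝ᵥ p ≠ 0 := e2 ▸ h
  let Φ : Matrix.SpecialLinearGroup (Fin 2) L →* Matrix (Fin m) (Fin m) F :=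
    { toFun := fun g => sl2Mat p (hv q p) (μ • r) (hv q r) ((g : Matrix (Fin 2) (Fin 2) L).map ι)
      map_one' := by
        rw [Matrix.SpecialLinearGroup.coe_one, Matrix.map_one _ (map_zero ι) (map_one ι), sl2Mat_one]
      map_mul' := fun g g' => by
        rw [Matrix.SpecialLinearGroup.coe_mul, Matrix.map_mul, sl2Mat_mul hp.dot c2 c3 c4] }
  have hmapU : ∀ s : L, (SL2.U s : Matrix (Fin 2) (Fin 2) L).map ι =
      (SL2.U (ι s) : Matrix (Fin 2) (Fin 2) F) := fun s => by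
    ext i j; fin_cases i <;> fin_cases j <;> simp
  have hmapL : ∀ s : L, (SL2.L s : Matrix (Fin 2) (Fin 2) L).map ι =
      (SL2.L (ι s) : Matrix (Fin 2) (Fin 2) F) := fun s => by
    ext i j; fin_cases i <;> fin_cases j <;> simp
  have hU : ∀ s, Φ (SL2.U s) = tv ((ι s * a₀) • p) (hv q p) := fun s => by
    show sl2Mat _ _ _ _ _ = _
    rw [hmapU, sl2Mat_U, e1, inv_inv]
  have hLo : ∀ s, Φ (SL2.L s) = tv ((ι s * η⁻¹ * μ) • r) (hv q r) := fun s => by
    show sl2Mat _ _ _ _ _ = _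
    rw [hmapL, sl2Mat_L, e2, smul_smul]
  have skU : ∀ s : L, ι s * a₀ + (ι s * a₀) ^ q = 0 := fun s => by
    rw [mul_pow, hfix, ha₀q]; ring
  have skL : ∀ s : L, ι s * η⁻¹ * μ + (ι s * η⁻¹ * μ) ^ q = 0 := fun s => by
    rw [hμ, mul_pow, mul_pow, hfix, inv_pow, inv_pow, mul_pow, ha₀q, pow_pow' hF]
    field_simp
    ring
  have preU : ∀ {x : F}, x + x ^ q = 0 → ∃ s, ι s * a₀ = x := fun {x} hx => by
    obtain ⟨s, hs⟩ := (hL (x / a₀)).2 (by
      rw [div_pow, ha₀q, show x ^ q = -x by linear_combination hx, neg_div_neg_eq])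
    exact ⟨s, by rw [hs, div_mul_cancel₀ x ha₀]⟩
  have preL : ∀ {x : F}, x + x ^ q = 0 → ∃ s, ι s * η⁻¹ * μ = x := fun {x} hx => by
    obtain ⟨s, hs⟩ := (hL (x / (η⁻¹ * μ))).2 (by
      rw [hμ, div_pow, mul_pow, inv_pow, inv_pow, mul_pow, ha₀q, pow_pow' hF,
        show x ^ q = -x by linear_combination hx]
      field_simp)
    exact ⟨s, by rw [hs, mul_assoc, div_mul_cancel₀ x (mul_ne_zero (inv_ne_zero h) hμ0)]⟩
  have hmem : ∀ g, ∃ a : 𝕌, mat a = Φ g := by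
    intro g
    have hg : g ∈ lowerUnipotentSL2 L ⊔ upperUnipotentSL2 L := by
      rw [SL2.lower_sup_upper]; exact Subgroup.mem_top g
    rw [Subgroup.sup_eq_closure] at hg
    induction hg using Subgroup.closure_induction'' with
    | mem u hu =>
      rcases hu with hu | hu
      · obtain ⟨s, rfl⟩ := SL2.mem_lower.mp hu
        rw [hLo]; exact exists_elem hF hr (skL s)
      · obtain ⟨s, rfl⟩ := SL2.mem_upper.mp hu
        rw [hU]; exact exists_elem hF hp (skU s)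
    | inv_mem u hu =>
      rcases hu with hu | hu
      · obtain ⟨s, rfl⟩ := SL2.mem_lower.mp hu
        rw [SL2.L_inv, hLo]; exact exists_elem hF hr (skL _)
      · obtain ⟨s, rfl⟩ := SL2.mem_upper.mp hu
        rw [SL2.U_inv, hU]; exact exists_elem hF hp (skU _)
    | one => exact ⟨1, by rw [map_one, map_one]⟩
    | mul g g' _ _ hg hh =>
      obtain ⟨a, ha⟩ := hg
      obtain ⟨b, hb⟩ := hh
      exact ⟨a * b, by rw [map_mul, map_mul, ha, hb]⟩
  choose f hf using hmem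
  let ψ : Matrix.SpecialLinearGroup (Fin 2) L →* 𝕌 :=
    { toFun := f
      map_one' := mat_injective (by rw [hf, map_one, map_one])
      map_mul' := fun g g' => mat_injective (by rw [hf, map_mul, map_mul, hf, hf]) }
  have hψ : Function.Injective ψ := by
    rw [injective_iff_map_eq_one]
    intro g hg
    have h0 := hf g
    rw [show f g = 1 from hg, map_one] at h0
    have h2 := sl2Mat_injective hp.dot c2 c3 c4 h0.symm
    ext i j
    refine ι.injective ?_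
    have := congrFun (congrFun h2 i) j
    rw [Matrix.map_apply] at this
    rw [this, Matrix.SpecialLinearGroup.coe_one]
    fin_cases i <;> fin_cases j <;> simp
  have mU : (upperUnipotentSL2 L).map ψ = T p := by
    ext a
    rw [Subgroup.mem_map, mem_T hF hp]
    constructor
    · rintro ⟨g, hg, rfl⟩
      obtain ⟨s, rfl⟩ := SL2.mem_upper.mp hg
      exact ⟨_, skU s, (hf _).trans (hU s)⟩
    · rintro ⟨x, hx', hx⟩
      obtain ⟨s, rfl⟩ := preU hx'
      exact ⟨SL2.U s, SL2.U_mem _, mat_injective (((hf _).trans (hU s)).trans hx.symm)⟩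
  have mL : (lowerUnipotentSL2 L).map ψ = T r := by
    ext a
    rw [Subgroup.mem_map, mem_T hF hr]
    constructor
    · rintro ⟨g, hg, rfl⟩
      obtain ⟨s, rfl⟩ := SL2.mem_lower.mp hg
      exact ⟨_, skL s, (hf _).trans (hLo s)⟩
    · rintro ⟨x, hx', hx⟩
      obtain ⟨s, rfl⟩ := preL hx'
      exact ⟨SL2.L s, SL2.L_mem _, mat_injective (((hf _).trans (hLo s)).trans hx.symm)⟩
  refine ⟨⟨ψ, ?_, ?_, mU, mL⟩, ?_⟩
  · rw [MonoidHom.range_eq_map, ← SL2.lower_sup_upper, Subgroup.map_sup, mU, mL, sup_comm]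
  · rw [(MonoidHom.ker_eq_bot_iff ψ).2 hψ]; exact bot_le
  · have := rankOnePair_map ψ hψ (RankOnePair_symm SL2.rankOnePair)
    rwa [mU, mL] at this

omit hL in
lemma T_comm {p : Fin m → F} (hp : Iso q p) : IsMulCommutative (T (q := q) p) :=
  ⟨⟨fun a b => Subtype.ext (commutator_eq_bot_iff_comm.1 (comm_case hF hp hp hp.2) a.1 a.2 b.1 b.2)⟩⟩

omit hL in
lemma T_ne_bot {p : Fin m → F} (hp : Iso q p) : T (q := q) p ≠ ⊥ := by
  intro h0
  obtain ⟨a₀, ha₀, ha₀q⟩ := exists_skew hF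
  obtain ⟨a, ha⟩ := exists_elem hF hp (x := a₀) (by rw [ha₀q]; ring)
  have : a ∈ T p := (mem_T hF hp).2 ⟨a₀, by rw [ha₀q]; ring, ha⟩
  rw [h0, Subgroup.mem_bot] at this
  rw [this, map_one, eq_comm, tv_eq_one, smul_eq_zero] at ha
  exact ha.elim (fun h => h.elim ha₀ hp.1) (hv_ne_zero hF hp.1)

lemma pair {A C : Subgroup 𝕌} (hA : A ∈ S m F q) (hC : C ∈ S m F q) :
    ⁅A, C⁆ = ⊥ ∨ (IsPSL2PairOver L A C ∧ IsRankOnePair A C) := by
  obtain ⟨p, hp1, hp2, rfl⟩ := hA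
  obtain ⟨r, hr1, hr2, rfl⟩ := hC
  by_cases h : h⟪p, r⟫ = 0
  · exact Or.inl (comm_case hF ⟨hp1, hp2⟩ ⟨hr1, hr2⟩ h)
  · exact Or.inr (psl2_case hF ι hL ⟨hp1, hp2⟩ ⟨hr1, hr2⟩ h)

lemma connected : IsConnectedFamily (FAdj (S m F q)) (S m F q) := by
  have adj : ∀ {p r : Fin m → F}, Iso q p → Iso q r → h⟪p, r⟫ ≠ 0 →
      FAdj (S m F q) (T p) (T r) := fun {p r} hp hr h =>
    ⟨mem_S_of hF hp, mem_S_of hF hr, (psl2_case hF ι hL hp hr h).2⟩
  rintro _ ⟨p, hp1, hp2, rfl⟩ _ ⟨r, hr1, hr2, rfl⟩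
  by_cases h : h⟪p, r⟫ = 0
  swap
  · exact .single (adj ⟨hp1, hp2⟩ ⟨hr1, hr2⟩ h)
  obtain ⟨w, hwp, hwr⟩ := exists_avoid (hv_ne_zero hF hp1) (hv_ne_zero hF hr1)
  rw [dot_hv] at hwp hwr
  obtain ⟨z, hz⟩ : ∃ z : F, z + z ^ q = 1 := by
    obtain ⟨z₀, hz₀⟩ : ∃ z₀ : F, z₀ + z₀ ^ q ≠ 0 := by
      by_contra hall
      push Not at hall
      have h2 : (2 : F) = 0 := by
        have := hall 1
        rw [one_pow, one_add_one_eq_two] at this
        exact this
      obtain ⟨x, hx⟩ := exists_moved hF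
      exact hx (by linear_combination hall x - x * h2)
    refine ⟨z₀ / (z₀ + z₀ ^ q), ?_⟩
    rw [div_pow, pow_add' hF, pow_pow' hF, add_comm (z₀ ^ q) z₀, ← add_div, div_self hz₀]
  set η := h⟪p, w⟫ with hη
  have hη0 : η ≠ 0 := fun h0 => hwp (by
    rw [herm_symm hF p w, ← hη, h0, zero_pow (q_ne_zero hF)])
  set c := -(h⟪w, w⟫) * z / η with hc
  set s := w + c • p with hs
  have hsp : h⟪s, p⟫ = h⟪w, p⟫ := by
    rw [hs, herm_add_left, herm_smul_left, hp2, mul_zero, add_zero]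
  have hsr : h⟪s, r⟫ = h⟪w, r⟫ := by
    rw [hs, herm_add_left, herm_smul_left, h, mul_zero, add_zero]
  have hww : h⟪w, w⟫ ^ q = h⟪w, w⟫ := (herm_symm hF w w).symm
  have hss : h⟪s, s⟫ = 0 := by
    have hcη : c * η = -(h⟪w, w⟫) * z := by rw [hc, div_mul_cancel₀ _ hη0]
    have hcηq : c ^ q * η ^ q = -(h⟪w, w⟫) * z ^ q := by
      rw [← mul_pow, hcη, mul_pow, pow_neg' hF, hww]
    rw [hs, herm_add_left, herm_add_right hF, herm_add_right hF, herm_smul_left, herm_smul_left,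
      herm_smul_right, herm_smul_right, hp2, herm_symm hF p w, ← hη]
    linear_combination hcη + hcηq - h⟪w, w⟫ * hz
  have hiso : Iso q s := ⟨fun h0 => hwp (by rw [← hsp, h0]; simp [Cfsg.hermForm]), hss⟩
  exact (Relation.ReflTransGen.single (adj ⟨hp1, hp2⟩ hiso (fun h0 => hwp (by
      rw [← hsp, herm_symm hF p s, h0, zero_pow (q_ne_zero hF)])))).tail
    (adj hiso ⟨hr1, hr2⟩ (hsr ▸ hwr))

omit hL in
lemma nonempty (hm : 2 ≤ m) (ι : L →+* F) (hL : ∀ x : F, x ∈ Set.range ι ↔ x ^ q = x)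
    [Fintype L] (hcL : Fintype.card L = q) : (S m F q).Nonempty := by
  letI := ι.toAlgebra
  obtain ⟨c, hc⟩ := CfsgLib.FieldEmb.exists_norm_eq (F := L) (K := F) hcL hF (-1)
  rw [map_neg, map_one] at hc
  set i0 : Fin m := ⟨0, by omega⟩
  set i1 : Fin m := ⟨1, by omega⟩
  have hne : i0 ≠ i1 := fun h => by simp [i0, i1] at h
  refine ⟨_, Pi.single i0 1 + Pi.single i1 c, fun h => ?_, ?_, rfl⟩
  · have := congrFun h i0
    simp [hne] at this
  · rw [Cfsg.hermForm, ← Finset.sum_subset (Finset.subset_univ {i0, i1}) (fun i _ hi => by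
      simp only [Finset.mem_insert, Finset.mem_singleton, not_or] at hi
      simp [hi.1, hi.2, q_ne_zero hF]), Finset.sum_pair hne]
    simp [hne, hne.symm, hc]

theorem main [Fintype L] (hcL : Fintype.card L = q) (hm : 2 ≤ m) :
    IsRootSubgroupClass ((fun A : Subgroup 𝕌 => A.subgroupOf (⨆ C ∈ S m F q, C)) '' S m F q) ∧
    IsDegenerateRootSet ((fun A : Subgroup 𝕌 => A.subgroupOf (⨆ C ∈ S m F q, C)) '' S m F q) ∧
    IsKRootSubgroupSet L ((fun A : Subgroup 𝕌 => A.subgroupOf (⨆ C ∈ S m F q, C)) '' S m F q) ∧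
    IsConnectedFamily (FAdj ((fun A : Subgroup 𝕌 => A.subgroupOf (⨆ C ∈ S m F q, C)) '' S m F q))
      ((fun A : Subgroup 𝕌 => A.subgroupOf (⨆ C ∈ S m F q, C)) '' S m F q) := by
  set X := ⨆ C ∈ S m F q, C with hX
  have hle : ∀ C ∈ S m F q, C ≤ X := fun C hC => le_biSup (fun Z : Subgroup 𝕌 => Z) hC
  have hne : ∀ C ∈ S m F q, C ≠ ⊥ := by
    rintro _ ⟨p, h1, h2, rfl⟩; exact T_ne_bot hF ⟨h1, h2⟩
  have hset : IsRootSubgroupSet ((fun A : Subgroup 𝕌 => A.subgroupOf X) '' S m F q) := by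
    refine Transport.isRootSubgroupSet_subgroupOf (X := X) rfl ?_ hne ?_ fun C hC D hD =>
      (pair hF ι hL hC hD).imp id fun h => Or.inl h.2
    · rintro _ ⟨p, h1, h2, rfl⟩; exact T_comm hF ⟨h1, h2⟩
    · rintro _ ⟨p, h1, h2, rfl⟩ g -
      exact ⟨_, (iso_map hF ⟨h1, h2⟩ g).1, (iso_map hF ⟨h1, h2⟩ g).2, T_conj hF ⟨h1, h2⟩ g⟩
  have hcon : IsConnectedFamily (FAdj ((fun A : Subgroup 𝕌 => A.subgroupOf X) '' S m F q))
      ((fun A : Subgroup 𝕌 => A.subgroupOf X) '' S m F q) := by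
    rintro _ ⟨C, hC, rfl⟩ _ ⟨D, hD, rfl⟩
    exact Transport.reach_subgroupOf (X := X) hle (connected hF ι hL C hC D hD)
  have hnd : IsDegenerateRootSet ((fun A : Subgroup 𝕌 => A.subgroupOf X) '' S m F q) := by
    rintro _ ⟨C, hC, rfl⟩ _ ⟨D, hD, rfl⟩ hcc
    rcases pair hF ι hL hC hD with h | h
    · refine hset.ne_bot _ hcc.1 ?_
      rw [Transport.commutator_subgroupOf (hle C hC) (hle D hD), h]
      exact Subgroup.bot_subgroupOf _
    · exact commCase_not_rankOne hcc ((Transport.rankOnePair_iff (hle C hC) (hle D hD)).2 h.2)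
  refine ⟨⟨hset, class_of_connected hset ((nonempty hF hm ι hL hcL).image _) hcon⟩, hnd, ⟨hset, ?_⟩, hcon⟩
  rintro _ ⟨C, hC, rfl⟩ _ ⟨D, hD, rfl⟩ hr
  rcases pair hF ι hL hC hD with h | h
  · exact absurd h (rankOnePair_not_commute ((Transport.rankOnePair_iff (hle C hC) (hle D hD)).1 hr))
  · exact Transport.psl2_subgroupOf h.1 (hle C hC) (hle D hD)

end CfsgLib.RootSubgroups.Unitary
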